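import Mathlib
import Groth.Prelude.Def_W4bk4goldsch23FF

/-! Basic facts on places of function fields (for the `FunFld` statements). -/

namespace Groth.Agent.Lib.lead.FF
open FunFld

variable {k K : Type*} [Field k] [Field K] [Algebra k K]

lemma val_algebraMap (P : Place k K) {c : k} (hc : c ≠ 0) : P.1 (algebraMap k K c) = 1 := by
  apply le_antisymm (P.2.1 c)
  have h1 : P.1 (algebraMap k K c) * P.1 (algebraMap k K c⁻¹) = 1 := by
    rw [← map_mul, ← map_mul, mul_inv_cancel₀ hc, map_one, map_one]
  calc (1 : WithZero (Multiplicative ℤ))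
      = P.1 (algebraMap k K c) * P.1 (algebraMap k K c⁻¹) := h1.symm
    _ ≤ P.1 (algebraMap k K c) * 1 := mul_le_mul' le_rfl (P.2.1 c⁻¹)
    _ = P.1 (algebraMap k K c) := mul_one _

lemma val_aeval_le_one (P : Place k K) {t : K} (ht : P.1 t ≤ 1) (p : Polynomial k) :
    P.1 (Polynomial.aeval t p) ≤ 1 := by
  refine Polynomial.induction_on' p (fun p q hp hq => ?_) (fun n a => ?_)
  · rw [map_add]
    exact (P.1.map_add _ _).trans (max_le hp hq)
  · rw [Polynomial.aeval_monomial, map_mul, map_pow]
    exact mul_le_one' (P.2.1 a) (pow_le_one' ht n)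

lemma val_aeval_sub_coeff_zero_lt (P : Place k K) {t : K} (ht : P.1 t < 1) (p : Polynomial k) :
    P.1 (Polynomial.aeval t p - algebraMap k K (p.coeff 0)) < 1 := by
  have h1 : Polynomial.aeval t p - algebraMap k K (p.coeff 0) =
      t * Polynomial.aeval t p.divX := by
    have h2 := congrArg (Polynomial.aeval t) (Polynomial.X_mul_divX_add p)
    rw [map_add, map_mul, Polynomial.aeval_X, Polynomial.aeval_C] at h2
    rw [← h2]
    ring
  rw [h1, map_mul]
  calc P.1 t * P.1 (Polynomial.aeval t p.divX) ≤ P.1 t * 1 :=
        mul_le_mul' le_rfl (val_aeval_le_one P ht.le _)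
    _ = P.1 t := mul_one _
    _ < 1 := ht

lemma val_aeval_eq_one (P : Place k K) {t : K} (ht : P.1 t < 1) (p : Polynomial k)
    (hp : p.coeff 0 ≠ 0) : P.1 (Polynomial.aeval t p) = 1 := by
  have h1 := val_aeval_sub_coeff_zero_lt P ht p
  have h2 : P.1 (algebraMap k K (p.coeff 0)) = 1 := val_algebraMap P hp
  have h3 : P.1 (Polynomial.aeval t p - algebraMap k K (p.coeff 0)) <
      P.1 (algebraMap k K (p.coeff 0)) := by
    rw [h2]
    exact h1
  exact (Valuation.map_eq_of_sub_lt _ h3).trans h2

lemma approx_step (P : Place k K) {t : K} (ht : P.1 t < 1) (r s : Polynomial k)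
    (hs : Polynomial.aeval t s ≠ 0)
    (hle : P.1 (Polynomial.aeval t r / Polynomial.aeval t s) ≤ 1) :
    (∃ c : k, P.1 (Polynomial.aeval t r / Polynomial.aeval t s - algebraMap k K c) < 1) ∨
      (s.coeff 0 = 0 ∧ r.coeff 0 = 0) := by
  by_cases hs0 : s.coeff 0 = 0
  · by_cases hr0 : r.coeff 0 = 0
    · exact Or.inr ⟨hs0, hr0⟩
    · exfalso
      have h1 : P.1 (Polynomial.aeval t r) = 1 := val_aeval_eq_one P ht r hr0
      have h2 : P.1 (Polynomial.aeval t s) < 1 := by
        have h3 := val_aeval_sub_coeff_zero_lt P ht s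
        rwa [hs0, map_zero, sub_zero] at h3
      rw [map_div₀, h1] at hle
      have h3 : P.1 (Polynomial.aeval t s) ≠ 0 := (Valuation.ne_zero_iff _).2 hs
      have h4 : 1 ≤ P.1 (Polynomial.aeval t s) := by
        have h5 := mul_le_mul' hle (le_refl (P.1 (Polynomial.aeval t s)))
        rwa [div_mul_cancel₀ _ h3, one_mul] at h5
      exact absurd h2 (not_lt.2 h4)
  · left
    refine ⟨r.coeff 0 / s.coeff 0, ?_⟩
    have hvs : P.1 (Polynomial.aeval t s) = 1 := val_aeval_eq_one P ht s hs0
    have hs0' : algebraMap k K (s.coeff 0) ≠ 0 :=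
      (map_ne_zero_iff _ (algebraMap k K).injective).2 hs0
    have hid : Polynomial.aeval t r / Polynomial.aeval t s - algebraMap k K (r.coeff 0 / s.coeff 0) =
        ((Polynomial.aeval t r - algebraMap k K (r.coeff 0)) * algebraMap k K (s.coeff 0) -
          algebraMap k K (r.coeff 0) * (Polynomial.aeval t s - algebraMap k K (s.coeff 0))) /
          (Polynomial.aeval t s * algebraMap k K (s.coeff 0)) := by
      rw [map_div₀, div_sub_div _ _ hs hs0']
      congr 1
      ring
    rw [hid, map_div₀, map_mul, hvs, val_algebraMap P hs0, mul_one, div_one]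
    refine lt_of_le_of_lt (Valuation.map_sub _ _ _) (max_lt ?_ ?_)
    · rw [map_mul, val_algebraMap P hs0, mul_one]
      exact val_aeval_sub_coeff_zero_lt P ht r
    · rw [map_mul]
      calc P.1 (algebraMap k K (r.coeff 0)) * P.1 (Polynomial.aeval t s - algebraMap k K (s.coeff 0))
          ≤ 1 * P.1 (Polynomial.aeval t s - algebraMap k K (s.coeff 0)) :=
            mul_le_mul' (P.2.1 _) le_rfl
        _ = P.1 (Polynomial.aeval t s - algebraMap k K (s.coeff 0)) := one_mul _
        _ < 1 := val_aeval_sub_coeff_zero_lt P ht s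

lemma exists_const_approx (P : Place k K) {t : K} (ht : P.1 t < 1) (ht0 : t ≠ 0) :
    ∀ (n : ℕ) (r s : Polynomial k), s.natDegree ≤ n → Polynomial.aeval t s ≠ 0 →
      P.1 (Polynomial.aeval t r / Polynomial.aeval t s) ≤ 1 →
      ∃ c : k, P.1 (Polynomial.aeval t r / Polynomial.aeval t s - algebraMap k K c) < 1 := by
  intro n
  induction n with
  | zero =>
    intro r s hdeg hs hle
    rcases approx_step P ht r s hs hle with h | ⟨hs0, -⟩
    · exact h
    · exfalso
      apply hs
      have h1 : s = Polynomial.C (s.coeff 0) := Polynomial.eq_C_of_natDegree_le_zero hdeg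
      rw [h1, hs0, map_zero, map_zero]
  | succ n ih =>
    intro r s hdeg hs hle
    rcases approx_step P ht r s hs hle with h | ⟨hs0, hr0⟩
    · exact h
    · have hsX : Polynomial.X * s.divX = s := by
        have h1 := Polynomial.X_mul_divX_add s
        rwa [hs0, map_zero, add_zero] at h1
      have hrX : Polynomial.X * r.divX = r := by
        have h1 := Polynomial.X_mul_divX_add r
        rwa [hr0, map_zero, add_zero] at h1
      have hS : Polynomial.aeval t s = t * Polynomial.aeval t s.divX := by
        have h1 := congrArg (Polynomial.aeval t) hsX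
        rw [map_mul, Polynomial.aeval_X] at h1
        exact h1.symm
      have hR : Polynomial.aeval t r = t * Polynomial.aeval t r.divX := by
        have h1 := congrArg (Polynomial.aeval t) hrX
        rw [map_mul, Polynomial.aeval_X] at h1
        exact h1.symm
      have hquot : Polynomial.aeval t r / Polynomial.aeval t s =
          Polynomial.aeval t r.divX / Polynomial.aeval t s.divX := by
        rw [hR, hS, mul_div_mul_left _ _ ht0]
      have hs' : Polynomial.aeval t s.divX ≠ 0 := by
        intro h0
        apply hs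
        rw [hS, h0, mul_zero]
      have hdeg' : s.divX.natDegree ≤ n := by
        rw [Polynomial.natDegree_divX_eq_natDegree_tsub_one]
        omega
      rw [hquot] at hle ⊢
      exact ih r.divX s.divX hdeg' hs' hle

lemma exists_const_approx' (P : Place k K) {t : K} (ht : P.1 t < 1) (ht0 : t ≠ 0) {d : K}
    (hd : d ∈ IntermediateField.adjoin k ({t} : Set K)) (hle : P.1 d ≤ 1) :
    ∃ c : k, P.1 (d - algebraMap k K c) < 1 := by
  obtain ⟨r, s, rfl⟩ := (IntermediateField.mem_adjoin_simple_iff k d).1 hd
  by_cases hs : Polynomial.aeval t s = 0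
  · refine ⟨0, ?_⟩
    rw [hs, div_zero, map_zero, sub_zero, map_zero]
    exact zero_lt_one
  · exact exists_const_approx P ht ht0 _ r s le_rfl hs hle

lemma transcendental_of_val_lt_one (hK : IsFunctionField k K) (P : Place k K) {t : K}
    (ht : P.1 t < 1) (ht0 : t ≠ 0) : Transcendental k t := by
  intro halg
  obtain ⟨c, rfl⟩ := hK.2 t halg
  have hc : c ≠ 0 := by
    rintro rfl
    exact ht0 (map_zero _)
  rw [val_algebraMap P hc] at ht
  exact lt_irrefl _ ht

lemma essFiniteType (hK : IsFunctionField k K) : Algebra.EssFiniteType k K := by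
  obtain ⟨⟨x, hx, hfin⟩, -⟩ := hK
  haveI := hfin
  haveI : Algebra.EssFiniteType k (IntermediateField.adjoin k ({x} : Set K)) := by
    rw [IntermediateField.essFiniteType_iff]
    exact IntermediateField.fg_adjoin_of_finite (Set.finite_singleton x)
  exact Algebra.EssFiniteType.comp k (IntermediateField.adjoin k ({x} : Set K)) K

open scoped IntermediateField.algebraAdjoinAdjoin in
lemma trdeg_eq_one (hK : IsFunctionField k K) : Algebra.trdeg k K = 1 := by
  obtain ⟨⟨x, hx, hfin⟩, -⟩ := hK
  haveI := hfin
  have hai : AlgebraicIndependent k (fun _ : Unit => x) :=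
    algebraicIndependent_unique_type_iff.2 hx
  have hrange : Set.range (fun _ : Unit => x) = {x} := Set.range_const
  haveI halg : Algebra.IsAlgebraic (IntermediateField.adjoin k ({x} : Set K)) K :=
    Algebra.IsAlgebraic.of_finite _ _
  have halg' : Algebra.IsAlgebraic (Algebra.adjoin k ({x} : Set K)) K :=
    Algebra.IsAlgebraic.trans (Algebra.adjoin k ({x} : Set K))
      (IntermediateField.adjoin k ({x} : Set K)) K
  have htb : IsTranscendenceBasis k (fun _ : Unit => x) := by
    rw [isTranscendenceBasis_iff_algebraicIndependent_isAlgebraic]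
    refine ⟨hai, ?_⟩
    rw [hrange]
    exact halg'
  have h1 := htb.lift_cardinalMk_eq_trdeg
  simpa using h1.symm

lemma finite_of_transcendental (hK : IsFunctionField k K) {t : K} (ht : Transcendental k t) :
    FiniteDimensional (IntermediateField.adjoin k ({t} : Set K)) K := by
  have htr := trdeg_eq_one hK
  have hai : AlgebraicIndependent k (fun _ : Unit => t) :=
    algebraicIndependent_unique_type_iff.2 ht
  have htb : IsTranscendenceBasis k (fun _ : Unit => t) := by
    apply hai.isTranscendenceBasis_of_lift_trdeg_le_of_finite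
    rw [htr]
    simp
  have halg := htb.isAlgebraic_field
  rw [Set.range_const] at halg
  haveI := halg
  haveI := essFiniteType hK
  haveI : Algebra.EssFiniteType (IntermediateField.adjoin k ({t} : Set K)) K :=
    Algebra.EssFiniteType.of_comp k _ K
  exact Algebra.finite_of_essFiniteType_of_isAlgebraic

lemma mem_max_iff (P : Place k K) (z : P.O) :
    z ∈ IsLocalRing.maximalIdeal P.O ↔ P.1 (z : K) < 1 := by
  rw [ValuationSubring.valuation_lt_one_iff]
  exact ((Valuation.isEquiv_iff_val_lt_one).1
    (Valuation.isEquiv_valuation_valuationSubring P.1)).symm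

end Groth.Agent.Lib.lead.FF
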