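import Mathlib
import Groth.Prelude.Def_W4bk4goldsch23FF

/-! General valuation lemmas for `k(t) ⊆ K` (valuations trivial on `k`). -/

namespace Groth.Agent.Lib.lead.FF2

variable {k K : Type*} [Field k] [Field K] [Algebra k K]
variable {Γ : Type*} [LinearOrderedCommGroupWithZero Γ] (v : Valuation K Γ)

section
variable (hv : ∀ c : k, v (algebraMap k K c) ≤ 1)
include hv

lemma val_const {c : k} (hc : c ≠ 0) : v (algebraMap k K c) = 1 := by
  apply le_antisymm (hv c)
  have h1 : v (algebraMap k K c) * v (algebraMap k K c⁻¹) = 1 := by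
    rw [← map_mul, ← map_mul, mul_inv_cancel₀ hc, map_one, map_one]
  calc (1 : Γ) = v (algebraMap k K c) * v (algebraMap k K c⁻¹) := h1.symm
    _ ≤ v (algebraMap k K c) * 1 := mul_le_mul' le_rfl (hv c⁻¹)
    _ = v (algebraMap k K c) := mul_one _

lemma val_aeval_le_one {t : K} (ht : v t ≤ 1) (p : Polynomial k) :
    v (Polynomial.aeval t p) ≤ 1 := by
  refine Polynomial.induction_on' p (fun p q hp hq => ?_) (fun n a => ?_)
  · rw [map_add]
    exact (v.map_add _ _).trans (max_le hp hq)
  · rw [Polynomial.aeval_monomial, map_mul, map_pow]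
    exact mul_le_one' (hv a) (pow_le_one' ht n)

lemma val_aeval_sub_lt {t : K} (ht : v t < 1) (p : Polynomial k) :
    v (Polynomial.aeval t p - algebraMap k K (p.coeff 0)) < 1 := by
  have h1 : Polynomial.aeval t p - algebraMap k K (p.coeff 0) =
      t * Polynomial.aeval t p.divX := by
    have h2 := congrArg (Polynomial.aeval t) (Polynomial.X_mul_divX_add p)
    rw [map_add, map_mul, Polynomial.aeval_X, Polynomial.aeval_C] at h2
    rw [← h2]
    ring
  rw [h1, map_mul]
  calc v t * v (Polynomial.aeval t p.divX) ≤ v t * 1 :=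
        mul_le_mul' le_rfl (val_aeval_le_one v hv ht.le _)
    _ = v t := mul_one _
    _ < 1 := ht

lemma val_aeval_eq_one {t : K} (ht : v t < 1) (p : Polynomial k)
    (hp : p.coeff 0 ≠ 0) : v (Polynomial.aeval t p) = 1 := by
  have h1 := val_aeval_sub_lt v hv ht p
  have h2 : v (algebraMap k K (p.coeff 0)) = 1 := val_const v hv hp
  have h3 : v (Polynomial.aeval t p - algebraMap k K (p.coeff 0)) <
      v (algebraMap k K (p.coeff 0)) := by
    rw [h2]
    exact h1
  exact (Valuation.map_eq_of_sub_lt _ h3).trans h2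

/-- If `s(0) ≠ 0`, then `r(t)/s(t)` is congruent to the constant `r(0)/s(0)`. -/
lemma val_quot_sub_lt {t : K} (ht : v t < 1) (r s : Polynomial k) (hs0 : s.coeff 0 ≠ 0) :
    v (Polynomial.aeval t r / Polynomial.aeval t s - algebraMap k K (r.coeff 0 / s.coeff 0)) < 1 := by
  have hvs : v (Polynomial.aeval t s) = 1 := val_aeval_eq_one v hv ht s hs0
  have hs : Polynomial.aeval t s ≠ 0 := by
    intro h0
    rw [h0, map_zero] at hvs
    exact zero_ne_one hvs
  have hs0' : algebraMap k K (s.coeff 0) ≠ 0 :=
    (map_ne_zero_iff _ (algebraMap k K).injective).2 hs0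
  have hid : Polynomial.aeval t r / Polynomial.aeval t s - algebraMap k K (r.coeff 0 / s.coeff 0) =
      ((Polynomial.aeval t r - algebraMap k K (r.coeff 0)) * algebraMap k K (s.coeff 0) -
        algebraMap k K (r.coeff 0) * (Polynomial.aeval t s - algebraMap k K (s.coeff 0))) /
        (Polynomial.aeval t s * algebraMap k K (s.coeff 0)) := by
    rw [map_div₀, div_sub_div _ _ hs hs0']
    congr 1
    ring
  rw [hid, map_div₀, map_mul, hvs, val_const v hv hs0, mul_one, div_one]
  refine lt_of_le_of_lt (Valuation.map_sub _ _ _) (max_lt ?_ ?_)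
  · rw [map_mul, val_const v hv hs0, mul_one]
    exact val_aeval_sub_lt v hv ht r
  · rw [map_mul]
    calc v (algebraMap k K (r.coeff 0)) * v (Polynomial.aeval t s - algebraMap k K (s.coeff 0))
        ≤ 1 * v (Polynomial.aeval t s - algebraMap k K (s.coeff 0)) :=
          mul_le_mul' (hv _) le_rfl
      _ = v (Polynomial.aeval t s - algebraMap k K (s.coeff 0)) := one_mul _
      _ < 1 := val_aeval_sub_lt v hv ht s

lemma val_quot_le_one {t : K} (ht : v t < 1) (r s : Polynomial k) (hs0 : s.coeff 0 ≠ 0) :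
    v (Polynomial.aeval t r / Polynomial.aeval t s) ≤ 1 := by
  rw [map_div₀, val_aeval_eq_one v hv ht s hs0, div_one]
  exact val_aeval_le_one v hv ht.le r

lemma val_quot_le_of_coeff_zero {t : K} (ht : v t < 1) (r s : Polynomial k)
    (hs0 : s.coeff 0 ≠ 0) (hr0 : r.coeff 0 = 0) :
    v (Polynomial.aeval t r / Polynomial.aeval t s) ≤ v t := by
  rw [map_div₀, val_aeval_eq_one v hv ht s hs0, div_one]
  have h1 : Polynomial.aeval t r = t * Polynomial.aeval t r.divX := by
    have h2 := congrArg (Polynomial.aeval t) (Polynomial.X_mul_divX_add r)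
    rw [hr0, map_zero, add_zero, map_mul, Polynomial.aeval_X] at h2
    exact h2.symm
  rw [h1, map_mul]
  calc v t * v (Polynomial.aeval t r.divX) ≤ v t * 1 :=
        mul_le_mul' le_rfl (val_aeval_le_one v hv ht.le _)
    _ = v t := mul_one _

/-- A representation regular at `0` exists for elements of `k(t)` with `v ≤ 1`. -/
lemma exists_regular_repr_aux {t : K} (ht : v t < 1) (ht0 : t ≠ 0) :
    ∀ (n : ℕ) (r s : Polynomial k), s.natDegree ≤ n → Polynomial.aeval t s ≠ 0 →
      v (Polynomial.aeval t r / Polynomial.aeval t s) ≤ 1 →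
      ∃ r' s' : Polynomial k, s'.coeff 0 ≠ 0 ∧
        Polynomial.aeval t r / Polynomial.aeval t s =
          Polynomial.aeval t r' / Polynomial.aeval t s' := by
  intro n
  induction n with
  | zero =>
    intro r s hdeg hs hle
    by_cases hs0 : s.coeff 0 = 0
    · exfalso
      apply hs
      have h1 : s = Polynomial.C (s.coeff 0) := Polynomial.eq_C_of_natDegree_le_zero hdeg
      rw [h1, hs0, map_zero, map_zero]
    · exact ⟨r, s, hs0, rfl⟩
  | succ n ih =>
    intro r s hdeg hs hle
    by_cases hs0 : s.coeff 0 = 0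
    · by_cases hr0 : r.coeff 0 = 0
      · have hsX : Polynomial.X * s.divX = s := by
          have h1 := Polynomial.X_mul_divX_add s
          rwa [hs0, map_zero, add_zero] at h1
        have hrX : Polynomial.X * r.divX = r := by
          have h1 := Polynomial.X_mul_divX_add r
          rwa [hr0, map_zero, add_zero] at h1
        have hS : Polynomial.aeval t s = t * Polynomial.aeval t s.divX := by
          have h1 := congrArg (Polynomial.aeval t) hsX
          rw [map_mul, Polynomial.aeval_X] at h1
          exact h1.symm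
        have hR : Polynomial.aeval t r = t * Polynomial.aeval t r.divX := by
          have h1 := congrArg (Polynomial.aeval t) hrX
          rw [map_mul, Polynomial.aeval_X] at h1
          exact h1.symm
        have hquot : Polynomial.aeval t r / Polynomial.aeval t s =
            Polynomial.aeval t r.divX / Polynomial.aeval t s.divX := by
          rw [hR, hS, mul_div_mul_left _ _ ht0]
        have hs' : Polynomial.aeval t s.divX ≠ 0 := by
          intro h0
          apply hs
          rw [hS, h0, mul_zero]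
        have hdeg' : s.divX.natDegree ≤ n := by
          rw [Polynomial.natDegree_divX_eq_natDegree_tsub_one]
          omega
        rw [hquot] at hle ⊢
        exact ih r.divX s.divX hdeg' hs' hle
      · exfalso
        have h1 : v (Polynomial.aeval t r) = 1 := val_aeval_eq_one v hv ht r hr0
        have h2 : v (Polynomial.aeval t s) < 1 := by
          have h3 := val_aeval_sub_lt v hv ht s
          rwa [hs0, map_zero, sub_zero] at h3
        rw [map_div₀, h1] at hle
        have h3 : v (Polynomial.aeval t s) ≠ 0 := (Valuation.ne_zero_iff _).2 hs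
        have h4 : 1 ≤ v (Polynomial.aeval t s) := by
          have h5 := mul_le_mul' hle (le_refl (v (Polynomial.aeval t s)))
          rwa [div_mul_cancel₀ _ h3, one_mul] at h5
        exact absurd h2 (not_lt.2 h4)
    · exact ⟨r, s, hs0, rfl⟩

lemma exists_regular_repr {t : K} (ht : v t < 1) (ht0 : t ≠ 0) {d : K}
    (hd : d ∈ IntermediateField.adjoin k ({t} : Set K)) (hle : v d ≤ 1) :
    ∃ r s : Polynomial k, s.coeff 0 ≠ 0 ∧ d = Polynomial.aeval t r / Polynomial.aeval t s := by
  obtain ⟨r, s, rfl⟩ := (IntermediateField.mem_adjoin_simple_iff k d).1 hd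
  by_cases hs : Polynomial.aeval t s = 0
  · refine ⟨0, 1, ?_, ?_⟩
    · rw [Polynomial.coeff_one_zero]
      exact one_ne_zero
    · rw [hs, div_zero, map_zero, zero_div]
  · exact exists_regular_repr_aux v hv ht ht0 _ r s le_rfl hs hle

/-- Values of nonzero polynomial expressions in `t` are natural powers of `v t`. -/
lemma val_aeval_eq_pow {t : K} (ht : v t < 1) :
    ∀ (n : ℕ) (p : Polynomial k), p.natDegree ≤ n → Polynomial.aeval t p ≠ 0 →
      ∃ a : ℕ, v (Polynomial.aeval t p) = v t ^ a := by
  intro n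
  induction n with
  | zero =>
    intro p hdeg hp
    by_cases hp0 : p.coeff 0 = 0
    · exfalso
      apply hp
      have h1 : p = Polynomial.C (p.coeff 0) := Polynomial.eq_C_of_natDegree_le_zero hdeg
      rw [h1, hp0, map_zero, map_zero]
    · exact ⟨0, by rw [pow_zero]; exact val_aeval_eq_one v hv ht p hp0⟩
  | succ n ih =>
    intro p hdeg hp
    by_cases hp0 : p.coeff 0 = 0
    · have hpX : Polynomial.X * p.divX = p := by
        have h1 := Polynomial.X_mul_divX_add p
        rwa [hp0, map_zero, add_zero] at h1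
      have hP : Polynomial.aeval t p = t * Polynomial.aeval t p.divX := by
        have h1 := congrArg (Polynomial.aeval t) hpX
        rw [map_mul, Polynomial.aeval_X] at h1
        exact h1.symm
      have hp' : Polynomial.aeval t p.divX ≠ 0 := by
        intro h0
        apply hp
        rw [hP, h0, mul_zero]
      have hdeg' : p.divX.natDegree ≤ n := by
        rw [Polynomial.natDegree_divX_eq_natDegree_tsub_one]
        omega
      obtain ⟨a, ha⟩ := ih p.divX hdeg' hp'
      exact ⟨a + 1, by rw [hP, map_mul, ha, pow_succ, mul_comm]⟩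
    · exact ⟨0, by rw [pow_zero]; exact val_aeval_eq_one v hv ht p hp0⟩

lemma val_adjoin_eq_pow {t : K} (ht : v t < 1) (ht0 : t ≠ 0) {d : K}
    (hd : d ∈ IntermediateField.adjoin k ({t} : Set K)) (hd0 : d ≠ 0) :
    (∃ n : ℕ, v d = v t ^ n) ∨ (∃ n : ℕ, v d = (v t ^ n)⁻¹) := by
  obtain ⟨r, s, rfl⟩ := (IntermediateField.mem_adjoin_simple_iff k d).1 hd
  have hr : Polynomial.aeval t r ≠ 0 := fun h => hd0 (by rw [h, zero_div])
  have hs : Polynomial.aeval t s ≠ 0 := fun h => hd0 (by rw [h, div_zero])
  obtain ⟨a, ha⟩ := val_aeval_eq_pow v hv ht _ r le_rfl hr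
  obtain ⟨b, hb⟩ := val_aeval_eq_pow v hv ht _ s le_rfl hs
  have hvt : v t ≠ 0 := (Valuation.ne_zero_iff _).2 ht0
  rw [map_div₀, ha, hb]
  rcases le_total b a with hab | hab
  · left
    refine ⟨a - b, ?_⟩
    rw [pow_sub₀ _ hvt hab, div_eq_mul_inv]
  · right
    refine ⟨b - a, ?_⟩
    rw [pow_sub₀ _ hvt hab, mul_inv, inv_inv, div_eq_mul_inv, mul_comm]

/-- Ultrametric independence over `k(t)`. -/
lemma linearIndependent_of_val {ι : Type*} [Fintype ι] {t : K} (ht : v t < 1) (ht0 : t ≠ 0)
    (y : ι → K) (hy0 : ∀ i, y i ≠ 0)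
    (hy : ∀ i j, i ≠ j → ∀ n : ℕ, v (y i) ≠ v t ^ n * v (y j)) :
    LinearIndependent (IntermediateField.adjoin k ({t} : Set K)) y := by
  classical
  rw [Fintype.linearIndependent_iff]
  intro g hg
  by_contra hne
  push Not at hne
  obtain ⟨j, hj⟩ := hne
  obtain ⟨i₀, -, hi₀⟩ := Finset.exists_max_image Finset.univ
    (fun i => v ((g i : K) * y i)) ⟨j, Finset.mem_univ _⟩
  have hgi₀ : (g i₀ : K) ≠ 0 := by
    intro h0
    have h1 : v ((g j : K) * y j) ≤ v ((g i₀ : K) * y i₀) := hi₀ j (Finset.mem_univ _)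
    rw [h0, zero_mul, map_zero] at h1
    have h2 : v ((g j : K) * y j) = 0 := le_antisymm h1 zero_le'
    rw [Valuation.zero_iff, mul_eq_zero] at h2
    rcases h2 with h2 | h2
    · exact hj (Subtype.ext h2)
    · exact hy0 j h2
  have hsum : v (∑ i, (g i : K) * y i) = v ((g i₀ : K) * y i₀) := by
    apply Valuation.map_sum_eq_of_lt _ (Finset.mem_univ i₀)
    intro i hi
    have hii₀ : i ≠ i₀ := by
      rw [Finset.mem_sdiff, Finset.mem_singleton] at hi
      exact hi.2
    refine lt_of_le_of_ne (hi₀ i (Finset.mem_univ _)) ?_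
    intro heq
    by_cases hgi : (g i : K) = 0
    · rw [hgi, zero_mul, map_zero] at heq
      have h3 : (g i₀ : K) * y i₀ = 0 := (Valuation.zero_iff _).1 heq.symm
      rcases mul_eq_zero.1 h3 with h | h
      · exact hgi₀ h
      · exact hy0 i₀ h
    · have hquot : (g i₀ : K) / (g i : K) ∈ IntermediateField.adjoin k ({t} : Set K) :=
        div_mem (g i₀).2 (g i).2
      have hq0 : (g i₀ : K) / (g i : K) ≠ 0 := div_ne_zero hgi₀ hgi
      have hvgi : v (g i : K) ≠ 0 := (Valuation.ne_zero_iff _).2 hgi
      have hvgi₀ : v (g i₀ : K) ≠ 0 := (Valuation.ne_zero_iff _).2 hgi₀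
      rw [map_mul, map_mul] at heq
      rcases val_adjoin_eq_pow v hv ht ht0 hquot hq0 with ⟨n, hn⟩ | ⟨n, hn⟩
      · apply hy i i₀ hii₀ n
        rw [← hn, map_div₀, div_mul_eq_mul_div, eq_div_iff hvgi, mul_comm]
        exact heq
      · apply hy i₀ i hii₀.symm n
        have h4 : v t ^ n = v (g i : K) / v (g i₀ : K) := by
          rw [map_div₀] at hn
          rw [← inv_inv (v t ^ n), ← hn, inv_div]
        rw [h4, div_mul_eq_mul_div, eq_div_iff hvgi₀, mul_comm]
        exact heq.symm
  have hg' : ∑ i, (g i : K) * y i = 0 := by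
    rw [← hg]
    refine Finset.sum_congr rfl fun i _ => ?_
    rfl
  rw [hg', map_zero] at hsum
  have h5 : (g i₀ : K) * y i₀ = 0 := (Valuation.zero_iff _).1 hsum.symm
  rcases mul_eq_zero.1 h5 with h | h
  · exact hgi₀ h
  · exact hy0 i₀ h

end

end Groth.Agent.Lib.lead.FF2
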