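import Mathlib
import Groth.Prelude.Def_W4bk4goldsch23FF
import Groth.Agent.Lib.lead.FF
import Groth.Agent.Lib.lead.FF2

/-! Discreteness of valuation rings of a function field, existence of places. -/

namespace Groth.Agent.Lib.lead.FF3
open FunFld Groth.Agent.Lib.lead.FF Groth.Agent.Lib.lead.FF2

variable {k K : Type*} [Field k] [Field K] [Algebra k K]

section General
variable {Γ : Type*} [LinearOrderedCommGroupWithZero Γ] (v : Valuation K Γ)

/-- the set of values in `[v y, 1)` -/
def Ival (y : K) : Set Γ := {γ | (∃ z : K, v z = γ) ∧ v y ≤ γ ∧ γ < 1}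

lemma transcendental_of_val_lt_one' (hK : IsFunctionField k K)
    (hv : ∀ c : k, v (algebraMap k K c) ≤ 1) {t : K} (ht : v t < 1) (ht0 : t ≠ 0) :
    Transcendental k t := by
  intro halg
  obtain ⟨c, rfl⟩ := hK.2 t halg
  have hc : c ≠ 0 := by
    rintro rfl
    exact ht0 (map_zero _)
  rw [val_const v hv hc] at ht
  exact lt_irrefl _ ht

theorem finite_Ival (hK : IsFunctionField k K) (hv : ∀ c : k, v (algebraMap k K c) ≤ 1)
    {y : K} (hy0 : y ≠ 0) (hy : v y < 1) : (Ival v y).Finite := by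
  classical
  have htr := transcendental_of_val_lt_one' v hK hv hy hy0
  haveI := finite_of_transcendental hK htr
  by_contra hinf
  obtain ⟨T, hTsub, hTcard⟩ := Set.Infinite.exists_subset_card_eq (s := Ival v y) hinf
    (Module.finrank (IntermediateField.adjoin k ({y} : Set K)) K + 1)
  have hz : ∀ γ : T, ∃ z : K, v z = (γ : Γ) := fun γ => (hTsub γ.2).1
  choose z hz using hz
  have hvy0 : v y ≠ 0 := (Valuation.ne_zero_iff _).2 hy0
  have hli : LinearIndependent (IntermediateField.adjoin k ({y} : Set K)) z := by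
    apply linearIndependent_of_val v hv hy hy0 z
    · intro γ h0
      have h1 := hz γ
      rw [h0, map_zero] at h1
      have h2 := (hTsub γ.2).2.1
      rw [← h1] at h2
      exact hvy0 (le_zero_iff.1 h2)
    · intro γ γ' hne n heq
      rw [hz γ, hz γ'] at heq
      have hγ := hTsub γ.2
      have hγ' := hTsub γ'.2
      rcases Nat.eq_zero_or_pos n with rfl | hn
      · rw [pow_zero, one_mul] at heq
        exact hne (Subtype.ext heq)
      · have h1 : v y ^ n ≤ v y := by
          obtain ⟨m, rfl⟩ := Nat.exists_eq_succ_of_ne_zero hn.ne'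
          rw [pow_succ]
          calc v y ^ m * v y ≤ 1 * v y := mul_le_mul' (pow_le_one' hy.le m) le_rfl
            _ = v y := one_mul _
        have h2 : v y ^ n * (γ' : Γ) < v y := by
          calc v y ^ n * (γ' : Γ) ≤ v y * γ' := mul_le_mul' h1 le_rfl
            _ < v y * 1 := mul_lt_mul_of_pos_left hγ'.2.2 (zero_lt_iff.2 hvy0)
            _ = v y := mul_one _
        rw [← heq] at h2
        exact absurd hγ.2.1 (not_le.2 h2)
  have h3 := hli.fintype_card_le_finrank
  rw [Fintype.card_coe, hTcard] at h3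
  omega

end General

section VS
variable (hK : IsFunctionField k K) (B : ValuationSubring K)
  (hk : ∀ c : k, algebraMap k K c ∈ B)
include hK hk

theorem exists_generator {t₀ : K} (ht₀ : t₀ ≠ 0) (ht₀' : B.valuation t₀ < 1) :
    ∃ π : K, B.valuation π < 1 ∧ π ≠ 0 ∧
      ∀ z : K, z ≠ 0 → B.valuation z ≤ 1 → ∃ n : ℕ, B.valuation z = B.valuation π ^ n := by
  classical
  have hv : ∀ c : k, B.valuation (algebraMap k K c) ≤ 1 :=
    fun c => (B.valuation_le_one_iff _).2 (hk c)
  obtain ⟨w, hw⟩ : ∃ w : Valuation K B.ValueGroup, w = B.valuation := ⟨_, rfl⟩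
  rw [← hw] at hv ht₀' ⊢
  have hfin := finite_Ival w hK hv ht₀ ht₀'
  have hne : hfin.toFinset.Nonempty :=
    ⟨w t₀, by rw [Set.Finite.mem_toFinset]; exact ⟨⟨t₀, rfl⟩, le_rfl, ht₀'⟩⟩
  obtain ⟨γ, hγmem, hγmax⟩ : ∃ γ ∈ hfin.toFinset, ∀ δ ∈ hfin.toFinset, δ ≤ γ :=
    ⟨hfin.toFinset.max' hne, Finset.max'_mem _ _, fun δ hδ => Finset.le_max' _ _ hδ⟩
  rw [Set.Finite.mem_toFinset] at hγmem
  obtain ⟨⟨π, hπ⟩, hγ1, hγ2⟩ := hγmem
  have hwt₀ : w t₀ ≠ 0 := (Valuation.ne_zero_iff _).2 ht₀
  have hγ0 : γ ≠ 0 := by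
    intro h
    rw [h] at hγ1
    exact hwt₀ (le_zero_iff.1 hγ1)
  have hπ0 : π ≠ 0 := by
    rintro rfl
    rw [map_zero] at hπ
    exact hγ0 hπ.symm
  have hmaxall : ∀ z : K, w z < 1 → w z ≤ γ := by
    intro z hz
    rcases le_or_gt (w t₀) (w z) with h | h
    · exact hγmax _ (by rw [Set.Finite.mem_toFinset]; exact ⟨⟨z, rfl⟩, h, hz⟩)
    · exact h.le.trans hγ1
  refine ⟨π, by rw [hπ]; exact hγ2, hπ0, ?_⟩
  rw [hπ]
  have key : ∀ m : ℕ, ∀ z : K, z ≠ 0 → w z ≤ 1 → (Ival w z).ncard ≤ m →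
      ∃ n : ℕ, w z = γ ^ n := by
    intro m
    induction m with
    | zero =>
      intro z hz0 hz1 hcard
      rcases eq_or_lt_of_le hz1 with h1 | h1
      · exact ⟨0, by rw [pow_zero]; exact h1⟩
      · exfalso
        have hfinz := finite_Ival w hK hv hz0 h1
        have hmem : γ ∈ Ival w z := ⟨⟨π, hπ⟩, hmaxall z h1, hγ2⟩
        have hpos : 0 < (Ival w z).ncard := (Set.ncard_pos hfinz).2 ⟨γ, hmem⟩
        omega
    | succ m ih =>
      intro z hz0 hz1 hcard
      rcases eq_or_lt_of_le hz1 with h1 | h1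
      · exact ⟨0, by rw [pow_zero]; exact h1⟩
      · have hfinz := finite_Ival w hK hv hz0 h1
        have hmem : γ ∈ Ival w z := ⟨⟨π, hπ⟩, hmaxall z h1, hγ2⟩
        have hz' : w (z / π) ≤ 1 := by
          rw [map_div₀, hπ, div_le_one₀ (zero_lt_iff.2 hγ0)]
          exact hmaxall z h1
        have hz'0 : z / π ≠ 0 := div_ne_zero hz0 hπ0
        have hcard' : (Ival w (z / π)).ncard ≤ m := by
          have hinj : Set.InjOn (fun δ : B.ValueGroup => δ * γ) (Ival w (z / π)) := by
            intro a _ b _ hab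
            exact mul_right_cancel₀ hγ0 hab
          have hlt : ∀ δ : B.ValueGroup, δ < 1 → δ * γ < γ := by
            intro δ hδ
            calc δ * γ < 1 * γ := mul_lt_mul_of_pos_right hδ (zero_lt_iff.2 hγ0)
              _ = γ := one_mul _
          have hmaps : ∀ δ ∈ Ival w (z / π), (fun δ : B.ValueGroup => δ * γ) δ ∈ Ival w z \ {γ} := by
            rintro δ ⟨⟨z', hz'⟩, hδ1, hδ2⟩
            refine ⟨⟨⟨z' * π, by rw [map_mul, hz', hπ]⟩, ?_, ?_⟩, ?_⟩
            · rw [map_div₀, hπ, div_le_iff₀ (zero_lt_iff.2 hγ0)] at hδ1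
              exact hδ1
            · exact (hlt δ hδ2).trans hγ2
            · intro hmem'
              rw [Set.mem_singleton_iff] at hmem'
              exact absurd hmem' (hlt δ hδ2).ne
          have h2 : (Ival w (z / π)).ncard ≤ (Ival w z \ {γ}).ncard :=
            Set.ncard_le_ncard_of_injOn (fun δ => δ * γ) hmaps hinj (hfinz.subset Set.diff_subset)
          have h3 : (Ival w z \ {γ}).ncard + 1 = (Ival w z).ncard :=
            Set.ncard_sdiff_singleton_add_one hmem hfinz
          omega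
        obtain ⟨n, hn⟩ := ih (z / π) hz'0 hz' hcard'
        refine ⟨n + 1, ?_⟩
        rw [map_div₀, hπ, div_eq_iff hγ0] at hn
        rw [hn, pow_succ]
  intro z hz0 hz1
  exact key _ z hz0 hz1 le_rfl

theorem exists_place {t₀ : K} (ht₀ : t₀ ≠ 0) (ht₀' : B.valuation t₀ < 1) :
    ∃ P : Place k K, ∀ x : K, (P.1 x ≤ 1 ↔ x ∈ B) ∧ (P.1 x < 1 ↔ B.valuation x < 1) := by
  classical
  obtain ⟨π, hπ1, hπ0, hπgen⟩ := exists_generator hK B hk ht₀ ht₀'
  have hπB : π ∈ B := (B.valuation_le_one_iff π).1 hπ1.le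
  have hwπ0 : B.valuation π ≠ 0 := (Valuation.ne_zero_iff _).2 hπ0
  have hpow_inj : Function.Injective (fun n : ℕ => B.valuation π ^ n) :=
    pow_right_injective₀ (zero_lt_iff.2 hwπ0) hπ1.ne
  have hfact : IsDiscreteValuationRing.HasUnitMulPowIrreducibleFactorization B := by
    refine ⟨⟨π, hπB⟩, ?_, ?_⟩
    · rw [irreducible_iff]
      refine ⟨?_, ?_⟩
      · rw [B.valuation_eq_one_iff]
        exact hπ1.ne
      · intro a b hab
        have habK : π = (a : K) * (b : K) := congrArg (fun x : B => (x : K)) hab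
        have ha0 : (a : K) ≠ 0 := by
          intro h0
          apply hπ0
          rw [habK, h0, zero_mul]
        have hb0 : (b : K) ≠ 0 := by
          intro h0
          apply hπ0
          rw [habK, h0, mul_zero]
        obtain ⟨i, hi⟩ := hπgen a ha0 ((B.valuation_le_one_iff _).2 a.2)
        obtain ⟨j, hj⟩ := hπgen b hb0 ((B.valuation_le_one_iff _).2 b.2)
        have hprod : B.valuation π ^ 1 = B.valuation π ^ (i + j) := by
          rw [pow_one, pow_add, ← hi, ← hj, ← map_mul, ← habK]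
        have hij : 1 = i + j := hpow_inj hprod
        rcases Nat.eq_zero_or_pos i with hi0 | hipos
        · left
          rw [B.valuation_eq_one_iff, hi, hi0, pow_zero]
        · right
          have hj0 : j = 0 := by omega
          rw [B.valuation_eq_one_iff, hj, hj0, pow_zero]
    · intro x hx
      have hx0 : (x : K) ≠ 0 := fun h => hx (Subtype.ext h)
      obtain ⟨n, hn⟩ := hπgen x hx0 ((B.valuation_le_one_iff _).2 x.2)
      have hu1 : B.valuation ((x : K) / π ^ n) = 1 := by
        rw [map_div₀, map_pow, hn, div_self (pow_ne_zero _ hwπ0)]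
      have huB : (x : K) / π ^ n ∈ B := (B.valuation_le_one_iff _).1 hu1.le
      have hunit : IsUnit (⟨(x : K) / π ^ n, huB⟩ : B) := (B.valuation_eq_one_iff _).2 hu1
      refine ⟨n, hunit.unit, ?_⟩
      rw [IsUnit.unit_spec]
      apply Subtype.ext
      show π ^ n * ((x : K) / π ^ n) = (x : K)
      field_simp
  haveI : IsDiscreteValuationRing B :=
    IsDiscreteValuationRing.ofHasUnitMulPowIrreducibleFactorization hfact
  obtain ⟨v', hv'⟩ : ∃ v' : Valuation K (WithZero (Multiplicative ℤ)),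
      v' = (IsDiscreteValuationRing.maximalIdeal B).valuation K := ⟨_, rfl⟩
  have hle : ∀ x : K, v' x ≤ 1 ↔ x ∈ B := by
    intro x
    rw [hv']
    constructor
    · intro h
      obtain ⟨a, rfl⟩ := IsDiscreteValuationRing.exists_lift_of_le_one h
      exact a.2
    · intro h
      exact IsDedekindDomain.HeightOneSpectrum.valuation_le_one _ (⟨x, h⟩ : B)
  have hlt : ∀ x : K, v' x < 1 ↔ B.valuation x < 1 := by
    intro x
    constructor
    · intro h
      have hxB : x ∈ B := (hle x).1 h.le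
      rw [hv'] at h
      have h1 : (⟨x, hxB⟩ : B) ∈ (IsDiscreteValuationRing.maximalIdeal B).asIdeal :=
        (IsDedekindDomain.HeightOneSpectrum.valuation_lt_one_iff_mem _ (⟨x, hxB⟩ : B)).1 h
      exact (B.valuation_lt_one_iff _).1 h1
    · intro h
      have hxB : x ∈ B := (B.valuation_le_one_iff x).1 h.le
      have h1 : (⟨x, hxB⟩ : B) ∈ IsLocalRing.maximalIdeal B := (B.valuation_lt_one_iff _).2 h
      rw [hv']
      exact (IsDedekindDomain.HeightOneSpectrum.valuation_lt_one_iff_mem _ (⟨x, hxB⟩ : B)).2 h1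
  have hsurj : Function.Surjective v' := by
    obtain ⟨ϖ, hϖ⟩ := IsDedekindDomain.HeightOneSpectrum.valuation_exists_uniformizer K
      (IsDiscreteValuationRing.maximalIdeal B)
    rw [← hv'] at hϖ
    intro γ
    rcases eq_or_ne γ 0 with rfl | hγ
    · exact ⟨0, map_zero _⟩
    · refine ⟨ϖ ^ (-(WithZero.log γ)), ?_⟩
      rw [map_zpow₀, hϖ, ← WithZero.exp_zsmul]
      have h1 : (-WithZero.log γ) • (-1 : ℤ) = WithZero.log γ := by simp
      rw [h1, WithZero.exp_log hγ]
  exact ⟨⟨v', fun c => (hle _).2 (hk c), hsurj⟩, fun x => ⟨hle x, hlt x⟩⟩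

end VS

theorem exists_place_lt_one (hK : IsFunctionField k K) {x : K} (hx : Transcendental k x) :
    ∃ P : Place k K, P.1 x < 1 := by
  classical
  have hx0 : x ≠ 0 := by
    rintro rfl
    exact hx isAlgebraic_zero
  obtain ⟨A, hA⟩ : ∃ A : Subring K, A = (Algebra.adjoin k ({x} : Set K)).toSubring := ⟨_, rfl⟩
  have hAmem : ∀ y : K, y ∈ A ↔ y ∈ Algebra.adjoin k ({x} : Set K) := by
    intro y
    rw [hA]
    exact Iff.rfl
  have hxA : x ∈ A := (hAmem x).2 (Algebra.self_mem_adjoin_singleton k x)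
  have hI : Ideal.span ({⟨x, hxA⟩} : Set A) ≠ ⊤ := by
    intro htop
    have h1 : (1 : A) ∈ Ideal.span ({⟨x, hxA⟩} : Set A) := by
      rw [htop]
      exact Submodule.mem_top
    obtain ⟨a, ha⟩ := Ideal.mem_span_singleton'.1 h1
    have haK : (a : K) * x = 1 := congrArg (fun y : A => (y : K)) ha
    have hamem : (a : K) ∈ Algebra.adjoin k ({x} : Set K) := (hAmem _).1 a.2
    rw [Algebra.adjoin_singleton_eq_range_aeval] at hamem
    obtain ⟨p, hp⟩ := hamem
    have hp' : Polynomial.aeval x p = (a : K) := hp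
    have h3 : Polynomial.aeval x (p * Polynomial.X - 1) = 0 := by
      rw [map_sub, map_mul, Polynomial.aeval_X, map_one, hp', haK, sub_self]
    have h4 := (transcendental_iff.1 hx) _ h3
    have h5 := congrArg (fun q : Polynomial k => q.coeff 0) h4
    simp at h5
  obtain ⟨B, hAB, hsub⟩ := Ideal.image_subset_nonunits_valuationSubring _ hI
  have hk : ∀ c : k, algebraMap k K c ∈ B := by
    intro c
    apply hAB
    exact (hAmem _).2 (Subalgebra.algebraMap_mem _ c)
  have hxB : x ∈ B.nonunits := by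
    apply hsub
    exact ⟨⟨x, hxA⟩, Ideal.subset_span (Set.mem_singleton _), rfl⟩
  have hxlt : B.valuation x < 1 := (B.mem_nonunits_iff).1 hxB
  obtain ⟨P, hP⟩ := exists_place hK B hk hx0 hxlt
  exact ⟨P, (hP x).2.2 hxlt⟩

theorem exists_zero_and_pole (hK : IsFunctionField k K) {x : K}
    (hx : x ∉ Set.range (algebraMap k K)) :
    (∃ P : Place k K, P.1 x < 1) ∧ ∃ Q : Place k K, 1 < Q.1 x := by
  have htr : Transcendental k x := fun halg => hx (hK.2 x halg)
  have hx0 : x ≠ 0 := by
    rintro rfl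
    exact htr isAlgebraic_zero
  have htr' : Transcendental k x⁻¹ := by
    intro halg
    apply htr
    have := halg.inv
    rwa [inv_inv] at this
  refine ⟨exists_place_lt_one hK htr, ?_⟩
  obtain ⟨Q, hQ⟩ := exists_place_lt_one hK htr'
  refine ⟨Q, ?_⟩
  rw [map_inv₀] at hQ
  have h0 : Q.1 x ≠ 0 := (Valuation.ne_zero_iff _).2 hx0
  rw [inv_lt_one₀ (zero_lt_iff.2 h0)] at hQ
  exact hQ

end Groth.Agent.Lib.lead.FF3
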