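import Mathlib
import Groth.Prelude.Def_W4bk4goldsch23FF
import Groth.Agent.Lib.lead.FF
import Groth.Agent.Lib.lead.FF2
import Groth.Agent.Lib.lead.FF3

/-! Basic lemmas on `ord`. -/

namespace Groth.Agent.Lib.lead.FF4
open FunFld Groth.Agent.Lib.lead.FF Groth.Agent.Lib.lead.FF2 Groth.Agent.Lib.lead.FF3

variable {k K : Type*} [Field k] [Field K] [Algebra k K]

lemma val_ne_zero (P : Place k K) {x : K} (hx : x ≠ 0) : P.1 x ≠ 0 :=
  (Valuation.ne_zero_iff _).2 hx

lemma val_eq_exp (P : Place k K) {x : K} (hx : x ≠ 0) :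
    P.1 x = WithZero.exp (-(P.ord x)) := by
  unfold Place.ord
  rw [neg_neg, WithZero.exp_log (val_ne_zero P hx)]

lemma ord_pos_iff (P : Place k K) {x : K} (hx : x ≠ 0) : 0 < P.ord x ↔ P.1 x < 1 := by
  rw [val_eq_exp P hx, ← WithZero.exp_zero, WithZero.exp_lt_exp]
  constructor <;> intro h <;> omega

lemma ord_neg_iff (P : Place k K) {x : K} (hx : x ≠ 0) : P.ord x < 0 ↔ 1 < P.1 x := by
  rw [val_eq_exp P hx, ← WithZero.exp_zero, WithZero.exp_lt_exp]
  constructor <;> intro h <;> omega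

lemma val_le_exp_iff (P : Place k K) {x : K} (hx : x ≠ 0) (n : ℤ) :
    P.1 x ≤ WithZero.exp n ↔ -n ≤ P.ord x := by
  rw [val_eq_exp P hx, WithZero.exp_le_exp]
  constructor <;> intro h <;> omega

lemma ord_mul (P : Place k K) {x y : K} (hx : x ≠ 0) (hy : y ≠ 0) :
    P.ord (x * y) = P.ord x + P.ord y := by
  unfold Place.ord
  rw [map_mul, WithZero.log_mul (val_ne_zero P hx) (val_ne_zero P hy), neg_add]

lemma ord_inv (P : Place k K) (x : K) : P.ord x⁻¹ = -P.ord x := by
  unfold Place.ord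
  rw [map_inv₀, WithZero.log_inv]

lemma ord_div (P : Place k K) {x y : K} (hx : x ≠ 0) (hy : y ≠ 0) :
    P.ord (x / y) = P.ord x - P.ord y := by
  rw [div_eq_mul_inv, ord_mul P hx (inv_ne_zero hy), ord_inv, sub_eq_add_neg]

lemma ord_one (P : Place k K) : P.ord (1 : K) = 0 := by
  unfold Place.ord
  rw [map_one, WithZero.log_one, neg_zero]

lemma ord_const (P : Place k K) {c : k} (hc : c ≠ 0) : P.ord (algebraMap k K c) = 0 := by
  unfold Place.ord
  rw [val_algebraMap P hc, WithZero.log_one, neg_zero]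

lemma mem_L_iff (D : Divisor k K) (x : K) :
    x ∈ L D ↔ ∀ P : Place k K, P.1 x ≤ WithZero.exp (D P) := Iff.rfl

lemma mem_AD_iff (D : Divisor k K) (a : Place k K → K) :
    a ∈ AD D ↔ ∀ P : Place k K, P.1 (a P) ≤ WithZero.exp (D P) := Iff.rfl

/-- An element whose valuations are all `≤ 1` is constant. -/
lemma mem_range_of_forall_le_one (hK : IsFunctionField k K) {x : K}
    (h : ∀ P : Place k K, P.1 x ≤ 1) : x ∈ Set.range (algebraMap k K) := by
  by_contra hx
  obtain ⟨-, Q, hQ⟩ := exists_zero_and_pole hK hx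
  exact absurd (h Q) (not_le.2 hQ)

lemma L_zero (hK : IsFunctionField k K) : L (0 : Divisor k K) = 1 := by
  ext x
  rw [mem_L_iff, Submodule.mem_one]
  constructor
  · intro h
    have h1 : ∀ P : Place k K, P.1 x ≤ 1 := by
      intro P
      have h2 := h P
      rwa [Finsupp.zero_apply, WithZero.exp_zero] at h2
    exact mem_range_of_forall_le_one hK h1
  · rintro ⟨c, rfl⟩ P
    rw [Finsupp.zero_apply, WithZero.exp_zero]
    exact P.2.1 c

end Groth.Agent.Lib.lead.FF4
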