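import Mathlib
import Groth.Prelude.Def_W4bk4goldsch23FF
import Groth.Agent.Lib.lead.FF
import Groth.Agent.Lib.lead.FF4
import Groth.Agent.S10971

/-! Relative dimensions of submodules, local dimension count for repartitions. -/

namespace Groth.Agent.Lib.lead.FF5
open FunFld Groth.Agent.Lib.lead.FF Groth.Agent.Lib.lead.FF4

section Abstract
variable {k : Type*} [Field k]
variable {Q₁ Q₂ Q₃ : Type*} [AddCommGroup Q₁] [Module k Q₁] [AddCommGroup Q₂] [Module k Q₂]
  [AddCommGroup Q₃] [Module k Q₃]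

theorem exact_finite_mid (i : Q₁ →ₗ[k] Q₂) (p : Q₂ →ₗ[k] Q₃) (hi : Function.Injective i)
    (hp : Function.Surjective p) (hex : LinearMap.range i = LinearMap.ker p)
    [Module.Finite k Q₁] [Module.Finite k Q₃] :
    Module.Finite k Q₂ ∧ Module.finrank k Q₂ = Module.finrank k Q₁ + Module.finrank k Q₃ := by
  haveI : Module.Finite k (LinearMap.ker p) := by
    rw [← hex]
    infer_instance
  haveI : Module.Finite k (Q₂ ⧸ LinearMap.ker p) :=
    Module.Finite.equiv (p.quotKerEquivOfSurjective hp).symm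
  haveI hfin : Module.Finite k Q₂ := Module.Finite.of_submodule_quotient (LinearMap.ker p)
  refine ⟨hfin, ?_⟩
  have h5 := LinearMap.finrank_range_add_finrank_ker p
  rw [LinearMap.range_eq_top.2 hp, finrank_top, ← hex, LinearMap.finrank_range_of_inj hi] at h5
  omega

theorem exact_finite_ends (i : Q₁ →ₗ[k] Q₂) (p : Q₂ →ₗ[k] Q₃) (hi : Function.Injective i)
    (hp : Function.Surjective p) (hex : LinearMap.range i = LinearMap.ker p)
    [Module.Finite k Q₂] :
    Module.Finite k Q₁ ∧ Module.Finite k Q₃ ∧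
      Module.finrank k Q₂ = Module.finrank k Q₁ + Module.finrank k Q₃ := by
  haveI : Module.Finite k Q₁ := Module.Finite.of_injective i hi
  haveI : Module.Finite k Q₃ := Module.Finite.of_surjective p hp
  exact ⟨inferInstance, inferInstance, (exact_finite_mid i p hi hp hex).2⟩

end Abstract

section Rel
variable {k : Type*} [Field k]

/-- relative quotient `B / (A ∩ B)` -/
abbrev RelQ {V : Type*} [AddCommGroup V] [Module k V] (A B : Submodule k V) :=
  ↥B ⧸ Submodule.comap B.subtype A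

variable {V₁ V₂ V₃ : Type*} [AddCommGroup V₁] [Module k V₁] [AddCommGroup V₂] [Module k V₂]
  [AddCommGroup V₃] [Module k V₃]

structure RelExact (A₁ B₁ : Submodule k V₁) (A₂ B₂ : Submodule k V₂) (A₃ B₃ : Submodule k V₃)
    (f : V₁ →ₗ[k] V₂) (g : V₂ →ₗ[k] V₃) : Prop where
  fB : ∀ x ∈ B₁, f x ∈ B₂
  fA : ∀ x ∈ B₁, x ∈ A₁ → f x ∈ A₂
  gB : ∀ y ∈ B₂, g y ∈ B₃
  gA : ∀ y ∈ B₂, y ∈ A₂ → g y ∈ A₃
  inj : ∀ x ∈ B₁, f x ∈ A₂ → x ∈ A₁
  comp : ∀ x ∈ B₁, g (f x) ∈ A₃
  exact : ∀ y ∈ B₂, g y ∈ A₃ → ∃ x ∈ B₁, y - f x ∈ A₂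
  surj : ∀ z ∈ B₃, ∃ y ∈ B₂, z - g y ∈ A₃

variable {A₁ B₁ : Submodule k V₁} {A₂ B₂ : Submodule k V₂} {A₃ B₃ : Submodule k V₃}
  {f : V₁ →ₗ[k] V₂} {g : V₂ →ₗ[k] V₃}

theorem RelExact.maps (h : RelExact A₁ B₁ A₂ B₂ A₃ B₃ f g) :
    ∃ (i : RelQ A₁ B₁ →ₗ[k] RelQ A₂ B₂) (p : RelQ A₂ B₂ →ₗ[k] RelQ A₃ B₃),
      Function.Injective i ∧ Function.Surjective p ∧ LinearMap.range i = LinearMap.ker p := by
  have hfr : Submodule.comap B₁.subtype A₁ ≤
      Submodule.comap (f.restrict h.fB) (Submodule.comap B₂.subtype A₂) :=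
    fun x hx => h.fA x.1 x.2 hx
  have hgr : Submodule.comap B₂.subtype A₂ ≤
      Submodule.comap (g.restrict h.gB) (Submodule.comap B₃.subtype A₃) :=
    fun y hy => h.gA y.1 y.2 hy
  refine ⟨Submodule.mapQ _ _ (f.restrict h.fB) hfr, Submodule.mapQ _ _ (g.restrict h.gB) hgr,
    ?_, ?_, ?_⟩
  · rw [← LinearMap.ker_eq_bot, LinearMap.ker_eq_bot']
    intro y hy
    obtain ⟨b, rfl⟩ := Submodule.Quotient.mk_surjective _ y
    rw [Submodule.mapQ_apply, Submodule.Quotient.mk_eq_zero] at hy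
    rw [Submodule.Quotient.mk_eq_zero]
    exact h.inj b.1 b.2 hy
  · intro z
    obtain ⟨c, rfl⟩ := Submodule.Quotient.mk_surjective _ z
    obtain ⟨y, hyB, hy⟩ := h.surj c.1 c.2
    refine ⟨Submodule.Quotient.mk ⟨y, hyB⟩, ?_⟩
    rw [Submodule.mapQ_apply, Submodule.Quotient.eq]
    show g y - c.1 ∈ A₃
    have h1 : g y - c.1 = -(c.1 - g y) := by abel
    rw [h1]
    exact A₃.neg_mem hy
  · ext y
    obtain ⟨b, rfl⟩ := Submodule.Quotient.mk_surjective _ y
    rw [LinearMap.mem_ker, Submodule.mapQ_apply, Submodule.Quotient.mk_eq_zero]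
    constructor
    · rintro ⟨x, hx⟩
      obtain ⟨a, rfl⟩ := Submodule.Quotient.mk_surjective _ x
      rw [Submodule.mapQ_apply, Submodule.Quotient.eq] at hx
      show g b.1 ∈ A₃
      have h1 : f a.1 - b.1 ∈ A₂ := hx
      have h2 : g b.1 = g (f a.1) - g (f a.1 - b.1) := by
        rw [map_sub]
        abel
      rw [h2]
      exact A₃.sub_mem (h.comp a.1 a.2) (h.gA _ (B₂.sub_mem (h.fB a.1 a.2) b.2) h1)
    · intro hb
      obtain ⟨x, hxB, hx⟩ := h.exact b.1 b.2 hb
      refine ⟨Submodule.Quotient.mk ⟨x, hxB⟩, ?_⟩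
      rw [Submodule.mapQ_apply, Submodule.Quotient.eq]
      show f x - b.1 ∈ A₂
      have h1 : f x - b.1 = -(b.1 - f x) := by abel
      rw [h1]
      exact A₂.neg_mem hx

theorem RelExact.finite_mid (h : RelExact A₁ B₁ A₂ B₂ A₃ B₃ f g)
    [Module.Finite k (RelQ A₁ B₁)] [Module.Finite k (RelQ A₃ B₃)] :
    Module.Finite k (RelQ A₂ B₂) ∧
      Module.finrank k (RelQ A₂ B₂) =
        Module.finrank k (RelQ A₁ B₁) + Module.finrank k (RelQ A₃ B₃) := by
  obtain ⟨i, p, hi, hp, hex⟩ := h.maps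
  exact exact_finite_mid i p hi hp hex

theorem RelExact.finite_ends (h : RelExact A₁ B₁ A₂ B₂ A₃ B₃ f g)
    [Module.Finite k (RelQ A₂ B₂)] :
    Module.Finite k (RelQ A₁ B₁) ∧ Module.Finite k (RelQ A₃ B₃) ∧
      Module.finrank k (RelQ A₂ B₂) =
        Module.finrank k (RelQ A₁ B₁) + Module.finrank k (RelQ A₃ B₃) := by
  obtain ⟨i, p, hi, hp, hex⟩ := h.maps
  exact exact_finite_ends i p hi hp hex

variable {V : Type*} [AddCommGroup V] [Module k V]

theorem relExact_tower {A B C : Submodule k V} (hAB : A ≤ B) (hBC : B ≤ C) :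
    RelExact A B A C B C (LinearMap.id : V →ₗ[k] V) (LinearMap.id : V →ₗ[k] V) where
  fB x hx := hBC hx
  fA x _ hx := hx
  gB y hy := hy
  gA y _ hy := hAB hy
  inj x _ hx := hx
  comp x hx := hx
  exact y _ hy := ⟨y, hy, by simp⟩
  surj z hz := ⟨z, hz, by simp⟩

theorem rel_tower {A B C : Submodule k V} (hAB : A ≤ B) (hBC : B ≤ C)
    [Module.Finite k (RelQ A B)] [Module.Finite k (RelQ B C)] :
    Module.Finite k (RelQ A C) ∧
      Module.finrank k (RelQ A C) = Module.finrank k (RelQ A B) + Module.finrank k (RelQ B C) :=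
  (relExact_tower hAB hBC).finite_mid

theorem rel_self (A : Submodule k V) :
    Module.Finite k (RelQ A A) ∧ Module.finrank k (RelQ A A) = 0 := by
  have h1 : Submodule.comap A.subtype A = ⊤ := Submodule.comap_subtype_self A
  haveI : Subsingleton (RelQ A A) := by
    show Subsingleton (↥A ⧸ Submodule.comap A.subtype A)
    rw [h1]
    infer_instance
  exact ⟨inferInstance, Module.finrank_zero_of_subsingleton⟩

/-- A surjective linear map from `B` with kernel `A ∩ B` identifies the relative quotient. -/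
noncomputable def relEquivOfMap {A B : Submodule k V} {W : Type*} [AddCommGroup W] [Module k W]
    (φ : ↥B →ₗ[k] W) (hφ : Function.Surjective φ)
    (hker : LinearMap.ker φ = Submodule.comap B.subtype A) : RelQ A B ≃ₗ[k] W :=
  (Submodule.quotEquivOfEq _ _ hker.symm).trans (φ.quotKerEquivOfSurjective hφ)

theorem rel_finrank {A B : Submodule k V} (hAB : A ≤ B) [Module.Finite k B] :
    Module.finrank k B = Module.finrank k A + Module.finrank k (RelQ A B) := by
  have h1 := Submodule.finrank_quotient_add_finrank (Submodule.comap B.subtype A)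
  have h2 : Module.finrank k (Submodule.comap B.subtype A) = Module.finrank k A :=
    (Submodule.comapSubtypeEquivOfLe hAB).finrank_eq
  rw [h2] at h1
  show Module.finrank k B = Module.finrank k A +
    Module.finrank k (↥B ⧸ Submodule.comap B.subtype A)
  omega

/-- Finite relative quotient and finite small module give finite big module. -/
theorem finite_of_rel {A B : Submodule k V} (hAB : A ≤ B) [Module.Finite k A]
    [Module.Finite k (RelQ A B)] : Module.Finite k B := by
  haveI : Module.Finite k (Submodule.comap B.subtype A) :=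
    Module.Finite.equiv (Submodule.comapSubtypeEquivOfLe hAB).symm
  exact Module.Finite.of_submodule_quotient (Submodule.comap B.subtype A)

end Rel

section Local
variable {k K : Type*} [Field k] [Field K] [Algebra k K]

/-- the valuation ring of `P` as a `k`-submodule of `K` -/
def OP (P : Place k K) : Submodule k K where
  carrier := {x | P.1 x ≤ 1}
  add_mem' {x y} hx hy := (P.1.map_add x y).trans (max_le hx hy)
  zero_mem' := by simp
  smul_mem' c x hx := by
    show P.1 (c • x) ≤ 1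
    rw [Algebra.smul_def, map_mul]
    exact mul_le_one' (P.2.1 c) hx

lemma mem_OP (P : Place k K) (x : K) : x ∈ OP P ↔ P.1 x ≤ 1 := Iff.rfl

/-- the residue map as a `k`-linear map -/
noncomputable def resMap (P : Place k K) : ↥(OP P) →ₗ[k] IsLocalRing.ResidueField P.O where
  toFun x := IsLocalRing.residue P.O ⟨x.1, x.2⟩
  map_add' x y := by
    rw [← map_add]
    rfl
  map_smul' c x := by
    show IsLocalRing.residue P.O ⟨(c • x : ↥(OP P)).1, (c • x : ↥(OP P)).2⟩ =
      c • IsLocalRing.residue P.O ⟨x.1, x.2⟩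
    rw [Algebra.smul_def]
    show _ = IsLocalRing.residue P.O (algebraMap k P.O c) * _
    rw [← map_mul]
    congr 1
    apply Subtype.ext
    show c • x.1 = algebraMap k K c * x.1
    exact Algebra.smul_def c x.1

lemma resMap_surjective (P : Place k K) : Function.Surjective (resMap P) := by
  intro b
  obtain ⟨y, rfl⟩ := IsLocalRing.residue_surjective b
  exact ⟨⟨y.1, y.2⟩, rfl⟩

lemma resMap_eq_zero_iff (P : Place k K) (x : ↥(OP P)) : resMap P x = 0 ↔ P.1 x.1 < 1 := by
  show IsLocalRing.residue P.O ⟨x.1, x.2⟩ = 0 ↔ _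
  rw [IsLocalRing.residue_eq_zero_iff, mem_max_iff]

lemma lt_exp_succ_iff (x : WithZero (Multiplicative ℤ)) (n : ℤ) :
    x < WithZero.exp (n + 1) ↔ x ≤ WithZero.exp n := by
  rcases eq_or_ne x 0 with rfl | hx
  · exact ⟨fun _ => zero_le', fun _ => WithZero.exp_pos⟩
  · rw [← WithZero.exp_log hx, WithZero.exp_lt_exp, WithZero.exp_le_exp]
    exact Int.lt_add_one_iff

lemma exists_uniformizer (P : Place k K) : ∃ π : K, P.1 π = WithZero.exp (-1) :=
  P.2.2 _

lemma val_zpow_uniformizer (P : Place k K) {π : K} (hπ : P.1 π = WithZero.exp (-1)) (m : ℤ) :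
    P.1 (π ^ m) = WithZero.exp (-m) := by
  rw [map_zpow₀, hπ, ← WithZero.exp_zsmul]
  congr 1
  simp

lemma AD_mono {D D' : Divisor k K} (h : D ≤ D') : AD D ≤ AD D' := by
  intro a ha P
  exact (ha P).trans (WithZero.exp_le_exp.2 (h P))

lemma L_mono {D D' : Divisor k K} (h : D ≤ D') : L D ≤ L D' := by
  intro a ha P
  exact (ha P).trans (WithZero.exp_le_exp.2 (h P))

lemma deg_add (D E : Divisor k K) : (D + E).deg = D.deg + E.deg := by
  unfold Divisor.deg
  exact Finsupp.sum_add_index' (fun _ => zero_mul _) (fun _ _ _ => add_mul _ _ _)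

lemma deg_zero : (0 : Divisor k K).deg = 0 := by
  unfold Divisor.deg
  exact Finsupp.sum_zero_index

lemma deg_single (P : Place k K) (n : ℤ) :
    FunFld.Divisor.deg (Finsupp.single P n : Divisor k K) = n * P.deg := by
  unfold Divisor.deg
  exact Finsupp.sum_single_index (zero_mul _)

lemma deg_neg (D : Divisor k K) : (-D).deg = -D.deg := by
  have h := deg_add D (-D)
  rw [add_neg_cancel, deg_zero] at h
  omega

lemma deg_sub (D E : Divisor k K) : (D - E).deg = D.deg - E.deg := by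
  rw [sub_eq_add_neg, deg_add, deg_neg, sub_eq_add_neg]

/-- One step of the local dimension count. -/
theorem AD_step (hK : IsFunctionField k K) (E : Divisor k K) (P : Place k K) :
    Module.Finite k (RelQ (AD E) (AD (E + Finsupp.single P 1))) ∧
      Module.finrank k (RelQ (AD E) (AD (E + Finsupp.single P 1))) = P.deg := by
  classical
  obtain ⟨π, hπ⟩ := exists_uniformizer P
  have hπ0 : π ≠ 0 := by
    rintro rfl
    rw [map_zero] at hπ
    exact WithZero.exp_ne_zero hπ.symm
  obtain ⟨E', hE'⟩ : ∃ E' : Divisor k K, E' = E + Finsupp.single P 1 := ⟨_, rfl⟩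
  rw [← hE']
  have hE'P : E' P = E P + 1 := by
    rw [hE', Finsupp.add_apply, Finsupp.single_eq_same]
  have hE'Q : ∀ Q : Place k K, Q ≠ P → E' Q = E Q := by
    intro Q hQ
    rw [hE', Finsupp.add_apply, Finsupp.single_apply, if_neg (Ne.symm hQ), add_zero]
  let g : ↥(AD E') →ₗ[k] K :=
    (LinearMap.mulRight k (π ^ (E P + 1))) ∘ₗ (LinearMap.proj P) ∘ₗ (AD E').subtype
  have hgapp : ∀ a : ↥(AD E'), g a = a.1 P * π ^ (E P + 1) := fun a => rfl
  have hval : ∀ a : ↥(AD E'), P.1 (g a) = P.1 (a.1 P) * WithZero.exp (-(E P + 1)) := by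
    intro a
    rw [hgapp, map_mul, val_zpow_uniformizer P hπ]
  have hg : ∀ a : ↥(AD E'), g a ∈ OP P := by
    intro a
    rw [mem_OP, hval]
    have h1 : P.1 (a.1 P) ≤ WithZero.exp (E P + 1) := by
      have h2 := a.2 P
      rwa [hE'P] at h2
    calc P.1 (a.1 P) * WithZero.exp (-(E P + 1))
        ≤ WithZero.exp (E P + 1) * WithZero.exp (-(E P + 1)) := mul_le_mul' h1 le_rfl
      _ = 1 := by rw [← WithZero.exp_add, add_neg_cancel, WithZero.exp_zero]
  let φ : ↥(AD E') →ₗ[k] IsLocalRing.ResidueField P.O := (resMap P) ∘ₗ (g.codRestrict (OP P) hg)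
  have hφ0 : ∀ a : ↥(AD E'), φ a = 0 ↔ P.1 (a.1 P) ≤ WithZero.exp (E P) := by
    intro a
    show resMap P ⟨g a, hg a⟩ = 0 ↔ _
    rw [resMap_eq_zero_iff]
    show P.1 (g a) < 1 ↔ _
    rw [hval, ← lt_exp_succ_iff]
    have hpos : (0 : WithZero (Multiplicative ℤ)) < WithZero.exp (E P + 1) := WithZero.exp_pos
    constructor
    · intro h
      have h1 := mul_lt_mul_of_pos_right h hpos
      rwa [mul_assoc, ← WithZero.exp_add, neg_add_cancel, WithZero.exp_zero, mul_one,
        one_mul] at h1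
    · intro h
      have hpos' : (0 : WithZero (Multiplicative ℤ)) < WithZero.exp (-(E P + 1)) :=
        WithZero.exp_pos
      have h1 := mul_lt_mul_of_pos_right h hpos'
      rwa [← WithZero.exp_add, add_neg_cancel, WithZero.exp_zero] at h1
  have hφsurj : Function.Surjective φ := by
    intro b
    obtain ⟨y, rfl⟩ := resMap_surjective P b
    have hmem : (Pi.single P (y.1 * π ^ (-(E P + 1))) : Place k K → K) ∈ AD E' := by
      intro Q
      by_cases hQ : Q = P
      · subst hQ
        rw [Pi.single_eq_same, map_mul, val_zpow_uniformizer Q hπ, neg_neg, hE'P]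
        calc Q.1 y.1 * WithZero.exp (E Q + 1) ≤ 1 * WithZero.exp (E Q + 1) :=
              mul_le_mul' y.2 le_rfl
          _ = WithZero.exp (E Q + 1) := one_mul _
      · rw [Pi.single_eq_of_ne hQ, map_zero]
        exact zero_le'
    refine ⟨⟨_, hmem⟩, ?_⟩
    show resMap P ⟨g ⟨_, hmem⟩, hg _⟩ = resMap P y
    congr 1
    apply Subtype.ext
    show (Pi.single P (y.1 * π ^ (-(E P + 1))) : Place k K → K) P * π ^ (E P + 1) = y.1
    rw [Pi.single_eq_same, mul_assoc, ← zpow_add₀ hπ0, neg_add_cancel, zpow_zero, mul_one]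
  have hker : LinearMap.ker φ = Submodule.comap (AD E').subtype (AD E) := by
    ext a
    rw [LinearMap.mem_ker, hφ0, Submodule.mem_comap]
    constructor
    · intro h Q
      by_cases hQ : Q = P
      · subst hQ
        exact h
      · have h1 := a.2 Q
        rwa [hE'Q Q hQ] at h1
    · intro h
      exact h P
  have e := relEquivOfMap φ hφsurj hker
  haveI : Module.Finite k (IsLocalRing.ResidueField P.O) := Groth.Agent.S10971.result k K hK P
  exact ⟨Module.Finite.equiv e.symm, e.finrank_eq⟩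

/-- cast of an effective `ℕ`-divisor -/
noncomputable def castD (F : Place k K →₀ ℕ) : Divisor k K :=
  Finsupp.mapRange.addMonoidHom (Nat.castAddMonoidHom ℤ) F

lemma castD_zero : castD (0 : Place k K →₀ ℕ) = 0 := map_zero _

lemma castD_add (F G : Place k K →₀ ℕ) : castD (F + G) = castD F + castD G := map_add _ _ _

lemma castD_single (P : Place k K) (n : ℕ) : castD (Finsupp.single P n) = Finsupp.single P (n : ℤ) := by
  unfold castD
  rw [Finsupp.mapRange.addMonoidHom_apply, Finsupp.mapRange_single]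
  rfl

lemma castD_nonneg (F : Place k K →₀ ℕ) : 0 ≤ castD F := by
  intro P
  show (0 : ℤ) ≤ (Finsupp.mapRange.addMonoidHom (Nat.castAddMonoidHom ℤ) F) P
  rw [Finsupp.mapRange.addMonoidHom_apply, Finsupp.mapRange_apply]
  exact Int.natCast_nonneg _

lemma exists_castD_of_le {D₁ D₂ : Divisor k K} (h : D₁ ≤ D₂) :
    ∃ F : Place k K →₀ ℕ, D₂ = D₁ + castD F := by
  refine ⟨(D₂ - D₁).mapRange Int.toNat Int.toNat_zero, ?_⟩
  ext P
  show D₂ P = D₁ P + (Finsupp.mapRange.addMonoidHom (Nat.castAddMonoidHom ℤ)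
    ((D₂ - D₁).mapRange Int.toNat Int.toNat_zero)) P
  rw [Finsupp.mapRange.addMonoidHom_apply, Finsupp.mapRange_apply, Finsupp.mapRange_apply,
    Finsupp.sub_apply]
  have h1 : D₁ P ≤ D₂ P := h P
  show D₂ P = D₁ P + ((D₂ P - D₁ P).toNat : ℤ)
  rw [Int.toNat_of_nonneg (by omega)]
  omega

/-- the claim of the dimension count for `A(D) ⊆ A(D + F)` -/
def ADClaim (F : Place k K →₀ ℕ) : Prop :=
  ∀ D : Divisor k K, Module.Finite k (RelQ (AD D) (AD (D + castD F))) ∧
    (Module.finrank k (RelQ (AD D) (AD (D + castD F))) : ℤ) = (castD F).deg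

lemma ADClaim_zero : ADClaim (0 : Place k K →₀ ℕ) := by
  intro D
  rw [castD_zero, add_zero, deg_zero]
  obtain ⟨h1, h2⟩ := rel_self (AD D)
  exact ⟨h1, by rw [h2]; rfl⟩

lemma ADClaim_add {F G : Place k K →₀ ℕ} (hF : ADClaim F) (hG : ADClaim G) :
    ADClaim (F + G) := by
  intro D
  obtain ⟨hF1, hF2⟩ := hF D
  obtain ⟨hG1, hG2⟩ := hG (D + castD F)
  have hle1 : AD D ≤ AD (D + castD F) :=
    AD_mono (le_add_of_nonneg_right (castD_nonneg F))
  have hle2 : AD (D + castD F) ≤ AD (D + castD F + castD G) :=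
    AD_mono (le_add_of_nonneg_right (castD_nonneg G))
  haveI := hF1
  haveI := hG1
  obtain ⟨h1, h2⟩ := rel_tower hle1 hle2
  rw [castD_add, ← add_assoc, deg_add]
  refine ⟨h1, ?_⟩
  rw [h2, Nat.cast_add, hF2, hG2]

lemma ADClaim_single_one (hK : IsFunctionField k K) (P : Place k K) :
    ADClaim (Finsupp.single P 1) := by
  intro D
  rw [castD_single, Nat.cast_one]
  obtain ⟨h1, h2⟩ := AD_step hK D P
  refine ⟨h1, ?_⟩
  rw [h2, deg_single, one_mul]

lemma ADClaim_single (hK : IsFunctionField k K) (P : Place k K) (n : ℕ) :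
    ADClaim (Finsupp.single P n) := by
  induction n with
  | zero =>
    rw [Finsupp.single_zero]
    exact ADClaim_zero
  | succ n ih =>
    rw [Finsupp.single_add]
    exact ADClaim_add ih (ADClaim_single_one hK P)

theorem ADClaim_all (hK : IsFunctionField k K) (F : Place k K →₀ ℕ) : ADClaim F := by
  induction F using Finsupp.induction_linear with
  | zero => exact ADClaim_zero
  | add F G hF hG => exact ADClaim_add hF hG
  | single P n => exact ADClaim_single hK P n

/-- `dim A(D₂)/A(D₁) = deg D₂ - deg D₁`. -/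
theorem AD_dim (hK : IsFunctionField k K) {D₁ D₂ : Divisor k K} (h : D₁ ≤ D₂) :
    Module.Finite k (RelQ (AD D₁) (AD D₂)) ∧
      (Module.finrank k (RelQ (AD D₁) (AD D₂)) : ℤ) = D₂.deg - D₁.deg := by
  obtain ⟨F, rfl⟩ := exists_castD_of_le h
  obtain ⟨h1, h2⟩ := ADClaim_all hK F D₁
  refine ⟨h1, ?_⟩
  rw [h2, deg_add]
  ring

end Local

end Groth.Agent.Lib.lead.FF5
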