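import Mathlib
import Groth.Agent.Lib.lead.FF5

/-! The local dimension count for repartitions, assuming only finite residue fields. -/

namespace Groth.Agent.Lib.lead.ADg
open FunFld Groth.Agent.Lib.lead.FF Groth.Agent.Lib.lead.FF2 Groth.Agent.Lib.lead.FF3
  Groth.Agent.Lib.lead.FF4 Groth.Agent.Lib.lead.FF5

variable {k K : Type*} [Field k] [Field K] [Algebra k K]

/-- One step of the local dimension count. -/
theorem AD_step' (hfin : ∀ P : Place k K, Module.Finite k (IsLocalRing.ResidueField P.O)) (E : Divisor k K) (P : Place k K) :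
    Module.Finite k (RelQ (AD E) (AD (E + Finsupp.single P 1))) ∧
      Module.finrank k (RelQ (AD E) (AD (E + Finsupp.single P 1))) = P.deg := by
  classical
  obtain ⟨π, hπ⟩ := exists_uniformizer P
  have hπ0 : π ≠ 0 := by
    rintro rfl
    rw [map_zero] at hπ
    exact WithZero.exp_ne_zero hπ.symm
  obtain ⟨E', hE'⟩ : ∃ E' : Divisor k K, E' = E + Finsupp.single P 1 := ⟨_, rfl⟩
  rw [← hE']
  have hE'P : E' P = E P + 1 := by
    rw [hE', Finsupp.add_apply, Finsupp.single_eq_same]
  have hE'Q : ∀ Q : Place k K, Q ≠ P → E' Q = E Q := by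
    intro Q hQ
    rw [hE', Finsupp.add_apply, Finsupp.single_apply, if_neg (Ne.symm hQ), add_zero]
  let g : ↥(AD E') →ₗ[k] K :=
    (LinearMap.mulRight k (π ^ (E P + 1))) ∘ₗ (LinearMap.proj P) ∘ₗ (AD E').subtype
  have hgapp : ∀ a : ↥(AD E'), g a = a.1 P * π ^ (E P + 1) := fun a => rfl
  have hval : ∀ a : ↥(AD E'), P.1 (g a) = P.1 (a.1 P) * WithZero.exp (-(E P + 1)) := by
    intro a
    rw [hgapp, map_mul, val_zpow_uniformizer P hπ]
  have hg : ∀ a : ↥(AD E'), g a ∈ OP P := by
    intro a
    rw [mem_OP, hval]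
    have h1 : P.1 (a.1 P) ≤ WithZero.exp (E P + 1) := by
      have h2 := a.2 P
      rwa [hE'P] at h2
    calc P.1 (a.1 P) * WithZero.exp (-(E P + 1))
        ≤ WithZero.exp (E P + 1) * WithZero.exp (-(E P + 1)) := mul_le_mul' h1 le_rfl
      _ = 1 := by rw [← WithZero.exp_add, add_neg_cancel, WithZero.exp_zero]
  let φ : ↥(AD E') →ₗ[k] IsLocalRing.ResidueField P.O := (resMap P) ∘ₗ (g.codRestrict (OP P) hg)
  have hφ0 : ∀ a : ↥(AD E'), φ a = 0 ↔ P.1 (a.1 P) ≤ WithZero.exp (E P) := by
    intro a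
    show resMap P ⟨g a, hg a⟩ = 0 ↔ _
    rw [resMap_eq_zero_iff]
    show P.1 (g a) < 1 ↔ _
    rw [hval, ← lt_exp_succ_iff]
    have hpos : (0 : WithZero (Multiplicative ℤ)) < WithZero.exp (E P + 1) := WithZero.exp_pos
    constructor
    · intro h
      have h1 := mul_lt_mul_of_pos_right h hpos
      rwa [mul_assoc, ← WithZero.exp_add, neg_add_cancel, WithZero.exp_zero, mul_one,
        one_mul] at h1
    · intro h
      have hpos' : (0 : WithZero (Multiplicative ℤ)) < WithZero.exp (-(E P + 1)) :=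
        WithZero.exp_pos
      have h1 := mul_lt_mul_of_pos_right h hpos'
      rwa [← WithZero.exp_add, add_neg_cancel, WithZero.exp_zero] at h1
  have hφsurj : Function.Surjective φ := by
    intro b
    obtain ⟨y, rfl⟩ := resMap_surjective P b
    have hmem : (Pi.single P (y.1 * π ^ (-(E P + 1))) : Place k K → K) ∈ AD E' := by
      intro Q
      by_cases hQ : Q = P
      · subst hQ
        rw [Pi.single_eq_same, map_mul, val_zpow_uniformizer Q hπ, neg_neg, hE'P]
        calc Q.1 y.1 * WithZero.exp (E Q + 1) ≤ 1 * WithZero.exp (E Q + 1) :=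
              mul_le_mul' y.2 le_rfl
          _ = WithZero.exp (E Q + 1) := one_mul _
      · rw [Pi.single_eq_of_ne hQ, map_zero]
        exact zero_le'
    refine ⟨⟨_, hmem⟩, ?_⟩
    show resMap P ⟨g ⟨_, hmem⟩, hg _⟩ = resMap P y
    congr 1
    apply Subtype.ext
    show (Pi.single P (y.1 * π ^ (-(E P + 1))) : Place k K → K) P * π ^ (E P + 1) = y.1
    rw [Pi.single_eq_same, mul_assoc, ← zpow_add₀ hπ0, neg_add_cancel, zpow_zero, mul_one]
  have hker : LinearMap.ker φ = Submodule.comap (AD E').subtype (AD E) := by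
    ext a
    rw [LinearMap.mem_ker, hφ0, Submodule.mem_comap]
    constructor
    · intro h Q
      by_cases hQ : Q = P
      · subst hQ
        exact h
      · have h1 := a.2 Q
        rwa [hE'Q Q hQ] at h1
    · intro h
      exact h P
  have e := relEquivOfMap φ hφsurj hker
  haveI : Module.Finite k (IsLocalRing.ResidueField P.O) := hfin P
  exact ⟨Module.Finite.equiv e.symm, e.finrank_eq⟩


lemma ADClaim_single_one' (hfin : ∀ P : Place k K, Module.Finite k (IsLocalRing.ResidueField P.O))
    (P : Place k K) : ADClaim (Finsupp.single P 1) := by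
  intro D
  rw [castD_single, Nat.cast_one]
  obtain ⟨h1, h2⟩ := AD_step' hfin D P
  refine ⟨h1, ?_⟩
  rw [h2, deg_single, one_mul]

lemma ADClaim_single' (hfin : ∀ P : Place k K, Module.Finite k (IsLocalRing.ResidueField P.O))
    (P : Place k K) (n : ℕ) : ADClaim (Finsupp.single P n) := by
  induction n with
  | zero =>
    rw [Finsupp.single_zero]
    exact ADClaim_zero
  | succ n ih =>
    rw [Finsupp.single_add]
    exact ADClaim_add ih (ADClaim_single_one' hfin P)

theorem ADClaim_all' (hfin : ∀ P : Place k K, Module.Finite k (IsLocalRing.ResidueField P.O))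
    (F : Place k K →₀ ℕ) : ADClaim F := by
  induction F using Finsupp.induction_linear with
  | zero => exact ADClaim_zero
  | add F G hF hG => exact ADClaim_add hF hG
  | single P n => exact ADClaim_single' hfin P n

/-- `dim A(D₂)/A(D₁) = deg D₂ - deg D₁`. -/
theorem AD_dim' (hfin : ∀ P : Place k K, Module.Finite k (IsLocalRing.ResidueField P.O))
    {D₁ D₂ : Divisor k K} (h : D₁ ≤ D₂) :
    Module.Finite k (RelQ (AD D₁) (AD D₂)) ∧
      (Module.finrank k (RelQ (AD D₁) (AD D₂)) : ℤ) = D₂.deg - D₁.deg := by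
  obtain ⟨F, rfl⟩ := exists_castD_of_le h
  obtain ⟨h1, h2⟩ := ADClaim_all' hfin F D₁
  refine ⟨h1, ?_⟩
  rw [h2, deg_add]
  ring

end Groth.Agent.Lib.lead.ADg
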