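import Mathlib
import Groth.Prelude.Def_W4bk4goldsch23FF
import Groth.Agent.Lib.lead.FF
import Groth.Agent.Lib.lead.FF4
import Groth.Agent.Lib.lead.FF5

/-! `L(D)` is finite-dimensional; `ℓ(D₂) - ℓ(D₁) ≤ deg D₂ - deg D₁`. -/

namespace Groth.Agent.Lib.lead.FF6
open FunFld Groth.Agent.Lib.lead.FF Groth.Agent.Lib.lead.FF4 Groth.Agent.Lib.lead.FF5

section Rel
variable {k : Type*} [Field k]
variable {V₁ V₂ : Type*} [AddCommGroup V₁] [Module k V₁] [AddCommGroup V₂] [Module k V₂]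

theorem rel_inj {A₁ B₁ : Submodule k V₁} {A₂ B₂ : Submodule k V₂} (f : V₁ →ₗ[k] V₂)
    (hB : ∀ x ∈ B₁, f x ∈ B₂) (hA : ∀ x ∈ B₁, x ∈ A₁ → f x ∈ A₂)
    (hinj : ∀ x ∈ B₁, f x ∈ A₂ → x ∈ A₁) :
    ∃ i : RelQ A₁ B₁ →ₗ[k] RelQ A₂ B₂, Function.Injective i := by
  have hfr : Submodule.comap B₁.subtype A₁ ≤
      Submodule.comap (f.restrict hB) (Submodule.comap B₂.subtype A₂) :=
    fun x hx => hA x.1 x.2 hx
  refine ⟨Submodule.mapQ _ _ (f.restrict hB) hfr, ?_⟩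
  rw [← LinearMap.ker_eq_bot, LinearMap.ker_eq_bot']
  intro y hy
  obtain ⟨b, rfl⟩ := Submodule.Quotient.mk_surjective _ y
  rw [Submodule.mapQ_apply, Submodule.Quotient.mk_eq_zero] at hy
  rw [Submodule.Quotient.mk_eq_zero]
  exact hinj b.1 b.2 hy

theorem rel_equiv {A₁ B₁ : Submodule k V₁} {A₂ B₂ : Submodule k V₂} (f : V₁ →ₗ[k] V₂)
    (hB : ∀ x ∈ B₁, f x ∈ B₂) (hA : ∀ x ∈ B₁, x ∈ A₁ → f x ∈ A₂)
    (hinj : ∀ x ∈ B₁, f x ∈ A₂ → x ∈ A₁)
    (hsurj : ∀ y ∈ B₂, ∃ x ∈ B₁, y - f x ∈ A₂) :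
    Nonempty (RelQ A₁ B₁ ≃ₗ[k] RelQ A₂ B₂) := by
  have hfr : Submodule.comap B₁.subtype A₁ ≤
      Submodule.comap (f.restrict hB) (Submodule.comap B₂.subtype A₂) :=
    fun x hx => hA x.1 x.2 hx
  refine ⟨LinearEquiv.ofBijective (Submodule.mapQ _ _ (f.restrict hB) hfr) ⟨?_, ?_⟩⟩
  · rw [← LinearMap.ker_eq_bot, LinearMap.ker_eq_bot']
    intro y hy
    obtain ⟨b, rfl⟩ := Submodule.Quotient.mk_surjective _ y
    rw [Submodule.mapQ_apply, Submodule.Quotient.mk_eq_zero] at hy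
    rw [Submodule.Quotient.mk_eq_zero]
    exact hinj b.1 b.2 hy
  · intro z
    obtain ⟨c, rfl⟩ := Submodule.Quotient.mk_surjective _ z
    obtain ⟨x, hxB, hx⟩ := hsurj c.1 c.2
    refine ⟨Submodule.Quotient.mk ⟨x, hxB⟩, ?_⟩
    rw [Submodule.mapQ_apply, Submodule.Quotient.eq]
    show f x - c.1 ∈ A₂
    have h1 : f x - c.1 = -(c.1 - f x) := by abel
    rw [h1]
    exact A₂.neg_mem hx

end Rel

variable {k K : Type*} [Field k] [Field K] [Algebra k K]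

theorem L_rel (hK : IsFunctionField k K) {D₁ D₂ : Divisor k K} (h : D₁ ≤ D₂) :
    Module.Finite k (RelQ (L D₁) (L D₂)) ∧
      (Module.finrank k (RelQ (L D₁) (L D₂)) : ℤ) ≤ D₂.deg - D₁.deg := by
  obtain ⟨hfin, hdim⟩ := AD_dim hK h
  obtain ⟨i, hi⟩ := rel_inj (A₁ := L D₁) (B₁ := L D₂) (A₂ := AD D₁) (B₂ := AD D₂) (diag k K)
    (fun x hx P => hx P) (fun x _ hx P => hx P) (fun x _ hx P => hx P)
  haveI := hfin
  refine ⟨Module.Finite.of_injective i hi, ?_⟩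
  rw [← hdim]
  exact_mod_cast LinearMap.finrank_le_finrank_of_injective hi

theorem L_zero_finite (hK : IsFunctionField k K) : Module.Finite k (L (0 : Divisor k K)) := by
  rw [L_zero hK, Submodule.one_eq_range]
  infer_instance

theorem L_finite (hK : IsFunctionField k K) (D : Divisor k K) : Module.Finite k (L D) := by
  have h0 : (0 : Divisor k K) ≤ D ⊔ 0 := le_sup_right
  have hD : D ≤ D ⊔ 0 := le_sup_left
  haveI : Module.Finite k (L (0 : Divisor k K)) := L_zero_finite hK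
  haveI := (L_rel hK h0).1
  haveI : Module.Finite k (L (D ⊔ 0)) := finite_of_rel (L_mono h0)
  exact Submodule.finiteDimensional_of_le (L_mono hD)

theorem ell_eq_add (hK : IsFunctionField k K) {D₁ D₂ : Divisor k K} (h : D₁ ≤ D₂) :
    ell D₂ = ell D₁ + Module.finrank k (RelQ (L D₁) (L D₂)) := by
  haveI := L_finite hK D₂
  exact rel_finrank (L_mono h)

theorem ell_sub_le (hK : IsFunctionField k K) {D₁ D₂ : Divisor k K} (h : D₁ ≤ D₂) :
    (ell D₂ : ℤ) - ell D₁ ≤ D₂.deg - D₁.deg := by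
  obtain ⟨_, hle⟩ := L_rel hK h
  rw [ell_eq_add hK h]
  push_cast
  linarith

theorem ell_zero (hK : IsFunctionField k K) : ell (0 : Divisor k K) = 1 := by
  unfold ell
  rw [L_zero hK, Submodule.one_eq_range,
    LinearMap.finrank_range_of_inj (f := Algebra.linearMap k K) (algebraMap k K).injective,
    Module.finrank_self]

theorem ell_mono (hK : IsFunctionField k K) {D₁ D₂ : Divisor k K} (h : D₁ ≤ D₂) :
    ell D₁ ≤ ell D₂ := by
  rw [ell_eq_add hK h]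
  exact Nat.le_add_right _ _

end Groth.Agent.Lib.lead.FF6
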