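import Mathlib
import Groth.Prelude.Def_W4bk4goldsch23FF
import Groth.Agent.Lib.lead.FF
import Groth.Agent.Lib.lead.FF2
import Groth.Agent.Lib.lead.FF4
import Groth.Agent.Lib.lead.FF5
import Groth.Agent.Lib.lead.FF6

/-! Weak approximation, the degree inequality for zeros, finiteness of zeros and poles. -/

namespace Groth.Agent.Lib.lead.FF7
open FunFld Groth.Agent.Lib.lead.FF Groth.Agent.Lib.lead.FF2 Groth.Agent.Lib.lead.FF4
  Groth.Agent.Lib.lead.FF5 Groth.Agent.Lib.lead.FF6

section Gamma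

lemma lt_one_iff (x : WithZero (Multiplicative ℤ)) : x < 1 ↔ x ≤ WithZero.exp (-1 : ℤ) := by
  have h := lt_exp_succ_iff x (-1)
  rwa [neg_add_cancel, WithZero.exp_zero] at h

lemma one_lt_iff (x : WithZero (Multiplicative ℤ)) : 1 < x ↔ WithZero.exp (1 : ℤ) ≤ x := by
  rcases eq_or_ne x 0 with rfl | hx
  · constructor
    · intro h
      exact absurd h (not_lt.2 zero_le')
    · intro h
      exact absurd h (not_le.2 WithZero.exp_pos)
  · rw [← WithZero.exp_log hx, ← WithZero.exp_zero, WithZero.exp_lt_exp, WithZero.exp_le_exp]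
    constructor <;> intro h <;> omega

lemma pow_le_exp_neg {x : WithZero (Multiplicative ℤ)} (h : x < 1) (s : ℕ) :
    x ^ s ≤ WithZero.exp (-(s : ℤ)) := by
  have h1 : x ^ s ≤ WithZero.exp (-1 : ℤ) ^ s := pow_le_pow_left' ((lt_one_iff x).1 h) s
  rw [← WithZero.exp_nsmul] at h1
  have h2 : (s • (-1 : ℤ)) = -(s : ℤ) := by simp
  rwa [h2] at h1

lemma exp_le_pow {x : WithZero (Multiplicative ℤ)} (h : 1 < x) (s : ℕ) :
    WithZero.exp (s : ℤ) ≤ x ^ s := by
  have h1 : WithZero.exp (1 : ℤ) ^ s ≤ x ^ s := pow_le_pow_left' ((one_lt_iff x).1 h) s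
  rw [← WithZero.exp_nsmul] at h1
  have h2 : (s • (1 : ℤ)) = (s : ℤ) := by simp
  rwa [h2] at h1

lemma exp_neg_lt_one {s : ℕ} (hs : s ≠ 0) :
    WithZero.exp (-(s : ℤ)) < (1 : WithZero (Multiplicative ℤ)) := by
  rw [← WithZero.exp_zero, WithZero.exp_lt_exp]
  omega

lemma one_lt_exp {s : ℕ} (hs : s ≠ 0) :
    (1 : WithZero (Multiplicative ℤ)) < WithZero.exp (s : ℤ) := by
  rw [← WithZero.exp_zero, WithZero.exp_lt_exp]
  omega

lemma exists_nat_bound (x : WithZero (Multiplicative ℤ)) : ∃ r : ℕ, x ≤ WithZero.exp (r : ℤ) := by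
  rcases eq_or_ne x 0 with rfl | hx
  · exact ⟨0, zero_le'⟩
  · refine ⟨(WithZero.log x).toNat, ?_⟩
    calc x = WithZero.exp (WithZero.log x) := (WithZero.exp_log hx).symm
      _ ≤ WithZero.exp ((WithZero.log x).toNat : ℤ) :=
        WithZero.exp_le_exp.2 (Int.self_le_toNat _)

lemma exists_bound {ι : Type*} (T : Finset ι) (f : ι → WithZero (Multiplicative ℤ)) :
    ∃ r : ℕ, ∀ i ∈ T, f i ≤ WithZero.exp (r : ℤ) := by
  classical
  induction T using Finset.induction_on with
  | empty => exact ⟨0, fun i hi => by simp at hi⟩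
  | insert a T _ ih =>
    obtain ⟨r₁, h₁⟩ := ih
    obtain ⟨r₂, h₂⟩ := exists_nat_bound (f a)
    refine ⟨r₁ + r₂, fun i hi => ?_⟩
    rcases Finset.mem_insert.1 hi with hia | hi
    · rw [hia]
      exact h₂.trans (WithZero.exp_le_exp.2 (by push_cast; omega))
    · exact (h₁ i hi).trans (WithZero.exp_le_exp.2 (by push_cast; omega))

lemma mul_le_exp {x y : WithZero (Multiplicative ℤ)} {a b c : ℤ} (h1 : x ≤ WithZero.exp a)
    (h2 : y ≤ WithZero.exp b) (h : a + b = c) : x * y ≤ WithZero.exp c := by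
  rw [← h, WithZero.exp_add]
  exact mul_le_mul' h1 h2

end Gamma

variable {k K : Type*} [Field k] [Field K] [Algebra k K]

lemma unif_ne_zero (P : Place k K) {π : K} (hπ : P.1 π = WithZero.exp (-1 : ℤ)) : π ≠ 0 := by
  rintro rfl
  rw [map_zero] at hπ
  exact WithZero.exp_ne_zero hπ.symm

/-- Distinct places have incomparable valuation rings. -/
theorem exists_le_one_one_lt {P Q : Place k K} (h : P ≠ Q) : ∃ y, P.1 y ≤ 1 ∧ 1 < Q.1 y := by
  by_contra hcon
  push Not at hcon
  apply h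
  obtain ⟨π, hπ⟩ := exists_uniformizer P
  have hπ0 : π ≠ 0 := unif_ne_zero P hπ
  have hu : ∀ u : K, P.1 u = 1 → Q.1 u = 1 := by
    intro u hu1
    have hu0 : u ≠ 0 := by
      rintro rfl
      rw [map_zero] at hu1
      exact zero_ne_one hu1
    have h1 : Q.1 u ≤ 1 := hcon u hu1.le
    have h2 : Q.1 u⁻¹ ≤ 1 := hcon u⁻¹ (by rw [map_inv₀, hu1, inv_one])
    apply le_antisymm h1
    have h3 : Q.1 u * Q.1 u⁻¹ = 1 := by
      rw [← map_mul, mul_inv_cancel₀ hu0, map_one]
    calc (1 : WithZero (Multiplicative ℤ)) = Q.1 u * Q.1 u⁻¹ := h3.symm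
      _ ≤ Q.1 u * 1 := mul_le_mul' le_rfl h2
      _ = Q.1 u := mul_one _
  have hQπ1 : Q.1 π ≤ 1 := hcon π (by rw [hπ]; exact ((lt_one_iff _).2 le_rfl).le)
  have hQπ0 : Q.1 π ≠ 0 := (Valuation.ne_zero_iff _).2 hπ0
  obtain ⟨c, hc⟩ : ∃ c : ℤ, Q.1 π = WithZero.exp (-c) :=
    ⟨-WithZero.log (Q.1 π), by rw [neg_neg, WithZero.exp_log hQπ0]⟩
  have hc0 : 0 ≤ c := by
    rw [hc, ← WithZero.exp_zero, WithZero.exp_le_exp] at hQπ1
    omega
  have hform : ∀ y : K, y ≠ 0 → Q.1 y = WithZero.exp (-(P.ord y * c)) := by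
    intro y hy
    have h1 : P.1 (y / π ^ (P.ord y)) = 1 := by
      rw [map_div₀, val_zpow_uniformizer P hπ, ← val_eq_exp P hy]
      exact div_self (val_ne_zero P hy)
    have h2 := hu _ h1
    rw [map_div₀, map_zpow₀, hc, ← WithZero.exp_zsmul] at h2
    have h3 : Q.1 y = WithZero.exp (P.ord y • (-c)) := by
      have hne : WithZero.exp (P.ord y • (-c)) ≠ (0 : WithZero (Multiplicative ℤ)) :=
        WithZero.exp_ne_zero
      exact (div_eq_one_iff_eq hne).1 h2
    rw [h3]
    congr 1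
    rw [smul_eq_mul, mul_neg]
  obtain ⟨y₀, hy₀⟩ := Q.2.2 (WithZero.exp (-1 : ℤ))
  have hy₀0 : y₀ ≠ 0 := by
    rintro rfl
    rw [map_zero] at hy₀
    exact WithZero.exp_ne_zero hy₀.symm
  have hc1 : c = 1 := by
    have h1 := hform y₀ hy₀0
    rw [hy₀, WithZero.exp_inj] at h1
    have h2 : P.ord y₀ * c = 1 := by omega
    exact Int.eq_one_of_dvd_one hc0 ⟨P.ord y₀, by rw [mul_comm]; exact h2.symm⟩
  apply Subtype.ext
  apply Valuation.ext
  intro y
  rcases eq_or_ne y 0 with rfl | hy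
  · rw [map_zero, map_zero]
  · rw [hform y hy, hc1, mul_one, ← val_eq_exp P hy]

theorem exists_lt_one_one_lt {P Q : Place k K} (h : P ≠ Q) : ∃ u, P.1 u < 1 ∧ 1 < Q.1 u := by
  obtain ⟨y₁, h1P, h1Q⟩ := exists_le_one_one_lt h
  obtain ⟨y₂, h2Q, h2P⟩ := exists_le_one_one_lt h.symm
  have hy₂ : y₂ ≠ 0 := by
    rintro rfl
    rw [map_zero] at h2P
    exact absurd h2P (not_lt.2 zero_le')
  refine ⟨y₁ * y₂⁻¹, ?_, ?_⟩
  · rw [map_mul, map_inv₀]
    calc P.1 y₁ * (P.1 y₂)⁻¹ ≤ 1 * (P.1 y₂)⁻¹ := mul_le_mul' h1P le_rfl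
      _ = (P.1 y₂)⁻¹ := one_mul _
      _ < 1 := inv_lt_one_of_one_lt₀ h2P
  · rw [map_mul, map_inv₀]
    have hpos : 0 < Q.1 y₂ := zero_lt_iff.2 ((Valuation.ne_zero_iff _).2 hy₂)
    calc (1 : WithZero (Multiplicative ℤ)) < Q.1 y₁ := h1Q
      _ = Q.1 y₁ * 1 := (mul_one _).symm
      _ ≤ Q.1 y₁ * (Q.1 y₂)⁻¹ := mul_le_mul' le_rfl ((one_le_inv₀ hpos).2 h2Q)

/-- Step 1 of weak approximation. -/
theorem exists_sep (P : Place k K) (T : Finset (Place k K)) (hP : P ∉ T) :
    ∃ u, P.1 u < 1 ∧ ∀ Q ∈ T, 1 < Q.1 u := by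
  classical
  induction T using Finset.induction_on with
  | empty =>
    obtain ⟨π, hπ⟩ := exists_uniformizer P
    exact ⟨π, by rw [hπ]; exact (lt_one_iff _).2 le_rfl, fun Q hQ => by simp at hQ⟩
  | insert Q T hQT ih =>
    rw [Finset.mem_insert, not_or] at hP
    obtain ⟨y, hyP, hyT⟩ := ih hP.2
    by_cases hQy : 1 < Q.1 y
    · refine ⟨y, hyP, fun Q' hQ' => ?_⟩
      rcases Finset.mem_insert.1 hQ' with hQ'eq | hQ'
      · rw [hQ'eq]
        exact hQy
      · exact hyT Q' hQ'
    · rw [not_lt] at hQy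
      obtain ⟨z, hzP, hzQ⟩ := exists_lt_one_one_lt hP.1
      obtain ⟨r₀, hr₀⟩ := exists_bound T (fun Q' => Q'.1 y)
      have hr : r₀ + 1 ≠ 0 := Nat.succ_ne_zero r₀
      refine ⟨y + z ^ (r₀ + 1), ?_, fun Q' hQ' => ?_⟩
      · apply P.1.map_add_lt hyP
        rw [map_pow]
        exact pow_lt_one₀ zero_le' hzP hr
      · rcases Finset.mem_insert.1 hQ' with hQ'eq | hQ'
        · rw [hQ'eq]
          have h1 : 1 < Q.1 (z ^ (r₀ + 1)) := by
            rw [map_pow]
            exact one_lt_pow₀ hzQ hr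
          rw [Q.1.map_add_eq_of_lt_right (hQy.trans_lt h1)]
          exact h1
        · have hy1 : 1 < Q'.1 y := hyT Q' hQ'
          by_cases hz : 1 < Q'.1 z
          · have h1 : Q'.1 y < Q'.1 (z ^ (r₀ + 1)) := by
              rw [map_pow]
              calc Q'.1 y ≤ WithZero.exp (r₀ : ℤ) := hr₀ Q' hQ'
                _ < WithZero.exp ((r₀ + 1 : ℕ) : ℤ) :=
                  WithZero.exp_lt_exp.2 (by push_cast; omega)
                _ ≤ Q'.1 z ^ (r₀ + 1) := exp_le_pow hz (r₀ + 1)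
            rw [Q'.1.map_add_eq_of_lt_right h1]
            exact hy1.trans h1
          · rw [not_lt] at hz
            have h1 : Q'.1 (z ^ (r₀ + 1)) < Q'.1 y := by
              rw [map_pow]
              exact (pow_le_one' hz _).trans_lt hy1
            rw [Q'.1.map_add_eq_of_lt_left h1]
            exact hy1

/-- Step 2 of weak approximation. -/
theorem exists_approx_one (P : Place k K) (T : Finset (Place k K)) (hP : P ∉ T) (M : ℕ) :
    ∃ w, P.1 (w - 1) ≤ WithZero.exp (-(M : ℤ)) ∧ ∀ Q ∈ T, Q.1 w ≤ WithZero.exp (-(M : ℤ)) := by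
  obtain ⟨u, huP, huT⟩ := exists_sep P T hP
  have hs : M + 1 ≠ 0 := Nat.succ_ne_zero M
  have hmono : WithZero.exp (-((M + 1 : ℕ) : ℤ)) ≤
      (WithZero.exp (-(M : ℤ)) : WithZero (Multiplicative ℤ)) :=
    WithZero.exp_le_exp.2 (by push_cast; omega)
  have hPu : P.1 (u ^ (M + 1)) ≤ WithZero.exp (-((M + 1 : ℕ) : ℤ)) := by
    rw [map_pow]
    exact pow_le_exp_neg huP (M + 1)
  have hPu1 : P.1 (u ^ (M + 1)) < 1 := hPu.trans_lt (exp_neg_lt_one hs)
  have hP1 : P.1 (1 + u ^ (M + 1)) = 1 := by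
    have h1 : P.1 (u ^ (M + 1)) < P.1 1 := by
      rw [map_one]
      exact hPu1
    rw [P.1.map_add_eq_of_lt_left h1, map_one]
  have hne : (1 + u ^ (M + 1) : K) ≠ 0 := by
    intro h0
    rw [h0, map_zero] at hP1
    exact zero_ne_one hP1
  refine ⟨(1 + u ^ (M + 1))⁻¹, ?_, fun Q hQ => ?_⟩
  · have h1 : (1 + u ^ (M + 1))⁻¹ - 1 = -(u ^ (M + 1)) * (1 + u ^ (M + 1))⁻¹ := by
      have h2 : (1 + u ^ (M + 1)) * (1 + u ^ (M + 1))⁻¹ = 1 := mul_inv_cancel₀ hne
      calc (1 + u ^ (M + 1))⁻¹ - 1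
          = (1 + u ^ (M + 1))⁻¹ - (1 + u ^ (M + 1)) * (1 + u ^ (M + 1))⁻¹ := by rw [h2]
        _ = -(u ^ (M + 1)) * (1 + u ^ (M + 1))⁻¹ := by ring
    rw [h1, map_mul, Valuation.map_neg, map_inv₀, hP1, inv_one, mul_one]
    exact hPu.trans hmono
  · have hu1 : 1 < Q.1 u := huT Q hQ
    have h1 : WithZero.exp ((M + 1 : ℕ) : ℤ) ≤ Q.1 (u ^ (M + 1)) := by
      rw [map_pow]
      exact exp_le_pow hu1 (M + 1)
    have h2 : Q.1 1 < Q.1 (u ^ (M + 1)) := by
      rw [map_one]
      exact (one_lt_exp hs).trans_le h1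
    rw [map_inv₀, Q.1.map_add_eq_of_lt_right h2]
    have h3 : (Q.1 (u ^ (M + 1)))⁻¹ ≤ (WithZero.exp ((M + 1 : ℕ) : ℤ))⁻¹ :=
      inv_anti₀ WithZero.exp_pos h1
    rw [← WithZero.exp_neg] at h3
    exact h3.trans hmono

/-- Weak approximation. -/
theorem exists_approx (S : Finset (Place k K)) (a : Place k K → K) (N : ℕ) :
    ∃ y : K, ∀ P ∈ S, P.1 (y - a P) ≤ WithZero.exp (-(N : ℤ)) := by
  classical
  induction S using Finset.induction_on with
  | empty => exact ⟨0, fun P hP => by simp at hP⟩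
  | insert P T hPT ih =>
    obtain ⟨y₀, hy₀⟩ := ih
    obtain ⟨s, hs⟩ := exists_bound (insert P T) (fun Q => Q.1 (a P - y₀))
    obtain ⟨w, hwP, hwT⟩ := exists_approx_one P T hPT (N + s)
    have hsum : (-((N + s : ℕ) : ℤ)) + (s : ℤ) = -(N : ℤ) := by
      push_cast
      ring
    refine ⟨y₀ + w * (a P - y₀), fun Q hQ => ?_⟩
    rcases Finset.mem_insert.1 hQ with hQP | hQT
    · rw [hQP]
      have h1 : y₀ + w * (a P - y₀) - a P = (w - 1) * (a P - y₀) := by ring
      rw [h1, map_mul]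
      exact mul_le_exp hwP (hs P (Finset.mem_insert_self P T)) hsum
    · have h1 : y₀ + w * (a P - y₀) - a Q = (y₀ - a Q) + w * (a P - y₀) := by ring
      rw [h1]
      apply Q.1.map_add_le (hy₀ Q hQT)
      rw [map_mul]
      exact mul_le_exp (hwT Q hQT) (hs Q hQ) hsum

section Zeros
variable (S : Finset (Place k K)) (x : K)

/-- elements integral at all places of `S` -/
def RS : Submodule k K where
  carrier := {y | ∀ P ∈ S, P.1 y ≤ 1}
  add_mem' {y z} hy hz P hP := (P.1.map_add y z).trans (max_le (hy P hP) (hz P hP))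
  zero_mem' P _ := by simp
  smul_mem' c y hy P hP := by
    rw [Algebra.smul_def, map_mul]
    exact mul_le_one' (P.2.1 c) (hy P hP)

/-- elements divisible by `x` at all places of `S` -/
def XS : Submodule k K where
  carrier := {y | ∀ P ∈ S, P.1 y ≤ P.1 x}
  add_mem' {y z} hy hz P hP := (P.1.map_add y z).trans (max_le (hy P hP) (hz P hP))
  zero_mem' P _ := by simp
  smul_mem' c y hy P hP := by
    rw [Algebra.smul_def, map_mul]
    exact (mul_le_mul' (P.2.1 c) (hy P hP)).trans_eq (one_mul _)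

lemma mem_RS (y : K) : y ∈ RS S ↔ ∀ P ∈ S, P.1 y ≤ 1 := Iff.rfl

lemma mem_XS (y : K) : y ∈ XS S x ↔ ∀ P ∈ S, P.1 y ≤ P.1 x := Iff.rfl

/-- the divisor `∑_{P ∈ S} ord_P(x) P` -/
noncomputable def BS : Divisor k K := ∑ P ∈ S, Finsupp.single P (P.ord x)

lemma BS_apply_mem {Q : Place k K} (hQ : Q ∈ S) : BS S x Q = Q.ord x := by
  classical
  unfold BS
  rw [Finsupp.finset_sum_apply, Finset.sum_eq_single_of_mem Q hQ]
  · exact Finsupp.single_eq_same
  · intro P _ hPQ
    rw [Finsupp.single_apply, if_neg hPQ]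

lemma BS_apply_not_mem {Q : Place k K} (hQ : Q ∉ S) : BS S x Q = 0 := by
  classical
  unfold BS
  rw [Finsupp.finset_sum_apply]
  apply Finset.sum_eq_zero
  intro P hP
  have hPQ : P ≠ Q := fun h => hQ (h ▸ hP)
  rw [Finsupp.single_apply, if_neg hPQ]

lemma deg_finset_sum {ι : Type*} (T : Finset ι) (f : ι → Divisor k K) :
    (∑ i ∈ T, f i).deg = ∑ i ∈ T, (f i).deg := by
  classical
  induction T using Finset.induction_on with
  | empty =>
    simp only [Finset.sum_empty]
    exact deg_zero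
  | insert a T ha ih => rw [Finset.sum_insert ha, Finset.sum_insert ha, deg_add, ih]

lemma deg_BS : (BS S x).deg = ∑ P ∈ S, P.ord x * (P.deg : ℤ) := by
  unfold BS
  rw [deg_finset_sum]
  exact Finset.sum_congr rfl (fun P _ => deg_single P _)

open Classical in
/-- extension by zero outside `S` -/
noncomputable def iotaS : K →ₗ[k] (Place k K → K) :=
  LinearMap.pi fun P => if P ∈ S then LinearMap.id else 0

lemma iotaS_mem {P : Place k K} (hP : P ∈ S) (y : K) : iotaS S y P = y := by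
  unfold iotaS
  rw [LinearMap.pi_apply, if_pos hP]
  rfl

lemma iotaS_not_mem {P : Place k K} (hP : P ∉ S) (y : K) : iotaS S y P = 0 := by
  unfold iotaS
  rw [LinearMap.pi_apply, if_neg hP]
  rfl

theorem relS_equiv (hx0 : x ≠ 0) (hS : ∀ P ∈ S, P.1 x < 1) :
    Nonempty (RelQ (XS S x) (RS S) ≃ₗ[k] RelQ (AD (-(BS S x))) (AD (0 : Divisor k K))) := by
  classical
  have hval : ∀ P ∈ S, WithZero.exp ((-(BS S x)) P) = P.1 x := by
    intro P hP
    rw [Finsupp.neg_apply, BS_apply_mem S x hP, ← val_eq_exp P hx0]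
  have hval' : ∀ P ∉ S, WithZero.exp ((-(BS S x)) P) = (1 : WithZero (Multiplicative ℤ)) := by
    intro P hP
    rw [Finsupp.neg_apply, BS_apply_not_mem S x hP, neg_zero, WithZero.exp_zero]
  have h0 : ∀ P : Place k K, WithZero.exp ((0 : Divisor k K) P) =
      (1 : WithZero (Multiplicative ℤ)) := by
    intro P
    rw [Finsupp.zero_apply, WithZero.exp_zero]
  apply rel_equiv (iotaS S)
  · intro y hy
    refine (mem_AD_iff _ _).2 fun P => ?_
    rw [h0]
    by_cases hP : P ∈ S
    · rw [iotaS_mem S hP]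
      exact hy P hP
    · rw [iotaS_not_mem S hP, map_zero]
      exact zero_le'
  · intro y _ hy
    refine (mem_AD_iff _ _).2 fun P => ?_
    by_cases hP : P ∈ S
    · rw [iotaS_mem S hP, hval P hP]
      exact hy P hP
    · rw [iotaS_not_mem S hP, map_zero]
      exact zero_le'
  · intro y _ hy P hP
    have h1 := (mem_AD_iff _ _).1 hy P
    rwa [iotaS_mem S hP, hval P hP] at h1
  · intro a ha
    have ha' : ∀ P : Place k K, P.1 (a P) ≤ 1 := by
      intro P
      have h2 := (mem_AD_iff _ _).1 ha P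
      rwa [h0] at h2
    obtain ⟨N, hN⟩ := exists_bound S (fun P => WithZero.exp (P.ord x))
    obtain ⟨y, hy⟩ := exists_approx S a N
    have hyx : ∀ P ∈ S, P.1 (y - a P) ≤ P.1 x := by
      intro P hP
      refine (hy P hP).trans ?_
      rw [val_eq_exp P hx0, WithZero.exp_le_exp]
      have h1 := WithZero.exp_le_exp.1 (hN P hP)
      omega
    refine ⟨y, ?_, ?_⟩
    · intro P hP
      have h1 : y = (y - a P) + a P := by ring
      rw [h1]
      exact P.1.map_add_le ((hyx P hP).trans (hS P hP).le) (ha' P)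
    · refine (mem_AD_iff _ _).2 fun P => ?_
      by_cases hP : P ∈ S
      · rw [hval P hP]
        show P.1 (a P - iotaS S y P) ≤ P.1 x
        rw [iotaS_mem S hP, Valuation.map_sub_swap]
        exact hyx P hP
      · rw [hval' P hP]
        show P.1 (a P - iotaS S y P) ≤ 1
        rw [iotaS_not_mem S hP, sub_zero]
        exact ha' P

/-- Elements of `R_S` that are `k`-independent modulo `x R_S` are `k(x)`-independent. -/
theorem linearIndependent_of_mod (hx0 : x ≠ 0) (hS : ∀ P ∈ S, P.1 x < 1) (hne : S.Nonempty)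
    {ι : Type*} [Fintype ι] (y : ι → K) (hy : ∀ i, y i ∈ RS S)
    (hind : ∀ c : ι → k, (∑ i, c i • y i) ∈ XS S x → ∀ i, c i = 0) :
    LinearIndependent (IntermediateField.adjoin k ({x} : Set K)) y := by
  classical
  obtain ⟨P₀, hP₀⟩ := hne
  rw [Fintype.linearIndependent_iff]
  intro g hg
  by_contra hcon
  push Not at hcon
  obtain ⟨j, hj⟩ := hcon
  obtain ⟨i₀, -, hi₀⟩ := Finset.exists_max_image Finset.univ (fun i => P₀.1 (g i : K))
    ⟨j, Finset.mem_univ j⟩
  have hgi₀ : (g i₀ : K) ≠ 0 := by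
    intro h0
    have h1 : P₀.1 (g j : K) ≤ P₀.1 (g i₀ : K) := hi₀ j (Finset.mem_univ j)
    rw [h0, map_zero] at h1
    have h2 : (g j : K) ≠ 0 := fun h => hj (Subtype.ext h)
    exact absurd (le_antisymm h1 zero_le') ((Valuation.ne_zero_iff _).2 h2)
  have hd_mem : ∀ i, (g i : K) / (g i₀ : K) ∈ IntermediateField.adjoin k ({x} : Set K) :=
    fun i => div_mem (g i).2 (g i₀).2
  have hd_le : ∀ i, P₀.1 ((g i : K) / (g i₀ : K)) ≤ 1 := by
    intro i
    rw [map_div₀]
    exact div_le_one_of_le₀ (hi₀ i (Finset.mem_univ i)) zero_le'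
  have hg' : ∑ i, (g i : K) * y i = 0 := by
    rw [← hg]
    refine Finset.sum_congr rfl fun i _ => ?_
    rfl
  have hsum : ∑ i, (g i : K) / (g i₀ : K) * y i = 0 := by
    calc ∑ i, (g i : K) / (g i₀ : K) * y i = (∑ i, (g i : K) * y i) * (g i₀ : K)⁻¹ := by
          rw [Finset.sum_mul]
          exact Finset.sum_congr rfl (fun i _ => by ring)
      _ = 0 := by rw [hg', zero_mul]
  have hrepr : ∀ i, ∃ c : k, ∀ P ∈ S,
      P.1 ((g i : K) / (g i₀ : K) - algebraMap k K c) ≤ P.1 x := by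
    intro i
    obtain ⟨r, s, hs0, hrs⟩ := exists_regular_repr P₀.1 P₀.2.1 (hS P₀ hP₀) hx0 (hd_mem i) (hd_le i)
    refine ⟨r.coeff 0 / s.coeff 0, fun P hP => ?_⟩
    have hs : Polynomial.aeval x s ≠ 0 := by
      intro h0
      have h1 := val_aeval_eq_one P.1 P.2.1 (hS P hP) s hs0
      rw [h0, map_zero] at h1
      exact zero_ne_one h1
    have h1 : (g i : K) / (g i₀ : K) - algebraMap k K (r.coeff 0 / s.coeff 0) =
        Polynomial.aeval x (r - Polynomial.C (r.coeff 0 / s.coeff 0) * s) /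
          Polynomial.aeval x s := by
      rw [hrs, map_sub, map_mul, Polynomial.aeval_C, sub_div, mul_div_assoc, div_self hs, mul_one]
    rw [h1]
    apply val_quot_le_of_coeff_zero P.1 P.2.1 (hS P hP) _ s hs0
    rw [Polynomial.coeff_sub, Polynomial.coeff_C_mul, div_mul_cancel₀ _ hs0, sub_self]
  choose c hc using hrepr
  have hmem : (∑ i, c i • y i) ∈ XS S x := by
    intro P hP
    have h2 : ∑ i, ((g i : K) / (g i₀ : K) - algebraMap k K (c i)) * y i =
        ∑ i, (g i : K) / (g i₀ : K) * y i - ∑ i, c i • y i := by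
      rw [← Finset.sum_sub_distrib]
      exact Finset.sum_congr rfl (fun i _ => by rw [Algebra.smul_def]; ring)
    have h1 : ∑ i, c i • y i =
        -∑ i, ((g i : K) / (g i₀ : K) - algebraMap k K (c i)) * y i := by
      rw [h2, hsum, zero_sub, neg_neg]
    rw [h1, Valuation.map_neg]
    apply Valuation.map_sum_le
    intro i _
    rw [map_mul]
    calc P.1 ((g i : K) / (g i₀ : K) - algebraMap k K (c i)) * P.1 (y i)
        ≤ P.1 x * 1 := mul_le_mul' (hc i P hP) (hy i P hP)
      _ = P.1 x := mul_one _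
  have hc0 := hind c hmem i₀
  have h3 := hc i₀ P₀ hP₀
  rw [div_self hgi₀, hc0, map_zero, sub_zero, map_one] at h3
  exact absurd h3 (not_le.2 (hS P₀ hP₀))

end Zeros

/-- The degree inequality: `∑_{P ∈ S} ord_P(x) deg P ≤ [K : k(x)]` for zeros of `x`. -/
theorem sum_ord_le (hK : IsFunctionField k K) {x : K} (hx : Transcendental k x)
    (S : Finset (Place k K)) (hS : ∀ P ∈ S, P.1 x < 1) :
    ∑ P ∈ S, P.ord x * (P.deg : ℤ) ≤
      Module.finrank (IntermediateField.adjoin k ({x} : Set K)) K := by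
  classical
  rcases S.eq_empty_or_nonempty with rfl | hne
  · simp
  have hx0 : x ≠ 0 := by
    rintro rfl
    exact hx isAlgebraic_zero
  obtain ⟨e⟩ := relS_equiv S x hx0 hS
  have hle : -(BS S x) ≤ (0 : Divisor k K) := by
    intro P
    rw [Finsupp.neg_apply, Finsupp.zero_apply]
    by_cases hP : P ∈ S
    · rw [BS_apply_mem S x hP]
      have h1 := (ord_pos_iff P hx0).2 (hS P hP)
      omega
    · rw [BS_apply_not_mem S x hP, neg_zero]
  obtain ⟨hfin, hdim⟩ := AD_dim hK hle
  rw [deg_zero, deg_neg, sub_neg_eq_add, zero_add, deg_BS] at hdim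
  haveI := hfin
  haveI : Module.Finite k (RelQ (XS S x) (RS S)) := Module.Finite.equiv e.symm
  rw [← hdim, ← e.finrank_eq]
  let b := Module.finBasis k (RelQ (XS S x) (RS S))
  have hlift : ∀ i, ∃ y : ↥(RS S), Submodule.Quotient.mk y = b i :=
    fun i => Submodule.Quotient.mk_surjective _ (b i)
  choose y hy using hlift
  have hli : LinearIndependent (IntermediateField.adjoin k ({x} : Set K))
      (fun i => (y i : K)) := by
    apply linearIndependent_of_mod S x hx0 hS hne _ (fun i => (y i).2)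
    intro c hc
    have h2 : (∑ i, c i • b i) =
        (Submodule.comap (RS S).subtype (XS S x)).mkQ (∑ i, c i • y i) := by
      rw [map_sum]
      refine Finset.sum_congr rfl fun i _ => ?_
      rw [map_smul, Submodule.mkQ_apply, hy i]
    have h4 : (RS S).subtype (∑ i, c i • y i) = ∑ i, c i • (y i : K) := by
      rw [map_sum]
      refine Finset.sum_congr rfl fun i _ => ?_
      rw [map_smul]
      rfl
    have h1 : (∑ i, c i • b i) = 0 := by
      rw [h2, Submodule.mkQ_apply, Submodule.Quotient.mk_eq_zero, Submodule.mem_comap, h4]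
      exact hc
    exact Fintype.linearIndependent_iff.1 b.linearIndependent c h1
  haveI := finite_of_transcendental hK hx
  have h3 := hli.fintype_card_le_finrank
  rw [Fintype.card_fin] at h3
  exact_mod_cast h3

lemma deg_pos (hK : IsFunctionField k K) (P : Place k K) : 0 < P.deg := by
  haveI : Module.Finite k (IsLocalRing.ResidueField P.O) := Groth.Agent.S10971.result k K hK P
  show 0 < Module.finrank k (IsLocalRing.ResidueField P.O)
  exact Module.finrank_pos

lemma ne_zero_of_transcendental {x : K} (hx : Transcendental k x) : x ≠ 0 := by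
  rintro rfl
  exact hx isAlgebraic_zero

theorem finite_zeros (hK : IsFunctionField k K) {x : K} (hx : Transcendental k x) :
    {P : Place k K | P.1 x < 1}.Finite := by
  classical
  by_contra hinf
  have hx0 : x ≠ 0 := ne_zero_of_transcendental hx
  obtain ⟨t, ht, hcard⟩ := Set.Infinite.exists_subset_card_eq hinf
    (Module.finrank (IntermediateField.adjoin k ({x} : Set K)) K + 1)
  have h1 := sum_ord_le hK hx t (fun P hP => ht (Finset.mem_coe.2 hP))
  have h2 : (t.card : ℤ) ≤ ∑ P ∈ t, P.ord x * (P.deg : ℤ) := by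
    rw [Finset.card_eq_sum_ones, Nat.cast_sum]
    apply Finset.sum_le_sum
    intro P hP
    have h3 : 0 < P.ord x := (ord_pos_iff P hx0).2 (ht (Finset.mem_coe.2 hP))
    have h4 : (1 : ℤ) ≤ (P.deg : ℤ) := by exact_mod_cast deg_pos hK P
    push_cast
    nlinarith
  rw [hcard] at h2
  push_cast at h2
  omega

lemma transcendental_inv {x : K} (hx : Transcendental k x) : Transcendental k x⁻¹ := by
  intro h
  apply hx
  have h1 := h.inv
  rwa [inv_inv] at h1

theorem finite_poles (hK : IsFunctionField k K) {x : K} (hx : Transcendental k x) :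
    {P : Place k K | 1 < P.1 x}.Finite := by
  refine (finite_zeros hK (transcendental_inv hx)).subset ?_
  intro P hP
  show P.1 x⁻¹ < 1
  rw [map_inv₀]
  exact inv_lt_one_of_one_lt₀ hP

lemma ord_zero (P : Place k K) : P.ord (0 : K) = 0 := by
  unfold Place.ord
  rw [map_zero, WithZero.log_zero, neg_zero]

theorem finite_support_ord (hK : IsFunctionField k K) (x : K) :
    (Function.support fun P : Place k K => P.ord x).Finite := by
  by_cases hx : Transcendental k x
  · have hx0 : x ≠ 0 := ne_zero_of_transcendental hx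
    refine ((finite_zeros hK hx).union (finite_poles hK hx)).subset ?_
    intro P hP
    rw [Function.mem_support] at hP
    rcases lt_trichotomy (P.ord x) 0 with h | h | h
    · right
      exact (ord_neg_iff P hx0).1 h
    · exact absurd h hP
    · left
      exact (ord_pos_iff P hx0).1 h
  · have hx' : IsAlgebraic k x := by
      by_contra h
      exact hx h
    obtain ⟨c, rfl⟩ := hK.2 x hx'
    have hemp : (Function.support fun P : Place k K => P.ord (algebraMap k K c)) = ∅ := by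
      rw [Function.support_eq_empty_iff]
      funext P
      rcases eq_or_ne c 0 with rfl | hc
      · rw [map_zero]
        exact ord_zero P
      · exact ord_const P hc
    rw [hemp]
    exact Set.finite_empty

theorem div_apply (hK : IsFunctionField k K) (x : K) (P : Place k K) :
    FunFld.div k x P = P.ord x := by
  unfold FunFld.div
  rw [dif_pos (finite_support_ord hK x)]
  rfl

theorem mul_mem_L_iff (hK : IsFunctionField k K) (D : Divisor k K) {x : K} (hx : x ≠ 0) (y : K) :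
    x * y ∈ L D ↔ y ∈ L (D + FunFld.div k x) := by
  constructor
  · intro h
    refine (mem_L_iff _ _).2 fun P => ?_
    have h1 := (mem_L_iff _ _).1 h P
    rw [Finsupp.add_apply, div_apply hK, WithZero.exp_add]
    rw [map_mul, val_eq_exp P hx] at h1
    calc P.1 y = WithZero.exp (P.ord x) * (WithZero.exp (-(P.ord x)) * P.1 y) := by
          rw [← mul_assoc, ← WithZero.exp_add, add_neg_cancel, WithZero.exp_zero, one_mul]
      _ ≤ WithZero.exp (P.ord x) * WithZero.exp (D P) := mul_le_mul' le_rfl h1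
      _ = WithZero.exp (D P) * WithZero.exp (P.ord x) := mul_comm _ _
  · intro h
    refine (mem_L_iff _ _).2 fun P => ?_
    have h1 := (mem_L_iff _ _).1 h P
    rw [Finsupp.add_apply, div_apply hK, WithZero.exp_add] at h1
    rw [map_mul, val_eq_exp P hx]
    calc WithZero.exp (-(P.ord x)) * P.1 y
        ≤ WithZero.exp (-(P.ord x)) * (WithZero.exp (D P) * WithZero.exp (P.ord x)) :=
          mul_le_mul' le_rfl h1
      _ = WithZero.exp (D P) := by
          rw [mul_comm (WithZero.exp (D P)), ← mul_assoc, ← WithZero.exp_add, neg_add_cancel,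
            WithZero.exp_zero, one_mul]

end Groth.Agent.Lib.lead.FF7
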