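import Mathlib
import Groth.Prelude.Def_W4bk4goldsch23FF
import Groth.Agent.Lib.lead.FF
import Groth.Agent.Lib.lead.FF2
import Groth.Agent.Lib.lead.FF4
import Groth.Agent.Lib.lead.FF5
import Groth.Agent.Lib.lead.FF6
import Groth.Agent.Lib.lead.FF7

/-! Degree of zero divisor equals `[K : k(x)]`, principal divisors have degree zero,
Riemann's theorem. -/

namespace Groth.Agent.Lib.lead.FF8
open FunFld Groth.Agent.Lib.lead.FF Groth.Agent.Lib.lead.FF2 Groth.Agent.Lib.lead.FF4
  Groth.Agent.Lib.lead.FF5 Groth.Agent.Lib.lead.FF6 Groth.Agent.Lib.lead.FF7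

variable {k K : Type*} [Field k] [Field K] [Algebra k K]

lemma nsmul_apply' (l : ℕ) (B : Divisor k K) (P : Place k K) : (l • B) P = (l : ℤ) * B P := by
  induction l with
  | zero => simp
  | succ l ih =>
    rw [succ_nsmul, Finsupp.add_apply, ih]
    push_cast
    ring

lemma deg_nsmul (l : ℕ) (B : Divisor k K) : (l • B).deg = (l : ℤ) * B.deg := by
  induction l with
  | zero =>
    rw [zero_nsmul, deg_zero]
    simp
  | succ l ih =>
    rw [succ_nsmul, deg_add, ih]
    push_cast
    ring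

lemma deg_nonneg {C : Divisor k K} (hC : 0 ≤ C) : 0 ≤ C.deg := by
  unfold Divisor.deg
  apply Finsupp.sum_nonneg
  intro P _
  exact mul_nonneg (hC P) (Nat.cast_nonneg _)

lemma ord_algebraMap (P : Place k K) (c : k) : P.ord (algebraMap k K c) = 0 := by
  rcases eq_or_ne c 0 with rfl | hc
  · rw [map_zero]
    exact ord_zero P
  · exact ord_const P hc

lemma linearIndependent_gen_pow {x : K} (hx : Transcendental k x) :
    LinearIndependent k (fun i : ℕ => (IntermediateField.AdjoinSimple.gen k x) ^ i) := by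
  have h1 : LinearIndependent k (fun s : ℕ => Polynomial.monomial s (1 : k)) := by
    have h := (Polynomial.basisMonomials k).linearIndependent
    rwa [Polynomial.coe_basisMonomials] at h
  have hinj : Function.Injective
      (Polynomial.aeval (R := k) (IntermediateField.AdjoinSimple.gen k x)).toLinearMap := by
    intro p q hpq
    apply transcendental_iff_injective.1 hx
    have h2 := congrArg (algebraMap (IntermediateField.adjoin k ({x} : Set K)) K) hpq
    rw [AlgHom.toLinearMap_apply, AlgHom.toLinearMap_apply, ← Polynomial.aeval_algebraMap_apply,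
      ← Polynomial.aeval_algebraMap_apply, IntermediateField.AdjoinSimple.algebraMap_gen] at h2
    exact h2
  have h2 := h1.map' _ (LinearMap.ker_eq_bot.2 hinj)
  have h3 : (fun i : ℕ => (IntermediateField.AdjoinSimple.gen k x) ^ i) =
      (Polynomial.aeval (R := k) (IntermediateField.AdjoinSimple.gen k x)).toLinearMap ∘
        (fun s : ℕ => Polynomial.monomial s (1 : k)) := by
    funext i
    simp [Polynomial.aeval_monomial]
  rw [h3]
  exact h2

lemma mem_L_negpart (hK : IsFunctionField k K) (y : K) :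
    y ∈ L ((-(FunFld.div k y)) ⊔ 0) := by
  rcases eq_or_ne y 0 with rfl | hy
  · exact Submodule.zero_mem _
  · refine (mem_L_iff _ _).2 fun P => ?_
    rw [val_eq_exp P hy, WithZero.exp_le_exp, Finsupp.sup_apply, Finsupp.neg_apply,
      div_apply hK]
    exact le_sup_left

lemma exists_effective (hK : IsFunctionField k K) {ι : Type*} [Fintype ι] (u : ι → K) :
    ∃ C : Divisor k K, 0 ≤ C ∧ ∀ j, u j ∈ L C := by
  classical
  refine ⟨∑ j, ((-(FunFld.div k (u j))) ⊔ 0), Finset.sum_nonneg (fun j _ => le_sup_right),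
    fun j => ?_⟩
  exact L_mono (Finset.single_le_sum (f := fun j => (-(FunFld.div k (u j))) ⊔ 0)
    (fun i _ => le_sup_right) (Finset.mem_univ j)) (mem_L_negpart hK (u j))

lemma ell_le_deg_add_one (hK : IsFunctionField k K) {D : Divisor k K} (hD : 0 ≤ D) :
    (ell D : ℤ) ≤ D.deg + 1 := by
  have h := ell_sub_le hK hD
  rw [ell_zero hK, deg_zero] at h
  push_cast at h
  linarith

theorem exists_C (hK : IsFunctionField k K) {x : K} (hx : Transcendental k x)
    (B : Divisor k K) (hB : 0 ≤ B) (hxB : x ∈ L B) :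
    ∃ C : Divisor k K, 0 ≤ C ∧ ∀ l : ℕ,
      (l + 1) * Module.finrank (IntermediateField.adjoin k ({x} : Set K)) K ≤
        ell (l • B + C) := by
  classical
  haveI := finite_of_transcendental hK hx
  let b := Module.finBasis (IntermediateField.adjoin k ({x} : Set K)) K
  obtain ⟨C, hC0, hC⟩ := exists_effective hK (fun j => b j)
  refine ⟨C, hC0, fun l => ?_⟩
  have hmem : ∀ (i : Fin (l + 1))
      (j : Fin (Module.finrank (IntermediateField.adjoin k ({x} : Set K)) K)),
      x ^ (i : ℕ) * b j ∈ L (l • B + C) := by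
    intro i j
    refine (mem_L_iff _ _).2 fun P => ?_
    have hBP : (1 : WithZero (Multiplicative ℤ)) ≤ WithZero.exp (B P) := by
      rw [← WithZero.exp_zero]
      exact WithZero.exp_le_exp.2 (hB P)
    rw [Finsupp.add_apply, nsmul_apply', ← nsmul_eq_mul, WithZero.exp_add, WithZero.exp_nsmul,
      map_mul, map_pow]
    refine mul_le_mul' ?_ (hC j P)
    exact (pow_le_pow_left' (hxB P) _).trans (pow_le_pow_right' hBP (Nat.lt_succ_iff.1 i.2))
  have hb : LinearIndependent k
      (fun i : Fin (l + 1) => (IntermediateField.AdjoinSimple.gen k x) ^ (i : ℕ)) :=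
    (linearIndependent_gen_pow hx).comp _ Fin.val_injective
  have hli := linearIndependent_smul hb b.linearIndependent
  let v : Fin (l + 1) × Fin (Module.finrank (IntermediateField.adjoin k ({x} : Set K)) K) →
      ↥(L (l • B + C)) := fun p => ⟨x ^ (p.1 : ℕ) * b p.2, hmem p.1 p.2⟩
  have hv : LinearIndependent k v := by
    apply LinearIndependent.of_comp (L (l • B + C)).subtype
    exact hli
  haveI := L_finite hK (l • B + C)
  have h1 := hv.fintype_card_le_finrank
  rw [Fintype.card_prod, Fintype.card_fin, Fintype.card_fin] at h1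
  exact h1

theorem finrank_le_deg (hK : IsFunctionField k K) {x : K} (hx : Transcendental k x)
    (B : Divisor k K) (hB : 0 ≤ B) (hxB : x ∈ L B) :
    (Module.finrank (IntermediateField.adjoin k ({x} : Set K)) K : ℤ) ≤ B.deg := by
  obtain ⟨C, hC0, hC⟩ := exists_C hK hx B hB hxB
  have key : ∀ l : ℕ, ((l : ℤ) + 1) *
      (Module.finrank (IntermediateField.adjoin k ({x} : Set K)) K : ℤ) ≤
        l * B.deg + C.deg + 1 := by
    intro l
    have hD0 : 0 ≤ l • B + C := add_nonneg (nsmul_nonneg hB l) hC0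
    have h1 := ell_le_deg_add_one hK hD0
    rw [deg_add, deg_nsmul] at h1
    have h2 : (((l + 1) * Module.finrank (IntermediateField.adjoin k ({x} : Set K)) K : ℕ) : ℤ)
        ≤ (ell (l • B + C) : ℤ) := by exact_mod_cast hC l
    push_cast at h2
    linarith
  by_contra hcon
  push Not at hcon
  have hC' : 0 ≤ C.deg := deg_nonneg hC0
  obtain ⟨m, hm⟩ : ∃ m : ℕ, (m : ℤ) = C.deg + 2 :=
    ⟨(C.deg + 2).toNat, Int.toNat_of_nonneg (by linarith)⟩
  have h5 := key m
  rw [hm] at h5
  have h8 : (0 : ℤ) ≤ (Module.finrank (IntermediateField.adjoin k ({x} : Set K)) K : ℤ) :=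
    Nat.cast_nonneg _
  have h7 : (0 : ℤ) ≤ (C.deg + 2) *
      ((Module.finrank (IntermediateField.adjoin k ({x} : Set K)) K : ℤ) - 1 - B.deg) :=
    mul_nonneg (by linarith) (by linarith)
  nlinarith

lemma adjoin_inv (x : K) : IntermediateField.adjoin k ({x⁻¹} : Set K) =
    IntermediateField.adjoin k ({x} : Set K) := by
  apply le_antisymm
  · rw [IntermediateField.adjoin_simple_le_iff]
    exact inv_mem (IntermediateField.mem_adjoin_simple_self k x)
  · rw [IntermediateField.adjoin_simple_le_iff]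
    have h := inv_mem (IntermediateField.mem_adjoin_simple_self k x⁻¹)
    rwa [inv_inv] at h

lemma BS_nonneg {x : K} (hx0 : x ≠ 0) (S : Finset (Place k K)) (hS : ∀ P ∈ S, P.1 x < 1) :
    0 ≤ BS S x := by
  intro P
  rw [Finsupp.zero_apply]
  by_cases hP : P ∈ S
  · rw [BS_apply_mem S x hP]
    exact ((ord_pos_iff P hx0).2 (hS P hP)).le
  · rw [BS_apply_not_mem S x hP]

lemma inv_mem_L_BS {x : K} (hx0 : x ≠ 0) (S : Finset (Place k K))
    (hS : ∀ P, P ∈ S ↔ P.1 x < 1) : x⁻¹ ∈ L (BS S x) := by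
  refine (mem_L_iff _ _).2 fun P => ?_
  by_cases hP : P ∈ S
  · have h1 : P.1 x⁻¹ = WithZero.exp (P.ord x) := by
      rw [map_inv₀, val_eq_exp P hx0, ← WithZero.exp_neg, neg_neg]
    rw [BS_apply_mem S x hP]
    exact h1.le
  · rw [BS_apply_not_mem S x hP, WithZero.exp_zero, map_inv₀]
    have h1 : 1 ≤ P.1 x := not_lt.1 (fun h => hP ((hS P).2 h))
    exact inv_le_one_of_one_le₀ h1

/-- The zero divisor of a transcendental `x` has degree `[K : k(x)]`. -/
theorem sum_zeros_eq (hK : IsFunctionField k K) {x : K} (hx : Transcendental k x)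
    (S : Finset (Place k K)) (hS : ∀ P, P ∈ S ↔ P.1 x < 1) :
    ∑ P ∈ S, P.ord x * (P.deg : ℤ) =
      Module.finrank (IntermediateField.adjoin k ({x} : Set K)) K := by
  apply le_antisymm (sum_ord_le hK hx S (fun P hP => (hS P).1 hP))
  have hx0 := ne_zero_of_transcendental hx
  have h1 := finrank_le_deg hK (transcendental_inv hx) (BS S x)
    (BS_nonneg hx0 S (fun P hP => (hS P).1 hP)) (inv_mem_L_BS hx0 S hS)
  rw [deg_BS, adjoin_inv] at h1
  exact h1

theorem deg_BS_eq (hK : IsFunctionField k K) {x : K} (hx : Transcendental k x)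
    (S : Finset (Place k K)) (hS : ∀ P, P ∈ S ↔ P.1 x < 1) :
    (BS S x).deg = Module.finrank (IntermediateField.adjoin k ({x} : Set K)) K := by
  rw [deg_BS]
  exact sum_zeros_eq hK hx S hS

theorem exists_pole_divisor (hK : IsFunctionField k K) {x : K} (hx : Transcendental k x) :
    ∃ B : Divisor k K, 0 ≤ B ∧ x ∈ L B ∧
      B.deg = Module.finrank (IntermediateField.adjoin k ({x} : Set K)) K := by
  have hxi := transcendental_inv hx
  have hxi0 := ne_zero_of_transcendental hxi
  have hS : ∀ P, P ∈ (finite_zeros hK hxi).toFinset ↔ P.1 x⁻¹ < 1 := by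
    intro P
    rw [Set.Finite.mem_toFinset]
    exact Iff.rfl
  refine ⟨BS (finite_zeros hK hxi).toFinset x⁻¹,
    BS_nonneg hxi0 _ (fun P hP => (hS P).1 hP), ?_, ?_⟩
  · have h := inv_mem_L_BS hxi0 _ hS
    rwa [inv_inv] at h
  · rw [deg_BS_eq hK hxi _ hS, adjoin_inv]

/-- Principal divisors have degree zero. -/
theorem deg_div (hK : IsFunctionField k K) (x : K) : (FunFld.div k x).deg = 0 := by
  classical
  by_cases hx : Transcendental k x
  · have hx0 := ne_zero_of_transcendental hx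
    show ∑ P ∈ (FunFld.div k x).support, FunFld.div k x P * (P.deg : ℤ) = 0
    rw [← Finset.sum_filter_add_sum_filter_not (FunFld.div k x).support
      (fun P => 0 < FunFld.div k x P)]
    have hZ : ∀ P, P ∈ (FunFld.div k x).support.filter (fun P => 0 < FunFld.div k x P) ↔
        P.1 x < 1 := by
      intro P
      rw [Finset.mem_filter, Finsupp.mem_support_iff, div_apply hK, ← ord_pos_iff P hx0]
      constructor
      · exact fun h => h.2
      · exact fun h => ⟨h.ne', h⟩
    have hN : ∀ P, P ∈ (FunFld.div k x).support.filter (fun P => ¬ 0 < FunFld.div k x P) ↔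
        P.1 x⁻¹ < 1 := by
      intro P
      rw [Finset.mem_filter, Finsupp.mem_support_iff, div_apply hK,
        ← ord_pos_iff P (inv_ne_zero hx0), ord_inv]
      constructor
      · rintro ⟨h1, h2⟩
        omega
      · intro h
        exact ⟨by omega, by omega⟩
    have h1 := sum_zeros_eq hK hx _ hZ
    have h2 := sum_zeros_eq hK (transcendental_inv hx) _ hN
    rw [adjoin_inv] at h2
    have h3 : ∑ P ∈ (FunFld.div k x).support.filter (fun P => 0 < FunFld.div k x P),
        FunFld.div k x P * (P.deg : ℤ) =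
        ∑ P ∈ (FunFld.div k x).support.filter (fun P => 0 < FunFld.div k x P),
          P.ord x * (P.deg : ℤ) :=
      Finset.sum_congr rfl (fun P _ => by rw [div_apply hK])
    have h4 : ∑ P ∈ (FunFld.div k x).support.filter (fun P => ¬ 0 < FunFld.div k x P),
        FunFld.div k x P * (P.deg : ℤ) =
        -∑ P ∈ (FunFld.div k x).support.filter (fun P => ¬ 0 < FunFld.div k x P),
          P.ord x⁻¹ * (P.deg : ℤ) := by
      rw [← Finset.sum_neg_distrib]
      exact Finset.sum_congr rfl (fun P _ => by rw [div_apply hK, ord_inv]; ring)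
    rw [h3, h4, h1, h2]
    ring
  · have hx' : IsAlgebraic k x := by
      by_contra h
      exact hx h
    obtain ⟨c, rfl⟩ := hK.2 x hx'
    have h0 : FunFld.div k (algebraMap k K c) = 0 := by
      ext P
      rw [div_apply hK, Finsupp.zero_apply]
      exact ord_algebraMap P c
    rw [h0]
    exact deg_zero

theorem L_eq_bot_of_deg_neg (hK : IsFunctionField k K) (D : Divisor k K) (h : D.deg < 0) :
    L D = ⊥ := by
  rw [Submodule.eq_bot_iff]
  intro y hy
  by_contra hy0
  have h1 : 0 ≤ D + FunFld.div k y := by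
    intro P
    have h2 := (val_le_exp_iff P hy0 (D P)).1 ((mem_L_iff _ _).1 hy P)
    rw [Finsupp.zero_apply, Finsupp.add_apply, div_apply hK]
    omega
  have h3 := deg_nonneg h1
  rw [deg_add, deg_div hK, add_zero] at h3
  omega

theorem ell_add_div (hK : IsFunctionField k K) (D : Divisor k K) {z : K} (hz : z ≠ 0) :
    ell (D + FunFld.div k z) = ell D := by
  unfold ell
  let f : ↥(L (D + FunFld.div k z)) →ₗ[k] ↥(L D) :=
    (LinearMap.mulLeft k z).restrict (fun y hy => (mul_mem_L_iff hK D hz y).2 hy)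
  have hinj : Function.Injective f := by
    intro y y' h
    apply Subtype.ext
    have h1 : z * (y : K) = z * (y' : K) := congrArg Subtype.val h
    exact mul_left_cancel₀ hz h1
  have hsurj : Function.Surjective f := by
    intro w
    have hmem : z⁻¹ * (w : K) ∈ L (D + FunFld.div k z) := by
      rw [← mul_mem_L_iff hK D hz, mul_inv_cancel_left₀ hz]
      exact w.2
    refine ⟨⟨z⁻¹ * (w : K), hmem⟩, Subtype.ext ?_⟩
    show z * (z⁻¹ * (w : K)) = w
    exact mul_inv_cancel_left₀ hz _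
  exact (LinearEquiv.ofBijective f ⟨hinj, hsurj⟩).finrank_eq

/-- If `ℓ(E) ≥ 1` there is a nonzero element of `L(E)`. -/
lemma exists_ne_zero_of_ell_pos (hK : IsFunctionField k K) {E : Divisor k K}
    (h : (1 : ℤ) ≤ ell E) : ∃ z : K, z ≠ 0 ∧ z ∈ L E := by
  haveI := L_finite hK E
  have h5 : 0 < Module.finrank k (L E) := by
    have h6 : (0 : ℤ) < ell E := by linarith
    exact_mod_cast h6
  obtain ⟨z, hz⟩ := Module.finrank_pos_iff_exists_ne_zero.1 h5
  exact ⟨z, fun h => hz (Subtype.ext h), z.2⟩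

/-- `z ∈ L(E - F)`, `z ≠ 0` gives `F - (z) ≤ E`. -/
lemma sub_div_le (hK : IsFunctionField k K) {E F : Divisor k K} {z : K} (hz0 : z ≠ 0)
    (hz : z ∈ L (E - F)) : F - FunFld.div k z ≤ E := by
  intro P
  have h6 := (val_le_exp_iff P hz0 _).1 ((mem_L_iff _ _).1 hz P)
  rw [Finsupp.sub_apply] at h6
  rw [Finsupp.sub_apply, div_apply hK]
  linarith

theorem exists_gamma (hK : IsFunctionField k K) :
    ∃ γ : ℤ, ∀ A : Divisor k K, A.deg - ell A ≤ γ := by
  obtain ⟨x, hx, -⟩ := hK.1
  obtain ⟨B, hB0, hxB, hdegB⟩ := exists_pole_divisor hK hx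
  obtain ⟨C, hC0, hC⟩ := exists_C hK hx B hB0 hxB
  haveI := finite_of_transcendental hK hx
  have hn1 : 0 < Module.finrank (IntermediateField.adjoin k ({x} : Set K)) K :=
    Module.finrank_pos
  obtain ⟨n, hn⟩ : ∃ n : ℕ, n = Module.finrank (IntermediateField.adjoin k ({x} : Set K)) K :=
    ⟨_, rfl⟩
  rw [← hn] at hC hdegB hn1
  have hlB : ∀ l : ℕ, (l • B).deg - ell (l • B) ≤ C.deg - n := by
    intro l
    have h1 : l • B ≤ l • B + C := le_add_of_nonneg_right hC0
    have h2 := ell_sub_le hK h1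
    rw [deg_add] at h2
    have h3 : (((l + 1) * n : ℕ) : ℤ) ≤ (ell (l • B + C) : ℤ) := by exact_mod_cast hC l
    push_cast at h3
    rw [deg_nsmul, hdegB]
    linarith
  refine ⟨C.deg - n, fun A => ?_⟩
  have hA1 : A ≤ A ⊔ 0 := le_sup_left
  have hA0 : (0 : Divisor k K) ≤ A ⊔ 0 := le_sup_right
  obtain ⟨l, hl⟩ : ∃ l : ℕ, C.deg - n + (A ⊔ 0).deg + 1 ≤ (l : ℤ) :=
    ⟨(C.deg - n + (A ⊔ 0).deg + 1).toNat, Int.self_le_toNat _⟩
  have h1 : l • B - (A ⊔ 0) ≤ l • B := sub_le_self _ hA0
  have h2 := ell_sub_le hK h1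
  rw [deg_sub] at h2
  have h3 := hlB l
  have h4 : (1 : ℤ) ≤ ell (l • B - (A ⊔ 0)) := by
    rw [deg_nsmul, hdegB] at h3
    have hn1' : (1 : ℤ) ≤ (n : ℤ) := by exact_mod_cast hn1
    have h5 : (l : ℤ) ≤ l * n := by nlinarith [Int.natCast_nonneg l]
    linarith
  obtain ⟨z, hz0, hzL⟩ := exists_ne_zero_of_ell_pos hK h4
  have hD : (A ⊔ 0) - FunFld.div k z ≤ l • B := sub_div_le hK hz0 hzL
  have h7 : ell ((A ⊔ 0) - FunFld.div k z) = ell (A ⊔ 0) := by
    have h := ell_add_div hK ((A ⊔ 0) - FunFld.div k z) hz0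
    rw [sub_add_cancel] at h
    exact h.symm
  have h8 : ((A ⊔ 0) - FunFld.div k z).deg = (A ⊔ 0).deg := by
    rw [deg_sub, deg_div hK, sub_zero]
  have h9 := ell_sub_le hK hD
  have h10 := ell_sub_le hK hA1
  rw [h7, h8] at h9
  linarith [hlB l]

/-- Riemann's theorem. -/
theorem riemann (hK : IsFunctionField k K) :
    (∀ D : Divisor k K, D.deg + 1 - (ell D : ℤ) ≤ genus k K) ∧
    ∃ N : ℤ, ∀ D : Divisor k K, N ≤ D.deg → D.deg + 1 - (ell D : ℤ) = genus k K := by
  obtain ⟨γ, hγ⟩ := exists_gamma hK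
  have hbdd : BddAbove (Set.range fun D : Divisor k K => (D.deg + 1 - (ell D : ℤ)).toNat) := by
    refine ⟨(γ + 1).toNat, ?_⟩
    rintro _ ⟨D, rfl⟩
    apply Int.toNat_le_toNat
    linarith [hγ D]
  have hle : ∀ D : Divisor k K, D.deg + 1 - (ell D : ℤ) ≤ genus k K := by
    intro D
    have h1 : (D.deg + 1 - (ell D : ℤ)).toNat ≤ genus k K := le_csSup hbdd ⟨D, rfl⟩
    have h2 := Int.self_le_toNat (D.deg + 1 - (ell D : ℤ))
    have h3 : ((D.deg + 1 - (ell D : ℤ)).toNat : ℤ) ≤ (genus k K : ℤ) := by exact_mod_cast h1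
    linarith
  refine ⟨hle, ?_⟩
  obtain ⟨D₀, hD₀⟩ : ∃ D₀ : Divisor k K, D₀.deg + 1 - (ell D₀ : ℤ) = genus k K := by
    have hmem : genus k K ∈ Set.range fun D : Divisor k K => (D.deg + 1 - (ell D : ℤ)).toNat :=
      Nat.sSup_mem ⟨_, ⟨0, rfl⟩⟩ hbdd
    obtain ⟨D₁, hD₁⟩ := hmem
    have hD₁' : (D₁.deg + 1 - (ell D₁ : ℤ)).toNat = genus k K := hD₁
    by_cases hpos : 0 ≤ D₁.deg + 1 - (ell D₁ : ℤ)
    · refine ⟨D₁, ?_⟩
      rw [← hD₁']
      exact (Int.toNat_of_nonneg hpos).symm
    · refine ⟨0, ?_⟩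
      have h1 : (D₁.deg + 1 - (ell D₁ : ℤ)).toNat = 0 := Int.toNat_of_nonpos (by omega)
      have hg : genus k K = 0 := by rw [← hD₁', h1]
      rw [deg_zero, ell_zero hK, hg]
      norm_num
  refine ⟨D₀.deg + genus k K, fun A hA => ?_⟩
  apply le_antisymm (hle A)
  have h1 := hle (A - D₀)
  rw [deg_sub] at h1
  have h2 : (1 : ℤ) ≤ ell (A - D₀) := by linarith
  obtain ⟨z, hz0, hzL⟩ := exists_ne_zero_of_ell_pos hK h2
  have hD : D₀ - FunFld.div k z ≤ A := sub_div_le hK hz0 hzL
  have h7 : ell (D₀ - FunFld.div k z) = ell D₀ := by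
    have h := ell_add_div hK (D₀ - FunFld.div k z) hz0
    rw [sub_add_cancel] at h
    exact h.symm
  have h8 : (D₀ - FunFld.div k z).deg = D₀.deg := by
    rw [deg_sub, deg_div hK, sub_zero]
  have h9 := ell_sub_le hK hD
  rw [h7, h8] at h9
  linarith

end Groth.Agent.Lib.lead.FF8
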