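import Mathlib
import Groth.Prelude.Def_W4bk4goldsch23FF
import Groth.Agent.Lib.lead.FF
import Groth.Agent.Lib.lead.FF2
import Groth.Agent.Lib.lead.FF3
import Groth.Agent.Lib.lead.FF4
import Groth.Agent.Lib.lead.FF5
import Groth.Agent.Lib.lead.FF6
import Groth.Agent.Lib.lead.FF7
import Groth.Agent.Lib.lead.FF8

/-! `A(D) + K`, the index of speciality, dimension of `W(D)`. -/

namespace Groth.Agent.Lib.lead.FF9
open FunFld Groth.Agent.Lib.lead.FF Groth.Agent.Lib.lead.FF2 Groth.Agent.Lib.lead.FF3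
  Groth.Agent.Lib.lead.FF4
  Groth.Agent.Lib.lead.FF5 Groth.Agent.Lib.lead.FF6 Groth.Agent.Lib.lead.FF7
  Groth.Agent.Lib.lead.FF8

variable {k K : Type*} [Field k] [Field K] [Algebra k K]

/-- `A(D) + K` -/
abbrev UD (D : Divisor k K) : Submodule k (Place k K → K) :=
  AD D ⊔ LinearMap.range (diag k K)

lemma diag_apply (x : K) (P : Place k K) : diag k K x P = x := rfl

lemma deg_mono {D₁ D₂ : Divisor k K} (h : D₁ ≤ D₂) : D₁.deg ≤ D₂.deg := by
  have h1 := deg_nonneg (sub_nonneg.2 h)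
  rw [deg_sub] at h1
  linarith

theorem relExact_LAU {D₁ D₂ : Divisor k K} (h : D₁ ≤ D₂) :
    RelExact (L D₁) (L D₂) (AD D₁) (AD D₂) (UD D₁) (UD D₂) (diag k K)
      (LinearMap.id : (Place k K → K) →ₗ[k] (Place k K → K)) where
  fB x hx := fun P => hx P
  fA x _ hx := fun P => hx P
  gB y hy := Submodule.mem_sup_left hy
  gA y _ hy := Submodule.mem_sup_left hy
  inj x _ hx := fun P => hx P
  comp x _ := Submodule.mem_sup_right ⟨x, rfl⟩
  exact y hy hy' := by
    obtain ⟨a, ha, b, ⟨x, rfl⟩, hab⟩ := Submodule.mem_sup.1 hy'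
    have hab' : a + diag k K x = y := hab
    have hx : diag k K x ∈ AD D₂ := by
      have h1 : diag k K x = y - a := by
        rw [← hab']
        abel
      rw [h1]
      exact (AD D₂).sub_mem hy (AD_mono h ha)
    refine ⟨x, fun P => hx P, ?_⟩
    have h2 : y - diag k K x = a := by
      rw [← hab']
      abel
    rw [h2]
    exact ha
  surj z hz := by
    obtain ⟨a, ha, b, hb, hab⟩ := Submodule.mem_sup.1 hz
    refine ⟨a, ha, ?_⟩
    show z - a ∈ UD D₁
    have h1 : z - a = b := by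
      rw [← hab]
      abel
    rw [h1]
    exact Submodule.mem_sup_right hb

/-- `dim (A(D₂)+K)/(A(D₁)+K) = δ(D₂) - δ(D₁)`. -/
theorem U_dim (hK : IsFunctionField k K) {D₁ D₂ : Divisor k K} (h : D₁ ≤ D₂) :
    Module.Finite k (RelQ (UD D₁) (UD D₂)) ∧
    (Module.finrank k (RelQ (UD D₁) (UD D₂)) : ℤ) =
      (D₂.deg + 1 - ell D₂) - (D₁.deg + 1 - ell D₁) := by
  obtain ⟨hfin, hdim⟩ := AD_dim hK h
  haveI := hfin
  obtain ⟨h1, h2, h3⟩ := (relExact_LAU h).finite_ends
  refine ⟨h2, ?_⟩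
  have h4 := ell_eq_add hK h
  have h5 : (Module.finrank k (RelQ (AD D₁) (AD D₂)) : ℤ) =
      (Module.finrank k (RelQ (L D₁) (L D₂)) : ℤ) +
        Module.finrank k (RelQ (UD D₁) (UD D₂)) := by exact_mod_cast h3
  have h6 : (ell D₂ : ℤ) = ell D₁ + Module.finrank k (RelQ (L D₁) (L D₂)) := by
    exact_mod_cast h4
  linarith

lemma AD_le_adele (D : Divisor k K) : AD D ≤ adele k K := by
  intro a ha
  show ∀ᶠ P : Place k K in Filter.cofinite, P.1 (a P) ≤ 1
  rw [Filter.eventually_cofinite]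
  refine (D.support.finite_toSet).subset ?_
  intro P hP
  rw [Set.mem_setOf_eq] at hP
  rw [Finset.mem_coe, Finsupp.mem_support_iff]
  intro h0
  apply hP
  have h1 := ha P
  rwa [h0, WithZero.exp_zero] at h1

lemma diag_mem_adele (hK : IsFunctionField k K) (x : K) : diag k K x ∈ adele k K := by
  show ∀ᶠ P : Place k K in Filter.cofinite, P.1 (diag k K x P) ≤ 1
  rw [Filter.eventually_cofinite]
  refine (finite_support_ord hK x).subset ?_
  intro P hP
  rw [Set.mem_setOf_eq, not_le] at hP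
  rw [Function.mem_support]
  have hP' : 1 < P.1 x := hP
  have hx0 : x ≠ 0 := by
    rintro rfl
    rw [map_zero] at hP'
    exact absurd hP' (not_lt.2 zero_le')
  have h1 := (ord_neg_iff P hx0).2 hP'
  omega

lemma UD_le_adele (hK : IsFunctionField k K) (D : Divisor k K) : UD D ≤ adele k K := by
  apply sup_le (AD_le_adele D)
  rintro _ ⟨x, rfl⟩
  exact diag_mem_adele hK x

/-- the divisor `r ∑_{P ∈ T} P` -/
noncomputable def indD (T : Finset (Place k K)) (r : ℤ) : Divisor k K :=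
  ∑ P ∈ T, Finsupp.single P r

lemma indD_apply_mem {T : Finset (Place k K)} {r : ℤ} {Q : Place k K} (hQ : Q ∈ T) :
    indD T r Q = r := by
  classical
  unfold indD
  rw [Finsupp.finset_sum_apply, Finset.sum_eq_single_of_mem Q hQ]
  · exact Finsupp.single_eq_same
  · intro P _ hPQ
    rw [Finsupp.single_apply, if_neg hPQ]

lemma indD_apply_not_mem {T : Finset (Place k K)} {r : ℤ} {Q : Place k K} (hQ : Q ∉ T) :
    indD T r Q = 0 := by
  classical
  unfold indD
  rw [Finsupp.finset_sum_apply]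
  apply Finset.sum_eq_zero
  intro P hP
  have hPQ : P ≠ Q := fun h => hQ (h ▸ hP)
  rw [Finsupp.single_apply, if_neg hPQ]

lemma indD_nonneg (T : Finset (Place k K)) {r : ℤ} (hr : 0 ≤ r) : 0 ≤ indD T r := by
  classical
  intro P
  rw [Finsupp.zero_apply]
  by_cases hP : P ∈ T
  · rw [indD_apply_mem hP]
    exact hr
  · rw [indD_apply_not_mem hP]

lemma single_one_nonneg (P₀ : Place k K) : (0 : Divisor k K) ≤ Finsupp.single P₀ 1 := by
  classical
  intro Q
  rw [Finsupp.zero_apply, Finsupp.single_apply]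
  split_ifs <;> norm_num

lemma exists_AD_ge (a : Place k K → K) (ha : a ∈ adele k K) (D₁ : Divisor k K) :
    ∃ D₂, D₁ ≤ D₂ ∧ a ∈ AD D₂ := by
  classical
  have ha' : ∀ᶠ P : Place k K in Filter.cofinite, P.1 (a P) ≤ 1 := ha
  have hfin : {P : Place k K | ¬ P.1 (a P) ≤ 1}.Finite := Filter.eventually_cofinite.1 ha'
  obtain ⟨r, hr⟩ := exists_bound hfin.toFinset (fun P => P.1 (a P))
  refine ⟨(D₁ ⊔ 0) + indD hfin.toFinset r, ?_, ?_⟩
  · exact le_sup_left.trans (le_add_of_nonneg_right (indD_nonneg _ (Int.natCast_nonneg r)))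
  · refine (mem_AD_iff _ _).2 fun P => ?_
    rw [Finsupp.add_apply, Finsupp.sup_apply, Finsupp.zero_apply]
    by_cases hP : P ∈ hfin.toFinset
    · rw [indD_apply_mem hP]
      refine (hr P hP).trans (WithZero.exp_le_exp.2 ?_)
      have h1 : (0 : ℤ) ≤ D₁ P ⊔ 0 := le_sup_right
      linarith
    · rw [indD_apply_not_mem hP, add_zero]
      have h1 : P.1 (a P) ≤ 1 := by
        by_contra h
        exact hP (hfin.mem_toFinset.2 h)
      refine h1.trans ?_
      rw [← WithZero.exp_zero]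
      exact WithZero.exp_le_exp.2 le_sup_right

theorem exists_UD_eq_adele (hK : IsFunctionField k K) (D : Divisor k K) :
    ∃ D₁, D ≤ D₁ ∧ UD D₁ = adele k K ∧ D₁.deg + 1 - (ell D₁ : ℤ) = genus k K := by
  obtain ⟨-, N, hN⟩ := riemann hK
  obtain ⟨x, hx, -⟩ := hK.1
  obtain ⟨P₀, -⟩ := exists_place_lt_one hK hx
  obtain ⟨m, hm⟩ : ∃ m : ℕ, N ≤ (m : ℤ) := ⟨N.toNat, Int.self_le_toNat N⟩
  obtain ⟨D₁, hD₁⟩ : ∃ D₁ : Divisor k K, D₁ = (D ⊔ 0) + m • Finsupp.single P₀ 1 := ⟨_, rfl⟩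
  have hDD₁ : D ≤ D₁ := by
    rw [hD₁]
    exact le_sup_left.trans (le_add_of_nonneg_right (nsmul_nonneg (single_one_nonneg P₀) m))
  have hdeg : N ≤ D₁.deg := by
    rw [hD₁, deg_add, deg_nsmul, deg_single, one_mul]
    have h1 : 0 ≤ (D ⊔ 0 : Divisor k K).deg := deg_nonneg le_sup_right
    have h2 : (1 : ℤ) ≤ P₀.deg := by exact_mod_cast deg_pos hK P₀
    nlinarith [Int.natCast_nonneg m]
  refine ⟨D₁, hDD₁, ?_, hN D₁ hdeg⟩
  apply le_antisymm (UD_le_adele hK D₁)
  intro a ha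
  obtain ⟨D₂, h12, haD₂⟩ := exists_AD_ge a ha D₁
  obtain ⟨hfin, hdim⟩ := U_dim hK h12
  have hdeg2 : N ≤ D₂.deg := hdeg.trans (deg_mono h12)
  rw [hN D₁ hdeg, hN D₂ hdeg2, sub_self] at hdim
  haveI := hfin
  have h0 : Module.finrank k (RelQ (UD D₁) (UD D₂)) = 0 := by exact_mod_cast hdim
  haveI : Subsingleton (RelQ (UD D₁) (UD D₂)) := Module.finrank_zero_iff.1 h0
  have htop : Submodule.comap (UD D₂).subtype (UD D₁) = ⊤ :=
    Submodule.Quotient.subsingleton_iff.1 inferInstance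
  have haU : a ∈ UD D₂ := Submodule.mem_sup_left haD₂
  have h3 : (⟨a, haU⟩ : ↥(UD D₂)) ∈ Submodule.comap (UD D₂).subtype (UD D₁) := by
    rw [htop]
    trivial
  exact h3

/-- `dim A/(A(D)+K) = g - δ(D)`. -/
theorem adele_quot_dim (hK : IsFunctionField k K) (D : Divisor k K) :
    Module.Finite k (RelQ (UD D) (adele k K)) ∧
    (Module.finrank k (RelQ (UD D) (adele k K)) : ℤ) =
      (genus k K : ℤ) - (D.deg + 1 - ell D) := by
  obtain ⟨D₁, hDD₁, hU, hg⟩ := exists_UD_eq_adele hK D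
  obtain ⟨hfin, hdim⟩ := U_dim hK hDD₁
  rw [hg] at hdim
  rw [← hU]
  exact ⟨hfin, hdim⟩

theorem adele_quot_dim' (hK : IsFunctionField k K) (D : Divisor k K) :
    Module.Finite k (↥(adele k K) ⧸ ADK D) ∧
    (Module.finrank k (↥(adele k K) ⧸ ADK D) : ℤ) =
      (genus k K : ℤ) - (D.deg + 1 - ell D) :=
  adele_quot_dim hK D

/-- `dim W(D) = g - δ(D)`. -/
theorem WD_dim (hK : IsFunctionField k K) (D : Divisor k K) :
    Module.Finite k (WD D) ∧
    (Module.finrank k (WD D) : ℤ) = (genus k K : ℤ) - (D.deg + 1 - ell D) := by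
  obtain ⟨hfin, hdim⟩ := adele_quot_dim' hK D
  haveI : Module.Finite k (↥(adele k K) ⧸ ADK D) := hfin
  let e : Module.Dual k (↥(adele k K) ⧸ ADK D) ≃ₗ[k] ↥(WD D) :=
    (ADK D).dualQuotEquivDualAnnihilator
  refine ⟨Module.Finite.equiv e, ?_⟩
  rw [← e.finrank_eq, Subspace.dual_finrank_eq]
  exact hdim

theorem exists_weil_of_deg_lt (hK : IsFunctionField k K) (D : Divisor k K) (hD : 0 ≤ D)
    (hdeg : D.deg < genus k K) :
    ∃ ω : Module.Dual k (adele k K), ω ≠ 0 ∧ ω ∈ WD D := by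
  obtain ⟨hfin, hdim⟩ := WD_dim hK D
  have h1 : (1 : ℤ) ≤ ell D := by
    have h := ell_mono hK hD
    rw [ell_zero hK] at h
    exact_mod_cast h
  have h2 : 0 < Module.finrank k (WD D) := by
    have h3 : (0 : ℤ) < Module.finrank k (WD D) := by
      rw [hdim]
      linarith
    exact_mod_cast h3
  haveI := hfin
  obtain ⟨ω, hω⟩ := (Module.finrank_pos_iff_exists_ne_zero (R := k) (M := ↥(WD D))).1 h2
  exact ⟨ω.1, fun h => hω (Subtype.ext h), ω.2⟩

/-- powers of a transcendental element in `L(lB)` -/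
theorem succ_le_ell_nsmul (hK : IsFunctionField k K) {x : K} (hx : Transcendental k x)
    (B : Divisor k K) (hB : 0 ≤ B) (hxB : x ∈ L B) (l : ℕ) : l + 1 ≤ ell (l • B) := by
  classical
  have hmem : ∀ i : Fin (l + 1), x ^ (i : ℕ) ∈ L (l • B) := by
    intro i
    refine (mem_L_iff _ _).2 fun P => ?_
    have hBP : (1 : WithZero (Multiplicative ℤ)) ≤ WithZero.exp (B P) := by
      rw [← WithZero.exp_zero]
      exact WithZero.exp_le_exp.2 (hB P)
    rw [nsmul_apply', ← nsmul_eq_mul, WithZero.exp_nsmul, map_pow]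
    exact (pow_le_pow_left' (hxB P) _).trans (pow_le_pow_right' hBP (Nat.lt_succ_iff.1 i.2))
  have hb : LinearIndependent k
      (fun i : Fin (l + 1) => (IntermediateField.AdjoinSimple.gen k x) ^ (i : ℕ)) :=
    (linearIndependent_gen_pow hx).comp _ Fin.val_injective
  have hb' := hb.map' (IntermediateField.val (IntermediateField.adjoin k ({x} : Set K))).toLinearMap
    (LinearMap.ker_eq_bot.2 (fun a b h => Subtype.ext h))
  let v : Fin (l + 1) → ↥(L (l • B)) := fun i => ⟨x ^ (i : ℕ), hmem i⟩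
  have hv : LinearIndependent k v := by
    apply LinearIndependent.of_comp (L (l • B)).subtype
    exact hb'
  haveI := L_finite hK (l • B)
  have h1 := hv.fintype_card_le_finrank
  rw [Fintype.card_fin] at h1
  exact h1

end Groth.Agent.Lib.lead.FF9
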