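import Mathlib
import Groth.Prelude.Def_W4bk4goldsch23FF
import Groth.Agent.Lib.lead.FF
import Groth.Agent.Lib.lead.FF2
import Groth.Agent.Lib.lead.FF3
import Groth.Agent.Lib.lead.FF4
import Groth.Agent.Lib.lead.FF5
import Groth.Agent.Lib.lead.FF6
import Groth.Agent.Lib.lead.FF7
import Groth.Agent.Lib.lead.FF8
import Groth.Agent.Lib.lead.FF9

/-! Weil differentials, canonical divisors, the Riemann–Roch theorem. -/

namespace Groth.Agent.Lib.lead.FF10
open FunFld Groth.Agent.Lib.lead.FF Groth.Agent.Lib.lead.FF2 Groth.Agent.Lib.lead.FF3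
  Groth.Agent.Lib.lead.FF4
  Groth.Agent.Lib.lead.FF5 Groth.Agent.Lib.lead.FF6 Groth.Agent.Lib.lead.FF7
  Groth.Agent.Lib.lead.FF8 Groth.Agent.Lib.lead.FF9

section Abstract
variable {k : Type*} [Field k]

lemma exists_common {V M₁ M₂ : Type*} [AddCommGroup V] [Module k V] [Module.Finite k V]
    [AddCommGroup M₁] [Module k M₁] [AddCommGroup M₂] [Module k M₂] [Module.Finite k M₁]
    [Module.Finite k M₂] (f₁ : M₁ →ₗ[k] V) (f₂ : M₂ →ₗ[k] V) (h₁ : Function.Injective f₁)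
    (hdim : Module.finrank k V < Module.finrank k M₁ + Module.finrank k M₂) :
    ∃ y₁ y₂, f₁ y₁ = f₂ y₂ ∧ y₂ ≠ 0 := by
  have hni : ¬ Function.Injective (f₁.coprod (-f₂)) := by
    intro hinj
    have h := LinearMap.finrank_le_finrank_of_injective hinj
    rw [Module.finrank_prod] at h
    omega
  rw [Function.not_injective_iff] at hni
  obtain ⟨a, b, hab, hne⟩ := hni
  have h2 : (f₁.coprod (-f₂)) (a - b) = 0 := by rw [map_sub, hab, sub_self]
  rw [LinearMap.coprod_apply, LinearMap.neg_apply, ← sub_eq_add_neg, sub_eq_zero] at h2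
  refine ⟨(a - b).1, (a - b).2, h2, ?_⟩
  intro h0
  rw [h0, map_zero] at h2
  have h3 : (a - b).1 = 0 := h₁ (by rw [h2, map_zero])
  apply hne
  have h4 : a - b = 0 := Prod.ext h3 h0
  exact sub_eq_zero.1 h4

end Abstract

variable {k K : Type*} [Field k] [Field K] [Algebra k K]

lemma smul_mem_adele (hK : IsFunctionField k K) (x : K) :
    ∀ a ∈ adele k K, x • a ∈ adele k K := by
  intro a ha
  have ha' : ∀ᶠ P : Place k K in Filter.cofinite, P.1 (a P) ≤ 1 := ha
  have hx' : ∀ᶠ P : Place k K in Filter.cofinite, P.1 (diag k K x P) ≤ 1 :=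
    diag_mem_adele hK x
  show ∀ᶠ P : Place k K in Filter.cofinite, P.1 ((x • a) P) ≤ 1
  refine (hx'.and ha').mono fun P h => ?_
  rw [Pi.smul_apply, smul_eq_mul, map_mul]
  exact mul_le_one' h.1 h.2

lemma mulW_apply (x : K) (hx : ∀ a ∈ adele k K, x • a ∈ adele k K)
    (ω : Module.Dual k (adele k K)) (a : ↥(adele k K)) :
    mulW x hx ω a = ω ⟨x • (a : Place k K → K), hx a.1 a.2⟩ := rfl

lemma mulW_congr {x y : K} (hxy : x = y) (hx : ∀ a ∈ adele k K, x • a ∈ adele k K)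
    (hy : ∀ a ∈ adele k K, y • a ∈ adele k K) (ω : Module.Dual k (adele k K)) :
    mulW x hx ω = mulW y hy ω := by
  subst hxy
  rfl

lemma mulW_zero (hx : ∀ a ∈ adele k K, (0 : K) • a ∈ adele k K)
    (ω : Module.Dual k (adele k K)) : mulW (0 : K) hx ω = 0 := by
  ext a
  rw [mulW_apply]
  have h : (⟨(0 : K) • (a : Place k K → K), hx a.1 a.2⟩ : ↥(adele k K)) = 0 :=
    Subtype.ext (zero_smul K _)
  rw [h, map_zero]
  rfl

lemma mulW_one (h1 : ∀ a ∈ adele k K, (1 : K) • a ∈ adele k K)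
    (ω : Module.Dual k (adele k K)) : mulW (1 : K) h1 ω = ω := by
  ext a
  rw [mulW_apply]
  congr 1
  exact Subtype.ext (one_smul K _)

lemma mulW_add (x y : K) (hx : ∀ a ∈ adele k K, x • a ∈ adele k K)
    (hy : ∀ a ∈ adele k K, y • a ∈ adele k K) (hxy : ∀ a ∈ adele k K, (x + y) • a ∈ adele k K)
    (ω : Module.Dual k (adele k K)) : mulW (x + y) hxy ω = mulW x hx ω + mulW y hy ω := by
  ext a
  rw [LinearMap.add_apply, mulW_apply, mulW_apply, mulW_apply, ← map_add]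
  congr 1
  exact Subtype.ext (add_smul x y _)

lemma mulW_smul (c : k) (x : K) (hx : ∀ a ∈ adele k K, x • a ∈ adele k K)
    (hcx : ∀ a ∈ adele k K, (c • x) • a ∈ adele k K)
    (ω : Module.Dual k (adele k K)) : mulW (c • x) hcx ω = c • mulW x hx ω := by
  ext a
  rw [LinearMap.smul_apply, mulW_apply, mulW_apply, ← map_smul]
  congr 1
  exact Subtype.ext (smul_assoc c x _)

lemma mulW_mulW (x y : K) (hx : ∀ a ∈ adele k K, x • a ∈ adele k K)
    (hy : ∀ a ∈ adele k K, y • a ∈ adele k K) (hyx : ∀ a ∈ adele k K, (y * x) • a ∈ adele k K)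
    (ω : Module.Dual k (adele k K)) : mulW x hx (mulW y hy ω) = mulW (y * x) hyx ω := by
  ext a
  rw [mulW_apply, mulW_apply, mulW_apply]
  congr 1
  exact Subtype.ext (smul_smul y x _)

lemma mulW_eq_zero (hK : IsFunctionField k K) {x : K} (hx0 : x ≠ 0)
    (hx : ∀ a ∈ adele k K, x • a ∈ adele k K) {ω : Module.Dual k (adele k K)}
    (h : mulW x hx ω = 0) : ω = 0 := by
  ext a
  have h1 : mulW x hx ω ⟨x⁻¹ • (a : Place k K → K), smul_mem_adele hK x⁻¹ a.1 a.2⟩ = 0 := by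
    rw [h]
    rfl
  rw [mulW_apply] at h1
  have h2 : (⟨x • (x⁻¹ • (a : Place k K → K)),
      hx _ (smul_mem_adele hK x⁻¹ a.1 a.2)⟩ : ↥(adele k K)) = a :=
    Subtype.ext (smul_inv_smul₀ hx0 _)
  rw [h2] at h1
  rw [h1]
  rfl

lemma mem_WD_iff (hK : IsFunctionField k K) (ω : Module.Dual k (adele k K)) (D : Divisor k K) :
    ω ∈ WD D ↔ (∀ (a : Place k K → K) (ha : a ∈ AD D), ω ⟨a, AD_le_adele D ha⟩ = 0) ∧
      (∀ x : K, ω ⟨diag k K x, diag_mem_adele hK x⟩ = 0) := by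
  unfold WD
  rw [Submodule.mem_dualAnnihilator]
  constructor
  · intro h
    refine ⟨fun a ha => h _ ?_, fun x => h _ ?_⟩
    · show a ∈ UD D
      exact Submodule.mem_sup_left ha
    · show diag k K x ∈ UD D
      exact Submodule.mem_sup_right ⟨x, rfl⟩
  · rintro ⟨h1, h2⟩ b hb
    have hb' : (b : Place k K → K) ∈ UD D := hb
    obtain ⟨a, ha, c, ⟨x, rfl⟩, hab⟩ := Submodule.mem_sup.1 hb'
    have hb2 : b = ⟨a, AD_le_adele D ha⟩ + ⟨diag k K x, diag_mem_adele hK x⟩ :=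
      Subtype.ext hab.symm
    rw [hb2, map_add, h1 a ha, h2 x, add_zero]

lemma WD_anti {D D' : Divisor k K} (h : D ≤ D') : WD D' ≤ WD D := by
  apply Submodule.dualAnnihilator_anti
  intro a ha
  have ha' : (a : Place k K → K) ∈ UD D := ha
  show (a : Place k K → K) ∈ UD D'
  exact sup_le_sup_right (AD_mono h) _ ha'

theorem exists_ADK_eq_top (hK : IsFunctionField k K) :
    ∃ N : ℤ, ∀ D : Divisor k K, N ≤ D.deg → ADK D = ⊤ := by
  obtain ⟨-, N, hN⟩ := riemann hK
  refine ⟨N, fun D hD => ?_⟩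
  obtain ⟨hfin, hdim⟩ := adele_quot_dim' hK D
  rw [hN D hD, sub_self] at hdim
  haveI := hfin
  have h0 : Module.finrank k (↥(adele k K) ⧸ ADK D) = 0 := by exact_mod_cast hdim
  haveI : Subsingleton (↥(adele k K) ⧸ ADK D) := Module.finrank_zero_iff.1 h0
  exact Submodule.Quotient.subsingleton_iff.1 inferInstance

/-- A nonzero Weil differential has a divisor. -/
theorem exists_divisor (hK : IsFunctionField k K) (ω : Module.Dual k (adele k K))
    (hω : IsWeil ω) (h0 : ω ≠ 0) : ∃ C : Divisor k K, IsDivOf ω C := by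
  classical
  obtain ⟨N, hN⟩ := exists_ADK_eq_top hK
  have hbdd : ∀ D : Divisor k K, ω ∈ WD D → D.deg < N := by
    intro D hD
    by_contra hcon
    push Not at hcon
    apply h0
    have htop := hN D hcon
    ext a
    have ha : a ∈ ADK D := by
      rw [htop]
      trivial
    exact (Submodule.mem_dualAnnihilator ω).1 hD a ha
  obtain ⟨d, ⟨W, hW, hWd⟩, hmax⟩ := Int.exists_greatest_of_bdd
    (P := fun z => ∃ D : Divisor k K, ω ∈ WD D ∧ D.deg = z)
    ⟨N, fun z ⟨D, hD, hz⟩ => hz ▸ (hbdd D hD).le⟩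
    (by
      obtain ⟨D, hD⟩ := hω
      exact ⟨D.deg, D, hD, rfl⟩)
  refine ⟨W, fun E => ⟨fun hE => ?_, fun hE => WD_anti hE hW⟩⟩
  by_contra hcon
  have hex : ∃ Q, W Q < E Q := by
    by_contra h'
    push Not at h'
    exact hcon (fun Q => h' Q)
  obtain ⟨Q, hQ⟩ := hex
  have hW' : ω ∈ WD (W + Finsupp.single Q 1) := by
    rw [mem_WD_iff hK]
    obtain ⟨hW1, hW2⟩ := (mem_WD_iff hK ω W).1 hW
    obtain ⟨hE1, -⟩ := (mem_WD_iff hK ω E).1 hE
    refine ⟨fun a ha => ?_, hW2⟩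
    have ha1 : Function.update a Q 0 ∈ AD W := by
      refine (mem_AD_iff _ _).2 fun P => ?_
      by_cases hP : P = Q
      · rw [hP, Function.update_self, map_zero]
        exact zero_le'
      · rw [Function.update_of_ne hP]
        have h1 := (mem_AD_iff _ _).1 ha P
        rwa [Finsupp.add_apply, Finsupp.single_apply, if_neg (Ne.symm hP), add_zero] at h1
    have ha2 : (Pi.single Q (a Q) : Place k K → K) ∈ AD E := by
      refine (mem_AD_iff _ _).2 fun P => ?_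
      by_cases hP : P = Q
      · rw [hP, Pi.single_eq_same]
        have h1 := (mem_AD_iff _ _).1 ha Q
        rw [Finsupp.add_apply, Finsupp.single_eq_same] at h1
        exact h1.trans (WithZero.exp_le_exp.2 (by omega))
      · rw [Pi.single_eq_of_ne hP, map_zero]
        exact zero_le'
    have hsum : (⟨a, AD_le_adele _ ha⟩ : ↥(adele k K)) =
        ⟨Function.update a Q 0, AD_le_adele _ ha1⟩ +
          ⟨Pi.single Q (a Q), AD_le_adele _ ha2⟩ := by
      apply Subtype.ext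
      funext P
      show a P = Function.update a Q 0 P + (Pi.single Q (a Q) : Place k K → K) P
      by_cases hP : P = Q
      · rw [hP, Function.update_self, Pi.single_eq_same, zero_add]
      · rw [Function.update_of_ne hP, Pi.single_eq_of_ne hP, add_zero]
    rw [hsum, map_add, hW1 _ ha1, hE1 _ ha2, add_zero]
  have h1 := hmax _ ⟨_, hW', rfl⟩
  rw [deg_add, deg_single, one_mul, ← hWd] at h1
  have h2 : (1 : ℤ) ≤ Q.deg := by exact_mod_cast deg_pos hK Q
  linarith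

lemma div_inv (hK : IsFunctionField k K) (x : K) : FunFld.div k x⁻¹ = -FunFld.div k x := by
  ext P
  rw [Finsupp.neg_apply, div_apply hK, div_apply hK, ord_inv]

lemma smul_mem_AD (hK : IsFunctionField k K) {x : K} (hx0 : x ≠ 0) {E : Divisor k K}
    {a : Place k K → K} (ha : a ∈ AD E) : x • a ∈ AD (E - FunFld.div k x) := by
  refine (mem_AD_iff _ _).2 fun P => ?_
  rw [Pi.smul_apply, smul_eq_mul, map_mul, Finsupp.sub_apply, div_apply hK, val_eq_exp P hx0]
  have h1 := (mem_AD_iff _ _).1 ha P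
  calc WithZero.exp (-(P.ord x)) * P.1 (a P)
      ≤ WithZero.exp (-(P.ord x)) * WithZero.exp (E P) := mul_le_mul' le_rfl h1
    _ = WithZero.exp (E P - P.ord x) := by
        rw [← WithZero.exp_add]
        congr 1
        ring

theorem mulW_mem_WD_iff (hK : IsFunctionField k K) {x : K} (hx0 : x ≠ 0)
    (hx : ∀ a ∈ adele k K, x • a ∈ adele k K) (ω : Module.Dual k (adele k K))
    (E : Divisor k K) : mulW x hx ω ∈ WD E ↔ ω ∈ WD (E - FunFld.div k x) := by
  rw [mem_WD_iff hK, mem_WD_iff hK]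
  constructor
  · rintro ⟨h1, h2⟩
    refine ⟨fun a ha => ?_, fun y => ?_⟩
    · have ha' : x⁻¹ • a ∈ AD E := by
        have h3 := smul_mem_AD hK (inv_ne_zero hx0) ha
        rwa [div_inv hK, sub_neg_eq_add, sub_add_cancel] at h3
      have h3 := h1 _ ha'
      rw [mulW_apply] at h3
      have h4 : (⟨a, AD_le_adele _ ha⟩ : ↥(adele k K)) =
          ⟨x • (x⁻¹ • a), hx _ (AD_le_adele E ha')⟩ :=
        Subtype.ext (smul_inv_smul₀ hx0 a).symm
      rw [h4]
      exact h3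
    · have h3 := h2 (x⁻¹ * y)
      rw [mulW_apply] at h3
      have h4 : (⟨diag k K y, diag_mem_adele hK y⟩ : ↥(adele k K)) =
          ⟨x • (diag k K (x⁻¹ * y)), hx _ (diag_mem_adele hK _)⟩ := by
        apply Subtype.ext
        funext P
        show y = x * (x⁻¹ * y)
        exact (mul_inv_cancel_left₀ hx0 y).symm
      rw [h4]
      exact h3
  · rintro ⟨h1, h2⟩
    refine ⟨fun a ha => ?_, fun y => ?_⟩
    · rw [mulW_apply]
      exact h1 _ (smul_mem_AD hK hx0 ha)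
    · rw [mulW_apply]
      have h4 : (⟨x • (diag k K y), hx _ (diag_mem_adele hK y)⟩ : ↥(adele k K)) =
          ⟨diag k K (x * y), diag_mem_adele hK _⟩ := by
        apply Subtype.ext
        funext P
        rfl
      rw [h4]
      exact h2 _

theorem isDivOf_mulW (hK : IsFunctionField k K) {x : K} (hx0 : x ≠ 0)
    (hx : ∀ a ∈ adele k K, x • a ∈ adele k K) {ω : Module.Dual k (adele k K)}
    {C : Divisor k K} (hω : IsDivOf ω C) : IsDivOf (mulW x hx ω) (C + FunFld.div k x) := by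
  intro E
  rw [mulW_mem_WD_iff hK hx0, hω (E - FunFld.div k x), sub_le_iff_le_add]

lemma mulW_mem (hK : IsFunctionField k K) {ω : Module.Dual k (adele k K)} {D E : Divisor k K}
    (hω : ω ∈ WD D) {y : K} (hy : y ∈ L (D - E)) :
    mulW y (smul_mem_adele hK y) ω ∈ WD E := by
  rcases eq_or_ne y 0 with rfl | hy0
  · rw [mulW_zero]
    exact Submodule.zero_mem _
  · rw [mulW_mem_WD_iff hK hy0]
    refine WD_anti ?_ hω
    intro P
    have h1 := (val_le_exp_iff P hy0 _).1 ((mem_L_iff _ _).1 hy P)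
    rw [Finsupp.sub_apply] at h1
    rw [Finsupp.sub_apply, div_apply hK]
    linarith

/-- `y ↦ yω` as a linear map `L(D - E) → W(E)` for `ω ∈ W(D)`. -/
noncomputable def phi (hK : IsFunctionField k K) {ω : Module.Dual k (adele k K)}
    {D : Divisor k K} (hω : ω ∈ WD D) (E : Divisor k K) : ↥(L (D - E)) →ₗ[k] ↥(WD E) where
  toFun y := ⟨mulW y.1 (smul_mem_adele hK y.1) ω, mulW_mem hK hω y.2⟩
  map_add' y y' := Subtype.ext (mulW_add y.1 y'.1 (smul_mem_adele hK _) (smul_mem_adele hK _)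
    (smul_mem_adele hK _) ω)
  map_smul' c y := Subtype.ext (mulW_smul c y.1 (smul_mem_adele hK _) (smul_mem_adele hK _) ω)

lemma phi_apply (hK : IsFunctionField k K) {ω : Module.Dual k (adele k K)}
    {D : Divisor k K} (hω : ω ∈ WD D) (E : Divisor k K) (y : ↥(L (D - E))) :
    ((phi hK hω E y : ↥(WD E)) : Module.Dual k (adele k K)) =
      mulW y.1 (smul_mem_adele hK y.1) ω := rfl

lemma phi_injective (hK : IsFunctionField k K) {ω : Module.Dual k (adele k K)}
    {D : Divisor k K} (hω : ω ∈ WD D) (h0 : ω ≠ 0) (E : Divisor k K) :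
    Function.Injective (phi hK hω E) := by
  intro y y' hyy'
  by_contra hne
  have hsub : phi hK hω E (y - y') = 0 := by rw [map_sub, hyy', sub_self]
  have hy0 : ((y - y' : ↥(L (D - E))) : K) ≠ 0 :=
    fun h => hne (sub_eq_zero.1 (Subtype.ext h))
  have h1 : mulW (y - y').1 (smul_mem_adele hK _) ω = 0 := by
    rw [← phi_apply hK hω E (y - y'), hsub]
    rfl
  exact h0 (mulW_eq_zero hK hy0 _ h1)

/-- `dim_K W_K = 1`. -/
theorem exists_mulW_eq (hK : IsFunctionField k K) (ω₁ ω₂ : Module.Dual k (adele k K))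
    (h₁ : IsWeil ω₁) (h0 : ω₁ ≠ 0) (h₂ : IsWeil ω₂) :
    ∃ x : K, mulW x (smul_mem_adele hK x) ω₁ = ω₂ := by
  classical
  by_cases h20 : ω₂ = 0
  · refine ⟨0, ?_⟩
    rw [h20]
    exact mulW_zero _ _
  obtain ⟨D₁, hD₁⟩ := h₁
  obtain ⟨D₂, hD₂⟩ := h₂
  obtain ⟨x₀, hx₀, -⟩ := hK.1
  obtain ⟨P₀, -⟩ := exists_place_lt_one hK hx₀
  obtain ⟨hR, -⟩ := riemann hK
  obtain ⟨m, hm1, hm2⟩ : ∃ m : ℕ, 3 * (genus k K : ℤ) - D₁.deg - D₂.deg + 1 ≤ (m : ℤ) ∧
      (1 : ℤ) ≤ (m : ℤ) := by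
    refine ⟨(3 * (genus k K : ℤ) - D₁.deg - D₂.deg + 1).toNat + 1, ?_, ?_⟩
    · have h := Int.self_le_toNat (3 * (genus k K : ℤ) - D₁.deg - D₂.deg + 1)
      push_cast
      linarith
    · push_cast
      have h := Int.natCast_nonneg (3 * (genus k K : ℤ) - D₁.deg - D₂.deg + 1).toNat
      linarith
  obtain ⟨B, hB⟩ : ∃ B : Divisor k K, B = m • Finsupp.single P₀ 1 := ⟨_, rfl⟩
  have hBdeg : (m : ℤ) ≤ B.deg := by
    rw [hB, deg_nsmul, deg_single, one_mul]
    have h2 : (1 : ℤ) ≤ P₀.deg := by exact_mod_cast deg_pos hK P₀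
    nlinarith [Int.natCast_nonneg m]
  obtain ⟨hWfin, hWdim⟩ := WD_dim hK (-B)
  have hLB : ell (-B) = 0 := by
    unfold ell
    rw [L_eq_bot_of_deg_neg hK (-B) (by rw [deg_neg]; linarith)]
    exact finrank_bot k K
  rw [deg_neg, hLB] at hWdim
  haveI := hWfin
  haveI := L_finite hK (D₁ - -B)
  haveI := L_finite hK (D₂ - -B)
  have hl₁ := hR (D₁ - -B)
  have hl₂ := hR (D₂ - -B)
  rw [deg_sub, deg_neg] at hl₁ hl₂
  have hdim : Module.finrank k ↥(WD (-B)) <
      Module.finrank k ↥(L (D₁ - -B)) + Module.finrank k ↥(L (D₂ - -B)) := by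
    have e1 : (Module.finrank k ↥(L (D₁ - -B)) : ℤ) = ell (D₁ - -B) := rfl
    have e2 : (Module.finrank k ↥(L (D₂ - -B)) : ℤ) = ell (D₂ - -B) := rfl
    have e3 : (Module.finrank k ↥(WD (-B)) : ℤ) <
        (Module.finrank k ↥(L (D₁ - -B)) : ℤ) + Module.finrank k ↥(L (D₂ - -B)) := by
      rw [e1, e2, hWdim]
      push_cast
      linarith
    exact_mod_cast e3
  have hex : ∃ (y₁ : ↥(L (D₁ - -B))) (y₂ : ↥(L (D₂ - -B))),
      phi hK hD₁ (-B) y₁ = phi hK hD₂ (-B) y₂ ∧ y₂ ≠ 0 := by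
    exact exists_common (V := ↥(WD (-B))) (M₁ := ↥(L (D₁ - -B))) (M₂ := ↥(L (D₂ - -B)))
      (phi hK hD₁ (-B)) (phi hK hD₂ (-B)) (phi_injective hK hD₁ h0 _) hdim
  obtain ⟨y₁, y₂, heq', hy₂⟩ := hex
  have hy₂0 : (y₂ : K) ≠ 0 := fun h => hy₂ (Subtype.ext h)
  have heq : mulW (y₁ : K) (smul_mem_adele hK _) ω₁ =
      mulW (y₂ : K) (smul_mem_adele hK _) ω₂ := congrArg Subtype.val heq'
  refine ⟨(y₁ : K) * (y₂ : K)⁻¹, ?_⟩
  have h3 := congrArg (mulW (y₂ : K)⁻¹ (smul_mem_adele hK _)) heq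
  rw [mulW_mulW _ _ _ _ (smul_mem_adele hK _), mulW_mulW _ _ _ _ (smul_mem_adele hK _)] at h3
  rw [h3, mulW_congr (mul_inv_cancel₀ hy₂0) _ (smul_mem_adele hK 1), mulW_one]

lemma isDivOf_unique {ω : Module.Dual k (adele k K)} {C C' : Divisor k K}
    (h : IsDivOf ω C) (h' : IsDivOf ω C') : C = C' :=
  le_antisymm ((h' C).1 ((h C).2 le_rfl)) ((h C').1 ((h' C').2 le_rfl))

lemma ne_zero_of_isDivOf (hK : IsFunctionField k K) {ω : Module.Dual k (adele k K)}
    {C : Divisor k K} (h : IsDivOf ω C) : ω ≠ 0 := by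
  rintro rfl
  obtain ⟨x₀, hx₀, -⟩ := hK.1
  obtain ⟨P₀, -⟩ := exists_place_lt_one hK hx₀
  have h1 := (h (C + Finsupp.single P₀ 1)).1 (Submodule.zero_mem _)
  have h2 := h1 P₀
  rw [Finsupp.add_apply, Finsupp.single_eq_same] at h2
  omega

theorem canonical_equiv (hK : IsFunctionField k K) {C₁ C₂ : Divisor k K}
    (h₁ : IsCanonical k K C₁) (h₂ : IsCanonical k K C₂) :
    ∃ x : K, x ≠ 0 ∧ C₂ = C₁ + FunFld.div k x := by
  obtain ⟨ω₁, h10, hd₁⟩ := h₁
  obtain ⟨ω₂, h20, hd₂⟩ := h₂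
  have hw₁ : IsWeil ω₁ := ⟨C₁, (hd₁ C₁).2 le_rfl⟩
  have hw₂ : IsWeil ω₂ := ⟨C₂, (hd₂ C₂).2 le_rfl⟩
  obtain ⟨x, hx⟩ := exists_mulW_eq hK ω₁ ω₂ hw₁ h10 hw₂
  have hx0 : x ≠ 0 := by
    rintro rfl
    rw [mulW_zero] at hx
    exact h20 hx.symm
  refine ⟨x, hx0, ?_⟩
  have h3 := isDivOf_mulW hK hx0 (smul_mem_adele hK x) hd₁
  rw [hx] at h3
  exact isDivOf_unique hd₂ h3

theorem existsUnique_mulW (hK : IsFunctionField k K) (ω : Module.Dual k (adele k K))
    (C : Divisor k K) (hω : IsDivOf ω C) (D : Divisor k K)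
    (ω' : Module.Dual k (adele k K)) (hω' : ω' ∈ WD D) :
    ∃! x : K, x ∈ L (C - D) ∧ mulW x (smul_mem_adele hK x) ω = ω' := by
  have h0 := ne_zero_of_isDivOf hK hω
  have hw : IsWeil ω := ⟨C, (hω C).2 le_rfl⟩
  obtain ⟨x, hx⟩ := exists_mulW_eq hK ω ω' hw h0 ⟨D, hω'⟩
  refine ⟨x, ⟨?_, hx⟩, ?_⟩
  · rcases eq_or_ne x 0 with rfl | hx0
    · exact Submodule.zero_mem _
    · have h3 := isDivOf_mulW hK hx0 (smul_mem_adele hK x) hω
      rw [hx] at h3
      have h4 := (h3 D).1 hω'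
      refine (mem_L_iff _ _).2 fun P => ?_
      rw [val_le_exp_iff P hx0, Finsupp.sub_apply]
      have h5 := h4 P
      rw [Finsupp.add_apply, div_apply hK] at h5
      linarith
  · rintro y ⟨-, hy⟩
    by_contra hne
    have hsub : mulW (y - x) (smul_mem_adele hK _) ω = 0 := by
      have h5 : y - x + x = y := sub_add_cancel y x
      have h6 := mulW_add (y - x) x (smul_mem_adele hK _) (smul_mem_adele hK _)
        (smul_mem_adele hK _) ω
      rw [mulW_congr h5 _ (smul_mem_adele hK y), hy, hx] at h6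
      have h7 : mulW (y - x) (smul_mem_adele hK _) ω + ω' = 0 + ω' := by
        rw [zero_add]
        exact h6.symm
      exact add_right_cancel h7
    exact h0 (mulW_eq_zero hK (sub_ne_zero.2 hne) _ hsub)

/-- The Riemann–Roch theorem. -/
theorem riemann_roch (hK : IsFunctionField k K) {C : Divisor k K} (hC : IsCanonical k K C)
    (D : Divisor k K) :
    (ell D : ℤ) = D.deg + 1 - genus k K + ell (C - D) := by
  obtain ⟨ω, h0, hω⟩ := hC
  have hωC : ω ∈ WD C := (hω C).2 le_rfl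
  obtain ⟨hfin, hdim⟩ := WD_dim hK D
  have hsurj : Function.Surjective (phi hK hωC D) := by
    intro η
    obtain ⟨x, ⟨hxL, hx⟩, -⟩ := existsUnique_mulW hK ω C hω D η.1 η.2
    exact ⟨⟨x, hxL⟩, Subtype.ext hx⟩
  have e := (LinearEquiv.ofBijective _ ⟨phi_injective hK hωC h0 D, hsurj⟩).finrank_eq
  have e' : (ell (C - D) : ℤ) = Module.finrank k ↥(WD D) := by exact_mod_cast e
  linarith

theorem exists_canonical (hK : IsFunctionField k K) : ∃ W : Divisor k K, IsCanonical k K W := by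
  obtain ⟨x₀, hx₀, -⟩ := hK.1
  obtain ⟨P₀, -⟩ := exists_place_lt_one hK hx₀
  obtain ⟨D, hD⟩ : ∃ D : Divisor k K, D = -(2 • Finsupp.single P₀ 1) := ⟨_, rfl⟩
  have hdeg : D.deg ≤ -2 := by
    rw [hD, deg_neg, deg_nsmul, deg_single, one_mul]
    have h2 : (1 : ℤ) ≤ P₀.deg := by exact_mod_cast deg_pos hK P₀
    push_cast
    linarith
  obtain ⟨hfin, hdim⟩ := WD_dim hK D
  have hl : ell D = 0 := by
    unfold ell
    rw [L_eq_bot_of_deg_neg hK D (by linarith)]
    exact finrank_bot k K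
  rw [hl] at hdim
  have hpos : 0 < Module.finrank k (WD D) := by
    have h3 : (0 : ℤ) < Module.finrank k (WD D) := by
      rw [hdim]
      push_cast
      have h4 := Int.natCast_nonneg (genus k K)
      linarith
    exact_mod_cast h3
  haveI := hfin
  obtain ⟨ω, hω⟩ := (Module.finrank_pos_iff_exists_ne_zero (R := k) (M := ↥(WD D))).1 hpos
  have hω0 : (ω : Module.Dual k (adele k K)) ≠ 0 := fun h => hω (Subtype.ext h)
  obtain ⟨W, hW⟩ := exists_divisor hK ω.1 ⟨D, ω.2⟩ hω0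
  exact ⟨W, ω.1, hω0, hW⟩

theorem canonical_ell_deg (hK : IsFunctionField k K) {C : Divisor k K}
    (hC : IsCanonical k K C) :
    ell C = genus k K ∧ C.deg = 2 * (genus k K : ℤ) - 2 := by
  have h1 := riemann_roch hK hC 0
  have h2 := riemann_roch hK hC C
  rw [sub_zero, deg_zero, ell_zero hK] at h1
  rw [sub_self, ell_zero hK] at h2
  push_cast at h1 h2
  constructor
  · have h3 : (ell C : ℤ) = genus k K := by linarith
    exact_mod_cast h3
  · linarith

lemma eq_zero_of_nonneg_of_deg_zero (hK : IsFunctionField k K) {E : Divisor k K}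
    (hE : 0 ≤ E) (hdeg : E.deg = 0) : E = 0 := by
  classical
  by_contra hne
  obtain ⟨P₁, hP₁⟩ : ∃ P, E P ≠ 0 := by
    by_contra h
    push Not at h
    exact hne (Finsupp.ext h)
  have hpos : 1 ≤ E P₁ := by
    have h1 := hE P₁
    rw [Finsupp.zero_apply] at h1
    omega
  have hle : (Finsupp.single P₁ 1 : Divisor k K) ≤ E := by
    intro Q
    rw [Finsupp.single_apply]
    split_ifs with hQ
    · rw [← hQ]
      exact hpos
    · have h1 := hE Q
      rwa [Finsupp.zero_apply] at h1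
  have h1 := deg_mono hle
  rw [deg_single, one_mul, hdeg] at h1
  have h2 : (1 : ℤ) ≤ P₁.deg := by exact_mod_cast deg_pos hK P₁
  linarith

theorem canonical_of_ell_deg (hK : IsFunctionField k K) {C : Divisor k K}
    (h1 : ell C = genus k K) (h2 : C.deg = 2 * (genus k K : ℤ) - 2) : IsCanonical k K C := by
  obtain ⟨W, hW⟩ := exists_canonical hK
  obtain ⟨hWl, hWd⟩ := canonical_ell_deg hK hW
  have h3 := riemann_roch hK hW C
  rw [h1, h2] at h3
  have h4 : (1 : ℤ) ≤ ell (W - C) := by linarith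
  obtain ⟨z, hz0, hzL⟩ := exists_ne_zero_of_ell_pos hK h4
  have h5 : C - FunFld.div k z ≤ W := sub_div_le hK hz0 hzL
  have hE : (0 : Divisor k K) ≤ W - (C - FunFld.div k z) := sub_nonneg.2 h5
  have hEdeg : (W - (C - FunFld.div k z)).deg = 0 := by
    rw [deg_sub, deg_sub, deg_div hK, hWd, h2]
    ring
  have h6 := eq_zero_of_nonneg_of_deg_zero hK hE hEdeg
  have h7 : C = W + FunFld.div k z := by
    have h8 := sub_eq_zero.1 h6
    rw [h8]
    abel
  obtain ⟨ω, hω0, hω⟩ := hW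
  rw [h7]
  refine ⟨mulW z (smul_mem_adele hK z) ω, ?_, isDivOf_mulW hK hz0 _ hω⟩
  intro h
  exact hω0 (mulW_eq_zero hK hz0 _ h)

theorem ell_eq_of_deg_ge (hK : IsFunctionField k K) (D : Divisor k K)
    (h : 2 * (genus k K : ℤ) - 1 ≤ D.deg) :
    (ell D : ℤ) = D.deg + 1 - genus k K := by
  obtain ⟨W, hW⟩ := exists_canonical hK
  obtain ⟨-, hWd⟩ := canonical_ell_deg hK hW
  have h3 := riemann_roch hK hW D
  have hl : ell (W - D) = 0 := by
    unfold ell
    rw [L_eq_bot_of_deg_neg hK (W - D) (by rw [deg_sub, hWd]; linarith)]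
    exact finrank_bot k K
  rw [hl] at h3
  push_cast at h3
  linarith

end Groth.Agent.Lib.lead.FF10
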