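import Mathlib
import Groth.Prelude.Def_W4bk4goldsch23FF
import Groth.Agent.Lib.lead.FF
import Groth.Agent.Lib.lead.FF2
import Groth.Agent.Lib.lead.FF3
import Groth.Agent.Lib.lead.FF4
import Groth.Agent.Lib.lead.FF5
import Groth.Agent.Lib.lead.FF6
import Groth.Agent.Lib.lead.FF7
import Groth.Agent.Lib.lead.FF8
import Groth.Agent.Lib.lead.FF9
import Groth.Agent.Lib.lead.FF10
import Groth.Agent.S10996

/-! Rational function fields, strong approximation, genus one. -/

namespace Groth.Agent.Lib.lead.FF11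
open FunFld Groth.Agent.Lib.lead.FF Groth.Agent.Lib.lead.FF2 Groth.Agent.Lib.lead.FF3
  Groth.Agent.Lib.lead.FF4
  Groth.Agent.Lib.lead.FF5 Groth.Agent.Lib.lead.FF6 Groth.Agent.Lib.lead.FF7
  Groth.Agent.Lib.lead.FF8 Groth.Agent.Lib.lead.FF9 Groth.Agent.Lib.lead.FF10

variable {k K : Type*} [Field k] [Field K] [Algebra k K]

theorem adjoin_eq_top_of_pole (hK : IsFunctionField k K) {P : Place k K} (hP : P.deg = 1)
    {x : K} (hxL : x ∈ L (Finsupp.single P (1 : ℤ)))
    (hx : x ∉ Set.range (algebraMap k K)) :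
    IntermediateField.adjoin k ({x} : Set K) = ⊤ := by
  have hxtr : Transcendental k x := fun halg => hx (hK.2 x halg)
  have h1 := finrank_le_deg hK hxtr _ (single_one_nonneg P) hxL
  rw [deg_single, hP] at h1
  haveI := finite_of_transcendental hK hxtr
  have h2 : 0 < Module.finrank (IntermediateField.adjoin k ({x} : Set K)) K :=
    Module.finrank_pos
  rw [← IntermediateField.finrank_eq_one_iff_eq_top]
  have h3 : (Module.finrank (IntermediateField.adjoin k ({x} : Set K)) K : ℤ) ≤ 1 := by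
    simpa using h1
  omega

lemma mem_L_single_of_pole {P : Place k K} {x : K} (hord : P.ord x = -1)
    (hQ : ∀ Q : Place k K, Q ≠ P → 0 ≤ Q.ord x) : x ∈ L (Finsupp.single P (1 : ℤ)) := by
  classical
  have hx0 : x ≠ 0 := by
    rintro rfl
    rw [ord_zero] at hord
    omega
  refine (mem_L_iff _ _).2 fun Q => ?_
  rw [val_le_exp_iff Q hx0, Finsupp.single_apply]
  split_ifs with h
  · rw [← h, hord]
  · have h1 := hQ Q (Ne.symm h)
    omega

theorem transcendental_of_adjoin_eq_top (hK : IsFunctionField k K) {x : K}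
    (hx : IntermediateField.adjoin k ({x} : Set K) = ⊤) : Transcendental k x := by
  intro halg
  obtain ⟨x₀, hx₀, -⟩ := hK.1
  apply hx₀
  have h1 : Algebra.IsAlgebraic k (IntermediateField.adjoin k ({x} : Set K)) :=
    IntermediateField.isAlgebraic_adjoin_simple halg.isIntegral
  have h2 : x₀ ∈ IntermediateField.adjoin k ({x} : Set K) := by
    rw [hx]
    trivial
  have h3 : IsAlgebraic k (⟨x₀, h2⟩ : IntermediateField.adjoin k ({x} : Set K)) :=
    h1.isAlgebraic _
  exact h3.algebraMap (A := K)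

theorem exists_simple_pole (hK : IsFunctionField k K) {x : K}
    (hx : IntermediateField.adjoin k ({x} : Set K) = ⊤) :
    ∃ P : Place k K, P.deg = 1 ∧ P.ord x = -1 ∧ ∀ Q : Place k K, Q ≠ P → 0 ≤ Q.ord x := by
  classical
  have hxtr := transcendental_of_adjoin_eq_top hK hx
  have hxi := transcendental_inv hxtr
  have hx0 := ne_zero_of_transcendental hxtr
  have hS : ∀ P, P ∈ (finite_zeros hK hxi).toFinset ↔ P.1 x⁻¹ < 1 := by
    intro P
    rw [Set.Finite.mem_toFinset]
    exact Iff.rfl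
  have hsum := sum_zeros_eq hK hxi _ hS
  rw [adjoin_inv, hx, IntermediateField.finrank_top, Nat.cast_one] at hsum
  have hterm : ∀ P ∈ (finite_zeros hK hxi).toFinset, 1 ≤ P.ord x⁻¹ * (P.deg : ℤ) := by
    intro P hP
    have h3 : 0 < P.ord x⁻¹ := (ord_pos_iff P (inv_ne_zero hx0)).2 ((hS P).1 hP)
    have h4 : (1 : ℤ) ≤ (P.deg : ℤ) := by exact_mod_cast deg_pos hK P
    nlinarith
  have hne : (finite_zeros hK hxi).toFinset.Nonempty := by
    by_contra h
    rw [Finset.not_nonempty_iff_eq_empty] at h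
    rw [h, Finset.sum_empty] at hsum
    norm_num at hsum
  obtain ⟨P, hP⟩ := hne
  have hP1 : P.ord x⁻¹ * (P.deg : ℤ) ≤ 1 := by
    have h := Finset.single_le_sum (f := fun P : Place k K => P.ord x⁻¹ * (P.deg : ℤ))
      (fun Q hQ => le_trans zero_le_one (hterm Q hQ)) hP
    rw [hsum] at h
    exact h
  have h3 : 0 < P.ord x⁻¹ := (ord_pos_iff P (inv_ne_zero hx0)).2 ((hS P).1 hP)
  have h4 : (1 : ℤ) ≤ (P.deg : ℤ) := by exact_mod_cast deg_pos hK P
  have h7 : P.ord x⁻¹ * 1 ≤ P.ord x⁻¹ * (P.deg : ℤ) := mul_le_mul_of_nonneg_left h4 h3.le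
  have h5 : P.ord x⁻¹ = 1 := by omega
  have h6 : (P.deg : ℤ) = 1 := by
    rw [h5, one_mul] at hP1
    omega
  refine ⟨P, by exact_mod_cast h6, by rw [ord_inv] at h5; omega, fun Q hQ => ?_⟩
  by_contra hneg
  push Not at hneg
  have hQS : Q ∈ (finite_zeros hK hxi).toFinset := by
    rw [hS, ← ord_pos_iff Q (inv_ne_zero hx0), ord_inv]
    omega
  have hsub : ({P, Q} : Finset (Place k K)) ⊆ (finite_zeros hK hxi).toFinset := by
    intro R hR
    rcases Finset.mem_insert.1 hR with h | h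
    · rw [h]
      exact hP
    · rw [Finset.mem_singleton.1 h]
      exact hQS
  have hle := Finset.sum_le_sum_of_subset_of_nonneg
    (f := fun P : Place k K => P.ord x⁻¹ * (P.deg : ℤ)) hsub
    (fun R hR _ => le_trans zero_le_one (hterm R hR))
  rw [Finset.sum_pair (Ne.symm hQ), hsum] at hle
  have h8 := hterm P hP
  have h9 := hterm Q hQS
  linarith

/-- S10995 -/
theorem pole_iff_rational (hK : IsFunctionField k K) :
    (∃ (x : K) (P : Place k K), P.deg = 1 ∧ P.ord x = -1 ∧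
        ∀ Q : Place k K, Q ≠ P → 0 ≤ Q.ord x) ↔
      ∃ x : K, IntermediateField.adjoin k ({x} : Set K) = ⊤ := by
  constructor
  · rintro ⟨x, P, hP, hord, hQ⟩
    refine ⟨x, adjoin_eq_top_of_pole hK hP (mem_L_single_of_pole hord hQ) ?_⟩
    rintro ⟨c, rfl⟩
    rw [ord_algebraMap] at hord
    omega
  · rintro ⟨x, hx⟩
    obtain ⟨P, h1, h2, h3⟩ := exists_simple_pole hK hx
    exact ⟨x, P, h1, h2, h3⟩

/-- S10994 -/
theorem genus_zero_iff_rational (hK : IsFunctionField k K) :
    (genus k K = 0 ∧ ∃ P : Place k K, P.deg = 1) ↔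
      ∃ x : K, IntermediateField.adjoin k ({x} : Set K) = ⊤ := by
  constructor
  · rintro ⟨hg, P, hP⟩
    have h1 := ell_eq_of_deg_ge hK (Finsupp.single P (1 : ℤ))
      (by rw [hg, deg_single, hP]; norm_num)
    rw [hg, deg_single, hP] at h1
    have h2 : ell (Finsupp.single P (1 : ℤ) : Divisor k K) = 2 := by
      have h3 : (ell (Finsupp.single P (1 : ℤ) : Divisor k K) : ℤ) = 2 := by
        rw [h1]
        norm_num
      exact_mod_cast h3
    have hnle : ¬ L (Finsupp.single P (1 : ℤ) : Divisor k K) ≤ L (0 : Divisor k K) := by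
      intro hle
      haveI := L_zero_finite hK
      have h3 := Submodule.finrank_mono hle
      have h4 : ell (Finsupp.single P (1 : ℤ) : Divisor k K) ≤ ell (0 : Divisor k K) := h3
      rw [h2, ell_zero hK] at h4
      omega
    obtain ⟨x, hxL, hx0⟩ := SetLike.not_le_iff_exists.1 hnle
    refine ⟨x, adjoin_eq_top_of_pole hK hP hxL ?_⟩
    intro hx
    apply hx0
    rw [L_zero hK, Submodule.mem_one]
    exact hx
  · rintro ⟨x, hx⟩
    obtain ⟨P, hP, hord, hQ⟩ := exists_simple_pole hK hx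
    refine ⟨?_, P, hP⟩
    have hxtr := transcendental_of_adjoin_eq_top hK hx
    have hxB := mem_L_single_of_pole hord hQ
    obtain ⟨-, N, hN⟩ := riemann hK
    obtain ⟨l, hl⟩ : ∃ l : ℕ, N ≤ (l : ℤ) := ⟨N.toNat, Int.self_le_toNat N⟩
    have h3 := succ_le_ell_nsmul hK hxtr _ (single_one_nonneg P) hxB l
    have hdegl : FunFld.Divisor.deg (l • (Finsupp.single P 1 : Divisor k K)) = l := by
      rw [deg_nsmul, deg_single, hP]
      norm_num
    have h4 := hN (l • Finsupp.single P 1) (by rw [hdegl]; exact hl)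
    rw [hdegl] at h4
    have h5 : ((l + 1 : ℕ) : ℤ) ≤ (ell (l • (Finsupp.single P 1 : Divisor k K)) : ℤ) := by
      exact_mod_cast h3
    push_cast at h5
    have h6 : (genus k K : ℤ) ≤ 0 := by linarith
    have h7 : (0 : ℤ) ≤ (genus k K : ℤ) := Int.natCast_nonneg _
    have h8 : (genus k K : ℤ) = 0 := le_antisymm h6 h7
    exact_mod_cast h8

lemma div_mul (hK : IsFunctionField k K) {x y : K} (hx : x ≠ 0) (hy : y ≠ 0) :
    FunFld.div k (x * y) = FunFld.div k x + FunFld.div k y := by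
  ext P
  rw [Finsupp.add_apply, div_apply hK, div_apply hK, div_apply hK, ord_mul P hx hy]

lemma single_le_of_pos {E : Divisor k K} {P : Place k K} (hE : 0 ≤ E) (hpos : 1 ≤ E P) :
    (Finsupp.single P 1 : Divisor k K) ≤ E := by
  classical
  intro Q
  rw [Finsupp.single_apply]
  split_ifs with hQ
  · rw [← hQ]
    exact hpos
  · have h1 := hE Q
    rwa [Finsupp.zero_apply] at h1

lemma eq_single_of_nonneg_of_deg_one (hK : IsFunctionField k K) {E : Divisor k K}
    (hE : 0 ≤ E) (hdeg : E.deg = 1) :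
    ∃ P : Place k K, E = Finsupp.single P 1 ∧ P.deg = 1 := by
  classical
  have hne : E ≠ 0 := by
    rintro rfl
    rw [deg_zero] at hdeg
    norm_num at hdeg
  obtain ⟨P, hP⟩ : ∃ P, E P ≠ 0 := by
    by_contra h
    push Not at h
    exact hne (Finsupp.ext h)
  have hpos : 1 ≤ E P := by
    have h1 := hE P
    rw [Finsupp.zero_apply] at h1
    omega
  have hle := single_le_of_pos hE hpos
  have hE' : (0 : Divisor k K) ≤ E - Finsupp.single P 1 := sub_nonneg.2 hle
  have hdeg' : FunFld.Divisor.deg (E - Finsupp.single P 1) = 1 - (P.deg : ℤ) := by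
    rw [deg_sub, deg_single, one_mul, hdeg]
  have h1 := deg_nonneg hE'
  have h2 : (1 : ℤ) ≤ P.deg := by exact_mod_cast deg_pos hK P
  have h3 : (P.deg : ℤ) = 1 := by
    rw [hdeg'] at h1
    linarith
  refine ⟨P, ?_, by exact_mod_cast h3⟩
  have h4 := eq_zero_of_nonneg_of_deg_zero hK hE' (by rw [hdeg', h3]; norm_num)
  exact sub_eq_zero.1 h4

/-- S10999 -/
theorem genus_one_places (hK : IsFunctionField k K) (hg : genus k K = 1) (P₀ : Place k K)
    (hP : P₀.deg = 1) (D : Divisor k K) (hD : D.deg = 0) :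
    ∃! P : Place k K, P.deg = 1 ∧
      ∃ x : K, x ≠ 0 ∧ D = Finsupp.single P 1 - Finsupp.single P₀ 1 + FunFld.div k x := by
  have hE0deg : (D + Finsupp.single P₀ 1).deg = 1 := by
    rw [deg_add, deg_single, hP, hD]
    norm_num
  have h1 := ell_eq_of_deg_ge hK (D + Finsupp.single P₀ 1) (by rw [hE0deg, hg]; norm_num)
  rw [hE0deg, hg] at h1
  have h2 : (1 : ℤ) ≤ ell (D + Finsupp.single P₀ 1) := by
    rw [h1]
    norm_num
  obtain ⟨z, hz0, hzL⟩ := exists_ne_zero_of_ell_pos hK h2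
  have hE : (0 : Divisor k K) ≤ D + Finsupp.single P₀ 1 + FunFld.div k z := by
    intro Q
    have h3 := (val_le_exp_iff Q hz0 _).1 ((mem_L_iff _ _).1 hzL Q)
    rw [Finsupp.zero_apply, Finsupp.add_apply, div_apply hK]
    omega
  have hEdeg : (D + Finsupp.single P₀ 1 + FunFld.div k z).deg = 1 := by
    rw [deg_add, deg_div hK, hE0deg, add_zero]
  obtain ⟨P, hPE, hPdeg⟩ := eq_single_of_nonneg_of_deg_one hK hE hEdeg
  refine ⟨P, ⟨hPdeg, z⁻¹, inv_ne_zero hz0, ?_⟩, ?_⟩
  · rw [div_inv hK, ← hPE]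
    abel
  · rintro P' ⟨hP'deg, x', hx'0, hx'⟩
    have hD2 : D = Finsupp.single P 1 - Finsupp.single P₀ 1 + FunFld.div k z⁻¹ := by
      rw [div_inv hK, ← hPE]
      abel
    have h5 : (Finsupp.single P' 1 - Finsupp.single P 1 : Divisor k K) =
        FunFld.div k (z⁻¹ * x'⁻¹) := by
      rw [div_mul hK (inv_ne_zero hz0) (inv_ne_zero hx'0), div_inv hK x']
      have h6 : Finsupp.single P' 1 - Finsupp.single P₀ 1 + FunFld.div k x' =
          Finsupp.single P 1 - Finsupp.single P₀ 1 + FunFld.div k z⁻¹ := by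
        rw [← hx', ← hD2]
      have h7 : (Finsupp.single P' 1 - Finsupp.single P 1 : Divisor k K) =
          (Finsupp.single P' 1 - Finsupp.single P₀ 1 + FunFld.div k x') -
            (Finsupp.single P 1 - Finsupp.single P₀ 1 + FunFld.div k z⁻¹) +
            (FunFld.div k z⁻¹ + -FunFld.div k x') := by abel
      rw [h7, h6, sub_self, zero_add]
    exact Groth.Agent.S10996.result k K hK (by rw [hg]; norm_num) P' P hP'deg hPdeg
      (z⁻¹ * x'⁻¹) (mul_ne_zero (inv_ne_zero hz0) (inv_ne_zero hx'0)) h5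

theorem strong_approx_le (hK : IsFunctionField k K) (Pinf : Place k K) (n : ℕ)
    (P : Fin n → Place k K) (hP : Function.Injective P) (hinf : Pinf ∉ Set.range P)
    (x : Fin n → K) (m : Fin n → ℤ) :
    ∃ z : K, (∀ i, (P i).1 (z - x i) ≤ WithZero.exp (-(m i + 1))) ∧
      ∀ Q : Place k K, Q ≠ Pinf → Q ∉ Set.range P → Q.1 z ≤ 1 := by
  classical
  obtain ⟨N, hN⟩ := exists_ADK_eq_top hK
  obtain ⟨F, hFdef⟩ : ∃ F : Divisor k K, F = ∑ i, Finsupp.single (P i) (m i + 1) := ⟨_, rfl⟩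
  have hF : ∀ i, F (P i) = m i + 1 := by
    intro i
    rw [hFdef, Finsupp.finsetSum_apply, Finset.sum_eq_single_of_mem i (Finset.mem_univ i)]
    · exact Finsupp.single_eq_same
    · intro j _ hji
      rw [Finsupp.single_apply, if_neg (fun h => hji (hP h))]
  have hF' : ∀ Q, Q ∉ Set.range P → F Q = 0 := by
    intro Q hQ
    rw [hFdef, Finsupp.finsetSum_apply]
    apply Finset.sum_eq_zero
    intro j _
    rw [Finsupp.single_apply, if_neg (fun h => hQ ⟨j, h⟩)]
  obtain ⟨l, hl⟩ : ∃ l : ℕ, N + F.deg ≤ (l : ℤ) := ⟨(N + F.deg).toNat, Int.self_le_toNat _⟩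
  obtain ⟨D, hDdef⟩ : ∃ D : Divisor k K, D = l • Finsupp.single Pinf 1 - F := ⟨_, rfl⟩
  have hDdeg : N ≤ D.deg := by
    rw [hDdef, deg_sub, deg_nsmul, deg_single, one_mul]
    have h2 : (1 : ℤ) ≤ Pinf.deg := by exact_mod_cast deg_pos hK Pinf
    nlinarith [Int.natCast_nonneg l]
  have htop := hN D hDdeg
  obtain ⟨a, hadef⟩ : ∃ a : Place k K → K,
      a = fun Q => if h : ∃ i, P i = Q then x h.choose else 0 := ⟨_, rfl⟩
  have ha_i : ∀ i, a (P i) = x i := by
    intro i
    have h : ∃ j, P j = P i := ⟨i, rfl⟩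
    rw [hadef]
    show (if h : ∃ j, P j = P i then x h.choose else 0) = x i
    rw [dif_pos h]
    congr 1
    exact hP h.choose_spec
  have ha_0 : ∀ Q, Q ∉ Set.range P → a Q = 0 := by
    intro Q hQ
    rw [hadef]
    show (if h : ∃ j, P j = Q then x h.choose else 0) = 0
    have hQ' : ¬ ∃ j, P j = Q := hQ
    rw [dif_neg hQ']
  have ha : a ∈ adele k K := by
    show ∀ᶠ Q : Place k K in Filter.cofinite, Q.1 (a Q) ≤ 1
    rw [Filter.eventually_cofinite]
    refine (Set.finite_range P).subset ?_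
    intro Q hQ
    by_contra hQr
    apply hQ
    show Q.1 (a Q) ≤ 1
    rw [ha_0 Q hQr, map_zero]
    exact zero_le'
  have hmem : (⟨a, ha⟩ : ↥(adele k K)) ∈ ADK D := by
    rw [htop]
    trivial
  have hmem' : a ∈ UD D := hmem
  obtain ⟨b, hb, c, ⟨z, rfl⟩, hbc⟩ := Submodule.mem_sup.1 hmem'
  refine ⟨z, fun i => ?_, fun Q hQinf hQr => ?_⟩
  · have h1 := (mem_AD_iff _ _).1 hb (P i)
    have h2 : b (P i) = x i - z := by
      have h3 := congrFun hbc (P i)
      rw [Pi.add_apply, diag_apply, ha_i] at h3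
      linear_combination h3
    have hD : D (P i) = -(m i + 1) := by
      rw [hDdef, Finsupp.sub_apply, nsmul_apply', Finsupp.single_apply,
        if_neg (fun h => hinf ⟨i, h.symm⟩), mul_zero, hF, zero_sub]
    rw [h2, hD, Valuation.map_sub_swap] at h1
    exact h1
  · have h1 := (mem_AD_iff _ _).1 hb Q
    have h2 : b Q = -z := by
      have h3 := congrFun hbc Q
      rw [Pi.add_apply, diag_apply, ha_0 Q hQr] at h3
      linear_combination h3
    have hD : D Q = 0 := by
      rw [hDdef, Finsupp.sub_apply, nsmul_apply', Finsupp.single_apply,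
        if_neg (Ne.symm hQinf), mul_zero, hF' Q hQr, sub_zero]
    rw [h2, hD, Valuation.map_neg, WithZero.exp_zero] at h1
    exact h1

/-- S10997 -/
theorem strong_approx (hK : IsFunctionField k K) (Pinf : Place k K) (n : ℕ)
    (P : Fin n → Place k K) (hP : Function.Injective P) (hinf : Pinf ∉ Set.range P)
    (x : Fin n → K) (m : Fin n → ℤ) :
    ∃ y : K, (∀ i, (P i).1 (y - x i) = WithZero.exp (-(m i))) ∧
      ∀ Q : Place k K, Q ≠ Pinf → Q ∉ Set.range P → Q.1 y ≤ 1 := by
  obtain ⟨z, hz1, hz2⟩ := strong_approx_le hK Pinf n P hP hinf x m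
  have hu : ∀ i, ∃ u : K, (P i).1 u = WithZero.exp (-(m i)) := fun i => (P i).2.2 _
  choose u hu using hu
  obtain ⟨w, hw1, hw2⟩ := strong_approx_le hK Pinf n P hP hinf u m
  refine ⟨z + w, fun i => ?_,
    fun Q hQ1 hQ2 => Q.1.map_add_le (hz2 Q hQ1 hQ2) (hw2 Q hQ1 hQ2)⟩
  have hlt : WithZero.exp (-(m i + 1)) <
      (WithZero.exp (-(m i)) : WithZero (Multiplicative ℤ)) :=
    WithZero.exp_lt_exp.2 (by omega)
  have hw : (P i).1 w = WithZero.exp (-(m i)) := by
    have h1 : (P i).1 (w - u i) < (P i).1 (u i) := by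
      rw [hu i]
      exact (hw1 i).trans_lt hlt
    have h2 : w = u i + (w - u i) := by ring
    rw [h2, (P i).1.map_add_eq_of_lt_left h1, hu i]
  have h3 : z + w - x i = w + (z - x i) := by ring
  have h4 : (P i).1 (z - x i) < (P i).1 w := by
    rw [hw]
    exact (hz1 i).trans_lt hlt
  rw [h3, (P i).1.map_add_eq_of_lt_left h4, hw]

end Groth.Agent.Lib.lead.FF11
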