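import Mathlib
import Groth.Prelude.Def_W4bk4goldsch23FF
import Groth.Agent.Lib.lead.FF
import Groth.Agent.Lib.lead.FF2
import Groth.Agent.Lib.lead.FF3
import Groth.Agent.Lib.lead.FF4
import Groth.Agent.Lib.lead.FF5
import Groth.Agent.Lib.lead.FF6
import Groth.Agent.Lib.lead.FF7
import Groth.Agent.Lib.lead.FF8
import Groth.Agent.Lib.lead.FF9
import Groth.Agent.Lib.lead.FF10
import Groth.Agent.Lib.lead.FF11

/-! Linear series: vanishing sequences at two points. -/

namespace Groth.Agent.Lib.lead.FF12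
open FunFld Groth.Agent.Lib.lead.FF Groth.Agent.Lib.lead.FF2 Groth.Agent.Lib.lead.FF3
  Groth.Agent.Lib.lead.FF4
  Groth.Agent.Lib.lead.FF5 Groth.Agent.Lib.lead.FF6 Groth.Agent.Lib.lead.FF7
  Groth.Agent.Lib.lead.FF8 Groth.Agent.Lib.lead.FF9 Groth.Agent.Lib.lead.FF10
  Groth.Agent.Lib.lead.FF11

section Abstract
variable {k : Type*} [Field k] {M : Type*} [AddCommGroup M] [Module k M]

lemma finrank_inf_add_le' {V A B : Submodule k M} [Module.Finite k ↥V] :
    Module.finrank k ↥(V ⊓ A) + Module.finrank k ↥(V ⊓ B) ≤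
      Module.finrank k ↥V + Module.finrank k ↥((V ⊓ A) ⊓ (V ⊓ B)) := by
  haveI : Module.Finite k ↥(V ⊓ A) := Submodule.finiteDimensional_of_le inf_le_left
  haveI : Module.Finite k ↥(V ⊓ B) := Submodule.finiteDimensional_of_le inf_le_left
  have h1 := Submodule.finrank_sup_add_finrank_inf_eq (V ⊓ A) (V ⊓ B)
  have h3 : Module.finrank k ↥((V ⊓ A) ⊔ (V ⊓ B)) ≤ Module.finrank k ↥V :=
    Submodule.finrank_mono (sup_le inf_le_left inf_le_left)
  omega

lemma finrank_inf_add_le {V A B : Submodule k M} [Module.Finite k ↥V] (h : A ⊓ B = ⊥) :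
    Module.finrank k ↥(V ⊓ A) + Module.finrank k ↥(V ⊓ B) ≤ Module.finrank k ↥V := by
  have h1 := finrank_inf_add_le' (V := V) (A := A) (B := B)
  have h2 : (V ⊓ A) ⊓ (V ⊓ B) = ⊥ := by
    rw [eq_bot_iff, ← h]
    exact inf_le_inf inf_le_right inf_le_right
  rw [h2, finrank_bot, add_zero] at h1
  exact h1

end Abstract

variable {k K : Type*} [Field k] [Field K] [Algebra k K]

lemma deg_eq_one [IsAlgClosed k] (hK : IsFunctionField k K) (P : Place k K) : P.deg = 1 := by
  have hfin : @Module.Finite k (IsLocalRing.ResidueField P.O) _ _ Algebra.toModule :=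
    Groth.Agent.S10971.result k K hK P
  have hint : Algebra.IsIntegral k (IsLocalRing.ResidueField P.O) :=
    @Algebra.IsIntegral.of_finite k (IsLocalRing.ResidueField P.O) _ _ _ hfin
  have hbij : Function.Bijective (algebraMap k (IsLocalRing.ResidueField P.O)) :=
    IsAlgClosed.algebraMap_bijective_of_isIntegral
  have e : k ≃ₗ[k] (IsLocalRing.ResidueField P.O) :=
    LinearEquiv.ofBijective (Algebra.linearMap k (IsLocalRing.ResidueField P.O)) hbij
  have h1 : Module.finrank k (IsLocalRing.ResidueField P.O) = 1 := by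
    rw [← e.finrank_eq, Module.finrank_self]
  exact h1

lemma L_inf_le (D : Divisor k K) {P Q : Place k K} (hPQ : P ≠ Q) (n m : ℤ) :
    L (D - Finsupp.single P n) ⊓ L (D - Finsupp.single Q m) ≤
      L (D - Finsupp.single P n - Finsupp.single Q m) := by
  classical
  rintro x ⟨hx1, hx2⟩
  refine (mem_L_iff _ _).2 fun R => ?_
  by_cases hR : R = P
  · refine ((mem_L_iff _ _).1 hx1 R).trans (WithZero.exp_le_exp.2 ?_)
    have h0 : (Finsupp.single Q m : Divisor k K) R = 0 := by
      rw [hR, Finsupp.single_apply, if_neg (Ne.symm hPQ)]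
    simp only [Finsupp.sub_apply]
    rw [h0]
    omega
  · refine ((mem_L_iff _ _).1 hx2 R).trans (WithZero.exp_le_exp.2 ?_)
    have h0 : (Finsupp.single P n : Divisor k K) R = 0 := by
      rw [Finsupp.single_apply, if_neg (Ne.symm hR)]
    simp only [Finsupp.sub_apply]
    rw [h0]
    omega

section AlgClosed
variable [IsAlgClosed k]

/-- `dim V(-nP) + dim V(-mQ) ≤ dim V` when `n + m > deg D`. -/
theorem vanishing_le (hK : IsFunctionField k K) (d : ℕ) (D : Divisor k K) (hD : D.deg = d)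
    (V : Submodule k K) [Module.Finite k ↥V] {P Q : Place k K} (hPQ : P ≠ Q) (n m : ℤ)
    (hnm : (d : ℤ) < n + m) :
    Module.finrank k ↥(V ⊓ L (D - Finsupp.single P n)) +
      Module.finrank k ↥(V ⊓ L (D - Finsupp.single Q m)) ≤ Module.finrank k ↥V := by
  apply finrank_inf_add_le
  rw [eq_bot_iff]
  refine (L_inf_le D hPQ n m).trans ?_
  rw [L_eq_bot_of_deg_neg hK]
  rw [deg_sub, deg_sub, deg_single, deg_single, deg_eq_one hK, deg_eq_one hK, hD]
  push_cast
  linarith

lemma L_single_neg_eq_bot (hK : IsFunctionField k K) (d : ℕ) (D : Divisor k K) (hD : D.deg = d)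
    (P : Place k K) (n : ℤ) (hn : (d : ℤ) < n) : L (D - Finsupp.single P n) = ⊥ := by
  apply L_eq_bot_of_deg_neg hK
  rw [deg_sub, deg_single, deg_eq_one hK, hD]
  push_cast
  linarith

/-- one step of the vanishing filtration drops the dimension by at most one -/
theorem step_le (hK : IsFunctionField k K) (V : Submodule k K) [Module.Finite k ↥V]
    (E : Divisor k K) (P : Place k K) :
    Module.finrank k ↥(V ⊓ L (E - Finsupp.single P 1)) ≤ Module.finrank k ↥(V ⊓ L E) ∧
      Module.finrank k ↥(V ⊓ L E) ≤ Module.finrank k ↥(V ⊓ L (E - Finsupp.single P 1)) + 1 := by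
  have hle : E - Finsupp.single P 1 ≤ E := sub_le_self _ (single_one_nonneg P)
  have hAB : V ⊓ L (E - Finsupp.single P 1) ≤ V ⊓ L E := inf_le_inf_left V (L_mono hle)
  haveI : Module.Finite k ↥(V ⊓ L E) := Submodule.finiteDimensional_of_le inf_le_left
  have h1 := rel_finrank hAB
  obtain ⟨hfin, hdim⟩ := L_rel hK hle
  obtain ⟨i, hi⟩ := rel_inj (A₁ := V ⊓ L (E - Finsupp.single P 1)) (B₁ := V ⊓ L E)
    (A₂ := L (E - Finsupp.single P 1)) (B₂ := L E) (LinearMap.id : K →ₗ[k] K)
    (fun x hx => hx.2) (fun x _ hx => hx.2) (fun x hx hx' => ⟨hx.1, hx'⟩)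
  haveI := hfin
  have h2 := LinearMap.finrank_le_finrank_of_injective hi
  rw [deg_sub, deg_single, deg_eq_one hK] at hdim
  have h3 : (Module.finrank k (RelQ (L (E - Finsupp.single P 1)) (L E)) : ℤ) ≤ 1 := by
    have h4 : E.deg - (E.deg - 1 * ((1 : ℕ) : ℤ)) = 1 := by
      push_cast
      ring
    rw [h4] at hdim
    exact hdim
  have h5 : Module.finrank k (RelQ (L (E - Finsupp.single P 1)) (L E)) ≤ 1 := by
    exact_mod_cast h3
  constructor
  · exact Submodule.finrank_mono hAB
  · omega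

/-- a section with prescribed divisor -/
theorem exists_section (hK : IsFunctionField k K) (d : ℕ) (D : Divisor k K) (hD : D.deg = d)
    (V : Submodule k K) [Module.Finite k ↥V] {P Q : Place k K} (hPQ : P ≠ Q) (n m : ℤ)
    (hnm : n + m = d)
    (h : Module.finrank k ↥V + 1 ≤ Module.finrank k ↥(V ⊓ L (D - Finsupp.single P n)) +
      Module.finrank k ↥(V ⊓ L (D - Finsupp.single Q m))) :
    ∃ s : K, s ≠ 0 ∧ FunFld.div k s = Finsupp.single P n + Finsupp.single Q m - D := by
  have h1 := finrank_inf_add_le' (V := V) (A := L (D - Finsupp.single P n))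
    (B := L (D - Finsupp.single Q m))
  have hpos : 0 < Module.finrank k
      ↥((V ⊓ L (D - Finsupp.single P n)) ⊓ (V ⊓ L (D - Finsupp.single Q m))) := by omega
  haveI : Module.Finite k
      ↥((V ⊓ L (D - Finsupp.single P n)) ⊓ (V ⊓ L (D - Finsupp.single Q m))) :=
    Submodule.finiteDimensional_of_le (inf_le_left.trans inf_le_left)
  obtain ⟨x, hx⟩ := (Module.finrank_pos_iff_exists_ne_zero (R := k)
    (M := ↥((V ⊓ L (D - Finsupp.single P n)) ⊓ (V ⊓ L (D - Finsupp.single Q m))))).1 hpos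
  have hx0 : (x : K) ≠ 0 := fun h0 => hx (Subtype.ext h0)
  have hxL : (x : K) ∈ L (D - Finsupp.single P n - Finsupp.single Q m) :=
    L_inf_le D hPQ n m ⟨x.2.1.2, x.2.2.2⟩
  refine ⟨x, hx0, ?_⟩
  have hE : (0 : Divisor k K) ≤
      D - Finsupp.single P n - Finsupp.single Q m + FunFld.div k (x : K) := by
    intro R
    have h3 := (val_le_exp_iff R hx0 _).1 ((mem_L_iff _ _).1 hxL R)
    rw [Finsupp.zero_apply, Finsupp.add_apply, div_apply hK]
    omega
  have hEdeg : (D - Finsupp.single P n - Finsupp.single Q m + FunFld.div k (x : K)).deg = 0 := by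
    rw [deg_add, deg_div hK, deg_sub, deg_sub, deg_single, deg_single, deg_eq_one hK,
      deg_eq_one hK, hD]
    push_cast
    linarith
  have h6 := eq_zero_of_nonneg_of_deg_zero hK hE hEdeg
  have h7 : FunFld.div k (x : K) =
      (D - Finsupp.single P n - Finsupp.single Q m + FunFld.div k (x : K)) -
        (D - Finsupp.single P n - Finsupp.single Q m) := by abel
  rw [h7, h6]
  abel

lemma div_div' (hK : IsFunctionField k K) {x y : K} (hx : x ≠ 0) (hy : y ≠ 0) :
    FunFld.div k (x / y) = FunFld.div k x - FunFld.div k y := by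
  rw [div_eq_mul_inv, div_mul hK hx (inv_ne_zero hy), div_inv hK, sub_eq_add_neg]

/-- the combinatorial core: two points of large weight give a torsion relation -/
theorem torsion_of_weights (hK : IsFunctionField k K) (d r : ℕ) (hr : 1 ≤ r)
    (D : Divisor k K) (hD : D.deg = d) (V : Submodule k K) (hV : V ≤ L D)
    (hVr : Module.finrank k ↥V = r + 1) (P Q : Place k K) (hPQ : P ≠ Q)
    (hw : (r + 1) * d + 1 ≤
      (∑ n ∈ Finset.range d,
        Module.finrank k ↥(V ⊓ L (D - Finsupp.single P ((n : ℤ) + 1)))) +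
      (∑ n ∈ Finset.range d,
        Module.finrank k ↥(V ⊓ L (D - Finsupp.single Q ((n : ℤ) + 1)))) + r) :
    ∃ m : ℕ, 1 ≤ m ∧ m ≤ d ∧ ∃ h : K, h ≠ 0 ∧
      FunFld.div k h = Finsupp.single Q (m : ℤ) - Finsupp.single P (m : ℤ) := by
  classical
  haveI : Module.Finite k ↥V := Module.finite_of_finrank_pos (by rw [hVr]; omega)
  obtain ⟨A, hA⟩ : ∃ A : ℕ → ℕ,
      A = fun i : ℕ => Module.finrank k ↥(V ⊓ L (D - Finsupp.single P (i : ℤ))) := ⟨_, rfl⟩
  obtain ⟨B, hB⟩ : ∃ B : ℕ → ℕ,
      B = fun i : ℕ => Module.finrank k ↥(V ⊓ L (D - Finsupp.single Q (i : ℤ))) := ⟨_, rfl⟩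
  have hA' : ∀ i, A i = Module.finrank k ↥(V ⊓ L (D - Finsupp.single P (i : ℤ))) := by
    intro i
    rw [hA]
  have hB' : ∀ i, B i = Module.finrank k ↥(V ⊓ L (D - Finsupp.single Q (i : ℤ))) := by
    intro i
    rw [hB]
  have hB0 : B 0 = r + 1 := by
    rw [hB', Nat.cast_zero, Finsupp.single_zero, sub_zero, inf_eq_left.2 hV, hVr]
  have hAend : A (d + 1) = 0 := by
    rw [hA', L_single_neg_eq_bot hK d D hD P _ (by push_cast; linarith), inf_bot_eq, finrank_bot]
  have hstep : ∀ i, A (i + 1) ≤ A i ∧ A i ≤ A (i + 1) + 1 := by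
    intro i
    have h1 := step_le hK V (D - Finsupp.single P (i : ℤ)) P
    have h2 : D - Finsupp.single P (i : ℤ) - Finsupp.single P 1 =
        D - Finsupp.single P ((i + 1 : ℕ) : ℤ) := by
      rw [sub_sub, ← Finsupp.single_add, Nat.cast_succ]
    rw [h2] at h1
    rw [hA', hA']
    exact h1
  have hF4 : ∀ i j : ℕ, d < i + j → A i + B j ≤ r + 1 := by
    intro i j hij
    rw [hA', hB', ← hVr]
    exact vanishing_le hK d D hD V hPQ _ _ (by exact_mod_cast hij)
  have hF5 : ∀ i j : ℕ, i + j = d → r + 2 ≤ A i + B j → ∃ s : K, s ≠ 0 ∧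
      FunFld.div k s = Finsupp.single P (i : ℤ) + Finsupp.single Q (j : ℤ) - D := by
    intro i j hij h
    rw [hA', hB'] at h
    exact exists_section hK d D hD V hPQ _ _ (by exact_mod_cast hij) (by rw [hVr]; omega)
  have hw' : (r + 1) * d + 1 ≤
      (∑ n ∈ Finset.range d, A (n + 1)) + (∑ n ∈ Finset.range d, B (n + 1)) + r := by
    have e1 : (∑ n ∈ Finset.range d, A (n + 1)) = ∑ n ∈ Finset.range d,
        Module.finrank k ↥(V ⊓ L (D - Finsupp.single P ((n : ℤ) + 1))) :=
      Finset.sum_congr rfl (fun n _ => by rw [hA', Nat.cast_succ])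
    have e2 : (∑ n ∈ Finset.range d, B (n + 1)) = ∑ n ∈ Finset.range d,
        Module.finrank k ↥(V ⊓ L (D - Finsupp.single Q ((n : ℤ) + 1))) :=
      Finset.sum_congr rfl (fun n _ => by rw [hB', Nat.cast_succ])
    rw [e1, e2]
    exact hw
  -- telescoping
  have htel : ∀ n, (∑ i ∈ Finset.range n, (A i - A (i + 1))) + A n = A 0 := by
    intro n
    induction n with
    | zero => simp
    | succ n ih =>
      rw [Finset.sum_range_succ, add_assoc, Nat.sub_add_cancel (hstep n).1]
      exact ih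
  have hA0 : A 0 = r + 1 := by
    rw [hA', Nat.cast_zero, Finsupp.single_zero, sub_zero, inf_eq_left.2 hV, hVr]
  have hJ : ((Finset.range (d + 1)).filter (fun i => A (i + 1) < A i)).card = r + 1 := by
    rw [Finset.card_filter]
    have h1 := htel (d + 1)
    rw [hAend, add_zero, hA0] at h1
    rw [← h1]
    refine Finset.sum_congr rfl (fun i _ => ?_)
    have h2 := hstep i
    split_ifs with h3
    · omega
    · omega
  -- the bad set
  have hsumB : (∑ n ∈ Finset.range d, B (d - n)) = ∑ n ∈ Finset.range d, B (n + 1) := by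
    rw [← Finset.sum_range_reflect (fun j => B (j + 1)) d]
    refine Finset.sum_congr rfl (fun n hn => ?_)
    rw [Finset.mem_range] at hn
    congr 1
    omega
  have hbad : (((Finset.range d).filter (fun i => A (i + 1) + B (d - i) < r + 1)).card : ℤ) + 2
      ≤ r + 1 := by
    have h1 : ∀ i ∈ Finset.range d, A (i + 1) + B (d - i) ≤ r + 1 := by
      intro i hi
      rw [Finset.mem_range] at hi
      exact hF4 _ _ (by omega)
    have h2 : (∑ i ∈ Finset.range d, ((r : ℤ) + 1 - (A (i + 1) + B (d - i) : ℕ))) =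
        ((r : ℤ) + 1) * d - ((∑ n ∈ Finset.range d, A (n + 1) : ℕ) : ℤ) -
          ((∑ n ∈ Finset.range d, B (n + 1) : ℕ) : ℤ) := by
      rw [Finset.sum_sub_distrib, Finset.sum_const, Finset.card_range, ← hsumB]
      push_cast
      rw [Finset.sum_add_distrib]
      simp only [nsmul_eq_mul]
      ring
    have h3 : (((Finset.range d).filter (fun i => A (i + 1) + B (d - i) < r + 1)).card : ℤ) ≤
        ∑ i ∈ Finset.range d, ((r : ℤ) + 1 - (A (i + 1) + B (d - i) : ℕ)) := by
      rw [Finset.card_filter]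
      push_cast
      apply Finset.sum_le_sum
      intro i hi
      have h4 := h1 i hi
      split_ifs with h5
      · have h6 : ((A (i + 1) + B (d - i) : ℕ) : ℤ) + 1 ≤ (r : ℤ) + 1 := by exact_mod_cast h5
        push_cast at h6 ⊢
        linarith
      · have h6 : ((A (i + 1) + B (d - i) : ℕ) : ℤ) ≤ (r : ℤ) + 1 := by exact_mod_cast h4
        push_cast at h6 ⊢
        linarith
    have h7 : (((r + 1) * d + 1 : ℕ) : ℤ) ≤
        (((∑ n ∈ Finset.range d, A (n + 1)) + (∑ n ∈ Finset.range d, B (n + 1)) + r : ℕ) : ℤ) := by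
      exact_mod_cast hw'
    push_cast at h7
    rw [h2] at h3
    push_cast at h3
    linarith
  -- two good indices
  have hgood : 1 < (((Finset.range (d + 1)).filter (fun i => A (i + 1) < A i)) \
      ((Finset.range d).filter (fun i => A (i + 1) + B (d - i) < r + 1))).card := by
    have h1 := Finset.le_card_sdiff
      ((Finset.range d).filter (fun i => A (i + 1) + B (d - i) < r + 1))
      ((Finset.range (d + 1)).filter (fun i => A (i + 1) < A i))
    rw [hJ] at h1
    have h2 : ((Finset.range d).filter (fun i => A (i + 1) + B (d - i) < r + 1)).card + 2 ≤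
        r + 1 := by exact_mod_cast hbad
    omega
  obtain ⟨i₁, hi₁, i₂, hi₂, hne⟩ := Finset.one_lt_card.1 hgood
  have hsec : ∀ i, i ∈ (((Finset.range (d + 1)).filter (fun i => A (i + 1) < A i)) \
      ((Finset.range d).filter (fun i => A (i + 1) + B (d - i) < r + 1))) →
      i ≤ d ∧ ∃ s : K, s ≠ 0 ∧
        FunFld.div k s = Finsupp.single P (i : ℤ) + Finsupp.single Q ((d - i : ℕ) : ℤ) - D := by
    intro i hi
    rw [Finset.mem_sdiff, Finset.mem_filter, Finset.mem_filter, Finset.mem_range,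
      Finset.mem_range] at hi
    obtain ⟨⟨hid, hjump⟩, hnb⟩ := hi
    have hid' : i ≤ d := by omega
    refine ⟨hid', hF5 i (d - i) (by omega) ?_⟩
    by_cases hlt : i < d
    · have h1 : ¬ A (i + 1) + B (d - i) < r + 1 := fun h => hnb ⟨hlt, h⟩
      omega
    · have hi_eq : i = d := by omega
      rw [hi_eq, Nat.sub_self, hB0]
      rw [hi_eq] at hjump
      omega
  obtain ⟨hi₁d, s₁, hs₁0, hs₁⟩ := hsec i₁ hi₁
  obtain ⟨hi₂d, s₂, hs₂0, hs₂⟩ := hsec i₂ hi₂
  have hmain : ∀ (i j : ℕ) (s t : K), i < j → j ≤ d → s ≠ 0 → t ≠ 0 →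
      FunFld.div k s = Finsupp.single P (i : ℤ) + Finsupp.single Q ((d - i : ℕ) : ℤ) - D →
      FunFld.div k t = Finsupp.single P (j : ℤ) + Finsupp.single Q ((d - j : ℕ) : ℤ) - D →
      ∃ m : ℕ, 1 ≤ m ∧ m ≤ d ∧ ∃ h : K, h ≠ 0 ∧
        FunFld.div k h = Finsupp.single Q (m : ℤ) - Finsupp.single P (m : ℤ) := by
    intro i j s t hij hjd hs0 ht0 hs ht
    refine ⟨j - i, by omega, by omega, s / t, div_ne_zero hs0 ht0, ?_⟩
    rw [div_div' hK hs0 ht0, hs, ht]
    have e1 : ((d - i : ℕ) : ℤ) = (d : ℤ) - i := by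
      rw [Nat.cast_sub (by omega)]
    have e2 : ((d - j : ℕ) : ℤ) = (d : ℤ) - j := by
      rw [Nat.cast_sub hjd]
    have e3 : ((j - i : ℕ) : ℤ) = (j : ℤ) - i := by
      rw [Nat.cast_sub hij.le]
    rw [e1, e2, e3]
    ext R
    simp only [Finsupp.sub_apply, Finsupp.add_apply, Finsupp.single_apply]
    split_ifs <;> ring
  rcases lt_or_gt_of_ne hne with hlt | hgt
  · exact hmain i₁ i₂ s₁ s₂ hlt hi₂d hs₁0 hs₂0 hs₁ hs₂
  · exact hmain i₂ i₁ s₂ s₁ hgt hi₁d hs₂0 hs₁0 hs₂ hs₁

end AlgClosed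

end Groth.Agent.Lib.lead.FF12
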