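import Mathlib
import Groth.Prelude.Def_W4bk4goldsch23FF
import Groth.Agent.Lib.lead.FF12

/-! Sections with prescribed divisors; genus-zero computations. -/

namespace Groth.Agent.Lib.lead.FF13
open FunFld Groth.Agent.Lib.lead.FF Groth.Agent.Lib.lead.FF2 Groth.Agent.Lib.lead.FF3
  Groth.Agent.Lib.lead.FF4
  Groth.Agent.Lib.lead.FF5 Groth.Agent.Lib.lead.FF6 Groth.Agent.Lib.lead.FF7
  Groth.Agent.Lib.lead.FF8 Groth.Agent.Lib.lead.FF9 Groth.Agent.Lib.lead.FF10
  Groth.Agent.Lib.lead.FF11 Groth.Agent.Lib.lead.FF12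

section Abstract
variable {k : Type*} [Field k] {M : Type*} [AddCommGroup M] [Module k M]

lemma exists_two_indep {U : Submodule k M} [Module.Finite k ↥U]
    (h : 2 ≤ Module.finrank k ↥U) :
    ∃ s ∈ U, ∃ t ∈ U, s ≠ 0 ∧ ∀ c : k, t ≠ c • s := by
  have hpos : 0 < Module.finrank k ↥U := by omega
  obtain ⟨s, hs⟩ := (Module.finrank_pos_iff_exists_ne_zero (R := k) (M := ↥U)).1 hpos
  have h2 : ∃ w : ↥U, ∀ c : k, c • s ≠ w := by
    by_contra hcon
    push Not at hcon
    have := finrank_le_one s hcon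
    omega
  obtain ⟨t, ht⟩ := h2
  refine ⟨s, s.2, t, t.2, fun h0 => hs (Subtype.ext h0), fun c hc => ht c (Subtype.ext ?_)⟩
  rw [Submodule.coe_smul]
  exact hc.symm

lemma dependent_of_finrank_le_one {U : Submodule k M} [Module.Finite k ↥U]
    (h : Module.finrank k ↥U ≤ 1) {s t : M} (hs : s ∈ U) (ht : t ∈ U) (ht0 : t ≠ 0) :
    ∃ c : k, s = c • t := by
  obtain ⟨v, hv⟩ := finrank_le_one_iff.1 h
  obtain ⟨c₁, hc₁⟩ := hv ⟨s, hs⟩
  obtain ⟨c₂, hc₂⟩ := hv ⟨t, ht⟩
  have h1 : c₁ • (v : M) = s := congrArg Subtype.val hc₁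
  have h2 : c₂ • (v : M) = t := congrArg Subtype.val hc₂
  have hc2 : c₂ ≠ 0 := by
    rintro rfl
    rw [zero_smul] at h2
    exact ht0 h2.symm
  refine ⟨c₁ * c₂⁻¹, ?_⟩
  rw [← h1, ← h2, smul_smul, mul_assoc, inv_mul_cancel₀ hc2, mul_one]

lemma exists_comb_mem {U V : Submodule k M} (hUV : U ≤ V)
    [Module.Finite k ↥V] (hdim : Module.finrank k ↥V ≤ Module.finrank k ↥U + 1) {f g : M}
    (hf : f ∈ V) (hg : g ∈ V) : ∃ α β : k, (α ≠ 0 ∨ β ≠ 0) ∧ α • f + β • g ∈ U := by
  have h1 := rel_finrank hUV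
  have h2 : Module.finrank k (RelQ U V) ≤ 1 := by omega
  obtain ⟨v, hv⟩ := finrank_le_one_iff.1 h2
  obtain ⟨c₁, hc₁⟩ := hv (Submodule.Quotient.mk ⟨f, hf⟩)
  obtain ⟨c₂, hc₂⟩ := hv (Submodule.Quotient.mk ⟨g, hg⟩)
  have key : ∀ a b : k, a * c₁ + b * c₂ = 0 → a • f + b • g ∈ U := by
    intro a b hab
    have h3 : (Submodule.Quotient.mk (a • (⟨f, hf⟩ : ↥V) + b • (⟨g, hg⟩ : ↥V)) : RelQ U V) = 0 := by
      rw [Submodule.Quotient.mk_add, Submodule.Quotient.mk_smul, Submodule.Quotient.mk_smul,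
        ← hc₁, ← hc₂, smul_smul, smul_smul, ← add_smul, hab, zero_smul]
    rw [Submodule.Quotient.mk_eq_zero] at h3
    exact h3
  by_cases hc : c₁ = 0 ∧ c₂ = 0
  · exact ⟨1, 0, Or.inl one_ne_zero, key 1 0 (by rw [hc.1, hc.2]; ring)⟩
  · refine ⟨c₂, -c₁, ?_, key c₂ (-c₁) (by ring)⟩
    by_contra h
    push Not at h
    exact hc ⟨neg_eq_zero.1 h.2, h.1⟩

end Abstract

variable {k K : Type*} [Field k] [Field K] [Algebra k K]

lemma nonneg_add_div (hK : IsFunctionField k K) {E : Divisor k K} {x : K} (hx0 : x ≠ 0)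
    (hx : x ∈ L E) : 0 ≤ E + FunFld.div k x := by
  intro R
  have h3 := (val_le_exp_iff R hx0 _).1 ((mem_L_iff _ _).1 hx R)
  rw [Finsupp.zero_apply, Finsupp.add_apply, div_apply hK]
  omega

lemma const_of_div_eq_zero (hK : IsFunctionField k K) {x : K} (hx0 : x ≠ 0)
    (h : FunFld.div k x = 0) : ∃ c : k, x = algebraMap k K c := by
  have hx : x ∈ L (0 : Divisor k K) := by
    refine (mem_L_iff _ _).2 fun R => ?_
    rw [val_le_exp_iff R hx0]
    have h1 : R.ord x = 0 := by rw [← div_apply hK, h, Finsupp.zero_apply]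
    rw [Finsupp.zero_apply, h1]
    omega
  rw [L_zero hK, Submodule.mem_one] at hx
  obtain ⟨c, hc⟩ := hx
  exact ⟨c, hc.symm⟩

lemma ord_pow (P : Place k K) (x : K) (n : ℕ) : P.ord (x ^ n) = n * P.ord x := by
  unfold Place.ord
  rw [map_pow, WithZero.log_pow, nsmul_eq_mul, mul_neg]

lemma div_pow (hK : IsFunctionField k K) (x : K) (n : ℕ) :
    FunFld.div k (x ^ n) = n • FunFld.div k x := by
  ext R
  rw [Finsupp.smul_apply, div_apply hK, div_apply hK, ord_pow, nsmul_eq_mul]

section AlgClosed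
variable [IsAlgClosed k]

/-- positive genus: at most one independent section vanishing to order `≥ d - 1` -/
theorem finrank_le_one_of_genus_pos (hK : IsFunctionField k K) (hg : 0 < genus k K)
    (d : ℕ) (D : Divisor k K) (hD : D.deg = d) (V : Submodule k K) [Module.Finite k ↥V]
    (A : Place k K) :
    Module.finrank k ↥(V ⊓ L (D - Finsupp.single A ((d : ℤ) - 1))) ≤ 1 := by
  classical
  by_contra hcon
  push Not at hcon
  haveI : Module.Finite k ↥(V ⊓ L (D - Finsupp.single A ((d : ℤ) - 1))) :=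
    Submodule.finiteDimensional_of_le inf_le_left
  obtain ⟨s, hs, t, ht, hs0, hst⟩ :=
    exists_two_indep (U := V ⊓ L (D - Finsupp.single A ((d : ℤ) - 1))) (by omega)
  have ht0 : t ≠ 0 := fun h => hst 0 (by rw [h, zero_smul])
  have hdeg : ∀ x : K, (D - Finsupp.single A ((d : ℤ) - 1) + FunFld.div k x).deg = 1 := by
    intro x
    rw [deg_add, deg_div hK, deg_sub, deg_single, deg_eq_one hK, hD]
    push_cast
    ring
  obtain ⟨Rs, hRs, -⟩ := eq_single_of_nonneg_of_deg_one hK (nonneg_add_div hK hs0 hs.2) (hdeg s)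
  obtain ⟨Rt, hRt, -⟩ := eq_single_of_nonneg_of_deg_one hK (nonneg_add_div hK ht0 ht.2) (hdeg t)
  have hdiv : FunFld.div k (t / s) = Finsupp.single Rt 1 - Finsupp.single Rs 1 := by
    rw [div_div' hK ht0 hs0, ← hRt, ← hRs]
    abel
  by_cases hR : Rt = Rs
  · rw [hR, sub_self] at hdiv
    obtain ⟨c, hc⟩ := const_of_div_eq_zero hK (div_ne_zero ht0 hs0) hdiv
    apply hst c
    rw [Algebra.smul_def, ← hc]
    field_simp
  · have hord : Rs.ord (t / s) = -1 := by
      rw [← div_apply hK, hdiv, Finsupp.sub_apply, Finsupp.single_apply, Finsupp.single_apply,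
        if_neg hR, if_pos rfl]
      norm_num
    have hQ : ∀ Q : Place k K, Q ≠ Rs → 0 ≤ Q.ord (t / s) := by
      intro Q hQ
      rw [← div_apply hK, hdiv, Finsupp.sub_apply, Finsupp.single_apply, Finsupp.single_apply,
        if_neg (Ne.symm hQ)]
      split_ifs <;> norm_num
    have h2 := (genus_zero_iff_rational hK).2
      ((pole_iff_rational hK).1 ⟨t / s, Rs, deg_eq_one hK Rs, hord, hQ⟩)
    have h3 := h2.1
    omega

/-- a section of `V` with prescribed divisor -/
theorem exists_section' (hK : IsFunctionField k K) (d : ℕ) (D : Divisor k K) (hD : D.deg = d)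
    (V : Submodule k K) [Module.Finite k ↥V] {P Q : Place k K} (hPQ : P ≠ Q) (n m : ℤ)
    (hnm : n + m = d)
    (h : Module.finrank k ↥V + 1 ≤ Module.finrank k ↥(V ⊓ L (D - Finsupp.single P n)) +
      Module.finrank k ↥(V ⊓ L (D - Finsupp.single Q m))) :
    ∃ s : K, s ∈ V ∧ s ≠ 0 ∧
      FunFld.div k s = Finsupp.single P n + Finsupp.single Q m - D := by
  have h1 := finrank_inf_add_le' (V := V) (A := L (D - Finsupp.single P n))
    (B := L (D - Finsupp.single Q m))
  have hpos : 0 < Module.finrank k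
      ↥((V ⊓ L (D - Finsupp.single P n)) ⊓ (V ⊓ L (D - Finsupp.single Q m))) := by omega
  haveI : Module.Finite k
      ↥((V ⊓ L (D - Finsupp.single P n)) ⊓ (V ⊓ L (D - Finsupp.single Q m))) :=
    Submodule.finiteDimensional_of_le (inf_le_left.trans inf_le_left)
  obtain ⟨x, hx⟩ := (Module.finrank_pos_iff_exists_ne_zero (R := k)
    (M := ↥((V ⊓ L (D - Finsupp.single P n)) ⊓ (V ⊓ L (D - Finsupp.single Q m))))).1 hpos
  have hx0 : (x : K) ≠ 0 := fun h0 => hx (Subtype.ext h0)
  have hxL : (x : K) ∈ L (D - Finsupp.single P n - Finsupp.single Q m) :=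
    L_inf_le D hPQ n m ⟨x.2.1.2, x.2.2.2⟩
  refine ⟨x, x.2.1.1, hx0, ?_⟩
  have hE := nonneg_add_div hK hx0 hxL
  have hEdeg : (D - Finsupp.single P n - Finsupp.single Q m + FunFld.div k (x : K)).deg = 0 := by
    rw [deg_add, deg_div hK, deg_sub, deg_sub, deg_single, deg_single, deg_eq_one hK,
      deg_eq_one hK, hD]
    push_cast
    linarith
  have h6 := eq_zero_of_nonneg_of_deg_zero hK hE hEdeg
  have h7 : FunFld.div k (x : K) =
      (D - Finsupp.single P n - Finsupp.single Q m + FunFld.div k (x : K)) -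
        (D - Finsupp.single P n - Finsupp.single Q m) := by abel
  rw [h7, h6]
  abel


lemma exists_const_sub_lt (P : Place k K) (hP : P.deg = 1) {x : K} (hx : P.1 x ≤ 1) :
    ∃ b : k, P.1 (x - algebraMap k K b) < 1 := by
  have h1mem : (1 : K) ∈ OP P := by rw [mem_OP, map_one]
  have hx' : x ∈ OP P := (mem_OP P x).2 hx
  have h1 : resMap P ⟨1, h1mem⟩ ≠ 0 := by
    rw [Ne, resMap_eq_zero_iff]
    show ¬ P.1 (1 : K) < 1
    rw [map_one]
    exact lt_irrefl _
  obtain ⟨b, hb⟩ := (finrank_eq_one_iff_of_nonzero' _ h1).1 hP (resMap P ⟨x, hx'⟩)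
  refine ⟨b, ?_⟩
  have h2 : resMap P (⟨x, hx'⟩ - b • ⟨1, h1mem⟩) = 0 := by
    rw [map_sub, map_smul]
    exact sub_eq_zero.2 hb.symm
  rw [resMap_eq_zero_iff] at h2
  have h3 : ((⟨x, hx'⟩ - b • ⟨1, h1mem⟩ : ↥(OP P)) : K) = x - algebraMap k K b := by
    show x - b • (1 : K) = _
    rw [Algebra.algebraMap_eq_smul_one]
  rw [h3] at h2
  exact h2

/-- `t ^ m - a` vanishes to order at most one wherever `t` is a local coordinate -/
theorem val_pow_sub_ge [CharZero k] (hK : IsFunctionField k K) (Q : Place k K) (t : K)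
    (ht : Q.1 t ≤ 1)
    (hsimple : ∀ b : k, Q.1 (t - algebraMap k K b) < 1 →
      Q.1 (t - algebraMap k K b) = WithZero.exp (-1))
    (m : ℕ) (hm : 0 < m) (a : k) (ha : a ≠ 0) :
    WithZero.exp (-1) ≤ Q.1 (t ^ m - algebraMap k K a) := by
  obtain ⟨b, hb⟩ := exists_const_sub_lt Q (deg_eq_one hK Q) ht
  have hsim := hsimple b
  obtain ⟨y, hy⟩ : ∃ y : K, y = t - algebraMap k K b := ⟨_, rfl⟩
  have hty : t = algebraMap k K b + y := by rw [hy]; ring
  rw [← hy] at hb hsim
  have hexp : ∀ n : ℕ, ∃ c : K, Q.1 c ≤ 1 ∧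
      t ^ (n + 1) = (algebraMap k K b) ^ (n + 1) +
        ((n + 1 : ℕ) : K) * (algebraMap k K b) ^ n * y + c * y ^ 2 := by
    intro n
    induction n with
    | zero =>
      refine ⟨0, ?_, ?_⟩
      · rw [map_zero]; exact zero_le'
      · rw [hty]; push_cast; ring
    | succ n ih =>
      obtain ⟨c, hc, hcn⟩ := ih
      refine ⟨((n + 1 : ℕ) : K) * (algebraMap k K b) ^ n + c * t, ?_, ?_⟩
      · apply Valuation.map_add_le
        · have e : ((n + 1 : ℕ) : K) * (algebraMap k K b) ^ n =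
              algebraMap k K (((n + 1 : ℕ) : k) * b ^ n) := by
            rw [map_mul, map_pow, map_natCast]
          rw [e]
          exact Q.2.1 _
        · rw [map_mul]
          exact mul_le_one' hc ht
      · have e1 : t ^ (n + 1 + 1) = t ^ (n + 1) * t := pow_succ t (n + 1)
        rw [e1, hcn, hty]
        push_cast
        ring
  obtain ⟨n, rfl⟩ : ∃ n, m = n + 1 := ⟨m - 1, by omega⟩
  obtain ⟨c, hc, hcn⟩ := hexp n
  have hcoef : ((n + 1 : ℕ) : K) * (algebraMap k K b) ^ n =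
      algebraMap k K (((n + 1 : ℕ) : k) * b ^ n) := by
    rw [map_mul, map_pow, map_natCast]
  have hcoef_le : Q.1 (((n + 1 : ℕ) : K) * (algebraMap k K b) ^ n) ≤ 1 := by
    rw [hcoef]; exact Q.2.1 _
  have hy1 : Q.1 y < 1 := hb
  have hcy : Q.1 (c * y) < 1 := by
    rw [map_mul]
    calc Q.1 c * Q.1 y ≤ 1 * Q.1 y := mul_le_mul' hc le_rfl
      _ = Q.1 y := one_mul _
      _ < 1 := hy1
  by_cases hba : b ^ (n + 1) = a
  · have hb0 : b ≠ 0 := by
      rintro rfl
      rw [zero_pow (Nat.succ_ne_zero n)] at hba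
      exact ha hba.symm
    have hcoef1 : Q.1 (((n + 1 : ℕ) : K) * (algebraMap k K b) ^ n) = 1 := by
      rw [hcoef]
      apply val_algebraMap
      exact mul_ne_zero (Nat.cast_ne_zero.2 (Nat.succ_ne_zero n)) (pow_ne_zero n hb0)
    have hfac : Q.1 (((n + 1 : ℕ) : K) * (algebraMap k K b) ^ n + c * y) = 1 := by
      rw [Valuation.map_add_eq_of_lt_left Q.1 (by rw [hcoef1]; exact hcy), hcoef1]
    have heq : t ^ (n + 1) - algebraMap k K a =
        y * (((n + 1 : ℕ) : K) * (algebraMap k K b) ^ n + c * y) := by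
      rw [hcn, ← hba, map_pow]
      ring
    rw [heq, map_mul, hfac, mul_one, hsim hy1]
  · have hconst : Q.1 ((algebraMap k K b) ^ (n + 1) - algebraMap k K a) = 1 := by
      rw [← map_pow, ← map_sub]
      exact val_algebraMap Q (sub_ne_zero.2 hba)
    have hrest : Q.1 (((n + 1 : ℕ) : K) * (algebraMap k K b) ^ n * y + c * y ^ 2) < 1 := by
      apply Valuation.map_add_lt
      · rw [map_mul]
        calc Q.1 (((n + 1 : ℕ) : K) * (algebraMap k K b) ^ n) * Q.1 y ≤ 1 * Q.1 y :=
              mul_le_mul' hcoef_le le_rfl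
          _ = Q.1 y := one_mul _
          _ < 1 := hy1
      · have e : c * y ^ 2 = (c * y) * y := by ring
        rw [e, map_mul]
        calc Q.1 (c * y) * Q.1 y ≤ 1 * Q.1 y := mul_le_mul' hcy.le le_rfl
          _ = Q.1 y := one_mul _
          _ < 1 := hy1
    have heq : t ^ (n + 1) - algebraMap k K a =
        ((algebraMap k K b) ^ (n + 1) - algebraMap k K a) +
          (((n + 1 : ℕ) : K) * (algebraMap k K b) ^ n * y + c * y ^ 2) := by
      rw [hcn]; ring
    rw [heq, Valuation.map_add_eq_of_lt_left Q.1 (by rw [hconst]; exact hrest), hconst,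
      ← WithZero.exp_zero, WithZero.exp_le_exp]
    norm_num

lemma val_eq_of_mem_L_single (hK : IsFunctionField k K) {Pinf Q : Place k K} (hQ : Q ≠ Pinf)
    {x : K} (hx0 : x ≠ 0) (hx : x ∈ L (Finsupp.single Pinf (1 : ℤ))) (hlt : Q.1 x < 1) :
    Q.1 x = WithZero.exp (-1) := by
  classical
  have hE := nonneg_add_div hK hx0 hx
  have hdeg : FunFld.Divisor.deg (Finsupp.single Pinf (1 : ℤ) + FunFld.div k x) = 1 := by
    rw [deg_add, deg_div hK, deg_single, deg_eq_one hK]; norm_num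
  obtain ⟨R, hR, -⟩ := eq_single_of_nonneg_of_deg_one hK hE hdeg
  have h1 : Q.ord x = (Finsupp.single R (1 : ℤ) : Divisor k K) Q -
      (Finsupp.single Pinf (1 : ℤ) : Divisor k K) Q := by
    rw [← hR, Finsupp.add_apply, div_apply hK]; ring
  have h2 : (Finsupp.single Pinf (1 : ℤ) : Divisor k K) Q = 0 := by
    rw [Finsupp.single_apply, if_neg (Ne.symm hQ)]
  have h3 : 0 < Q.ord x := (ord_pos_iff Q hx0).2 hlt
  rw [h2, Finsupp.single_apply] at h1
  have h4 : Q.ord x = 1 := by
    split_ifs at h1 <;> omega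
  rw [val_eq_exp Q hx0, h4]

theorem ord_sub_const_le_pos [CharZero k] (hK : IsFunctionField k K) (hg0 : genus k K = 0)
    {P0 Pinf : Place k K} (hne : P0 ≠ Pinf) (m : ℕ) (hm : 0 < m) {φ : K} (hφ0 : φ ≠ 0)
    (hdiv : FunFld.div k φ = Finsupp.single P0 (m : ℤ) - Finsupp.single Pinf (m : ℤ))
    {c : k} (hc : c ≠ 0) {Q : Place k K} (hQ : Q ≠ Pinf) :
    WithZero.exp (-1) ≤ Q.1 (φ - algebraMap k K c) := by
  classical
  have hdegE : FunFld.Divisor.deg
      (Finsupp.single Pinf (1 : ℤ) - Finsupp.single P0 (1 : ℤ) : Divisor k K) = 0 := by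
    rw [deg_sub, deg_single, deg_single, deg_eq_one hK, deg_eq_one hK]; norm_num
  have hell : (ell (Finsupp.single Pinf (1 : ℤ) - Finsupp.single P0 (1 : ℤ) : Divisor k K) : ℤ)
      = 1 := by
    have h := ell_eq_of_deg_ge hK (Finsupp.single Pinf (1 : ℤ) - Finsupp.single P0 (1 : ℤ))
      (by rw [hg0, hdegE]; norm_num)
    rw [h, hg0, hdegE]; norm_num
  obtain ⟨t, ht0, htL⟩ := exists_ne_zero_of_ell_pos hK (le_of_eq hell.symm)
  have hE := nonneg_add_div hK ht0 htL
  have hEdeg : FunFld.Divisor.deg (Finsupp.single Pinf (1 : ℤ) - Finsupp.single P0 (1 : ℤ) +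
      FunFld.div k t) = 0 := by
    rw [deg_add, deg_div hK, hdegE]; norm_num
  have hE0 := eq_zero_of_nonneg_of_deg_zero hK hE hEdeg
  have hdivt : FunFld.div k t = Finsupp.single P0 (1 : ℤ) - Finsupp.single Pinf (1 : ℤ) := by
    have h : FunFld.div k t = (Finsupp.single Pinf (1 : ℤ) - Finsupp.single P0 (1 : ℤ) +
        FunFld.div k t) - (Finsupp.single Pinf (1 : ℤ) - Finsupp.single P0 (1 : ℤ)) := by abel
    rw [h, hE0]; abel
  have htm0 : t ^ m ≠ 0 := pow_ne_zero m ht0
  have hdiv2 : FunFld.div k (φ / t ^ m) = 0 := by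
    rw [div_div' hK hφ0 htm0, div_pow hK, hdiv, hdivt]
    ext R
    simp only [Finsupp.sub_apply, Finsupp.smul_apply, Finsupp.single_apply, Finsupp.zero_apply,
      nsmul_eq_mul]
    split_ifs <;> ring
  obtain ⟨u, hu⟩ := const_of_div_eq_zero hK (div_ne_zero hφ0 htm0) hdiv2
  have hu0 : u ≠ 0 := by
    rintro rfl
    rw [map_zero] at hu
    exact div_ne_zero hφ0 htm0 hu
  have hφ : φ = algebraMap k K u * t ^ m := by
    rw [← hu]; field_simp
  have htQ : Q.1 t ≤ 1 := by
    have h : Q.1 t ≤ WithZero.exp 0 := by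
      rw [val_le_exp_iff Q ht0, ← div_apply hK, hdivt, Finsupp.sub_apply,
        Finsupp.single_apply, Finsupp.single_apply, if_neg (Ne.symm hQ)]
      split_ifs <;> norm_num
    exact h.trans_eq WithZero.exp_zero
  have htL1 : t ∈ L (Finsupp.single Pinf (1 : ℤ)) := by
    refine L_mono ?_ htL
    exact sub_le_self _ (single_one_nonneg P0)
  have hconstL : ∀ b : k, algebraMap k K b ∈ L (Finsupp.single Pinf (1 : ℤ)) := by
    intro b
    refine L_mono (single_one_nonneg Pinf) ?_
    rw [L_zero hK, Submodule.mem_one]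
    exact ⟨b, rfl⟩
  have htb0 : ∀ b : k, t - algebraMap k K b ≠ 0 := by
    intro b hb
    have h1 : t = algebraMap k K b := sub_eq_zero.1 hb
    have h2 : P0.ord t = 1 := by
      rw [← div_apply hK, hdivt, Finsupp.sub_apply, Finsupp.single_apply, Finsupp.single_apply,
        if_pos rfl, if_neg (Ne.symm hne)]
      norm_num
    rw [h1, ord_algebraMap] at h2
    omega
  have hsimple : ∀ b : k, Q.1 (t - algebraMap k K b) < 1 →
      Q.1 (t - algebraMap k K b) = WithZero.exp (-1) := by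
    intro b hlt
    exact val_eq_of_mem_L_single hK hQ (htb0 b) (Submodule.sub_mem _ htL1 (hconstL b)) hlt
  have ha : c / u ≠ 0 := div_ne_zero hc hu0
  have hA := val_pow_sub_ge hK Q t htQ hsimple m hm (c / u) ha
  have huK : algebraMap k K u ≠ 0 := (map_ne_zero _).2 hu0
  have heq : φ - algebraMap k K c =
      algebraMap k K u * (t ^ m - algebraMap k K (c / u)) := by
    have h1 : algebraMap k K u * (algebraMap k K c / algebraMap k K u) = algebraMap k K c := by
      field_simp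
    rw [hφ, map_div₀, mul_sub, h1]
  rw [heq, map_mul, val_algebraMap Q hu0, one_mul]
  exact hA

theorem ord_sub_const_le_one [CharZero k] (hK : IsFunctionField k K) (hg0 : genus k K = 0)
    {P P' : Place k K} (hne : P ≠ P') (n : ℤ) (hn : n ≠ 0) {φ : K} (hφ0 : φ ≠ 0)
    (hdiv : FunFld.div k φ = Finsupp.single P n - Finsupp.single P' n) {c : k} (hc : c ≠ 0)
    {Q : Place k K} (hQP : Q ≠ P) (hQP' : Q ≠ P') (hne0 : φ - algebraMap k K c ≠ 0) :
    Q.ord (φ - algebraMap k K c) ≤ 1 := by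
  classical
  have hconv : ∀ x : K, x ≠ 0 → WithZero.exp (-1) ≤ Q.1 x → Q.ord x ≤ 1 := by
    intro x hx h
    rw [val_eq_exp Q hx, WithZero.exp_le_exp] at h
    omega
  rcases lt_or_gt_of_ne hn with hneg | hpos
  · have hdiv' : FunFld.div k φ⁻¹ = Finsupp.single P (((-n).toNat : ℕ) : ℤ) -
        Finsupp.single P' (((-n).toNat : ℕ) : ℤ) := by
      rw [div_inv hK, hdiv, Int.toNat_of_nonneg (by omega), Finsupp.single_neg,
        Finsupp.single_neg]
      abel
    have h1 := ord_sub_const_le_pos hK hg0 hne (-n).toNat (by omega)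
      (inv_ne_zero hφ0) hdiv' (inv_ne_zero hc) hQP'
    rw [map_inv₀] at h1
    have hcK : algebraMap k K c ≠ 0 := (map_ne_zero _).2 hc
    have heq : φ⁻¹ - (algebraMap k K c)⁻¹ =
        -(φ - algebraMap k K c) * ((algebraMap k K c)⁻¹ * φ⁻¹) := by
      have e1 : φ * φ⁻¹ = 1 := mul_inv_cancel₀ hφ0
      have e2 : algebraMap k K c * (algebraMap k K c)⁻¹ = 1 := mul_inv_cancel₀ hcK
      calc φ⁻¹ - (algebraMap k K c)⁻¹ =
          (algebraMap k K c * (algebraMap k K c)⁻¹) * φ⁻¹ -
            (φ * φ⁻¹) * (algebraMap k K c)⁻¹ := by rw [e1, e2, one_mul, one_mul]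
        _ = _ := by ring
    have hordφ : Q.ord φ = 0 := by
      rw [← div_apply hK, hdiv, Finsupp.sub_apply, Finsupp.single_apply, Finsupp.single_apply,
        if_neg (Ne.symm hQP), if_neg (Ne.symm hQP')]
      norm_num
    have hval : Q.1 (φ⁻¹ - (algebraMap k K c)⁻¹) = Q.1 (φ - algebraMap k K c) := by
      rw [heq, map_mul, map_mul, Valuation.map_neg, map_inv₀, map_inv₀, val_algebraMap Q hc,
        val_eq_exp Q hφ0, hordφ]
      simp
    rw [hval] at h1
    exact hconv _ hne0 h1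
  · have hdiv' : FunFld.div k φ = Finsupp.single P ((n.toNat : ℕ) : ℤ) -
        Finsupp.single P' ((n.toNat : ℕ) : ℤ) := by
      rw [Int.toNat_of_nonneg (by omega)]; exact hdiv
    exact hconv _ hne0
      (ord_sub_const_le_pos hK hg0 hne n.toNat (by omega) hφ0 hdiv' hc hQP')

/-- genus zero, a cusp at `Q`: a member of `V` supported on `{P, P'}` is unique up to scalar -/
theorem unique_member [CharZero k] (hK : IsFunctionField k K) (hg0 : genus k K = 0) (d r : ℕ)
    (D : Divisor k K) (hD : D.deg = d)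
    (V : Submodule k K) (hV : V ≤ L D) (hVr : Module.finrank k ↥V = r + 1)
    (Q : Place k K) (hcusp : r ≤ Module.finrank k ↥(V ⊓ L (D - Finsupp.single Q (2 : ℤ))))
    (P P' : Place k K) (hP : P ≠ Q) (hP' : P' ≠ Q)
    (f g : K) (hf : f ∈ V) (hg : g ∈ V) (hf0 : f ≠ 0) (hg0' : g ≠ 0)
    (hfs : ∀ R : Place k K, R ≠ P → R ≠ P' → (FunFld.div k f + D) R = 0)
    (hgs : ∀ R : Place k K, R ≠ P → R ≠ P' → (FunFld.div k g + D) R = 0) :
    ∃ c : k, g = c • f := by
  classical
  by_contra hcon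
  push Not at hcon
  haveI : Module.Finite k ↥V := Module.finite_of_finrank_pos (by rw [hVr]; omega)
  obtain ⟨α, β, hαβ, hmem⟩ := exists_comb_mem (U := V ⊓ L (D - Finsupp.single Q (2 : ℤ)))
    (V := V) inf_le_left (by rw [hVr]; omega) hf hg
  have hφ0 : g / f ≠ 0 := div_ne_zero hg0' hf0
  have hE : ∀ R : Place k K, R ≠ P → R ≠ P' → FunFld.div k (g / f) R = 0 := by
    intro R h1 h2
    have e1 := hfs R h1 h2
    have e2 := hgs R h1 h2
    rw [Finsupp.add_apply] at e1 e2
    rw [div_div' hK hg0' hf0, Finsupp.sub_apply]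
    omega
  have hnc : ∀ c : k, g / f ≠ algebraMap k K c := by
    intro c hc
    apply hcon c
    rw [Algebra.smul_def, ← hc]
    field_simp
  have hdivne : FunFld.div k (g / f) ≠ 0 := by
    intro h0
    obtain ⟨c, hc⟩ := const_of_div_eq_zero hK hφ0 h0
    exact hnc c hc
  have hdeg0 := deg_div hK (g / f)
  have hPP' : P ≠ P' := by
    rintro rfl
    apply hdivne
    have h1 : FunFld.div k (g / f) = Finsupp.single P (FunFld.div k (g / f) P) := by
      ext R
      rw [Finsupp.single_apply]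
      split_ifs with h
      · rw [h]
      · exact hE R (Ne.symm h) (Ne.symm h)
    rw [h1, deg_single, deg_eq_one hK] at hdeg0
    have h2 : FunFld.div k (g / f) P = 0 := by simpa using hdeg0
    rw [h1, h2, Finsupp.single_zero]
  have hsum : FunFld.div k (g / f) = Finsupp.single P (FunFld.div k (g / f) P) +
      Finsupp.single P' (FunFld.div k (g / f) P') := by
    ext R
    rw [Finsupp.add_apply, Finsupp.single_apply, Finsupp.single_apply]
    by_cases h1 : P = R
    · rw [if_pos h1, if_neg (fun h2 => hPP' (h1.trans h2.symm)), h1, add_zero]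
    · by_cases h2 : P' = R
      · rw [if_neg h1, if_pos h2, h2, zero_add]
      · rw [if_neg h1, if_neg h2, add_zero]
        exact hE R (Ne.symm h1) (Ne.symm h2)
  have hrel : FunFld.div k (g / f) P' = - FunFld.div k (g / f) P := by
    have h1 := hdeg0
    rw [hsum, deg_add, deg_single, deg_single, deg_eq_one hK, deg_eq_one hK] at h1
    push_cast at h1
    linarith
  obtain ⟨n, hn⟩ : ∃ n : ℤ, n = FunFld.div k (g / f) P := ⟨_, rfl⟩
  have hdivφ : FunFld.div k (g / f) = Finsupp.single P n - Finsupp.single P' n := by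
    rw [hsum, hrel, ← hn, Finsupp.single_neg, sub_eq_add_neg]
  have hn0 : n ≠ 0 := by
    intro h0
    apply hdivne
    rw [hdivφ, h0, Finsupp.single_zero, Finsupp.single_zero, sub_self]
  have hQP : Q ≠ P := Ne.symm hP
  have hQP' : Q ≠ P' := Ne.symm hP'
  have hordf : Q.ord f = - D Q := by
    have e1 := hfs Q hQP hQP'
    rw [Finsupp.add_apply, div_apply hK] at e1
    omega
  have hordφ : Q.ord (g / f) = 0 := by
    rw [← div_apply hK]; exact hE Q hQP hQP'
  have hβ : β ≠ 0 := by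
    rintro rfl
    have hα : α ≠ 0 := by
      rcases hαβ with h | h
      · exact h
      · exact absurd rfl h
    rw [zero_smul, add_zero] at hmem
    have hx0 : α • f ≠ 0 := smul_ne_zero hα hf0
    have h1 := (val_le_exp_iff Q hx0 _).1 ((mem_L_iff _ _).1 hmem.2 Q)
    rw [Finsupp.sub_apply, Finsupp.single_eq_same, Algebra.smul_def,
      ord_mul Q ((map_ne_zero _).2 hα) hf0, ord_algebraMap, hordf] at h1
    omega
  obtain ⟨c, hc⟩ : ∃ c : k, c = -α / β := ⟨_, rfl⟩
  have hβK : algebraMap k K β ≠ 0 := (map_ne_zero _).2 hβ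
  have hcK : algebraMap k K c = -(algebraMap k K α) / algebraMap k K β := by
    rw [hc, map_div₀, map_neg]
  have hψ0 : g / f - algebraMap k K c ≠ 0 := sub_ne_zero.2 (hnc c)
  have hcomb : α • f + β • g = algebraMap k K β * f * (g / f - algebraMap k K c) := by
    have h1 : f * (g / f) = g := by field_simp
    have h2 : algebraMap k K β * (algebraMap k K α / algebraMap k K β) = algebraMap k K α := by
      field_simp
    rw [hcK, Algebra.smul_def, Algebra.smul_def]
    calc algebraMap k K α * f + algebraMap k K β * g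
        = algebraMap k K β * (f * (g / f)) +
          f * (algebraMap k K β * (algebraMap k K α / algebraMap k K β)) := by
          rw [h1, h2]; ring
      _ = algebraMap k K β * f * (g / f - -(algebraMap k K α) / algebraMap k K β) := by ring
  have hh0 : α • f + β • g ≠ 0 := by
    rw [hcomb]
    exact mul_ne_zero (mul_ne_zero hβK hf0) hψ0
  have hordh := (val_le_exp_iff Q hh0 _).1 ((mem_L_iff _ _).1 hmem.2 Q)
  rw [Finsupp.sub_apply, Finsupp.single_eq_same, hcomb,
    ord_mul Q (mul_ne_zero hβK hf0) hψ0, ord_mul Q hβK hf0, ord_algebraMap, hordf] at hordh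
  have hge2 : 2 ≤ Q.ord (g / f - algebraMap k K c) := by omega
  have hc0 : c ≠ 0 := by
    intro h0
    rw [h0, map_zero, sub_zero, hordφ] at hge2
    omega
  have hle := ord_sub_const_le_one hK hg0 hPP' n hn0 hφ0 hdivφ hc0 hQP hQP' hψ0
  omega

end AlgClosed

end Groth.Agent.Lib.lead.FF13
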