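import Mathlib
import Groth.Prelude.Def_W4bk4goldsch23FF
import Groth.Agent.Lib.lead.FF13

/-! Weights of linear series and chains of components. -/

namespace Groth.Agent.Lib.lead.FF14
open FunFld Groth.Agent.Lib.lead.FF Groth.Agent.Lib.lead.FF2 Groth.Agent.Lib.lead.FF3
  Groth.Agent.Lib.lead.FF4
  Groth.Agent.Lib.lead.FF5 Groth.Agent.Lib.lead.FF6 Groth.Agent.Lib.lead.FF7
  Groth.Agent.Lib.lead.FF8 Groth.Agent.Lib.lead.FF9 Groth.Agent.Lib.lead.FF10
  Groth.Agent.Lib.lead.FF11 Groth.Agent.Lib.lead.FF12 Groth.Agent.Lib.lead.FF13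

variable {k : Type*} [Field k]

/-- the sum of the vanishing orders of `V` at `P` -/
noncomputable def wt {K : Type*} [Field K] [Algebra k K] (V : Submodule k K) (D : Divisor k K)
    (P : Place k K) (d : ℕ) : ℕ :=
  ∑ n ∈ Finset.range d, Module.finrank k ↥(V ⊓ L (D - Finsupp.single P ((n : ℤ) + 1)))

/-- compatible aspects have complementary weights at the node -/
theorem wt_compat {KY KZ : Type*} [Field KY] [Algebra k KY] [Field KZ] [Algebra k KZ]
    (d r : ℕ) (VY : Submodule k KY) (DY : Divisor k KY) (P : Place k KY)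
    (VZ : Submodule k KZ) (DZ : Divisor k KZ) (Q : Place k KZ)
    (hcomp : ∀ m : ℕ, m ≤ d + 1 →
      Module.finrank k ↥(VY ⊓ L (DY - Finsupp.single P ((m : ℤ)))) +
        Module.finrank k ↥(VZ ⊓ L (DZ - Finsupp.single Q ((d : ℤ) + 1 - m))) = r + 1) :
    wt VY DY P d + wt VZ DZ Q d = (r + 1) * d := by
  obtain ⟨gY, hgY⟩ : ∃ gY : ℤ → ℕ,
      gY = fun z => Module.finrank k ↥(VY ⊓ L (DY - Finsupp.single P z)) := ⟨_, rfl⟩
  obtain ⟨gZ, hgZ⟩ : ∃ gZ : ℤ → ℕ,
      gZ = fun z => Module.finrank k ↥(VZ ⊓ L (DZ - Finsupp.single Q z)) := ⟨_, rfl⟩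
  have hc : ∀ m : ℕ, m ≤ d + 1 → gY (m : ℤ) + gZ ((d : ℤ) + 1 - m) = r + 1 := by
    intro m hm
    rw [hgY, hgZ]
    exact hcomp m hm
  have e1 : wt VY DY P d = ∑ n ∈ Finset.range d, gY ((n : ℤ) + 1) := by
    rw [hgY]; rfl
  have e2 : wt VZ DZ Q d = ∑ n ∈ Finset.range d, gZ ((n : ℤ) + 1) := by
    rw [hgZ]; rfl
  have hsum : ∑ n ∈ Finset.range d, gZ ((n : ℤ) + 1) =
      ∑ n ∈ Finset.range d, gZ (((d - 1 - n : ℕ) : ℤ) + 1) :=
    (Finset.sum_range_reflect (fun n => gZ ((n : ℤ) + 1)) d).symm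
  have hterm : ∀ n ∈ Finset.range d,
      gY ((n : ℤ) + 1) + gZ (((d - 1 - n : ℕ) : ℤ) + 1) = r + 1 := by
    intro n hn
    rw [Finset.mem_range] at hn
    have h := hc (n + 1) (by omega)
    have e4 : (d : ℤ) + 1 - ((n + 1 : ℕ) : ℤ) = ((d - 1 - n : ℕ) : ℤ) + 1 := by omega
    have e3 : ((n + 1 : ℕ) : ℤ) = (n : ℤ) + 1 := by push_cast; ring
    rw [e4, e3] at h
    exact h
  rw [e1, e2, hsum, ← Finset.sum_add_distrib, Finset.sum_congr rfl hterm, Finset.sum_const,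
    Finset.card_range, smul_eq_mul, mul_comm]

section AlgClosed
variable [IsAlgClosed k] {K : Type*} [Field K] [Algebra k K]

/-- the sum of the weights at two distinct points is at most `(r+1)d` -/
theorem wt_add_le (hK : IsFunctionField k K) (d r : ℕ) (D : Divisor k K) (hD : D.deg = d)
    (V : Submodule k K) (hVr : Module.finrank k ↥V = r + 1) {P Q : Place k K} (hPQ : P ≠ Q) :
    wt V D P d + wt V D Q d ≤ (r + 1) * d := by
  haveI : Module.Finite k ↥V := Module.finite_of_finrank_pos (by rw [hVr]; omega)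
  have key : ∀ (a b : ℕ → ℕ), (∀ n, n < d → a n + b (d - 1 - n) ≤ r + 1) →
      (∑ n ∈ Finset.range d, a n) + (∑ n ∈ Finset.range d, b n) ≤ (r + 1) * d := by
    intro a b hab
    rw [← Finset.sum_range_reflect b d, ← Finset.sum_add_distrib]
    calc ∑ n ∈ Finset.range d, (a n + b (d - 1 - n)) ≤ ∑ n ∈ Finset.range d, (r + 1) :=
          Finset.sum_le_sum (fun n hn => hab n (Finset.mem_range.1 hn))
      _ = (r + 1) * d := by rw [Finset.sum_const, Finset.card_range, smul_eq_mul, mul_comm]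
  have h1 : ∀ n : ℕ, n < d →
      Module.finrank k ↥(V ⊓ FunFld.L (D - Finsupp.single P ((n : ℤ) + 1))) +
        Module.finrank k ↥(V ⊓ FunFld.L (D - Finsupp.single Q (((d - 1 - n : ℕ) : ℤ) + 1))) ≤
        r + 1 := by
    intro n hn
    exact (vanishing_le hK d D hD V hPQ _ _ (by omega)).trans (le_of_eq hVr)
  exact key (fun n : ℕ => Module.finrank k ↥(V ⊓ FunFld.L (D - Finsupp.single P ((n : ℤ) + 1))))
    (fun n : ℕ => Module.finrank k ↥(V ⊓ FunFld.L (D - Finsupp.single Q ((n : ℤ) + 1)))) h1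

end AlgClosed

/-- along a chain, the weight at the upper node does not decrease -/
theorem chain_lower [IsAlgClosed k] (n : ℕ) (hn : 0 < n) (U : Fin (n + 1) → Type*)
    [∀ l, Field (U l)] [∀ l, Algebra k (U l)]
    (hU : ∀ l, FunFld.IsFunctionField k (U l))
    (d r : ℕ) (D : ∀ l, FunFld.Divisor k (U l)) (hD : ∀ l, (D l).deg = d)
    (V : ∀ l, Submodule k (U l))
    (hVr : ∀ l, Module.finrank k ↥(V l) = r + 1)
    (A B : ∀ l, FunFld.Place k (U l))
    (hAB : ∀ l : Fin (n + 1), 0 < (l : ℕ) → (l : ℕ) < n → A l ≠ B l)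
    (hcomp : ∀ (l : Fin n) (m : ℕ), m ≤ d + 1 →
      Module.finrank k ↥((V l.castSucc) ⊓ FunFld.L ((D l.castSucc) -
        Finsupp.single (B l.castSucc) ((m : ℤ)))) +
        Module.finrank k ↥((V l.succ) ⊓ FunFld.L ((D l.succ) -
          Finsupp.single (A l.succ) ((d : ℤ) + 1 - m))) = r + 1)
    (c : ℕ) (hc : wt (V 0) (D 0) (B 0) d + c + r * (r + 1) ≤ (r + 1) * d + r * (r + 1) / 2) :
    ∀ j : ℕ, ∀ h : j + 1 < n + 1,
      c + r * (r + 1) / 2 ≤ wt (V ⟨j + 1, h⟩) (D ⟨j + 1, h⟩) (A ⟨j + 1, h⟩) d := by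
  have heven : 2 * (r * (r + 1) / 2) = r * (r + 1) :=
    Nat.two_mul_div_two_of_even (Nat.even_mul_succ_self r)
  intro j
  induction j with
  | zero =>
    intro h
    have hC : wt (V 0) (D 0) (B 0) d +
        wt (V ⟨0 + 1, h⟩) (D ⟨0 + 1, h⟩) (A ⟨0 + 1, h⟩) d = (r + 1) * d :=
      wt_compat d r _ _ _ _ _ _ (hcomp ⟨0, hn⟩)
    omega
  | succ j ih =>
    intro h
    have hj : j + 1 < n := by omega
    have hj' : j + 1 < n + 1 := by omega
    have h1 := ih hj'
    have hC : wt (V ⟨j + 1, hj'⟩) (D ⟨j + 1, hj'⟩) (B ⟨j + 1, hj'⟩) d +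
        wt (V ⟨j + 1 + 1, h⟩) (D ⟨j + 1 + 1, h⟩) (A ⟨j + 1 + 1, h⟩) d = (r + 1) * d :=
      wt_compat d r _ _ _ _ _ _ (hcomp ⟨j + 1, hj⟩)
    have hF := wt_add_le (hU ⟨j + 1, hj'⟩) d r (D ⟨j + 1, hj'⟩) (hD _) (V ⟨j + 1, hj'⟩)
      (hVr _) (hAB ⟨j + 1, hj'⟩ (Nat.succ_pos j) hj)
    omega


section AlgClosed2
variable [IsAlgClosed k] {K : Type*} [Field K] [Algebra k K]

/-- large weights at two points produce two members supported on those points -/
theorem two_sections_of_weights (hK : IsFunctionField k K) (d r : ℕ) (hr : 1 ≤ r)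
    (D : Divisor k K) (hD : D.deg = d) (V : Submodule k K) (hV : V ≤ L D)
    (hVr : Module.finrank k ↥V = r + 1) (P Q : Place k K) (hPQ : P ≠ Q)
    (hw : (r + 1) * d + 1 ≤ wt V D P d + wt V D Q d + r) :
    ∃ i j : ℕ, i < j ∧ j ≤ d ∧ ∃ s t : K, s ∈ V ∧ t ∈ V ∧ s ≠ 0 ∧ t ≠ 0 ∧
      FunFld.div k s = Finsupp.single P (i : ℤ) + Finsupp.single Q ((d - i : ℕ) : ℤ) - D ∧
      FunFld.div k t = Finsupp.single P (j : ℤ) + Finsupp.single Q ((d - j : ℕ) : ℤ) - D := by
  classical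
  haveI : Module.Finite k ↥V := Module.finite_of_finrank_pos (by rw [hVr]; omega)
  obtain ⟨A, hA⟩ : ∃ A : ℕ → ℕ,
      A = fun i : ℕ => Module.finrank k ↥(V ⊓ L (D - Finsupp.single P (i : ℤ))) := ⟨_, rfl⟩
  obtain ⟨B, hB⟩ : ∃ B : ℕ → ℕ,
      B = fun i : ℕ => Module.finrank k ↥(V ⊓ L (D - Finsupp.single Q (i : ℤ))) := ⟨_, rfl⟩
  have hA' : ∀ i, A i = Module.finrank k ↥(V ⊓ L (D - Finsupp.single P (i : ℤ))) := by
    intro i
    rw [hA]
  have hB' : ∀ i, B i = Module.finrank k ↥(V ⊓ L (D - Finsupp.single Q (i : ℤ))) := by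
    intro i
    rw [hB]
  have hB0 : B 0 = r + 1 := by
    rw [hB', Nat.cast_zero, Finsupp.single_zero, sub_zero, inf_eq_left.2 hV, hVr]
  have hAend : A (d + 1) = 0 := by
    rw [hA', L_single_neg_eq_bot hK d D hD P _ (by push_cast; linarith), inf_bot_eq, finrank_bot]
  have hstep : ∀ i, A (i + 1) ≤ A i ∧ A i ≤ A (i + 1) + 1 := by
    intro i
    have h1 := step_le hK V (D - Finsupp.single P (i : ℤ)) P
    have h2 : D - Finsupp.single P (i : ℤ) - Finsupp.single P 1 =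
        D - Finsupp.single P ((i + 1 : ℕ) : ℤ) := by
      rw [sub_sub, ← Finsupp.single_add, Nat.cast_succ]
    rw [h2] at h1
    rw [hA', hA']
    exact h1
  have hF4 : ∀ i j : ℕ, d < i + j → A i + B j ≤ r + 1 := by
    intro i j hij
    rw [hA', hB', ← hVr]
    exact vanishing_le hK d D hD V hPQ _ _ (by exact_mod_cast hij)
  have hF5 : ∀ i j : ℕ, i + j = d → r + 2 ≤ A i + B j → ∃ s : K, s ∈ V ∧ s ≠ 0 ∧
      FunFld.div k s = Finsupp.single P (i : ℤ) + Finsupp.single Q (j : ℤ) - D := by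
    intro i j hij h
    rw [hA', hB'] at h
    exact exists_section' hK d D hD V hPQ _ _ (by exact_mod_cast hij) (by rw [hVr]; omega)
  have hw' : (r + 1) * d + 1 ≤
      (∑ n ∈ Finset.range d, A (n + 1)) + (∑ n ∈ Finset.range d, B (n + 1)) + r := by
    have e1 : (∑ n ∈ Finset.range d, A (n + 1)) = ∑ n ∈ Finset.range d,
        Module.finrank k ↥(V ⊓ L (D - Finsupp.single P ((n : ℤ) + 1))) :=
      Finset.sum_congr rfl (fun n _ => by rw [hA', Nat.cast_succ])
    have e2 : (∑ n ∈ Finset.range d, B (n + 1)) = ∑ n ∈ Finset.range d,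
        Module.finrank k ↥(V ⊓ L (D - Finsupp.single Q ((n : ℤ) + 1))) :=
      Finset.sum_congr rfl (fun n _ => by rw [hB', Nat.cast_succ])
    rw [e1, e2]
    exact hw
  -- telescoping
  have htel : ∀ n, (∑ i ∈ Finset.range n, (A i - A (i + 1))) + A n = A 0 := by
    intro n
    induction n with
    | zero => simp
    | succ n ih =>
      rw [Finset.sum_range_succ, add_assoc, Nat.sub_add_cancel (hstep n).1]
      exact ih
  have hA0 : A 0 = r + 1 := by
    rw [hA', Nat.cast_zero, Finsupp.single_zero, sub_zero, inf_eq_left.2 hV, hVr]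
  have hJ : ((Finset.range (d + 1)).filter (fun i => A (i + 1) < A i)).card = r + 1 := by
    rw [Finset.card_filter]
    have h1 := htel (d + 1)
    rw [hAend, add_zero, hA0] at h1
    rw [← h1]
    refine Finset.sum_congr rfl (fun i _ => ?_)
    have h2 := hstep i
    split_ifs with h3
    · omega
    · omega
  -- the bad set
  have hsumB : (∑ n ∈ Finset.range d, B (d - n)) = ∑ n ∈ Finset.range d, B (n + 1) := by
    rw [← Finset.sum_range_reflect (fun j => B (j + 1)) d]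
    refine Finset.sum_congr rfl (fun n hn => ?_)
    rw [Finset.mem_range] at hn
    congr 1
    omega
  have hbad : (((Finset.range d).filter (fun i => A (i + 1) + B (d - i) < r + 1)).card : ℤ) + 2
      ≤ r + 1 := by
    have h1 : ∀ i ∈ Finset.range d, A (i + 1) + B (d - i) ≤ r + 1 := by
      intro i hi
      rw [Finset.mem_range] at hi
      exact hF4 _ _ (by omega)
    have h2 : (∑ i ∈ Finset.range d, ((r : ℤ) + 1 - (A (i + 1) + B (d - i) : ℕ))) =
        ((r : ℤ) + 1) * d - ((∑ n ∈ Finset.range d, A (n + 1) : ℕ) : ℤ) -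
          ((∑ n ∈ Finset.range d, B (n + 1) : ℕ) : ℤ) := by
      rw [Finset.sum_sub_distrib, Finset.sum_const, Finset.card_range, ← hsumB]
      push_cast
      rw [Finset.sum_add_distrib]
      simp only [nsmul_eq_mul]
      ring
    have h3 : (((Finset.range d).filter (fun i => A (i + 1) + B (d - i) < r + 1)).card : ℤ) ≤
        ∑ i ∈ Finset.range d, ((r : ℤ) + 1 - (A (i + 1) + B (d - i) : ℕ)) := by
      rw [Finset.card_filter]
      push_cast
      apply Finset.sum_le_sum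
      intro i hi
      have h4 := h1 i hi
      split_ifs with h5
      · have h6 : ((A (i + 1) + B (d - i) : ℕ) : ℤ) + 1 ≤ (r : ℤ) + 1 := by exact_mod_cast h5
        push_cast at h6 ⊢
        linarith
      · have h6 : ((A (i + 1) + B (d - i) : ℕ) : ℤ) ≤ (r : ℤ) + 1 := by exact_mod_cast h4
        push_cast at h6 ⊢
        linarith
    have h7 : (((r + 1) * d + 1 : ℕ) : ℤ) ≤
        (((∑ n ∈ Finset.range d, A (n + 1)) + (∑ n ∈ Finset.range d, B (n + 1)) + r : ℕ) : ℤ) := by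
      exact_mod_cast hw'
    push_cast at h7
    rw [h2] at h3
    push_cast at h3
    linarith
  -- two good indices
  have hgood : 1 < (((Finset.range (d + 1)).filter (fun i => A (i + 1) < A i)) \
      ((Finset.range d).filter (fun i => A (i + 1) + B (d - i) < r + 1))).card := by
    have h1 := Finset.le_card_sdiff
      ((Finset.range d).filter (fun i => A (i + 1) + B (d - i) < r + 1))
      ((Finset.range (d + 1)).filter (fun i => A (i + 1) < A i))
    rw [hJ] at h1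
    have h2 : ((Finset.range d).filter (fun i => A (i + 1) + B (d - i) < r + 1)).card + 2 ≤
        r + 1 := by exact_mod_cast hbad
    omega
  obtain ⟨i₁, hi₁, i₂, hi₂, hne⟩ := Finset.one_lt_card.1 hgood
  have hsec : ∀ i, i ∈ (((Finset.range (d + 1)).filter (fun i => A (i + 1) < A i)) \
      ((Finset.range d).filter (fun i => A (i + 1) + B (d - i) < r + 1))) →
      i ≤ d ∧ ∃ s : K, s ∈ V ∧ s ≠ 0 ∧
        FunFld.div k s = Finsupp.single P (i : ℤ) + Finsupp.single Q ((d - i : ℕ) : ℤ) - D := by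
    intro i hi
    rw [Finset.mem_sdiff, Finset.mem_filter, Finset.mem_filter, Finset.mem_range,
      Finset.mem_range] at hi
    obtain ⟨⟨hid, hjump⟩, hnb⟩ := hi
    have hid' : i ≤ d := by omega
    refine ⟨hid', hF5 i (d - i) (by omega) ?_⟩
    by_cases hlt : i < d
    · have h1 : ¬ A (i + 1) + B (d - i) < r + 1 := fun h => hnb ⟨hlt, h⟩
      omega
    · have hi_eq : i = d := by omega
      rw [hi_eq, Nat.sub_self, hB0]
      rw [hi_eq] at hjump
      omega
  obtain ⟨hi₁d, s₁, hs₁V, hs₁0, hs₁⟩ := hsec i₁ hi₁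
  obtain ⟨hi₂d, s₂, hs₂V, hs₂0, hs₂⟩ := hsec i₂ hi₂
  rcases lt_or_gt_of_ne hne with hlt | hgt
  · exact ⟨i₁, i₂, hlt, hi₂d, s₁, s₂, hs₁V, hs₂V, hs₁0, hs₂0, hs₁, hs₂⟩
  · exact ⟨i₂, i₁, hgt, hi₁d, s₂, s₁, hs₂V, hs₁V, hs₂0, hs₁0, hs₂, hs₁⟩

/-- genus zero with a cusp at `Q`: the weights at two further points have a defect of `r` -/
theorem wt_add_le_cusp [CharZero k] (hK : IsFunctionField k K) (hg0 : genus k K = 0) (d r : ℕ)
    (D : Divisor k K) (hD : D.deg = d) (V : Submodule k K) (hV : V ≤ L D)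
    (hVr : Module.finrank k ↥V = r + 1) (Q : Place k K)
    (hcusp : r ≤ Module.finrank k ↥(V ⊓ L (D - Finsupp.single Q (2 : ℤ))))
    {P P' : Place k K} (hPP' : P ≠ P') (hP : P ≠ Q) (hP' : P' ≠ Q) :
    wt V D P d + wt V D P' d + r ≤ (r + 1) * d := by
  classical
  rcases Nat.eq_zero_or_pos r with hr0 | hr
  · have h1 := wt_add_le hK d r D hD V hVr hPP'
    omega
  · by_contra hcon
    push Not at hcon
    obtain ⟨i, j, hij, hjd, s, t, hsV, htV, hs0, ht0, hs, ht⟩ :=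
      two_sections_of_weights hK d r hr D hD V hV hVr P P' hPP' (by omega)
    have supp : ∀ (x : K) (m : ℕ),
        FunFld.div k x = Finsupp.single P (m : ℤ) + Finsupp.single P' ((d - m : ℕ) : ℤ) - D →
        ∀ R : Place k K, R ≠ P → R ≠ P' → (FunFld.div k x + D) R = 0 := by
      intro x m hx R hR1 hR2
      rw [hx, Finsupp.add_apply, Finsupp.sub_apply, Finsupp.add_apply, Finsupp.single_apply,
        Finsupp.single_apply, if_neg (Ne.symm hR1), if_neg (Ne.symm hR2)]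
      ring
    obtain ⟨c, hc⟩ := unique_member hK hg0 d r D hD V hV hVr Q hcusp P P' hP hP' s t hsV htV
      hs0 ht0 (supp s i hs) (supp t j ht)
    have hc0 : c ≠ 0 := by
      rintro rfl
      rw [zero_smul] at hc
      exact ht0 hc
    have hdiveq : FunFld.div k t = FunFld.div k s := by
      have h0 : FunFld.div k (algebraMap k K c) = 0 := by
        ext R
        rw [div_apply hK, ord_algebraMap, Finsupp.zero_apply]
      rw [hc, Algebra.smul_def, Groth.Agent.Lib.lead.FF11.div_mul hK ((map_ne_zero _).2 hc0) hs0,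
        h0, zero_add]
    have h0 : ∀ x : ℤ, (Finsupp.single P' x : Divisor k K) P = 0 := fun x => by
      rw [Finsupp.single_apply, if_neg (Ne.symm hPP')]
    have h : FunFld.div k t P = FunFld.div k s P := by rw [hdiveq]
    rw [hs, ht] at h
    simp only [Finsupp.sub_apply, Finsupp.add_apply, Finsupp.single_eq_same, h0] at h
    omega

end AlgClosed2

/-- a chain ending in a component of positive genus forces cusps at the lower nodes -/
theorem chain_cusp [IsAlgClosed k] (n : ℕ) (U : Fin (n + 1) → Type*)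
    [∀ l, Field (U l)] [∀ l, Algebra k (U l)]
    (hU : ∀ l, FunFld.IsFunctionField k (U l))
    (d r : ℕ) (hd : 1 ≤ d) (D : ∀ l, FunFld.Divisor k (U l)) (hD : ∀ l, (D l).deg = d)
    (V : ∀ l, Submodule k (U l))
    (hVr : ∀ l, Module.finrank k ↥(V l) = r + 1)
    (A B : ∀ l, FunFld.Place k (U l))
    (hAB : ∀ l : Fin (n + 1), 0 < (l : ℕ) → (l : ℕ) < n → A l ≠ B l)
    (hcomp : ∀ (l : Fin n) (m : ℕ), m ≤ d + 1 →
      Module.finrank k ↥((V l.castSucc) ⊓ FunFld.L ((D l.castSucc) -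
        Finsupp.single (B l.castSucc) ((m : ℤ)))) +
        Module.finrank k ↥((V l.succ) ⊓ FunFld.L ((D l.succ) -
          Finsupp.single (A l.succ) ((d : ℤ) + 1 - m))) = r + 1)
    (hpos : 0 < FunFld.genus k (U (Fin.last n))) :
    ∀ m j : ℕ, ∀ h : j < n, j + m + 1 = n →
      r ≤ Module.finrank k ↥(V ⟨j, Nat.lt_succ_of_lt h⟩ ⊓
        FunFld.L (D ⟨j, Nat.lt_succ_of_lt h⟩ -
          Finsupp.single (B ⟨j, Nat.lt_succ_of_lt h⟩) (2 : ℤ))) := by
  have hVfin : ∀ l, Module.Finite k ↥(V l) := fun l =>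
    Module.finite_of_finrank_pos (by rw [hVr l]; omega)
  have e : (d : ℤ) + 1 - ((2 : ℕ) : ℤ) = (d : ℤ) - 1 := by push_cast; ring
  have e2 : ((2 : ℕ) : ℤ) = (2 : ℤ) := by norm_num
  have hlast : ∀ x : Fin (n + 1), (x : ℕ) = n →
      Module.finrank k ↥(V x ⊓ FunFld.L (D x - Finsupp.single (A x) ((d : ℤ) - 1))) ≤ 1 := by
    intro x hx
    have hx' : x = Fin.last n := Fin.ext hx
    subst hx'
    haveI := hVfin (Fin.last n)
    exact finrank_le_one_of_genus_pos (hU _) hpos d (D _) (hD _) (V _) (A _)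
  intro m
  induction m with
  | zero =>
    intro j h hj
    have hj1 : j + 1 < n + 1 := by omega
    have h1 := hlast ⟨j + 1, hj1⟩ (show j + 1 = n by omega)
    have h2 := hcomp ⟨j, h⟩ 2 (by omega)
    rw [e, e2] at h2
    have h3 : Module.finrank k ↥(V ⟨j, Nat.lt_succ_of_lt h⟩ ⊓
        FunFld.L (D ⟨j, Nat.lt_succ_of_lt h⟩ -
          Finsupp.single (B ⟨j, Nat.lt_succ_of_lt h⟩) (2 : ℤ))) +
        Module.finrank k ↥(V ⟨j + 1, hj1⟩ ⊓ FunFld.L (D ⟨j + 1, hj1⟩ -
          Finsupp.single (A ⟨j + 1, hj1⟩) ((d : ℤ) - 1))) = r + 1 := h2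
    omega
  | succ m ih =>
    intro j h hj
    have hj1 : j + 1 < n := by omega
    have h0 := ih (j + 1) hj1 (by omega)
    haveI := hVfin ⟨j + 1, Nat.lt_succ_of_lt hj1⟩
    have h1 := vanishing_le (hU ⟨j + 1, Nat.lt_succ_of_lt hj1⟩) d (D _) (hD _)
      (V ⟨j + 1, Nat.lt_succ_of_lt hj1⟩)
      (hAB ⟨j + 1, Nat.lt_succ_of_lt hj1⟩ (Nat.succ_pos j) hj1) ((d : ℤ) - 1) (2 : ℤ)
      (by linarith)
    rw [hVr] at h1
    have h2 := hcomp ⟨j, h⟩ 2 (by omega)
    rw [e, e2] at h2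
    have h3 : Module.finrank k ↥(V ⟨j, Nat.lt_succ_of_lt h⟩ ⊓
        FunFld.L (D ⟨j, Nat.lt_succ_of_lt h⟩ -
          Finsupp.single (B ⟨j, Nat.lt_succ_of_lt h⟩) (2 : ℤ))) +
        Module.finrank k ↥(V ⟨j + 1, Nat.lt_succ_of_lt hj1⟩ ⊓
          FunFld.L (D ⟨j + 1, Nat.lt_succ_of_lt hj1⟩ -
            Finsupp.single (A ⟨j + 1, Nat.lt_succ_of_lt hj1⟩) ((d : ℤ) - 1))) = r + 1 := h2
    omega


section Weights
variable [IsAlgClosed k] {K : Type*} [Field K] [Algebra k K]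

lemma exists_ne_place (hK : IsFunctionField k K) (P : Place k K) : ∃ P' : Place k K, P' ≠ P := by
  obtain ⟨x, hx, -⟩ := hK.1
  have hx' : x ∉ Set.range (algebraMap k K) := by
    rintro ⟨c, rfl⟩
    exact hx (isAlgebraic_algebraMap c)
  obtain ⟨⟨P₁, h1⟩, ⟨P₂, h2⟩⟩ := exists_zero_and_pole hK hx'
  by_cases h : P₁ = P
  · refine ⟨P₂, fun h' => ?_⟩
    rw [h'] at h2
    rw [h] at h1
    exact lt_irrefl _ (h1.trans h2)
  · exact ⟨P₁, h⟩

lemma two_mul_sum_succ (r : ℕ) : 2 * ∑ j ∈ Finset.range r, (j + 1) = r * (r + 1) := by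
  induction r with
  | zero => simp
  | succ r ih => rw [Finset.sum_range_succ, mul_add, ih]; ring

lemma gauss_bound (g' : ℕ → ℕ) (r d' : ℕ) (h : ∀ n, r ≤ g' n + n) (hrd : r ≤ d') :
    r * (r + 1) ≤ 2 * ∑ n ∈ Finset.range d', g' n := by
  have h1 : ∑ n ∈ Finset.range r, g' n ≤ ∑ n ∈ Finset.range d', g' n :=
    Finset.sum_le_sum_of_subset (Finset.range_subset_range.2 hrd)
  have h2 : ∑ n ∈ Finset.range r, (r - n) ≤ ∑ n ∈ Finset.range r, g' n :=
    Finset.sum_le_sum (fun n _ => by have := h n; omega)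
  have h3 : ∑ n ∈ Finset.range r, (r - n) = ∑ j ∈ Finset.range r, (j + 1) := by
    rw [← Finset.sum_range_reflect (fun j => j + 1) r]
    refine Finset.sum_congr rfl (fun n hn => ?_)
    rw [Finset.mem_range] at hn
    show r - n = r - 1 - n + 1
    omega
  have h4 := two_mul_sum_succ r
  omega

/-- the basic facts on the dimensions `g n = dim V(-nP)` -/
lemma dims_facts (hK : IsFunctionField k K) (d r : ℕ) (D : Divisor k K) (hD : D.deg = d)
    (V : Submodule k K) (hV : V ≤ L D) (hVr : Module.finrank k ↥V = r + 1) (P : Place k K) :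
    ∃ g : ℕ → ℕ, (∀ n : ℕ, g n = Module.finrank k ↥(V ⊓ L (D - Finsupp.single P (n : ℤ)))) ∧
      g 0 = r + 1 ∧ (∀ n, d < n → g n = 0) ∧ (∀ n, g (n + 1) ≤ g n ∧ g n ≤ g (n + 1) + 1) ∧
      wt V D P d = ∑ n ∈ Finset.range d, g (n + 1) := by
  haveI : Module.Finite k ↥V := Module.finite_of_finrank_pos (by rw [hVr]; omega)
  refine ⟨fun n : ℕ => Module.finrank k ↥(V ⊓ L (D - Finsupp.single P (n : ℤ))),
    fun n => rfl, ?_, ?_, ?_, ?_⟩
  · show Module.finrank k ↥(V ⊓ L (D - Finsupp.single P ((0 : ℕ) : ℤ))) = r + 1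
    rw [Nat.cast_zero, Finsupp.single_zero, sub_zero, inf_eq_left.2 hV, hVr]
  · intro n hn
    show Module.finrank k ↥(V ⊓ L (D - Finsupp.single P (n : ℤ))) = 0
    rw [L_single_neg_eq_bot hK d D hD P _ (by exact_mod_cast hn), inf_bot_eq, finrank_bot]
  · intro i
    have h1 := step_le hK V (D - Finsupp.single P (i : ℤ)) P
    have h2 : D - Finsupp.single P (i : ℤ) - Finsupp.single P 1 =
        D - Finsupp.single P ((i + 1 : ℕ) : ℤ) := by
      rw [sub_sub, ← Finsupp.single_add, Nat.cast_succ]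
    rw [h2] at h1
    exact h1
  · show wt V D P d = ∑ n ∈ Finset.range d,
      Module.finrank k ↥(V ⊓ L (D - Finsupp.single P ((n + 1 : ℕ) : ℤ)))
    unfold wt
    exact Finset.sum_congr rfl (fun n _ => by rw [Nat.cast_succ])

theorem wt_ge (hK : IsFunctionField k K) (d r : ℕ) (D : Divisor k K) (hD : D.deg = d)
    (V : Submodule k K) (hV : V ≤ L D) (hVr : Module.finrank k ↥V = r + 1) (P : Place k K) :
    r * (r + 1) ≤ 2 * wt V D P d := by
  obtain ⟨g, -, hg0, hgd, hstep, hwt⟩ := dims_facts hK d r D hD V hV hVr P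
  have hlow : ∀ n, r + 1 ≤ g n + n := by
    intro n
    induction n with
    | zero => omega
    | succ n ih => have := hstep n; omega
  have hrd : r ≤ d := by
    have h1 := hlow (d + 1)
    have h2 := hgd (d + 1) (by omega)
    omega
  rw [hwt]
  exact gauss_bound (fun n => g (n + 1)) r d (fun n => by have := hlow (n + 1); omega) hrd

theorem wt_ge_cusp (hK : IsFunctionField k K) (d r : ℕ) (D : Divisor k K) (hD : D.deg = d)
    (V : Submodule k K) (hV : V ≤ L D) (hVr : Module.finrank k ↥V = r + 1) (P : Place k K)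
    (hcusp : r ≤ Module.finrank k ↥(V ⊓ L (D - Finsupp.single P (2 : ℤ)))) :
    r * (r + 1) + 2 * r ≤ 2 * wt V D P d := by
  obtain ⟨g, hg, hg0, hgd, hstep, hwt⟩ := dims_facts hK d r D hD V hV hVr P
  rcases Nat.eq_zero_or_pos r with hr0 | hr
  · subst hr0
    omega
  · have hg2 : r ≤ g 2 := by
      rw [hg 2]
      have e : ((2 : ℕ) : ℤ) = (2 : ℤ) := by norm_num
      rw [e]
      exact hcusp
    have hlow2 : ∀ n, r ≤ g (n + 1 + 1) + n := by
      intro n
      induction n with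
      | zero => exact hg2
      | succ n ih => have := hstep (n + 1 + 1); omega
    have hg1 : r ≤ g 1 := by
      have := hstep 1
      have e : g (1 + 1) = g 2 := rfl
      omega
    have hd1 : 1 ≤ d := by
      by_contra hd0
      have := hgd 1 (by omega)
      omega
    obtain ⟨d', rfl⟩ : ∃ d', d = d' + 1 := ⟨d - 1, by omega⟩
    have hrd : r ≤ d' := by
      have h1 := hlow2 d'
      have h2 := hgd (d' + 1 + 1) (by omega)
      omega
    rw [hwt, Finset.sum_range_succ']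
    have h3 := gauss_bound (fun n => g (n + 1 + 1)) r d' hlow2 hrd
    have e0 : g (0 + 1) = g 1 := rfl
    omega

/-- an inner rational component: the weights at the two nodes, with a defect for a cusp -/
theorem comp_inner [CharZero k] (hK : IsFunctionField k K) (hg0 : genus k K = 0) (d r : ℕ)
    (D : Divisor k K) (hD : D.deg = d) (V : Submodule k K) (hV : V ≤ L D)
    (hVr : Module.finrank k ↥V = r + 1) {P P' : Place k K} (hPP' : P ≠ P')
    (t : Prop) [Decidable t]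
    (ht : t → ∃ Q : Place k K, P ≠ Q ∧ P' ≠ Q ∧
      r ≤ Module.finrank k ↥(V ⊓ L (D - Finsupp.single Q (2 : ℤ)))) :
    wt V D P d + wt V D P' d + (if t then r else 0) ≤ (r + 1) * d := by
  by_cases h : t
  · obtain ⟨Q, h1, h2, h3⟩ := ht h
    rw [if_pos h]
    exact wt_add_le_cusp hK hg0 d r D hD V hV hVr Q h3 hPP' h1 h2
  · rw [if_neg h]
    exact wt_add_le hK d r D hD V hVr hPP'

/-- an end component: the weight at its node -/
theorem comp_end (hK : IsFunctionField k K) (d r : ℕ)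
    (D : Divisor k K) (hD : D.deg = d) (V : Submodule k K) (hV : V ≤ L D)
    (hVr : Module.finrank k ↥V = r + 1) (P : Place k K)
    (t : Prop) [Decidable t]
    (ht : t → ∃ Q : Place k K, Q ≠ P ∧
      r ≤ Module.finrank k ↥(V ⊓ L (D - Finsupp.single Q (2 : ℤ)))) :
    2 * wt V D P d + r * (r + 1) + 2 * r * (if t then 1 else 0) ≤ 2 * ((r + 1) * d) := by
  by_cases h : t
  · obtain ⟨Q, h1, h2⟩ := ht h
    rw [if_pos h]
    have h3 := wt_add_le hK d r D hD V hVr h1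
    have h4 := wt_ge_cusp hK d r D hD V hV hVr Q h2
    omega
  · rw [if_neg h]
    obtain ⟨X, hX⟩ := exists_ne_place hK P
    have h3 := wt_add_le hK d r D hD V hVr hX
    have h4 := wt_ge hK d r D hD V hV hVr X
    omega

end Weights

lemma card_filter_lt_succ {M : ℕ} (T : Finset (Fin M)) (j : ℕ) (hj : j < M) :
    (T.filter (fun i : Fin M => (i : ℕ) < j + 1)).card =
      (T.filter (fun i : Fin M => (i : ℕ) < j)).card + (if (⟨j, hj⟩ : Fin M) ∈ T then 1 else 0) := by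
  classical
  have h1 : T.filter (fun i : Fin M => (i : ℕ) < j + 1) =
      T.filter (fun i : Fin M => (i : ℕ) < j) ∪ T.filter (fun i : Fin M => i = ⟨j, hj⟩) := by
    ext i
    simp only [Finset.mem_filter, Finset.mem_union]
    constructor
    · rintro ⟨hT, hlt⟩
      by_cases h : (i : ℕ) < j
      · exact Or.inl ⟨hT, h⟩
      · exact Or.inr ⟨hT, Fin.ext (show (i : ℕ) = j by omega)⟩
    · rintro (⟨hT, hlt⟩ | ⟨hT, rfl⟩)
      · exact ⟨hT, by omega⟩
      · exact ⟨hT, Nat.lt_succ_self j⟩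
  have h2 : Disjoint (T.filter (fun i : Fin M => (i : ℕ) < j)) (T.filter (fun i : Fin M => i = ⟨j, hj⟩)) := by
    rw [Finset.disjoint_left]
    intro i h1 h2
    rw [Finset.mem_filter] at h1 h2
    have h3 := h1.2
    rw [h2.2] at h3
    exact lt_irrefl _ h3
  rw [h1, Finset.card_union_of_disjoint h2, Finset.filter_eq']
  split_ifs <;> simp

/-- along a backbone of rational components, the weight at the upper node grows by `r` per tail -/
theorem backbone_prefix [IsAlgClosed k] [CharZero k] (N : ℕ) (hN : 0 < N)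
    (Z : Fin (N + 1) → Type*) [∀ i, Field (Z i)] [∀ i, Algebra k (Z i)]
    (hZ : ∀ i, FunFld.IsFunctionField k (Z i)) (hrat : ∀ i, FunFld.genus k (Z i) = 0)
    (d r : ℕ) (D : ∀ i, FunFld.Divisor k (Z i)) (hD : ∀ i, (D i).deg = d)
    (V : ∀ i, Submodule k (Z i)) (hV : ∀ i, V i ≤ FunFld.L (D i))
    (hVr : ∀ i, Module.finrank k ↥(V i) = r + 1)
    (A B : ∀ i, FunFld.Place k (Z i))
    (hAB : ∀ i : Fin (N + 1), 0 < (i : ℕ) → (i : ℕ) < N → A i ≠ B i)
    (hcomp : ∀ (l : Fin N) (m : ℕ), m ≤ d + 1 →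
      Module.finrank k ↥((V l.castSucc) ⊓ FunFld.L ((D l.castSucc) -
        Finsupp.single (B l.castSucc) ((m : ℤ)))) +
        Module.finrank k ↥((V l.succ) ⊓ FunFld.L ((D l.succ) -
          Finsupp.single (A l.succ) ((d : ℤ) + 1 - m))) = r + 1)
    (T : Finset (Fin (N + 1))) (Q : ∀ i, FunFld.Place k (Z i))
    (hQA : ∀ i ∈ T, 0 < (i : ℕ) → Q i ≠ A i) (hQB : ∀ i ∈ T, (i : ℕ) < N → Q i ≠ B i)
    (hcusp : ∀ i ∈ T, r ≤ Module.finrank k ↥((V i) ⊓ FunFld.L ((D i) -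
      Finsupp.single (Q i) ((2 : ℤ))))) :
    ∀ j : ℕ, ∀ h : j + 1 < N + 1,
      r * (r + 1) + 2 * r * (T.filter (fun i : Fin (N + 1) => (i : ℕ) < j + 1)).card ≤
        2 * wt (V ⟨j + 1, h⟩) (D ⟨j + 1, h⟩) (A ⟨j + 1, h⟩) d := by
  classical
  intro j
  induction j with
  | zero =>
    intro h
    have h0 : 0 < N + 1 := by omega
    have hC : wt (V ⟨0, h0⟩) (D ⟨0, h0⟩) (B ⟨0, h0⟩) d +
        wt (V ⟨0 + 1, h⟩) (D ⟨0 + 1, h⟩) (A ⟨0 + 1, h⟩) d = (r + 1) * d :=
      wt_compat d r _ _ _ _ _ _ (hcomp ⟨0, hN⟩)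
    have hE := comp_end (hZ ⟨0, h0⟩) d r (D ⟨0, h0⟩) (hD _) (V ⟨0, h0⟩) (hV _) (hVr _)
      (B ⟨0, h0⟩) ((⟨0, h0⟩ : Fin (N + 1)) ∈ T)
      (fun hT => ⟨Q ⟨0, h0⟩, hQB ⟨0, h0⟩ hT hN, hcusp ⟨0, h0⟩ hT⟩)
    have hcard := card_filter_lt_succ T 0 h0
    have hempty : (T.filter (fun i : Fin (N + 1) => (i : ℕ) < 0)).card = 0 := by
      rw [Finset.card_eq_zero, Finset.filter_eq_empty_iff]
      intro i _
      exact Nat.not_lt_zero _
    rw [hcard, hempty, zero_add]
    omega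
  | succ j ih =>
    intro h
    have hj : j + 1 < N := by omega
    have hj' : j + 1 < N + 1 := by omega
    have h1 := ih hj'
    have hC : wt (V ⟨j + 1, hj'⟩) (D ⟨j + 1, hj'⟩) (B ⟨j + 1, hj'⟩) d +
        wt (V ⟨j + 1 + 1, h⟩) (D ⟨j + 1 + 1, h⟩) (A ⟨j + 1 + 1, h⟩) d = (r + 1) * d :=
      wt_compat d r _ _ _ _ _ _ (hcomp ⟨j + 1, hj⟩)
    have hI := comp_inner (hZ ⟨j + 1, hj'⟩) (hrat _) d r (D ⟨j + 1, hj'⟩) (hD _)
      (V ⟨j + 1, hj'⟩) (hV _) (hVr _) (hAB ⟨j + 1, hj'⟩ (Nat.succ_pos j) hj)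
      ((⟨j + 1, hj'⟩ : Fin (N + 1)) ∈ T)
      (fun hT => ⟨Q ⟨j + 1, hj'⟩, (hQA _ hT (Nat.succ_pos j)).symm, (hQB _ hT hj).symm,
        hcusp _ hT⟩)
    have hcard := card_filter_lt_succ T (j + 1) hj'
    rw [hcard, mul_add (2 * r)]
    by_cases hT : (⟨j + 1, hj'⟩ : Fin (N + 1)) ∈ T
    · rw [if_pos hT] at hI ⊢
      omega
    · rw [if_neg hT] at hI ⊢
      omega


lemma card_filter_gt_pred {M : ℕ} (T : Finset (Fin M)) (j : ℕ) (hj : j + 1 < M) :
    (T.filter (fun i : Fin M => j < (i : ℕ))).card =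
      (T.filter (fun i : Fin M => j + 1 < (i : ℕ))).card +
        (if (⟨j + 1, hj⟩ : Fin M) ∈ T then 1 else 0) := by
  classical
  have h1 : T.filter (fun i : Fin M => j < (i : ℕ)) =
      T.filter (fun i : Fin M => j + 1 < (i : ℕ)) ∪
        T.filter (fun i : Fin M => i = ⟨j + 1, hj⟩) := by
    ext i
    simp only [Finset.mem_filter, Finset.mem_union]
    constructor
    · rintro ⟨hT, hlt⟩
      by_cases h : j + 1 < (i : ℕ)
      · exact Or.inl ⟨hT, h⟩
      · exact Or.inr ⟨hT, Fin.ext (show (i : ℕ) = j + 1 by omega)⟩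
    · rintro (⟨hT, hlt⟩ | ⟨hT, rfl⟩)
      · exact ⟨hT, by omega⟩
      · exact ⟨hT, Nat.lt_succ_self j⟩
  have h2 : Disjoint (T.filter (fun i : Fin M => j + 1 < (i : ℕ)))
      (T.filter (fun i : Fin M => i = ⟨j + 1, hj⟩)) := by
    rw [Finset.disjoint_left]
    intro i h1 h2
    rw [Finset.mem_filter] at h1 h2
    have h3 := h1.2
    rw [h2.2] at h3
    exact lt_irrefl _ h3
  rw [h1, Finset.card_union_of_disjoint h2, Finset.filter_eq']
  split_ifs <;> simp

lemma card_erase_split {M : ℕ} (T : Finset (Fin M)) (j : ℕ) (hj : j < M) :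
    (T.erase ⟨j, hj⟩).card = (T.filter (fun x : Fin M => (x : ℕ) < j)).card +
      (T.filter (fun x : Fin M => j < (x : ℕ))).card := by
  classical
  have h1 : T.erase ⟨j, hj⟩ = T.filter (fun x : Fin M => (x : ℕ) < j) ∪
      T.filter (fun x : Fin M => j < (x : ℕ)) := by
    ext x
    simp only [Finset.mem_erase, Finset.mem_filter, Finset.mem_union]
    constructor
    · rintro ⟨hne, hT⟩
      have h3 : (x : ℕ) ≠ j := fun h => hne (Fin.ext h)
      rcases lt_or_gt_of_ne h3 with h | h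
      · exact Or.inl ⟨hT, h⟩
      · exact Or.inr ⟨hT, h⟩
    · rintro (⟨hT, h⟩ | ⟨hT, h⟩)
      · refine ⟨fun he => ?_, hT⟩
        rw [he] at h
        exact lt_irrefl _ h
      · refine ⟨fun he => ?_, hT⟩
        rw [he] at h
        exact lt_irrefl _ h
  have h2 : Disjoint (T.filter (fun x : Fin M => (x : ℕ) < j))
      (T.filter (fun x : Fin M => j < (x : ℕ))) := by
    rw [Finset.disjoint_left]
    intro x hx1 hx2
    rw [Finset.mem_filter] at hx1 hx2
    omega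
  rw [h1, Finset.card_union_of_disjoint h2]

/-- along a backbone of rational components, the weight at the lower node grows by `r` per
tail further down -/
theorem backbone_suffix [IsAlgClosed k] [CharZero k] (N : ℕ)
    (Z : Fin (N + 1) → Type*) [∀ i, Field (Z i)] [∀ i, Algebra k (Z i)]
    (hZ : ∀ i, FunFld.IsFunctionField k (Z i)) (hrat : ∀ i, FunFld.genus k (Z i) = 0)
    (d r : ℕ) (D : ∀ i, FunFld.Divisor k (Z i)) (hD : ∀ i, (D i).deg = d)
    (V : ∀ i, Submodule k (Z i)) (hV : ∀ i, V i ≤ FunFld.L (D i))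
    (hVr : ∀ i, Module.finrank k ↥(V i) = r + 1)
    (A B : ∀ i, FunFld.Place k (Z i))
    (hAB : ∀ i : Fin (N + 1), 0 < (i : ℕ) → (i : ℕ) < N → A i ≠ B i)
    (hcomp : ∀ (l : Fin N) (m : ℕ), m ≤ d + 1 →
      Module.finrank k ↥((V l.castSucc) ⊓ FunFld.L ((D l.castSucc) -
        Finsupp.single (B l.castSucc) ((m : ℤ)))) +
        Module.finrank k ↥((V l.succ) ⊓ FunFld.L ((D l.succ) -
          Finsupp.single (A l.succ) ((d : ℤ) + 1 - m))) = r + 1)
    (T : Finset (Fin (N + 1))) (Q : ∀ i, FunFld.Place k (Z i))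
    (hQA : ∀ i ∈ T, 0 < (i : ℕ) → Q i ≠ A i) (hQB : ∀ i ∈ T, (i : ℕ) < N → Q i ≠ B i)
    (hcusp : ∀ i ∈ T, r ≤ Module.finrank k ↥((V i) ⊓ FunFld.L ((D i) -
      Finsupp.single (Q i) ((2 : ℤ))))) :
    ∀ m j : ℕ, ∀ h : j < N, j + m + 1 = N →
      r * (r + 1) + 2 * r * (T.filter (fun i : Fin (N + 1) => j < (i : ℕ))).card ≤
        2 * wt (V ⟨j, Nat.lt_succ_of_lt h⟩) (D ⟨j, Nat.lt_succ_of_lt h⟩)
          (B ⟨j, Nat.lt_succ_of_lt h⟩) d := by
  classical
  intro m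
  induction m with
  | zero =>
    intro j h hj
    have hj1 : j + 1 < N + 1 := by omega
    have hC : wt (V ⟨j, Nat.lt_succ_of_lt h⟩) (D ⟨j, Nat.lt_succ_of_lt h⟩)
        (B ⟨j, Nat.lt_succ_of_lt h⟩) d +
        wt (V ⟨j + 1, hj1⟩) (D ⟨j + 1, hj1⟩) (A ⟨j + 1, hj1⟩) d = (r + 1) * d :=
      wt_compat d r _ _ _ _ _ _ (hcomp ⟨j, h⟩)
    have hE := comp_end (hZ ⟨j + 1, hj1⟩) d r (D ⟨j + 1, hj1⟩) (hD _) (V ⟨j + 1, hj1⟩) (hV _)
      (hVr _) (A ⟨j + 1, hj1⟩) ((⟨j + 1, hj1⟩ : Fin (N + 1)) ∈ T)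
      (fun hT => ⟨Q ⟨j + 1, hj1⟩, hQA _ hT (Nat.succ_pos j), hcusp _ hT⟩)
    have hcard := card_filter_gt_pred T j hj1
    have hempty : (T.filter (fun i : Fin (N + 1) => j + 1 < (i : ℕ))).card = 0 := by
      rw [Finset.card_eq_zero, Finset.filter_eq_empty_iff]
      intro i _
      have := i.2
      omega
    rw [hcard, hempty, zero_add]
    omega
  | succ m ih =>
    intro j h hj
    have hj1 : j + 1 < N := by omega
    have hj1' : j + 1 < N + 1 := by omega
    have h1 := ih (j + 1) hj1 (by omega)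
    have hC : wt (V ⟨j, Nat.lt_succ_of_lt h⟩) (D ⟨j, Nat.lt_succ_of_lt h⟩)
        (B ⟨j, Nat.lt_succ_of_lt h⟩) d +
        wt (V ⟨j + 1, hj1'⟩) (D ⟨j + 1, hj1'⟩) (A ⟨j + 1, hj1'⟩) d = (r + 1) * d :=
      wt_compat d r _ _ _ _ _ _ (hcomp ⟨j, h⟩)
    have hI := comp_inner (hZ ⟨j + 1, hj1'⟩) (hrat _) d r (D ⟨j + 1, hj1'⟩) (hD _)
      (V ⟨j + 1, hj1'⟩) (hV _) (hVr _) (hAB ⟨j + 1, hj1'⟩ (Nat.succ_pos j) hj1)
      ((⟨j + 1, hj1'⟩ : Fin (N + 1)) ∈ T)
      (fun hT => ⟨Q ⟨j + 1, hj1'⟩, (hQA _ hT (Nat.succ_pos j)).symm, (hQB _ hT hj1).symm,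
        hcusp _ hT⟩)
    have hcard := card_filter_gt_pred T j hj1'
    rw [hcard, mul_add (2 * r)]
    by_cases hT : (⟨j + 1, hj1'⟩ : Fin (N + 1)) ∈ T
    · rw [if_pos hT] at hI ⊢
      omega
    · rw [if_neg hT] at hI ⊢
      omega

end Groth.Agent.Lib.lead.FF14
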