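import Mathlib
import Groth.Prelude.Def_W4bk4goldsch23FF
import Groth.Agent.Lib.lead.FF14

/-! Spaces `L(nP)`: pole orders, reduction steps. -/

namespace Groth.Agent.Lib.lead.FF15
open FunFld Groth.Agent.Lib.lead.FF Groth.Agent.Lib.lead.FF2 Groth.Agent.Lib.lead.FF3
  Groth.Agent.Lib.lead.FF4
  Groth.Agent.Lib.lead.FF5 Groth.Agent.Lib.lead.FF6 Groth.Agent.Lib.lead.FF7
  Groth.Agent.Lib.lead.FF8 Groth.Agent.Lib.lead.FF9 Groth.Agent.Lib.lead.FF10
  Groth.Agent.Lib.lead.FF11 Groth.Agent.Lib.lead.FF12 Groth.Agent.Lib.lead.FF13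
  Groth.Agent.Lib.lead.FF14

variable {k K : Type*} [Field k] [Field K] [Algebra k K]

/-- nonzero elements with pairwise distinct orders at a place are linearly independent -/
lemma linearIndependent_of_ord_injective {ι : Type*} [Fintype ι] (P : Place k K) (y : ι → K)
    (hy0 : ∀ i, y i ≠ 0) (hinj : Function.Injective (fun i => P.ord (y i))) :
    LinearIndependent k y := by
  classical
  rw [Fintype.linearIndependent_iff]
  intro c hc
  by_contra hne
  push Not at hne
  obtain ⟨i₁, hi₁⟩ := hne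
  obtain ⟨i₀, hi₀S, hmin⟩ := Finset.exists_min_image (Finset.univ.filter (fun i => c i ≠ 0))
    (fun i => P.ord (y i)) ⟨i₁, Finset.mem_filter.2 ⟨Finset.mem_univ _, hi₁⟩⟩
  have hc0 : c i₀ ≠ 0 := (Finset.mem_filter.1 hi₀S).2
  have hne0 : P.1 (c i₀ • y i₀) ≠ 0 := val_ne_zero P (smul_ne_zero hc0 (hy0 i₀))
  have hlt : ∀ i ∈ Finset.univ.erase i₀, P.1 (c i • y i) < P.1 (c i₀ • y i₀) := by
    intro i hi
    have hii : i ≠ i₀ := Finset.ne_of_mem_erase hi
    by_cases hci : c i = 0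
    · rw [hci, zero_smul, map_zero]
      exact zero_lt_iff.2 hne0
    · have h1 := hmin i (Finset.mem_filter.2 ⟨Finset.mem_univ _, hci⟩)
      have h2 : P.ord (y i₀) ≠ P.ord (y i) := fun h => hii (hinj h).symm
      have h3 : P.ord (y i₀) < P.ord (y i) := lt_of_le_of_ne h1 h2
      rw [Algebra.smul_def, Algebra.smul_def, map_mul, map_mul, val_algebraMap P hci,
        val_algebraMap P hc0, one_mul, one_mul, val_eq_exp P (hy0 i), val_eq_exp P (hy0 i₀),
        WithZero.exp_lt_exp]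
      omega
  have hsum : ∑ i, c i • y i = c i₀ • y i₀ + ∑ i ∈ Finset.univ.erase i₀, c i • y i :=
    (Finset.add_sum_erase _ (fun i => c i • y i) (Finset.mem_univ i₀)).symm
  have hv : P.1 (∑ i, c i • y i) = P.1 (c i₀ • y i₀) := by
    rw [hsum]
    apply Valuation.map_add_eq_of_lt_left
    exact Valuation.map_sum_lt _ hne0 hlt
  rw [hc, map_zero] at hv
  exact hne0 hv.symm

lemma mem_L_single_of_ord {P₀ : Place k K} {z : K} {n m : ℤ}
    (hz : z ∈ L (Finsupp.single P₀ n)) (hz0 : z ≠ 0) (hord : -m ≤ P₀.ord z) :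
    z ∈ L (Finsupp.single P₀ m) := by
  classical
  refine (mem_L_iff _ _).2 fun R => ?_
  by_cases hR : R = P₀
  · rw [hR, Finsupp.single_eq_same, val_le_exp_iff P₀ hz0]
    exact hord
  · have h1 := (mem_L_iff _ _).1 hz R
    rw [Finsupp.single_apply, if_neg (Ne.symm hR)] at h1 ⊢
    exact h1

lemma ord_ge_of_mem_L_single {P₀ : Place k K} {z : K} {n : ℤ}
    (hz : z ∈ L (Finsupp.single P₀ n)) (hz0 : z ≠ 0) : -n ≤ P₀.ord z := by
  have h1 := (mem_L_iff _ _).1 hz P₀
  rw [Finsupp.single_eq_same, val_le_exp_iff P₀ hz0] at h1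
  exact h1

lemma ord_eq_of_mem_not_mem {P₀ : Place k K} {z : K} {n : ℤ}
    (hz1 : z ∈ L (Finsupp.single P₀ (n + 1))) (hz2 : z ∉ L (Finsupp.single P₀ n)) :
    z ≠ 0 ∧ P₀.ord z = -(n + 1) := by
  have hz0 : z ≠ 0 := by
    rintro rfl
    exact hz2 (Submodule.zero_mem _)
  refine ⟨hz0, ?_⟩
  have h1 := ord_ge_of_mem_L_single hz1 hz0
  have h2 : ¬ (-n ≤ P₀.ord z) := fun h => hz2 (mem_L_single_of_ord hz1 hz0 h)
  omega

lemma mul_mem_L {D E : Divisor k K} {a b : K} (ha : a ∈ L D) (hb : b ∈ L E) :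
    a * b ∈ L (D + E) := by
  refine (mem_L_iff _ _).2 fun R => ?_
  rw [map_mul, Finsupp.add_apply, WithZero.exp_add]
  exact mul_le_mul' ((mem_L_iff _ _).1 ha R) ((mem_L_iff _ _).1 hb R)

lemma mul_mem_L_single {P₀ : Place k K} {a b : K} {n m l : ℤ}
    (ha : a ∈ L (Finsupp.single P₀ n)) (hb : b ∈ L (Finsupp.single P₀ m)) (hl : n + m = l) :
    a * b ∈ L (Finsupp.single P₀ l) := by
  have h := mul_mem_L ha hb
  rw [← Finsupp.single_add, hl] at h
  exact h

lemma one_mem_L_single (hK : IsFunctionField k K) (P₀ : Place k K) {n : ℤ} (hn : 0 ≤ n) :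
    (1 : K) ∈ L (Finsupp.single P₀ n) := by
  classical
  have hle : (0 : Divisor k K) ≤ Finsupp.single P₀ n := by
    intro R
    rw [Finsupp.zero_apply, Finsupp.single_apply]
    split_ifs <;> omega
  refine L_mono hle ?_
  rw [L_zero hK, Submodule.mem_one]
  exact ⟨1, map_one _⟩

/-- kill the leading pole of `z` with a multiple of `e` -/
lemma reduce_step (hK : IsFunctionField k K) {P₀ : Place k K} (hP : P₀.deg = 1) {n : ℤ}
    {z e : K} (hz : z ∈ L (Finsupp.single P₀ n)) (he : e ∈ L (Finsupp.single P₀ n))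
    (he0 : e ≠ 0) (hord : P₀.ord e = -n) :
    ∃ γ : k, z + γ • e ∈ L (Finsupp.single P₀ (n - 1)) := by
  classical
  have hle : (Finsupp.single P₀ (n - 1) : Divisor k K) ≤ Finsupp.single P₀ n := by
    intro R
    simp only [Finsupp.single_apply]
    split_ifs <;> omega
  haveI := L_finite hK (Finsupp.single P₀ n)
  obtain ⟨hfinQ, hdim⟩ := L_rel hK hle
  have h1 := rel_finrank (L_mono hle)
  rw [deg_single, deg_single, hP] at hdim
  have hdim' : Module.finrank k (RelQ (L (Finsupp.single P₀ (n - 1) : Divisor k K))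
      (L (Finsupp.single P₀ n))) ≤ 1 := by
    have h2 : (Module.finrank k (RelQ (L (Finsupp.single P₀ (n - 1) : Divisor k K))
        (L (Finsupp.single P₀ n))) : ℤ) ≤ 1 := by
      push_cast at hdim
      linarith
    exact_mod_cast h2
  obtain ⟨α, β, hαβ, hmem⟩ := exists_comb_mem (L_mono hle) (by omega) hz he
  have hα : α ≠ 0 := by
    rintro rfl
    have hβ : β ≠ 0 := by
      rcases hαβ with h | h
      · exact absurd rfl h
      · exact h
    rw [zero_smul, zero_add] at hmem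
    have h2 := ord_ge_of_mem_L_single hmem (smul_ne_zero hβ he0)
    rw [Algebra.smul_def, ord_mul P₀ ((map_ne_zero _).2 hβ) he0, ord_algebraMap, hord] at h2
    omega
  refine ⟨α⁻¹ * β, ?_⟩
  have h3 := Submodule.smul_mem _ α⁻¹ hmem
  rw [smul_add, smul_smul, smul_smul, inv_mul_cancel₀ hα, one_smul] at h3
  exact h3

/-- in genus one, `ℓ(nP) = n` for `n ≥ 1` -/
lemma ell_single_genus_one (hK : IsFunctionField k K) (hg : genus k K = 1) {P₀ : Place k K}
    (hP : P₀.deg = 1) (n : ℤ) (hn : 1 ≤ n) :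
    (Module.finrank k ↥(L (Finsupp.single P₀ n : Divisor k K)) : ℤ) = n := by
  have h := ell_eq_of_deg_ge hK (Finsupp.single P₀ n)
    (by rw [hg, deg_single, hP]; push_cast; linarith)
  rw [hg, deg_single, hP] at h
  have h' : (ell (Finsupp.single P₀ n : Divisor k K) : ℤ) = n := by
    rw [h]; push_cast; ring
  exact h'

lemma exists_mem_not_mem (hK : IsFunctionField k K) (hg : genus k K = 1) {P₀ : Place k K}
    (hP : P₀.deg = 1) (n : ℤ) (hn : 1 ≤ n) :
    ∃ z : K, z ∈ L (Finsupp.single P₀ (n + 1)) ∧ z ∉ L (Finsupp.single P₀ n) := by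
  have h1 := ell_single_genus_one hK hg hP n hn
  have h2 := ell_single_genus_one hK hg hP (n + 1) (by linarith)
  have hnle : ¬ L (Finsupp.single P₀ (n + 1) : Divisor k K) ≤ L (Finsupp.single P₀ n) := by
    intro hle
    haveI := L_finite hK (Finsupp.single P₀ n)
    have h3 := Submodule.finrank_mono hle
    have h4 : (Module.finrank k ↥(L (Finsupp.single P₀ (n + 1) : Divisor k K)) : ℤ) ≤
        Module.finrank k ↥(L (Finsupp.single P₀ n : Divisor k K)) := by exact_mod_cast h3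
    linarith
  obtain ⟨z, hz1, hz2⟩ := SetLike.not_le_iff_exists.1 hnle
  exact ⟨z, hz1, hz2⟩

end Groth.Agent.Lib.lead.FF15
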