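import Mathlib
import Groth.Prelude.Def_W4bk4goldsch23FF
import Groth.Agent.Lib.lead.FF15

/-! Small helpers for Riemann–Roch computations. -/

namespace Groth.Agent.Lib.lead.FF16
open FunFld Groth.Agent.Lib.lead.FF Groth.Agent.Lib.lead.FF2 Groth.Agent.Lib.lead.FF3
  Groth.Agent.Lib.lead.FF4
  Groth.Agent.Lib.lead.FF5 Groth.Agent.Lib.lead.FF6 Groth.Agent.Lib.lead.FF7
  Groth.Agent.Lib.lead.FF8 Groth.Agent.Lib.lead.FF9 Groth.Agent.Lib.lead.FF10
  Groth.Agent.Lib.lead.FF11 Groth.Agent.Lib.lead.FF12 Groth.Agent.Lib.lead.FF13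
  Groth.Agent.Lib.lead.FF14 Groth.Agent.Lib.lead.FF15

variable {k K : Type*} [Field k] [Field K] [Algebra k K]

lemma div_of_mem_deg_zero (hK : IsFunctionField k K) {E : Divisor k K} {z : K} (hz0 : z ≠ 0)
    (hz : z ∈ L E) (hdeg : E.deg = 0) : FunFld.div k z = -E := by
  have hnn := nonneg_add_div hK hz0 hz
  have hz' := eq_zero_of_nonneg_of_deg_zero hK hnn (by rw [deg_add, deg_div hK, hdeg]; ring)
  exact (neg_eq_of_add_eq_zero_right hz').symm

lemma exists_ne_zero_of_finrank_pos (hK : IsFunctionField k K) {E : Divisor k K}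
    (h : 1 ≤ Module.finrank k ↥(L E)) : ∃ z : K, z ≠ 0 ∧ z ∈ L E := by
  have h' : (1 : ℤ) ≤ ell E := by
    have h1 : 1 ≤ ell E := h
    exact_mod_cast h1
  exact exists_ne_zero_of_ell_pos hK h'

lemma mem_L_of_nonneg (hK : IsFunctionField k K) {E : Divisor k K} {z : K} (hz0 : z ≠ 0)
    (h : 0 ≤ E + FunFld.div k z) : z ∈ L E := by
  refine (mem_L_iff _ _).2 fun R => ?_
  rw [val_le_exp_iff R hz0]
  have h1 := h R
  rw [Finsupp.zero_apply, Finsupp.add_apply, div_apply hK] at h1
  omega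

lemma div_algebraMap (hK : IsFunctionField k K) (c : k) :
    FunFld.div k (algebraMap k K c) = 0 := by
  ext R
  rw [div_apply hK, ord_algebraMap, Finsupp.zero_apply]

/-- a nonzero element of a one-dimensional `L(E)` containing `1` has trivial divisor -/
lemma div_eq_zero_of_finrank_one (hK : IsFunctionField k K) {E : Divisor k K}
    (hE : Module.finrank k ↥(L E) ≤ 1) (h1 : (1 : K) ∈ L E) {z : K} (hz : z ∈ L E) :
    FunFld.div k z = 0 := by
  haveI := L_finite hK E
  obtain ⟨c, hc⟩ := dependent_of_finrank_le_one hE hz h1 one_ne_zero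
  rw [hc, Algebra.smul_def, mul_one]
  exact div_algebraMap hK c

lemma single_apply_nonneg (P R : Place k K) {n : ℤ} (hn : 0 ≤ n) :
    0 ≤ (Finsupp.single P n : Divisor k K) R := by
  classical
  rw [Finsupp.single_apply]
  split_ifs
  · exact hn
  · exact le_rfl

/-- genus-two normalisation of a canonical divisor -/
lemma canonical_genus_two (hK : IsFunctionField k K) (hg : genus k K = 2) {C : Divisor k K}
    (hC : IsCanonical k K C) : ell C = 2 ∧ C.deg = 2 := by
  obtain ⟨hCl, hCd⟩ := canonical_ell_deg hK hC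
  rw [hg] at hCl hCd
  refine ⟨hCl, ?_⟩
  rw [hCd]
  norm_num

end Groth.Agent.Lib.lead.FF16
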