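import Mathlib

/-! Wronskians of polynomials and the Plücker inequality on the projective line. -/

namespace Groth.Agent.Lib.lead.Wr
open Polynomial

variable {k : Type*} [Field k]

lemma natDegree_prod_le_sum {ι : Type*} (s : Finset ι) (f : ι → k[X]) (n : ι → ℕ)
    (h : ∀ i ∈ s, (f i).natDegree ≤ n i) : (∏ i ∈ s, f i).natDegree ≤ ∑ i ∈ s, n i :=
  (natDegree_prod_le s f).trans (Finset.sum_le_sum h)

lemma coeff_prod_sum {ι : Type*} (s : Finset ι) (f : ι → k[X]) (n : ι → ℕ)
    (h : ∀ i ∈ s, (f i).natDegree ≤ n i) :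
    (∏ i ∈ s, f i).coeff (∑ i ∈ s, n i) = ∏ i ∈ s, (f i).coeff (n i) := by
  classical
  induction s using Finset.induction_on with
  | empty => simp
  | insert a s ha ih =>
    have h1 : (f a).natDegree ≤ n a := h a (Finset.mem_insert_self a s)
    have h2 : ∀ i ∈ s, (f i).natDegree ≤ n i := fun i hi => h i (Finset.mem_insert_of_mem hi)
    rw [Finset.prod_insert ha, Finset.sum_insert ha, Finset.prod_insert ha,
      coeff_mul_add_eq_of_natDegree_le h1 (natDegree_prod_le_sum s f n h2), ih h2]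

/-- the Wronskian matrix -/
noncomputable def wm {n : ℕ} (b : Fin n → k[X]) : Matrix (Fin n) (Fin n) k[X] :=
  Matrix.of fun i j => derivative^[(j : ℕ)] (b i)

lemma wm_apply {n : ℕ} (b : Fin n → k[X]) (i j : Fin n) :
    wm b i j = derivative^[(j : ℕ)] (b i) := rfl

/-- the Wronskian -/
noncomputable def W {n : ℕ} (b : Fin n → k[X]) : k[X] := (wm b).det

/-- `0 + 1 + ⋯ + (n-1)` -/
def tri (n : ℕ) : ℕ := ∑ j : Fin n, (j : ℕ)

lemma two_tri (r : ℕ) : 2 * tri (r + 1) = r * (r + 1) := by
  unfold tri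
  rw [Fin.sum_univ_eq_sum_range (fun j => j) (r + 1), mul_comm, Finset.sum_range_id_mul_two,
    Nat.add_sub_cancel, mul_comm]

lemma dvd_W {n : ℕ} (b : Fin n → k[X]) (q : k[X]) (m : Fin n → ℕ) (h : ∀ i, q ^ m i ∣ b i) :
    q ^ ((∑ i, m i) - tri n) ∣ W b := by
  unfold W
  rw [Matrix.det_apply']
  refine Finset.dvd_sum fun σ _ => ?_
  refine dvd_mul_of_dvd_right ?_ _
  have h2 : ∏ j : Fin n, q ^ (m (σ j) - (j : ℕ)) ∣ ∏ j : Fin n, wm b (σ j) j :=
    Finset.prod_dvd_prod_of_dvd _ _ fun j _ =>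
      pow_sub_dvd_iterate_derivative_of_pow_dvd (j : ℕ) (h (σ j))
  rw [Finset.prod_pow_eq_pow_sum] at h2
  refine (pow_dvd_pow q ?_).trans h2
  have h3 : ∑ i, m i = ∑ j, m (σ j) := (Equiv.sum_comp σ m).symm
  rw [h3, tsub_le_iff_right, tri, ← Finset.sum_add_distrib]
  exact Finset.sum_le_sum fun j _ => le_tsub_add

lemma natDegree_W_le {n : ℕ} (b : Fin n → k[X]) (e : Fin n → ℕ)
    (h : ∀ i, (b i).natDegree ≤ e i) :
    (W b).natDegree ≤ (∑ i, e i) - tri n := by
  unfold W
  rw [Matrix.det_apply']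
  refine natDegree_sum_le_of_forall_le _ _ fun σ _ => ?_
  by_cases hz : ∏ j : Fin n, wm b (σ j) j = 0
  · rw [hz, mul_zero, natDegree_zero]
    exact Nat.zero_le _
  · have hne : ∀ j : Fin n, wm b (σ j) j ≠ 0 := fun j hj =>
      hz (Finset.prod_eq_zero (Finset.mem_univ j) hj)
    have hj : ∀ j : Fin n, (j : ℕ) ≤ e (σ j) := by
      intro j
      by_contra hlt
      push Not at hlt
      exact hne j (iterate_derivative_eq_zero ((h (σ j)).trans_lt hlt))
    have h1 : ∀ j : Fin n, (wm b (σ j) j).natDegree ≤ e (σ j) - (j : ℕ) := fun j =>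
      (natDegree_iterate_derivative (b (σ j)) (j : ℕ)).trans (Nat.sub_le_sub_right (h (σ j)) _)
    have h2 : (∏ j : Fin n, wm b (σ j) j).natDegree ≤ ∑ j : Fin n, (e (σ j) - (j : ℕ)) :=
      natDegree_prod_le_sum _ _ _ fun j _ => h1 j
    have h3 : ∑ j : Fin n, (e (σ j) - (j : ℕ)) = (∑ i, e i) - tri n := by
      rw [Finset.sum_tsub_distrib _ fun j _ => hj j, Equiv.sum_comp σ e]
      rfl
    refine natDegree_mul_le.trans ?_
    rw [natDegree_intCast, zero_add]
    exact h2.trans_eq h3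

lemma coeff_W_top {n : ℕ} (b : Fin n → k[X]) (e : Fin n → ℕ)
    (h : ∀ i, (b i).natDegree ≤ e i) :
    (W b).coeff ((∑ i, e i) - tri n) =
      (∏ i, (b i).coeff (e i)) *
        (Matrix.of fun i j : Fin n => ((e i).descFactorial (j : ℕ) : k)).det := by
  unfold W
  rw [Matrix.det_apply', Matrix.det_apply', finset_sum_coeff, Finset.mul_sum]
  refine Finset.sum_congr rfl fun σ _ => ?_
  rw [coeff_intCast_mul]
  have key : (∏ j : Fin n, wm b (σ j) j).coeff ((∑ i, e i) - tri n) =
      (∏ i, (b i).coeff (e i)) * ∏ j : Fin n, ((e (σ j)).descFactorial (j : ℕ) : k) := by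
    by_cases hj : ∀ j : Fin n, (j : ℕ) ≤ e (σ j)
    · have h1 : ∀ j : Fin n, (wm b (σ j) j).natDegree ≤ e (σ j) - (j : ℕ) := fun j =>
        (natDegree_iterate_derivative (b (σ j)) (j : ℕ)).trans
          (Nat.sub_le_sub_right (h (σ j)) _)
      have hM : (∑ i, e i) - tri n = ∑ j : Fin n, (e (σ j) - (j : ℕ)) := by
        rw [Finset.sum_tsub_distrib _ fun j _ => hj j, Equiv.sum_comp σ e]
        rfl
      rw [hM, coeff_prod_sum _ _ _ fun j _ => h1 j]
      have h2 : ∀ j : Fin n, (wm b (σ j) j).coeff (e (σ j) - (j : ℕ)) =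
          ((e (σ j)).descFactorial (j : ℕ) : k) * (b (σ j)).coeff (e (σ j)) := by
        intro j
        rw [wm_apply, coeff_iterate_derivative, Nat.sub_add_cancel (hj j), nsmul_eq_mul]
      rw [Finset.prod_congr rfl fun j _ => h2 j, Finset.prod_mul_distrib,
        Equiv.prod_comp σ (fun i => (b i).coeff (e i)), mul_comm]
    · push Not at hj
      obtain ⟨j₀, hj₀⟩ := hj
      have hz : wm b (σ j₀) j₀ = 0 := iterate_derivative_eq_zero ((h (σ j₀)).trans_lt hj₀)
      rw [Finset.prod_eq_zero (f := fun j => wm b (σ j) j) (Finset.mem_univ j₀) hz, coeff_zero]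
      have hz2 : ((e (σ j₀)).descFactorial (j₀ : ℕ) : k) = 0 := by
        rw [Nat.descFactorial_eq_zero_iff_lt.2 hj₀, Nat.cast_zero]
      rw [Finset.prod_eq_zero (f := fun j : Fin n => ((e (σ j)).descFactorial (j : ℕ) : k))
        (Finset.mem_univ j₀) hz2, mul_zero]
  rw [key]
  simp only [Matrix.of_apply]
  ring

lemma det_descFactorial_ne_zero [CharZero k] {n : ℕ} (e : Fin n → ℕ)
    (he : Function.Injective e) :
    (Matrix.of fun i j : Fin n => ((e i).descFactorial (j : ℕ) : k)).det ≠ 0 := by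
  have h := Matrix.det_eval_matrixOfPolynomials_eq_det_vandermonde (fun i => ((e i : ℕ) : k))
    (fun j : Fin n => descPochhammer k (j : ℕ)) (fun j => descPochhammer_natDegree k j)
    (fun j => monic_descPochhammer k j)
  have e1 : (Matrix.of fun i j : Fin n => ((e i).descFactorial (j : ℕ) : k)) =
      Matrix.of fun i j : Fin n => ((descPochhammer k (j : ℕ)).eval ((e i : ℕ) : k)) := by
    ext i j
    simp only [Matrix.of_apply]
    rw [descPochhammer_eval_eq_descFactorial]
  rw [e1, ← h, Matrix.det_vandermonde_ne_zero_iff]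
  exact fun a b hab => he (Nat.cast_injective hab)

theorem W_ne_zero [CharZero k] {n : ℕ} (b : Fin n → k[X]) (e : Fin n → ℕ)
    (he : Function.Injective e) (hdeg : ∀ i, (b i).natDegree = e i) (hb : ∀ i, b i ≠ 0) :
    W b ≠ 0 ∧ (W b).natDegree + tri n ≤ ∑ i, e i := by
  have hdet := det_descFactorial_ne_zero (k := k) e he
  have hcoef := coeff_W_top b e (fun i => (hdeg i).le)
  have hlead : ∏ i, (b i).coeff (e i) ≠ 0 := by
    rw [Finset.prod_ne_zero_iff]
    intro i _
    rw [← hdeg i]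
    exact leadingCoeff_ne_zero.2 (hb i)
  have hW0 : W b ≠ 0 := by
    intro h0
    rw [h0, coeff_zero] at hcoef
    exact mul_ne_zero hlead hdet hcoef.symm
  refine ⟨hW0, ?_⟩
  have h1 := natDegree_W_le b e (fun i => (hdeg i).le)
  have h2 : tri n ≤ ∑ i, e i := by
    rw [Matrix.det_apply'] at hdet
    obtain ⟨σ, -, hσ⟩ := Finset.exists_ne_zero_of_sum_ne_zero hdet
    have h3 : ∏ j : Fin n, ((e (σ j)).descFactorial (j : ℕ) : k) ≠ 0 := right_ne_zero_of_mul hσ
    rw [Finset.prod_ne_zero_iff] at h3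
    have h4 : ∀ j : Fin n, (j : ℕ) ≤ e (σ j) := by
      intro j
      by_contra hlt
      push Not at hlt
      apply h3 j (Finset.mem_univ j)
      rw [Nat.descFactorial_eq_zero_iff_lt.2 hlt, Nat.cast_zero]
    calc tri n = ∑ j : Fin n, (j : ℕ) := rfl
      _ ≤ ∑ j, e (σ j) := Finset.sum_le_sum fun j _ => h4 j
      _ = ∑ i, e i := Equiv.sum_comp σ e
  omega

lemma W_base_change {n : ℕ} (b b' : Fin n → k[X]) (P : Matrix (Fin n) (Fin n) k)
    (h : ∀ i, b' i = ∑ l, P i l • b l) : W b' = C P.det * W b := by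
  have hlin : ∀ (j : ℕ) (x : k[X]), derivative^[j] x =
      ((derivative : k[X] →ₗ[k] k[X]) ^ j) x := fun j x => (Module.End.pow_apply _ _ _).symm
  have hm : wm b' = (P.map C) * wm b := by
    refine Matrix.ext fun i j => ?_
    rw [Matrix.mul_apply, wm_apply, h i, hlin, map_sum]
    apply Finset.sum_congr rfl
    intro l _
    rw [map_smul, ← hlin, Matrix.map_apply, smul_eq_C_mul, wm_apply]
  unfold W
  rw [hm, Matrix.det_mul]
  congr 1
  exact (RingHom.map_det C P).symm

section Adapted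
variable {E : Type*} [AddCommGroup E] [Module k E]

/-- a basis adapted to a filtration with one-dimensional graded pieces -/
theorem exists_adapted (d : ℕ) : ∀ (F : ℕ → Submodule k E) (V : Submodule k E)
    [Module.Finite k ↥V],
    (∀ n, F (n + 1) ≤ F n) →
    (∀ n, ∀ x ∈ F n, ∀ y ∈ F n, y ∉ F (n + 1) → ∃ c : k, x - c • y ∈ F (n + 1)) →
    V ≤ F 0 → V ⊓ F d = ⊥ →
    ∃ (n : ℕ) (b : Fin n → E) (m : Fin n → ℕ), n = Module.finrank k ↥V ∧
      LinearIndependent k b ∧ Submodule.span k (Set.range b) = V ∧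
      (∀ i, b i ∈ F (m i)) ∧ (∀ i, b i ∉ F (m i + 1)) ∧ Function.Injective m ∧
      (∀ i, m i < d) ∧
      ∑ i, m i = ∑ j ∈ Finset.range d, Module.finrank k ↥(V ⊓ F (j + 1)) := by
  induction d with
  | zero =>
    intro F V _ hanti h1 hV0 hbot
    have hV : V = ⊥ := by
      rw [← hbot]
      exact (inf_eq_left.2 hV0).symm
    subst hV
    refine ⟨0, Fin.elim0, Fin.elim0, ?_, ?_, ?_, ?_, ?_, ?_, ?_, ?_⟩
    · exact (finrank_bot k E).symm
    · exact linearIndependent_empty_type
    · simp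
    · exact fun i => i.elim0
    · exact fun i => i.elim0
    · exact fun i => i.elim0
    · exact fun i => i.elim0
    · simp
  | succ d ih =>
    intro F V _ hanti h1 hV0 hbot
    have hantiK : ∀ a b : ℕ, a ≤ b → F b ≤ F a := by
      intro a b hab
      induction hab with
      | refl => exact le_rfl
      | step _ ih' => exact (hanti _).trans ih'
    haveI : Module.Finite k ↥(V ⊓ F 1) := Submodule.finiteDimensional_of_le inf_le_left
    obtain ⟨n', b', m', hn', hli', hspan', hmem', hnot', hinj', hlt', hsum'⟩ :=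
      ih (fun n => F (n + 1)) (V ⊓ F 1) (fun n => hanti (n + 1)) (fun n => h1 (n + 1))
        inf_le_right
        (by
          show V ⊓ F 1 ⊓ F (d + 1) = ⊥
          rw [inf_assoc, inf_eq_right.2 (hantiK 1 (d + 1) (by omega))]
          exact hbot)
    have hsumV : ∑ j ∈ Finset.range (d + 1), Module.finrank k ↥(V ⊓ F (j + 1)) =
        (∑ i, m' i) + n' := by
      rw [Finset.sum_range_succ', hsum', hn']
      congr 1
      refine Finset.sum_congr rfl fun j _ => ?_
      show Module.finrank k ↥(V ⊓ F (j + 1 + 1)) =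
        Module.finrank k ↥(V ⊓ F 1 ⊓ F (j + 1 + 1))
      rw [inf_assoc, inf_eq_right.2 (hantiK 1 (j + 1 + 1) (by omega))]
    by_cases hVF : V ≤ F 1
    · have hVV : V ⊓ F 1 = V := inf_eq_left.2 hVF
      refine ⟨n', b', fun i => m' i + 1, ?_, hli', ?_, ?_, ?_, ?_, ?_, ?_⟩
      · rw [hn', hVV]
      · rw [hspan', hVV]
      · exact fun i => hmem' i
      · exact fun i => hnot' i
      · exact fun i j hij => hinj' (Nat.succ_injective hij)
      · exact fun i => Nat.succ_lt_succ (hlt' i)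
      · rw [hsumV, Finset.sum_add_distrib]
        simp
    · obtain ⟨y, hyV, hyF⟩ := SetLike.not_le_iff_exists.1 hVF
      have hy0 : y ∈ F 0 := hV0 hyV
      have hyne : y ≠ 0 := fun h => hyF (h ▸ (F 1).zero_mem)
      have hspanle : Submodule.span k (Set.range b') ≤ F 1 := by
        rw [hspan']
        exact inf_le_right
      have hynot : y ∉ Submodule.span k (Set.range b') := fun h => hyF (hspanle h)
      have hli : LinearIndependent k (Fin.cons y b' : Fin (n' + 1) → E) :=
        linearIndependent_finCons.2 ⟨hli', hynot⟩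
      have hb'V : ∀ i, b' i ∈ V := by
        intro i
        have h2 : b' i ∈ V ⊓ F 1 := by
          rw [← hspan']
          exact Submodule.subset_span ⟨i, rfl⟩
        exact h2.1
      have hrange : ∀ i, (Fin.cons y b' : Fin (n' + 1) → E) i ∈ V := by
        intro i
        induction i using Fin.cases with
        | zero => rw [Fin.cons_zero]; exact hyV
        | succ i => rw [Fin.cons_succ]; exact hb'V i
      have hspanV : Submodule.span k (Set.range (Fin.cons y b' : Fin (n' + 1) → E)) ≤ V :=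
        Submodule.span_le.2 (by rintro _ ⟨i, rfl⟩; exact hrange i)
      have hdimle : Module.finrank k ↥V ≤ n' + 1 := by
        have hle : V ≤ (V ⊓ F 1) ⊔ Submodule.span k {y} := by
          intro x hx
          obtain ⟨c, hc⟩ := h1 0 x (hV0 hx) y hy0 hyF
          have hxc : x - c • y ∈ V ⊓ F 1 :=
            Submodule.mem_inf.2 ⟨V.sub_mem hx (V.smul_mem c hyV), hc⟩
          have hx' : x = (x - c • y) + c • y := by abel
          rw [hx']
          exact Submodule.add_mem_sup hxc
            (Submodule.smul_mem _ c (Submodule.mem_span_singleton_self y))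
        calc Module.finrank k ↥V
            ≤ Module.finrank k ↥((V ⊓ F 1) ⊔ Submodule.span k {y}) :=
              Submodule.finrank_mono hle
          _ ≤ Module.finrank k ↥(V ⊓ F 1) + Module.finrank k ↥(Submodule.span k {y}) :=
              Submodule.finrank_add_le_finrank_add_finrank _ _
          _ = n' + 1 := by rw [← hn', finrank_span_singleton hyne]
      have hdimge : n' + 1 ≤ Module.finrank k ↥V := by
        have h2 := Submodule.finrank_mono hspanV
        rw [finrank_span_eq_card hli, Fintype.card_fin] at h2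
        exact h2
      have hdim : n' + 1 = Module.finrank k ↥V := le_antisymm hdimge hdimle
      have hspanEq : Submodule.span k (Set.range (Fin.cons y b' : Fin (n' + 1) → E)) = V := by
        refine Submodule.eq_of_le_of_finrank_eq hspanV ?_
        rw [finrank_span_eq_card hli, Fintype.card_fin, hdim]
      refine ⟨n' + 1, Fin.cons y b', Fin.cons 0 (fun i => m' i + 1), hdim, hli, hspanEq,
        ?_, ?_, ?_, ?_, ?_⟩
      · intro i
        induction i using Fin.cases with
        | zero => simp only [Fin.cons_zero]; exact hy0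
        | succ i => simp only [Fin.cons_succ]; exact hmem' i
      · intro i
        induction i using Fin.cases with
        | zero => simp only [Fin.cons_zero]; exact hyF
        | succ i => simp only [Fin.cons_succ]; exact hnot' i
      · rw [Fin.cons_injective_iff]
        refine ⟨?_, fun i j hij => hinj' (Nat.succ_injective hij)⟩
        rintro ⟨i, hi⟩
        exact Nat.succ_ne_zero _ hi
      · intro i
        induction i using Fin.cases with
        | zero => simp only [Fin.cons_zero]; omega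
        | succ i =>
          simp only [Fin.cons_succ]
          have := hlt' i
          omega
      · rw [Fin.sum_univ_succ, hsumV]
        simp only [Fin.cons_zero, Fin.cons_succ]
        rw [Finset.sum_add_distrib]
        simp

end Adapted

/-- multiples of `(X - a)^n` -/
def Fa (a : k) (n : ℕ) : Submodule k k[X] where
  carrier := {p | (X - C a) ^ n ∣ p}
  add_mem' := fun hx hy => dvd_add hx hy
  zero_mem' := dvd_zero _
  smul_mem' := fun c x hx => by
    show (X - C a) ^ n ∣ c • x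
    rw [smul_eq_C_mul]
    exact dvd_mul_of_dvd_right hx _

lemma mem_Fa {a : k} {n : ℕ} {p : k[X]} : p ∈ Fa a n ↔ (X - C a) ^ n ∣ p := Iff.rfl

lemma Fa_anti (a : k) (n : ℕ) : Fa a (n + 1) ≤ Fa a n := fun _ hp =>
  (pow_dvd_pow _ (Nat.le_succ n)).trans hp

lemma Fa_zero (a : k) : Fa a 0 = ⊤ := by
  ext p
  simp [mem_Fa]

lemma Fa_step (a : k) (n : ℕ) (x : k[X]) (hx : x ∈ Fa a n) (y : k[X]) (hy : y ∈ Fa a n)
    (hy' : y ∉ Fa a (n + 1)) : ∃ c : k, x - c • y ∈ Fa a (n + 1) := by
  obtain ⟨u, rfl⟩ := hx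
  obtain ⟨v, rfl⟩ := hy
  have hv : v.eval a ≠ 0 := by
    intro h0
    apply hy'
    have h1 : (X - C a) ∣ v := dvd_iff_isRoot.2 h0
    show (X - C a) ^ (n + 1) ∣ (X - C a) ^ n * v
    rw [pow_succ]
    exact mul_dvd_mul_left _ h1
  refine ⟨u.eval a / v.eval a, ?_⟩
  show (X - C a) ^ (n + 1) ∣ _
  have h2 : (X - C a) ∣ u - (u.eval a / v.eval a) • v := by
    rw [dvd_iff_isRoot]
    show eval a (u - (u.eval a / v.eval a) • v) = 0
    rw [eval_sub, eval_smul, smul_eq_mul, div_mul_cancel₀ _ hv, sub_self]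
  have h3 : (X - C a) ^ n * u - (u.eval a / v.eval a) • ((X - C a) ^ n * v) =
      (X - C a) ^ n * (u - (u.eval a / v.eval a) • v) := by
    rw [mul_sub, mul_smul_comm]
  rw [h3, pow_succ]
  exact mul_dvd_mul_left _ h2

lemma inf_Fa_eq_bot {V : Submodule k k[X]} {d : ℕ} (hV : V ≤ degreeLT k (d + 1)) (a : k) :
    V ⊓ Fa a (d + 1) = ⊥ := by
  rw [eq_bot_iff]
  rintro p ⟨hpV, hpF⟩
  rw [Submodule.mem_bot]
  by_contra hp0
  have h1 := natDegree_le_of_dvd (mem_Fa.1 hpF) hp0
  rw [natDegree_pow, natDegree_X_sub_C, mul_one] at h1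
  have h2 := mem_degreeLT.1 (hV hpV)
  rw [← natDegree_lt_iff_degree_lt hp0] at h2
  omega

/-- the filtration by pole order at infinity -/
noncomputable def G (d : ℕ) (n : ℕ) : Submodule k k[X] := degreeLT k (d + 1 - n)

lemma mem_G {d n : ℕ} {p : k[X]} : p ∈ G d n ↔ ∀ m, d + 1 - n ≤ m → p.coeff m = 0 := by
  unfold G
  rw [mem_degreeLT, degree_lt_iff_coeff_zero]

lemma G_anti (d n : ℕ) : G (k := k) d (n + 1) ≤ G d n := degreeLT_mono (by omega)

lemma G_step (d n : ℕ) (x : k[X]) (hx : x ∈ G d n) (y : k[X]) (hy : y ∈ G d n)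
    (hy' : y ∉ G d (n + 1)) : ∃ c : k, x - c • y ∈ G d (n + 1) := by
  rw [mem_G] at hx hy hy'
  push Not at hy'
  obtain ⟨m₀, hm₀, hne⟩ := hy'
  have hlt : m₀ < d + 1 - n := by
    by_contra hge
    push Not at hge
    exact hne (hy m₀ hge)
  refine ⟨x.coeff m₀ / y.coeff m₀, ?_⟩
  rw [mem_G]
  intro m hm
  rw [coeff_sub, coeff_smul, smul_eq_mul]
  by_cases hmm : m = m₀
  · rw [hmm, div_mul_cancel₀ _ hne, sub_self]
  · rw [hx m (by omega), hy m (by omega), mul_zero, sub_zero]

lemma inf_G_eq_bot (V : Submodule k k[X]) (d : ℕ) : V ⊓ G d (d + 1) = ⊥ := by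
  rw [eq_bot_iff]
  rintro p ⟨-, hp⟩
  have hp' : p ∈ G d (d + 1) := hp
  rw [mem_G] at hp'
  rw [Submodule.mem_bot]
  ext m
  rw [hp' m (by omega), coeff_zero]

lemma natDegree_of_G {d n : ℕ} {p : k[X]} (hn : n < d + 1) (h1 : p ∈ G d n)
    (h2 : p ∉ G d (n + 1)) : p ≠ 0 ∧ p.natDegree = d - n := by
  have hp0 : p ≠ 0 := fun h => h2 (by rw [h]; exact Submodule.zero_mem _)
  refine ⟨hp0, ?_⟩
  unfold G at h1 h2
  rw [mem_degreeLT, ← natDegree_lt_iff_degree_lt hp0] at h1 h2
  omega

lemma finrank_degreeLT (n : ℕ) : Module.finrank k ↥(degreeLT k n) = n :=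
  (degreeLTEquiv k n).finrank_eq.trans (Module.finrank_fin_fun k)

/-- the Plücker inequality for spaces of polynomials of degree at most `d` -/
theorem plucker_poly [CharZero k] (d n : ℕ) (V : Submodule k k[X])
    (hV : V ≤ degreeLT k (d + 1)) (hn : Module.finrank k ↥V = n) {ι : Type*} (S : Finset ι)
    (a : ι → k) (ha : Set.InjOn a (S : Set ι)) :
    (∑ s ∈ S, ∑ j ∈ Finset.range d, Module.finrank k ↥(V ⊓ Fa (a s) (j + 1))) +
      (∑ j ∈ Finset.range d, Module.finrank k ↥(V ⊓ degreeLT k (d - j))) + tri n ≤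
      n * d + S.card * tri n := by
  classical
  subst hn
  haveI : Module.Finite k ↥(degreeLT k (d + 1)) :=
    Module.Finite.equiv (degreeLTEquiv k (d + 1)).symm
  haveI : Module.Finite k ↥V := Submodule.finiteDimensional_of_le hV
  -- adapted basis at infinity
  obtain ⟨n₁, b, m, hn₁, hli, hspan, hmem, hnot, hinj, hlt, hsum⟩ :=
    exists_adapted (d + 1) (G d) V (G_anti d) (G_step d) hV (inf_G_eq_bot V d)
  subst hn₁
  have hdeg : ∀ i, b i ≠ 0 ∧ (b i).natDegree = d - m i := fun i =>
    natDegree_of_G (hlt i) (hmem i) (hnot i)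
  have hminj : Function.Injective fun i => d - m i := by
    intro i j hij
    apply hinj
    have h1 := hlt i
    have h2 := hlt j
    simp only [] at hij
    omega
  obtain ⟨hW0, hWdeg⟩ := W_ne_zero b (fun i => d - m i) hminj (fun i => (hdeg i).2)
    (fun i => (hdeg i).1)
  have hem : ∑ i, (d - m i) + ∑ i, m i = Module.finrank k ↥V * d := by
    rw [← Finset.sum_add_distrib]
    rw [Finset.sum_congr rfl (fun i _ => Nat.sub_add_cancel (Nat.lt_succ_iff.1 (hlt i)))]
    simp
  have hwinf : ∑ i, m i =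
      ∑ j ∈ Finset.range d, Module.finrank k ↥(V ⊓ degreeLT k (d - j)) := by
    rw [hsum, Finset.sum_range_succ, inf_G_eq_bot V d, finrank_bot, add_zero]
    refine Finset.sum_congr rfl fun j _ => ?_
    unfold G
    rw [Nat.add_sub_add_right]
  -- local divisibility
  have hloc : ∀ s ∈ S, (X - C (a s)) ^
      ((∑ j ∈ Finset.range d, Module.finrank k ↥(V ⊓ Fa (a s) (j + 1))) -
        tri (Module.finrank k ↥V)) ∣ W b := by
    intro s _
    obtain ⟨n₂, b₂, m₂, hn₂, hli₂, hspan₂, hmem₂, -, -, -, hsum₂⟩ :=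
      exists_adapted (d + 1) (Fa (a s)) V (Fa_anti (a s)) (Fa_step (a s))
        (by rw [Fa_zero]; exact le_top) (inf_Fa_eq_bot hV (a s))
    subst hn₂
    have hs2 : ∑ i, m₂ i =
        ∑ j ∈ Finset.range d, Module.finrank k ↥(V ⊓ Fa (a s) (j + 1)) := by
      rw [hsum₂, Finset.sum_range_succ, inf_Fa_eq_bot hV (a s), finrank_bot, add_zero]
    have hPex : ∀ i, ∃ c : Fin (Module.finrank k ↥V) → k, ∑ l, c l • b₂ l = b i := fun i =>
      (Submodule.mem_span_range_iff_exists_fun k).1 (by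
        rw [hspan₂, ← hspan]
        exact Submodule.subset_span ⟨i, rfl⟩)
    choose P hP using hPex
    have hWW : W b = C (Matrix.of P).det * W b₂ :=
      W_base_change b₂ b (Matrix.of P) (fun i => (hP i).symm)
    rw [hWW, ← hs2]
    exact dvd_mul_of_dvd_right (dvd_W b₂ (X - C (a s)) m₂ (fun i => mem_Fa.1 (hmem₂ i))) _
  obtain ⟨w, hw⟩ : ∃ w : ι → ℕ, w = fun s =>
      (∑ j ∈ Finset.range d, Module.finrank k ↥(V ⊓ Fa (a s) (j + 1))) -
        tri (Module.finrank k ↥V) := ⟨_, rfl⟩
  have hloc' : ∀ s ∈ S, (X - C (a s)) ^ w s ∣ W b := by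
    intro s hs
    rw [hw]
    exact hloc s hs
  have hprod : ∏ s ∈ S, (X - C (a s)) ^ w s ∣ W b := by
    refine Finset.prod_dvd_of_coprime ?_ hloc'
    intro s hs s' hs' hne
    exact (isCoprime_X_sub_C_of_isUnit_sub
      (sub_ne_zero.2 (fun h => hne (ha hs hs' h))).isUnit).pow
  have hdegW : ∑ s ∈ S, w s ≤ (W b).natDegree := by
    have h1 := natDegree_le_of_dvd hprod hW0
    have hmonic : ∀ s ∈ S, ((X - C (a s)) ^ w s).Monic := fun s _ =>
      (monic_X_sub_C (a s)).pow (w s)
    have h2 : ∀ s ∈ S, ((X - C (a s)) ^ w s).natDegree = w s := fun s _ => by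
      rw [natDegree_pow, natDegree_X_sub_C, mul_one]
    rw [natDegree_prod_of_monic _ _ hmonic, Finset.sum_congr rfl h2] at h1
    exact h1
  have hA : ∑ s ∈ S, (∑ j ∈ Finset.range d, Module.finrank k ↥(V ⊓ Fa (a s) (j + 1))) ≤
      ∑ s ∈ S, w s + S.card * tri (Module.finrank k ↥V) := by
    rw [← smul_eq_mul, ← Finset.sum_const, ← Finset.sum_add_distrib, hw]
    exact Finset.sum_le_sum fun s _ => le_tsub_add
  rw [← hwinf]
  omega

end Groth.Agent.Lib.lead.Wr
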