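import Mathlib
import Groth.Prelude.Def_W4bk4goldsch23FF
import Groth.Agent.Lib.lead.FF16
import Groth.Agent.Lib.lead.Wr

/-! The Plücker inequality for linear series on a function field of genus zero. -/

namespace Groth.Agent.Lib.lead.FF17
open FunFld Polynomial Groth.Agent.Lib.lead.FF Groth.Agent.Lib.lead.FF2 Groth.Agent.Lib.lead.FF3
  Groth.Agent.Lib.lead.FF4
  Groth.Agent.Lib.lead.FF5 Groth.Agent.Lib.lead.FF6 Groth.Agent.Lib.lead.FF7
  Groth.Agent.Lib.lead.FF8 Groth.Agent.Lib.lead.FF9 Groth.Agent.Lib.lead.FF10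
  Groth.Agent.Lib.lead.FF11 Groth.Agent.Lib.lead.FF12 Groth.Agent.Lib.lead.FF13
  Groth.Agent.Lib.lead.FF14 Groth.Agent.Lib.lead.FF15 Groth.Agent.Lib.lead.FF16
  Groth.Agent.Lib.lead.Wr

variable {k K : Type*} [Field k] [Field K] [Algebra k K]

lemma single_mono (P : Place k K) {a b : ℤ} (h : a ≤ b) :
    (Finsupp.single P a : Divisor k K) ≤ Finsupp.single P b := by
  classical
  intro R
  rw [Finsupp.single_apply, Finsupp.single_apply]
  split_ifs
  · exact h
  · exact le_rfl

lemma transc (hK : IsFunctionField k K) {t : K} (htc : t ∉ Set.range (algebraMap k K)) :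
    Transcendental k t := fun halg => htc (hK.2 t halg)

lemma aeval_inj (hK : IsFunctionField k K) {t : K} (htc : t ∉ Set.range (algebraMap k K)) :
    Function.Injective (aeval t : k[X] → K) :=
  transcendental_iff_injective.1 (transc hK htc)

lemma pow_mem_L (hK : IsFunctionField k K) {Pinf : Place k K} {t : K}
    (ht : t ∈ L (Finsupp.single Pinf (1 : ℤ))) (i : ℕ) :
    t ^ i ∈ L (Finsupp.single Pinf (i : ℤ)) := by
  induction i with
  | zero =>
    rw [pow_zero]
    exact one_mem_L_single hK Pinf (by simp)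
  | succ i ih =>
    rw [pow_succ]
    exact mul_mem_L_single ih ht (Nat.cast_succ i).symm

lemma mem_degreeLT_succ {e : ℕ} {p : k[X]} : p ∈ degreeLT k (e + 1) ↔ p.natDegree ≤ e := by
  rw [degreeLT_succ_eq_degreeLE, mem_degreeLE, natDegree_le_iff_degree_le]

lemma aeval_mem_L (hK : IsFunctionField k K) {Pinf : Place k K} {t : K}
    (ht : t ∈ L (Finsupp.single Pinf (1 : ℤ))) {e : ℕ} {p : k[X]} (hp : p.natDegree ≤ e) :
    aeval t p ∈ L (Finsupp.single Pinf (e : ℤ)) := by
  rw [aeval_eq_sum_range]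
  refine Submodule.sum_mem _ fun i hi => ?_
  refine Submodule.smul_mem _ _ ?_
  rw [Finset.mem_range] at hi
  have hie : i ≤ e := by omega
  exact L_mono (single_mono Pinf (by exact_mod_cast hie)) (pow_mem_L hK ht i)

lemma ell_single_genus_zero [IsAlgClosed k] (hK : IsFunctionField k K) (hg0 : genus k K = 0)
    (Pinf : Place k K) (e : ℕ) : ell (Finsupp.single Pinf (e : ℤ) : Divisor k K) = e + 1 := by
  have h := ell_eq_of_deg_ge hK (Finsupp.single Pinf (e : ℤ)) (by
    rw [hg0, deg_single, deg_eq_one hK]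
    have : (0 : ℤ) ≤ (e : ℤ) := Int.natCast_nonneg e
    push_cast
    linarith)
  rw [hg0, deg_single, deg_eq_one hK] at h
  have h3 : (ell (Finsupp.single Pinf (e : ℤ) : Divisor k K) : ℤ) = ((e + 1 : ℕ) : ℤ) := by
    rw [h]
    push_cast
    ring
  exact_mod_cast h3

lemma L_single_eq_map [IsAlgClosed k] (hK : IsFunctionField k K) (hg0 : genus k K = 0)
    {Pinf : Place k K} {t : K} (ht : t ∈ L (Finsupp.single Pinf (1 : ℤ)))
    (htc : t ∉ Set.range (algebraMap k K)) (e : ℕ) :
    L (Finsupp.single Pinf (e : ℤ)) =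
      Submodule.map (aeval t).toLinearMap (degreeLT k (e + 1)) := by
  symm
  haveI := L_finite hK (Finsupp.single Pinf (e : ℤ))
  refine Submodule.eq_of_le_of_finrank_eq ?_ ?_
  · rintro _ ⟨p, hp, rfl⟩
    exact aeval_mem_L hK ht (mem_degreeLT_succ.1 hp)
  · have h1 := (Submodule.equivMapOfInjective (aeval t).toLinearMap (aeval_inj hK htc)
      (degreeLT k (e + 1))).finrank_eq
    rw [← h1, finrank_degreeLT]
    exact (ell_single_genus_zero hK hg0 Pinf e).symm

lemma exists_coord [IsAlgClosed k] (hK : IsFunctionField k K) {Pinf : Place k K} {t : K}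
    (ht : t ∈ L (Finsupp.single Pinf (1 : ℤ))) (htc : t ∉ Set.range (algebraMap k K))
    (P : Place k K) (hP : P ≠ Pinf) :
    ∃ a : k, t - algebraMap k K a ≠ 0 ∧
      FunFld.div k (t - algebraMap k K a) =
        Finsupp.single P (1 : ℤ) - Finsupp.single Pinf (1 : ℤ) := by
  classical
  have htP : P.1 t ≤ 1 := by
    have h := (mem_L_iff _ _).1 ht P
    rw [Finsupp.single_apply, if_neg (Ne.symm hP)] at h
    exact h.trans_eq WithZero.exp_zero
  obtain ⟨a, ha⟩ := exists_const_sub_lt P (deg_eq_one hK P) htP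
  have hne : t - algebraMap k K a ≠ 0 := fun h => htc ⟨a, (sub_eq_zero.1 h).symm⟩
  have hmem : t - algebraMap k K a ∈ L (Finsupp.single Pinf (1 : ℤ)) := by
    refine Submodule.sub_mem _ ht ?_
    refine L_mono (single_one_nonneg Pinf) ?_
    rw [L_zero hK, Submodule.mem_one]
    exact ⟨a, rfl⟩
  have hE := nonneg_add_div hK hne hmem
  have hdeg : FunFld.Divisor.deg
      (Finsupp.single Pinf (1 : ℤ) + FunFld.div k (t - algebraMap k K a)) = 1 := by
    rw [deg_add, deg_div hK, deg_single, deg_eq_one hK]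
    norm_num
  obtain ⟨R, hR, -⟩ := eq_single_of_nonneg_of_deg_one hK hE hdeg
  have hordpos : 0 < P.ord (t - algebraMap k K a) := (ord_pos_iff P hne).2 ha
  have hRP : R = P := by
    by_contra hne'
    have h1 := DFunLike.congr_fun hR P
    rw [Finsupp.add_apply, div_apply hK, Finsupp.single_apply, if_neg (Ne.symm hP),
      Finsupp.single_apply, if_neg hne'] at h1
    omega
  refine ⟨a, hne, ?_⟩
  rw [← hRP, ← hR]
  abel

lemma phi_mem_inf [IsAlgClosed k] (hK : IsFunctionField k K) (hg0 : genus k K = 0)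
    {Pinf : Place k K} {t : K} (ht : t ∈ L (Finsupp.single Pinf (1 : ℤ)))
    (htc : t ∉ Set.range (algebraMap k K)) {D : Divisor k K} {d : ℕ} {z : K} (hz : z ≠ 0)
    (hdivz : FunFld.div k z = Finsupp.single Pinf (d : ℤ) - D) {n : ℕ} (hn : n ≤ d)
    (p : k[X]) :
    z * aeval t p ∈ L (D - Finsupp.single Pinf (n : ℤ)) ↔ p ∈ degreeLT k (d - n + 1) := by
  have e1 : D - Finsupp.single Pinf (n : ℤ) + (Finsupp.single Pinf (d : ℤ) - D) =
      Finsupp.single Pinf (((d - n : ℕ)) : ℤ) := by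
    rw [Nat.cast_sub hn, Finsupp.single_sub]
    abel
  rw [mul_mem_L_iff hK _ hz, hdivz, e1, L_single_eq_map hK hg0 ht htc]
  constructor
  · rintro ⟨q, hq, hqe⟩
    have hqp : q = p := aeval_inj hK htc hqe
    rw [← hqp]
    exact hq
  · intro hp
    exact ⟨p, hp, rfl⟩

lemma phi_mem_fin [IsAlgClosed k] (hK : IsFunctionField k K) (hg0 : genus k K = 0)
    {Pinf P : Place k K} {t : K} (ht : t ∈ L (Finsupp.single Pinf (1 : ℤ)))
    (htc : t ∉ Set.range (algebraMap k K)) {D : Divisor k K} {d : ℕ} {z : K} (hz : z ≠ 0)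
    (hdivz : FunFld.div k z = Finsupp.single Pinf (d : ℤ) - D) {a : k}
    (hta : t - algebraMap k K a ≠ 0)
    (hdiva : FunFld.div k (t - algebraMap k K a) =
      Finsupp.single P (1 : ℤ) - Finsupp.single Pinf (1 : ℤ))
    {n : ℕ} (hn : n ≤ d) (p : k[X]) :
    z * aeval t p ∈ L (D - Finsupp.single P (n : ℤ)) ↔
      p.natDegree ≤ d ∧ (X - C a) ^ n ∣ p := by
  classical
  have hu0 : (t - algebraMap k K a) ^ n ≠ 0 := pow_ne_zero n hta
  have e2 : D - Finsupp.single P (n : ℤ) + (Finsupp.single Pinf (d : ℤ) - D) =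
      Finsupp.single Pinf (d : ℤ) - Finsupp.single P (n : ℤ) := by abel
  have e3 : Finsupp.single Pinf (d : ℤ) - Finsupp.single P (n : ℤ) +
      FunFld.div k ((t - algebraMap k K a) ^ n) = Finsupp.single Pinf (((d - n : ℕ)) : ℤ) := by
    rw [div_pow hK, hdiva]
    ext R
    simp only [Finsupp.add_apply, Finsupp.sub_apply, Finsupp.smul_apply, Finsupp.single_apply,
      nsmul_eq_mul, Nat.cast_sub hn]
    split_ifs <;> ring
  have haev : ∀ q : k[X], aeval t ((X - C a) ^ n * q) =
      (t - algebraMap k K a) ^ n * aeval t q := by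
    intro q
    rw [map_mul, map_pow, map_sub, aeval_X, aeval_C]
  rw [mul_mem_L_iff hK _ hz, hdivz, e2]
  constructor
  · intro h
    have hle : (Finsupp.single Pinf (d : ℤ) - Finsupp.single P (n : ℤ) : Divisor k K) ≤
        Finsupp.single Pinf (d : ℤ) := by
      intro R
      have h5 := single_apply_nonneg (k := k) (K := K) P R (n := (n : ℤ)) (Int.natCast_nonneg n)
      simp only [Finsupp.sub_apply]
      omega
    have h1 := L_mono hle h
    rw [L_single_eq_map hK hg0 ht htc] at h1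
    obtain ⟨q, hq, hqe⟩ := h1
    have hqp : q = p := aeval_inj hK htc hqe
    rw [hqp] at hq
    refine ⟨mem_degreeLT_succ.1 hq, ?_⟩
    have h2 : (t - algebraMap k K a) ^ n * (aeval t p / (t - algebraMap k K a) ^ n) ∈
        L (Finsupp.single Pinf (d : ℤ) - Finsupp.single P (n : ℤ)) := by
      rw [mul_div_cancel₀ _ hu0]
      exact h
    rw [mul_mem_L_iff hK _ hu0, e3, L_single_eq_map hK hg0 ht htc] at h2
    obtain ⟨q', -, hq'e⟩ := h2
    have h3 : aeval t ((X - C a) ^ n * q') = aeval t p := by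
      rw [haev, show aeval t q' = aeval t p / (t - algebraMap k K a) ^ n from hq'e,
        mul_div_cancel₀ _ hu0]
    rw [← aeval_inj hK htc h3]
    exact dvd_mul_right _ _
  · rintro ⟨hdeg, q, rfl⟩
    rw [haev, mul_mem_L_iff hK _ hu0, e3]
    refine aeval_mem_L hK ht ?_
    by_cases hq : q = 0
    · rw [hq, natDegree_zero]
      exact Nat.zero_le _
    · have hX : (X - C a) ^ n ≠ 0 := pow_ne_zero n (X_sub_C_ne_zero a)
      rw [natDegree_mul hX hq, natDegree_pow, natDegree_X_sub_C, mul_one] at hdeg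
      omega

/-- the Plücker inequality on a function field of genus zero -/
theorem plucker [IsAlgClosed k] [CharZero k] (hK : IsFunctionField k K) (hg0 : genus k K = 0)
    (d r : ℕ) (D : Divisor k K) (hD : D.deg = d) (V : Submodule k K) (hV : V ≤ L D)
    (hVr : Module.finrank k ↥V = r + 1) (Pinf : Place k K) (S : Finset (Place k K))
    (hS : Pinf ∉ S) :
    (∑ P ∈ S, wt V D P d) + wt V D Pinf d + tri (r + 1) ≤
      (r + 1) * d + S.card * tri (r + 1) := by
  classical
  -- the coordinate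
  have hell2 : ell (Finsupp.single Pinf ((1 : ℕ) : ℤ) : Divisor k K) = 1 + 1 :=
    ell_single_genus_zero hK hg0 Pinf 1
  rw [Nat.cast_one] at hell2
  have hnle : ¬ L (Finsupp.single Pinf (1 : ℤ) : Divisor k K) ≤ L (0 : Divisor k K) := by
    intro hle
    haveI := L_zero_finite hK
    have h3 := Submodule.finrank_mono hle
    have h4 : ell (Finsupp.single Pinf (1 : ℤ) : Divisor k K) ≤ ell (0 : Divisor k K) := h3
    rw [hell2, ell_zero hK] at h4
    omega
  obtain ⟨t, ht, ht0⟩ := SetLike.not_le_iff_exists.1 hnle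
  have htc : t ∉ Set.range (algebraMap k K) := by
    intro hx
    apply ht0
    rw [L_zero hK, Submodule.mem_one]
    exact hx
  -- reduction to `d • Pinf`
  have hE0deg : FunFld.Divisor.deg (D - Finsupp.single Pinf (d : ℤ)) = 0 := by
    rw [deg_sub, deg_single, deg_eq_one hK, hD]
    push_cast
    ring
  have hellE : (ell (D - Finsupp.single Pinf (d : ℤ)) : ℤ) = 1 := by
    have h := ell_eq_of_deg_ge hK (D - Finsupp.single Pinf (d : ℤ)) (by
      rw [hg0, hE0deg]
      norm_num)
    rw [h, hg0, hE0deg]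
    norm_num
  obtain ⟨z, hz, hzL⟩ := exists_ne_zero_of_ell_pos hK (le_of_eq hellE.symm)
  have hdivz : FunFld.div k z = Finsupp.single Pinf (d : ℤ) - D := by
    rw [div_of_mem_deg_zero hK hz hzL hE0deg]
    abel
  obtain ⟨Φ, hΦ⟩ : ∃ Φ : k[X] →ₗ[k] K, ∀ p, Φ p = z * aeval t p :=
    ⟨(LinearMap.mulLeft k z).comp (aeval t).toLinearMap, fun p => rfl⟩
  have hΦinj : Function.Injective Φ := by
    intro p q hpq
    rw [hΦ, hΦ] at hpq
    exact aeval_inj hK htc (mul_left_cancel₀ hz hpq)
  have hVrange : V ≤ LinearMap.range Φ := by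
    intro x hx
    have h1 : z * (x / z) ∈ L D := by
      rw [mul_div_cancel₀ _ hz]
      exact hV hx
    rw [mul_mem_L_iff hK _ hz, hdivz,
      show D + (Finsupp.single Pinf (d : ℤ) - D) = Finsupp.single Pinf (d : ℤ) by abel,
      L_single_eq_map hK hg0 ht htc] at h1
    obtain ⟨p, -, hp⟩ := h1
    refine ⟨p, ?_⟩
    rw [hΦ, show aeval t p = x / z from hp, mul_div_cancel₀ _ hz]
  obtain ⟨Vp, hVp⟩ : ∃ Vp : Submodule k k[X], Vp = V.comap Φ := ⟨_, rfl⟩
  have hmap : Vp.map Φ = V := by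
    rw [hVp]
    exact Submodule.map_comap_eq_of_le hVrange
  have hmemVp : ∀ p, p ∈ Vp ↔ Φ p ∈ V := fun p => by
    rw [hVp]
    exact Submodule.mem_comap
  have hVpdim : Module.finrank k ↥Vp = r + 1 := by
    rw [(Submodule.equivMapOfInjective Φ hΦinj Vp).finrank_eq, hmap, hVr]
  have hVpdeg : Vp ≤ degreeLT k (d + 1) := by
    intro p hp
    have h1 : Φ p ∈ L D := hV ((hmemVp p).1 hp)
    have h2 := (phi_mem_inf hK hg0 ht htc hz hdivz (Nat.zero_le d) p).1 (by
      rw [Nat.cast_zero, Finsupp.single_zero, sub_zero, ← hΦ]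
      exact h1)
    rw [Nat.sub_zero] at h2
    exact h2
  -- coordinates of the points
  have hex : ∀ P : Place k K, ∃ a : k, P ≠ Pinf → (t - algebraMap k K a ≠ 0 ∧
      FunFld.div k (t - algebraMap k K a) =
        Finsupp.single P (1 : ℤ) - Finsupp.single Pinf (1 : ℤ)) := by
    intro P
    by_cases hP : P = Pinf
    · exact ⟨0, fun h => absurd hP h⟩
    · obtain ⟨a, h1, h2⟩ := exists_coord hK ht htc P hP
      exact ⟨a, fun _ => ⟨h1, h2⟩⟩
  choose a ha using hex
  have hSne : ∀ P ∈ S, P ≠ Pinf := fun P hP h => hS (h ▸ hP)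
  have hinj : Set.InjOn a (S : Set (Place k K)) := by
    intro P hP Q hQ hPQ
    have h1 := (ha P (hSne P (Finset.mem_coe.1 hP))).2
    have h2 := (ha Q (hSne Q (Finset.mem_coe.1 hQ))).2
    rw [hPQ, h2] at h1
    have h3 : (Finsupp.single Q (1 : ℤ) : Divisor k K) = Finsupp.single P (1 : ℤ) :=
      sub_left_inj.1 h1
    exact (Finsupp.single_left_injective (one_ne_zero) h3).symm
  have hfin : ∀ P ∈ S, ∀ j ∈ Finset.range d,
      Module.finrank k ↥(V ⊓ L (D - Finsupp.single P ((j : ℤ) + 1))) =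
        Module.finrank k ↥(Vp ⊓ Fa (a P) (j + 1)) := by
    intro P hP j hj
    rw [Finset.mem_range] at hj
    obtain ⟨h1, h2⟩ := ha P (hSne P hP)
    have hM : ∀ p, Φ p ∈ L (D - Finsupp.single P ((j : ℤ) + 1)) ↔
        p.natDegree ≤ d ∧ (X - C (a P)) ^ (j + 1) ∣ p := by
      intro p
      rw [hΦ, ← Nat.cast_succ]
      exact phi_mem_fin hK hg0 ht htc hz hdivz h1 h2 (by omega) p
    have hset : V ⊓ L (D - Finsupp.single P ((j : ℤ) + 1)) =
        Submodule.map Φ (Vp ⊓ Fa (a P) (j + 1)) := by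
      ext x
      constructor
      · rintro ⟨hxV, hxL⟩
        rw [← hmap] at hxV
        obtain ⟨p, hpV, rfl⟩ := hxV
        exact ⟨p, ⟨hpV, mem_Fa.2 ((hM p).1 hxL).2⟩, rfl⟩
      · rintro ⟨p, ⟨hpV, hpF⟩, rfl⟩
        exact ⟨(hmemVp p).1 hpV,
          (hM p).2 ⟨mem_degreeLT_succ.1 (hVpdeg hpV), mem_Fa.1 hpF⟩⟩
    rw [hset, ← (Submodule.equivMapOfInjective Φ hΦinj _).finrank_eq]
  have hfinf : ∀ j ∈ Finset.range d,
      Module.finrank k ↥(V ⊓ L (D - Finsupp.single Pinf ((j : ℤ) + 1))) =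
        Module.finrank k ↥(Vp ⊓ degreeLT k (d - j)) := by
    intro j hj
    rw [Finset.mem_range] at hj
    have hM : ∀ p, Φ p ∈ L (D - Finsupp.single Pinf ((j : ℤ) + 1)) ↔
        p ∈ degreeLT k (d - j) := by
      intro p
      rw [hΦ, ← Nat.cast_succ]
      have h := phi_mem_inf hK hg0 ht htc hz hdivz (n := j.succ) (by omega) p
      rw [show d - j.succ + 1 = d - j by omega] at h
      exact h
    have hset : V ⊓ L (D - Finsupp.single Pinf ((j : ℤ) + 1)) =
        Submodule.map Φ (Vp ⊓ degreeLT k (d - j)) := by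
      ext x
      constructor
      · rintro ⟨hxV, hxL⟩
        rw [← hmap] at hxV
        obtain ⟨p, hpV, rfl⟩ := hxV
        exact ⟨p, ⟨hpV, (hM p).1 hxL⟩, rfl⟩
      · rintro ⟨p, ⟨hpV, hpF⟩, rfl⟩
        exact ⟨(hmemVp p).1 hpV, (hM p).2 hpF⟩
    rw [hset, ← (Submodule.equivMapOfInjective Φ hΦinj _).finrank_eq]
  have hP := plucker_poly d (r + 1) Vp hVpdeg hVpdim S a hinj
  unfold wt
  rw [Finset.sum_congr rfl (fun P hP => Finset.sum_congr rfl (hfin P hP)),
    Finset.sum_congr rfl hfinf]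
  exact hP

/-- the Plücker inequality with lower bounds for the weights at the other points -/
theorem list_bound [IsAlgClosed k] [CharZero k] (hK : IsFunctionField k K)
    (hg0 : genus k K = 0) (d r : ℕ) (D : Divisor k K) (hD : D.deg = d) (V : Submodule k K)
    (hV : V ≤ L D) (hVr : Module.finrank k ↥V = r + 1) (Pinf : Place k K)
    (l : List (Place k K × ℕ)) (hnd : (l.map Prod.fst).Nodup) (hP : Pinf ∉ l.map Prod.fst)
    (hb : ∀ x ∈ l, r * (r + 1) + 2 * (r * x.2) ≤ 2 * wt V D x.1 d) :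
    2 * wt V D Pinf d + r * (r + 1) + 2 * (r * (l.map Prod.snd).sum) ≤ 2 * ((r + 1) * d) := by
  classical
  have hpl := plucker hK hg0 d r D hD V hV hVr Pinf (l.map Prod.fst).toFinset (by
    rw [List.mem_toFinset]
    exact hP)
  rw [List.sum_toFinset _ hnd, List.toFinset_card_of_nodup hnd, List.length_map] at hpl
  have haux : ∀ l' : List (Place k K × ℕ),
      (∀ x ∈ l', r * (r + 1) + 2 * (r * x.2) ≤ 2 * wt V D x.1 d) →
      l'.length * (r * (r + 1)) + 2 * (r * (l'.map Prod.snd).sum) ≤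
        2 * ((l'.map Prod.fst).map (fun P => wt V D P d)).sum := by
    intro l'
    induction l' with
    | nil =>
      intro _
      simp
    | cons x l' ih =>
      intro h
      have h1 := h x List.mem_cons_self
      have h2 := ih (fun y hy => h y (List.mem_cons_of_mem _ hy))
      simp only [List.map_cons, List.sum_cons, List.length_cons]
      rw [Nat.succ_mul, mul_add r x.2]
      omega
  have h3 := haux l hb
  have htri : 2 * tri (r + 1) = r * (r + 1) := two_tri r
  rw [← htri, Nat.mul_left_comm l.length 2 (tri (r + 1))] at h3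
  omega

end Groth.Agent.Lib.lead.FF17
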