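import Mathlib
import Groth.Prelude.Def_W4bk4goldsch45
import Groth.Agent.Lib.lead.FF17

/-! Local rings of projective maps, residues of functions at places, automorphisms and places. -/

namespace Groth.Agent.Lib.lead.Loc
open FunFld Groth.Agent.Lib.lead.FF Groth.Agent.Lib.lead.FF2 Groth.Agent.Lib.lead.FF3
  Groth.Agent.Lib.lead.FF4
  Groth.Agent.Lib.lead.FF5 Groth.Agent.Lib.lead.FF6 Groth.Agent.Lib.lead.FF7
  Groth.Agent.Lib.lead.FF8 Groth.Agent.Lib.lead.FF9 Groth.Agent.Lib.lead.FF10
  Groth.Agent.Lib.lead.FF11 Groth.Agent.Lib.lead.FF12 Groth.Agent.Lib.lead.FF13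
  Groth.Agent.Lib.lead.FF14 Groth.Agent.Lib.lead.FF15 Groth.Agent.Lib.lead.FF16
  Groth.Agent.Lib.lead.FF17

variable {k K : Type*} [Field k] [Field K] [Algebra k K]

lemma val_mul_lt_one_left (P : Place k K) {a b : K} (ha : P.1 a < 1) (hb : P.1 b ≤ 1) :
    P.1 (a * b) < 1 := by
  rw [map_mul]
  calc P.1 a * P.1 b ≤ P.1 a * 1 := mul_le_mul' le_rfl hb
    _ = P.1 a := mul_one _
    _ < 1 := ha

lemma val_mul_lt_one_right (P : Place k K) {a b : K} (ha : P.1 a ≤ 1) (hb : P.1 b < 1) :
    P.1 (a * b) < 1 := by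
  rw [mul_comm]
  exact val_mul_lt_one_left P hb ha

lemma val_mul_le_left (P : Place k K) {a b : K} {g : WithZero (Multiplicative ℤ)}
    (ha : P.1 a ≤ g) (hb : P.1 b ≤ 1) : P.1 (a * b) ≤ g := by
  rw [map_mul]
  calc P.1 a * P.1 b ≤ g * 1 := mul_le_mul' ha hb
    _ = g := mul_one _

lemma const_eq_zero_of_val_lt (P : Place k K) {c : k} (h : P.1 (algebraMap k K c) < 1) :
    c = 0 := by
  by_contra hc
  rw [val_algebraMap P hc] at h
  exact lt_irrefl _ h

lemma val_le_one_of_sub_const (P : Place k K) {u : K} {b : k}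
    (h : P.1 (u - algebraMap k K b) < 1) : P.1 u ≤ 1 := by
  have : u = (u - algebraMap k K b) + algebraMap k K b := by ring
  rw [this]
  exact Valuation.map_add_le _ h.le (P.2.1 b)

lemma val_lt_one_iff_const (P : Place k K) {u : K} {b : k}
    (h : P.1 (u - algebraMap k K b) < 1) : P.1 u < 1 ↔ b = 0 := by
  constructor
  · intro hu
    apply const_eq_zero_of_val_lt P
    have : algebraMap k K b = u - (u - algebraMap k K b) := by ring
    rw [this]
    exact Valuation.map_sub_lt _ hu h
  · rintro rfl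
    rwa [map_zero, sub_zero] at h

lemma val_eq_one_of_const_ne (P : Place k K) {u : K} {b : k}
    (h : P.1 (u - algebraMap k K b) < 1) (hb : b ≠ 0) : P.1 u = 1 := by
  refine le_antisymm (val_le_one_of_sub_const P h) ?_
  by_contra hlt
  rw [not_le] at hlt
  exact hb ((val_lt_one_iff_const P h).1 hlt)

lemma const_unique (P : Place k K) {u : K} {b b' : k} (h : P.1 (u - algebraMap k K b) < 1)
    (h' : P.1 (u - algebraMap k K b') < 1) : b = b' := by
  have h1 : P.1 (algebraMap k K (b' - b)) < 1 := by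
    have : algebraMap k K (b' - b) = (u - algebraMap k K b) - (u - algebraMap k K b') := by
      rw [map_sub]; ring
    rw [this]
    exact Valuation.map_sub_lt _ h h'
  have := const_eq_zero_of_val_lt P h1
  exact (sub_eq_zero.1 this).symm

lemma sub_const_add (P : Place k K) {u v : K} {b b' : k}
    (h : P.1 (u - algebraMap k K b) < 1) (h' : P.1 (v - algebraMap k K b') < 1) :
    P.1 (u + v - algebraMap k K (b + b')) < 1 := by
  have : u + v - algebraMap k K (b + b') = (u - algebraMap k K b) + (v - algebraMap k K b') := by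
    rw [map_add]; ring
  rw [this]
  exact Valuation.map_add_lt _ h h'

lemma sub_const_mul (P : Place k K) {u v : K} {b b' : k}
    (h : P.1 (u - algebraMap k K b) < 1) (h' : P.1 (v - algebraMap k K b') < 1) :
    P.1 (u * v - algebraMap k K (b * b')) < 1 := by
  have : u * v - algebraMap k K (b * b') =
      (u - algebraMap k K b) * v + algebraMap k K b * (v - algebraMap k K b') := by
    rw [map_mul]; ring
  rw [this]
  exact Valuation.map_add_lt _ (val_mul_lt_one_left P h (val_le_one_of_sub_const P h'))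
    (val_mul_lt_one_right P (P.2.1 b) h')

/-- elements of `k[x_i]` have common residues at `P` and `Q` when the generators do -/
lemma adjoin_residue (P Q : Place k K) {ι : Type*} (x : ι → K) (c : ι → k)
    (hP : ∀ i, P.1 (x i - algebraMap k K (c i)) < 1)
    (hQ : ∀ i, Q.1 (x i - algebraMap k K (c i)) < 1)
    {u : K} (hu : u ∈ Algebra.adjoin k (Set.range x)) :
    ∃ b : k, P.1 (u - algebraMap k K b) < 1 ∧ Q.1 (u - algebraMap k K b) < 1 := by
  induction hu using Algebra.adjoin_induction with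
  | mem u hu =>
    obtain ⟨i, rfl⟩ := hu
    exact ⟨c i, hP i, hQ i⟩
  | algebraMap r =>
    refine ⟨r, ?_, ?_⟩
    · rw [sub_self, map_zero]; exact zero_lt_one
    · rw [sub_self, map_zero]; exact zero_lt_one
  | add u v _ _ ihu ihv =>
    obtain ⟨b, hb1, hb2⟩ := ihu
    obtain ⟨b', hb1', hb2'⟩ := ihv
    exact ⟨b + b', sub_const_add P hb1 hb1', sub_const_add Q hb2 hb2'⟩
  | mul u v _ _ ihu ihv =>
    obtain ⟨b, hb1, hb2⟩ := ihu
    obtain ⟨b', hb1', hb2'⟩ := ihv
    exact ⟨b * b', sub_const_mul P hb1 hb1', sub_const_mul Q hb2 hb2'⟩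

lemma hexp2 : (WithZero.exp (-2 : ℤ) : WithZero (Multiplicative ℤ)) < 1 := by
  rw [← WithZero.exp_zero, WithZero.exp_lt_exp]; norm_num

lemma hexp1 : (WithZero.exp (-1 : ℤ) : WithZero (Multiplicative ℤ)) < 1 := by
  rw [← WithZero.exp_zero, WithZero.exp_lt_exp]; norm_num

/-- if all generators are constants modulo `m_P^2`, so is every element of `k[x_i]` -/
lemma adjoin_mod_sq (P : Place k K) {ι : Type*} (x : ι → K) (c : ι → k)
    (h2 : ∀ i, P.1 (x i - algebraMap k K (c i)) ≤ WithZero.exp (-2))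
    {u : K} (hu : u ∈ Algebra.adjoin k (Set.range x)) :
    ∃ b : k, P.1 (u - algebraMap k K b) ≤ WithZero.exp (-2) := by
  induction hu using Algebra.adjoin_induction with
  | mem u hu =>
    obtain ⟨i, rfl⟩ := hu
    exact ⟨c i, h2 i⟩
  | algebraMap r =>
    refine ⟨r, ?_⟩
    rw [sub_self, map_zero]; exact zero_le'
  | add u v _ _ ihu ihv =>
    obtain ⟨b, hb⟩ := ihu
    obtain ⟨b', hb'⟩ := ihv
    refine ⟨b + b', ?_⟩
    have : u + v - algebraMap k K (b + b') =
        (u - algebraMap k K b) + (v - algebraMap k K b') := by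
      rw [map_add]; ring
    rw [this]
    exact Valuation.map_add_le _ hb hb'
  | mul u v _ _ ihu ihv =>
    obtain ⟨b, hb⟩ := ihu
    obtain ⟨b', hb'⟩ := ihv
    refine ⟨b * b', ?_⟩
    have : u * v - algebraMap k K (b * b') =
        (u - algebraMap k K b) * v + (v - algebraMap k K b') * algebraMap k K b := by
      rw [map_mul]; ring
    rw [this]
    exact Valuation.map_add_le _
      (val_mul_le_left P hb (val_le_one_of_sub_const P (lt_of_le_of_lt hb' hexp2)))
      (val_mul_le_left P hb' (P.2.1 b))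

lemma exists_max_index {n : ℕ} (P : Place k K) (φ : Fin (n + 1) → K) :
    ∃ j, ∀ i, P.1 (φ i) ≤ P.1 (φ j) := by
  obtain ⟨j, -, hj⟩ := Finset.exists_max_image Finset.univ (fun i => P.1 (φ i))
    Finset.univ_nonempty
  exact ⟨j, fun i => hj i (Finset.mem_univ i)⟩

lemma val_div_le_one_iff (P : Place k K) {a b : K} (hb : b ≠ 0) :
    P.1 (a / b) ≤ 1 ↔ P.1 a ≤ P.1 b := by
  rw [map_div₀]
  exact div_le_one₀ (zero_lt_iff.2 (val_ne_zero P hb))

lemma div_sub_const (P : Place k K) {a d : K} {ca cd : k} (hcd : cd ≠ 0)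
    (ha : P.1 (a - algebraMap k K ca) < 1) (hd : P.1 (d - algebraMap k K cd) < 1) :
    P.1 (a / d - algebraMap k K (ca / cd)) < 1 := by
  have hD0 : algebraMap k K cd ≠ 0 := (map_ne_zero _).2 hcd
  have hd1 : P.1 d = 1 := val_eq_one_of_const_ne P hd hcd
  have hd0 : d ≠ 0 := by
    rintro rfl
    rw [map_zero] at hd1
    exact zero_ne_one hd1
  have hid : a / d - algebraMap k K (ca / cd) =
      ((a - algebraMap k K ca) * algebraMap k K cd - algebraMap k K ca * (d - algebraMap k K cd)) *
        (d * algebraMap k K cd)⁻¹ := by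
    rw [map_div₀]
    field_simp
    ring
  rw [hid, map_mul, map_inv₀, map_mul, hd1, val_algebraMap P hcd, one_mul, inv_one, mul_one]
  exact Valuation.map_sub_lt _ (val_mul_lt_one_left P ha (P.2.1 cd))
    (val_mul_lt_one_right P (P.2.1 ca) hd)

/-- the entry of largest valuation has valuation one, for a normalized effective map -/
lemma max_val_eq_one {n : ℕ} (P : Place k K) (φ : Fin (n + 1) → K)
    (heff : (1 : K) ∈ Submodule.span k (Set.range φ)) (hnorm : ∀ i, P.1 (φ i) ≤ 1)
    {j : Fin (n + 1)} (hjmax : ∀ i, P.1 (φ i) ≤ P.1 (φ j)) : P.1 (φ j) = 1 := by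
  refine le_antisymm (hnorm j) ?_
  by_contra hlt
  rw [not_le] at hlt
  obtain ⟨d, hd⟩ := (Submodule.mem_span_range_iff_exists_fun k).1 heff
  have : P.1 (∑ i, d i • φ i) < 1 := by
    apply Valuation.map_sum_lt _ one_ne_zero
    intro i _
    rw [Algebra.smul_def]
    exact val_mul_lt_one_right P (P.2.1 (d i)) (lt_of_le_of_lt (hjmax i) hlt)
  rw [hd, map_one] at this
  exact lt_irrefl _ this

lemma sum_smul_div {n : ℕ} (φ : Fin (n + 1) → K) (a : Fin (n + 1) → k) (z : K) :
    ∑ i, a i • (φ i / z) = (∑ i, a i • φ i) / z := by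
  rw [Finset.sum_div]
  simp only [smul_div_assoc]

/-- scaling the arguments of a homogeneous polynomial -/
lemma aeval_scale {σ : Type*} (g : MvPolynomial σ k) {e : ℕ} (hg : g.IsHomogeneous e) (c : K)
    (x : σ → K) :
    MvPolynomial.aeval (fun i => c * x i) g = c ^ e * MvPolynomial.aeval x g := by
  rw [MvPolynomial.aeval_def, MvPolynomial.eval₂_eq, MvPolynomial.aeval_def,
    MvPolynomial.eval₂_eq, Finset.mul_sum]
  apply Finset.sum_congr rfl
  intro d hd
  simp only [mul_pow]
  rw [Finset.prod_mul_distrib, Finset.prod_pow_eq_pow_sum, ← hg.degree_eq_sum_deg_support hd]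
  ring

/-! ### automorphisms and places -/

/-- pull back a place along an automorphism -/
def comapP (τ : K ≃ₐ[k] K) (P : Place k K) : Place k K :=
  ⟨P.1.comap (τ : K →+* K), by
    constructor
    · intro c
      show P.1 (τ (algebraMap k K c)) ≤ 1
      rw [τ.commutes]
      exact P.2.1 c
    · intro γ
      obtain ⟨x, hx⟩ := P.2.2 γ
      refine ⟨τ.symm x, ?_⟩
      show P.1 (τ (τ.symm x)) = γ
      rw [τ.apply_symm_apply]
      exact hx⟩

lemma comapP_apply (τ : K ≃ₐ[k] K) (P : Place k K) (x : K) : (comapP τ P).1 x = P.1 (τ x) := rfl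

lemma eq_comapP_symm (σ : K ≃ₐ[k] K) {R P : Place k K} (h : comapP σ R = P) :
    R = comapP σ.symm P := by
  subst h
  apply Subtype.ext
  apply Valuation.ext
  intro z
  show R.1 z = R.1 (σ (σ.symm z))
  rw [σ.apply_symm_apply]

lemma fix_sub_lt [IsAlgClosed k] (hK : IsFunctionField k K) (σ : K ≃ₐ[k] K) {Q : Place k K}
    (hQ : ∀ x : K, Q.1 x < 1 → Q.1 (σ x) < 1) {x : K} (hx : Q.1 x ≤ 1) :
    Q.1 (x - σ x) < 1 := by
  obtain ⟨b, hb⟩ := exists_const_sub_lt Q (deg_eq_one hK Q) hx
  have h1 := hQ _ hb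
  rw [map_sub, σ.commutes] at h1
  have : x - σ x = (x - algebraMap k K b) - (σ x - algebraMap k K b) := by ring
  rw [this]
  exact Valuation.map_sub_lt _ hb h1

lemma infinite_places [IsAlgClosed k] (hK : IsFunctionField k K) : Infinite (Place k K) := by
  obtain ⟨x, hx, -⟩ := hK.1
  have hxc : ∀ c : k, Transcendental k (x - algebraMap k K c) := by
    intro c halg
    apply hx
    have h := halg.add (isAlgebraic_algebraMap (R := k) (A := K) c)
    rwa [sub_add_cancel] at h
  choose f hf using fun c : k => exists_place_lt_one hK (hxc c)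
  apply Infinite.of_injective f
  intro c c' hcc
  have h1 := hf c
  have h2 := hf c'
  rw [← hcc] at h2
  exact const_unique (f c) h1 h2

lemma mem_L_sub_sum (E : Divisor k K) (T : Finset (Place k K)) {y : K} (hy : y ∈ L E)
    (hT : ∀ Q ∈ T, E Q = 0 ∧ Q.1 y < 1) :
    y ∈ L (E - ∑ Q ∈ T, Finsupp.single Q (1 : ℤ)) := by
  classical
  refine (mem_L_iff _ _).2 fun R => ?_
  have hsum : (∑ Q ∈ T, Finsupp.single Q (1 : ℤ)) R = if R ∈ T then 1 else 0 := by
    rw [Finsupp.finset_sum_apply]
    simp only [Finsupp.single_apply]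
    exact Finset.sum_ite_eq' T R (fun _ => (1 : ℤ))
  rw [Finsupp.sub_apply, hsum]
  by_cases hR : R ∈ T
  · rw [if_pos hR, (hT R hR).1, zero_sub]
    by_cases hy0 : y = 0
    · rw [hy0, map_zero]; exact zero_le'
    · rw [val_le_exp_iff R hy0]
      have := (ord_pos_iff R hy0).2 (hT R hR).2
      omega
  · rw [if_neg hR, sub_zero]
    exact (mem_L_iff _ _).1 hy R

lemma deg_sum_single [IsAlgClosed k] (hK : IsFunctionField k K) (T : Finset (Place k K)) :
    FunFld.Divisor.deg (∑ Q ∈ T, Finsupp.single Q (1 : ℤ)) = T.card := by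
  classical
  induction T using Finset.induction_on with
  | empty => rw [Finset.sum_empty, deg_zero, Finset.card_empty, Nat.cast_zero]
  | insert a s ha ih =>
    rw [Finset.sum_insert ha, deg_add, ih, deg_single, deg_eq_one hK a,
      Finset.card_insert_of_notMem ha]
    push_cast
    ring

/-- a nonconstant function with poles only at `P`, of order at most `g + 1` -/
lemma exists_nonconst [IsAlgClosed k] (hK : IsFunctionField k K) (P : Place k K) :
    ∃ x ∈ L (Finsupp.single P ((genus k K : ℤ) + 1)), x ∉ Set.range (algebraMap k K) := by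
  by_contra hall
  push Not at hall
  have hle : L (Finsupp.single P ((genus k K : ℤ) + 1)) ≤ L (0 : Divisor k K) := by
    intro x hx
    rw [L_zero hK, Submodule.mem_one]
    exact hall x hx
  haveI := L_finite hK (0 : Divisor k K)
  have h1 : ell (Finsupp.single P ((genus k K : ℤ) + 1)) ≤ ell (0 : Divisor k K) :=
    Submodule.finrank_mono hle
  rw [ell_zero hK] at h1
  have h2 := (riemann hK).1 (Finsupp.single P ((genus k K : ℤ) + 1))
  rw [deg_single, deg_eq_one hK P] at h2
  push_cast at h2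
  have h3 : (ell (Finsupp.single P ((genus k K : ℤ) + 1)) : ℤ) ≤ 1 := by exact_mod_cast h1
  linarith

end Groth.Agent.Lib.lead.Loc
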