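import Mathlib
import Groth.Prelude.Def_W4bk4goldsch45
import Groth.Agent.Lib.lead.Emb

/-! General form of the embedding criterion (base-point-free pencils + Nakayama). -/

namespace Groth.Agent.Lib.lead.Emb2
open FunFld Groth.Agent.Lib.lead.FF Groth.Agent.Lib.lead.FF2 Groth.Agent.Lib.lead.FF3
  Groth.Agent.Lib.lead.FF4
  Groth.Agent.Lib.lead.FF5 Groth.Agent.Lib.lead.FF6 Groth.Agent.Lib.lead.FF7
  Groth.Agent.Lib.lead.FF8 Groth.Agent.Lib.lead.FF9 Groth.Agent.Lib.lead.FF10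
  Groth.Agent.Lib.lead.FF11 Groth.Agent.Lib.lead.FF12 Groth.Agent.Lib.lead.FF13
  Groth.Agent.Lib.lead.FF14 Groth.Agent.Lib.lead.FF15 Groth.Agent.Lib.lead.FF16
  Groth.Agent.Lib.lead.FF17 Groth.Agent.Lib.lead.Loc Groth.Agent.Lib.lead.Emb

variable {k K : Type*} [Field k] [Field K] [Algebra k K]

lemma exists_of_ell_lt (hK : IsFunctionField k K) {D₁ D₂ : Divisor k K} (h : ell D₁ < ell D₂) :
    ∃ t ∈ L D₂, t ∉ L D₁ := by
  by_contra hall
  push Not at hall
  have hle : L D₂ ≤ L D₁ := fun t ht => hall t ht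
  haveI := L_finite hK D₁
  have h1 : ell D₂ ≤ ell D₁ := Submodule.finrank_mono hle
  omega

lemma exists_pencil_gen [IsAlgClosed k] (hK : IsFunctionField k K) (F : Divisor k K)
    (R₀ : Place k K)
    (hb : ∀ R : Place k K, ∃ t ∈ L F, t ∉ L (F - Finsupp.single R 1)) :
    ∃ s t : K, s ∈ L F ∧ t ∈ L F ∧ s ≠ 0 ∧
      ∀ R : Place k K, R.1 s = WithZero.exp (F R) ∨ R.1 t = WithZero.exp (F R) := by
  classical
  obtain ⟨s, hs, hsn⟩ := hb R₀
  have hs0 : s ≠ 0 := by
    rintro rfl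
    exact hsn (Submodule.zero_mem _)
  obtain ⟨S, hS⟩ : ∃ S : Finset (Place k K), S = (F + FunFld.div k s).support := ⟨_, rfl⟩
  have hex : ∃ t' : ↥(L F), ∀ R : ↥S,
      (t' : K) ∉ L (F - Finsupp.single (R : Place k K) 1) := by
    by_contra hcon
    push Not at hcon
    have hcov : ⋃ R : ↥S, (((L (F - Finsupp.single (R : Place k K) 1)).comap (L F).subtype :
        Submodule k ↥(L F)) : Set ↥(L F)) = Set.univ := by
      rw [Set.eq_univ_iff_forall]
      intro t'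
      obtain ⟨R, hR⟩ := hcon t'
      exact Set.mem_iUnion.2 ⟨R, hR⟩
    obtain ⟨R, hR⟩ := Subspace.exists_eq_top_of_iUnion_eq_univ hcov
    obtain ⟨t, ht, hnt⟩ := hb R
    apply hnt
    have hmem : (⟨t, ht⟩ : ↥(L F)) ∈
        (L (F - Finsupp.single (R : Place k K) 1)).comap (L F).subtype := by
      rw [hR]
      trivial
    exact hmem
  obtain ⟨t', ht'⟩ := hex
  refine ⟨s, t', hs, t'.2, hs0, fun R => ?_⟩
  by_cases hR : R ∈ S
  · right
    exact val_eq_of_mem_not_mem t'.2 (ht' ⟨R, hR⟩)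
  · left
    rw [hS] at hR
    have h0 : (F + FunFld.div k s) R = 0 := Finsupp.notMem_support_iff.1 hR
    rw [Finsupp.add_apply, div_apply hK s R] at h0
    rw [val_eq_exp R hs0]
    congr 1
    omega

/-- the embedding theorem in local form, general version -/
theorem emb_gen [IsAlgClosed k] (hK : IsFunctionField k K) (E : Divisor k K) (P : Place k K)
    (hE0 : 0 ≤ E) (hEP : E P = 0) (hdeg1 : 1 ≤ E.deg)
    (hb1 : ∀ R : Place k K, ∃ t ∈ L E, t ∉ L (E - Finsupp.single R 1))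
    (hb2 : ∀ R : Place k K, ∃ t ∈ L (E - Finsupp.single P 1),
      t ∉ L (E - Finsupp.single P 1 - Finsupp.single R 1))
    (m₀ : ℕ)
    (hc1 : 2 * (genus k K : ℤ) - 1 ≤ ((m₀ : ℤ) - 1) * E.deg)
    (hc2 : 2 * (genus k K : ℤ) - 1 ≤ (m₀ : ℤ) * E.deg - (E.deg - 1))
    (A : Subalgebra k K) (hLA : ∀ y ∈ L E, y ∈ A) (hAP : ∀ a ∈ A, P.1 a ≤ 1)
    (z : K) (hz : P.1 z ≤ 1) : ∃ u ∈ A, ∃ w ∈ A, P.1 w = 1 ∧ z * w = u := by
  classical
  have hg0 : (0 : ℤ) ≤ genus k K := Nat.cast_nonneg _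
  have hP1 := deg_eq_one hK P
  have hER : ∀ R : Place k K, (0 : ℤ) ≤ E R := fun R => by
    have := hE0 R
    simpa using this
  obtain ⟨s, t, hs, ht, hs0, hst⟩ := exists_pencil_gen hK E P hb1
  have hdegEP : FunFld.Divisor.deg (E - Finsupp.single P 1) = E.deg - 1 := by
    rw [deg_sub, deg_single, hP1]
    simp
  obtain ⟨s', t', hs', ht', hs'0, hst'⟩ := exists_pencil_gen hK (E - Finsupp.single P 1) P hb2
  have h3a : ∀ m : ℕ, m₀ ≤ m → ∀ y ∈ L ((m + 1) • E),
      ∃ a ∈ L (m • E), ∃ b ∈ L (m • E), y = s * a + t * b := by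
    intro m hm y hy
    rw [succ_nsmul] at hy
    refine castelnuovo hK E (m • E) hs ht hs0 hst (by linarith) ?_ hy
    rw [Emb.deg_nsmul]
    have h2 : (m₀ : ℤ) ≤ m := by exact_mod_cast hm
    have h3 : ((m₀ : ℤ) - 1) * E.deg ≤ ((m : ℤ) - 1) * E.deg :=
      mul_le_mul_of_nonneg_right (by linarith) (by linarith)
    linarith
  have hLEP : ∀ y ∈ L (E - Finsupp.single P 1), y ∈ A ∧ P.1 y < 1 := by
    intro y hy
    refine ⟨hLA y (L_mono (sub_le_self _ (single_one_nonneg P)) hy), ?_⟩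
    have h1 := (mem_L_iff _ _).1 hy P
    rw [Finsupp.sub_apply, Finsupp.single_eq_same, hEP, zero_sub] at h1
    exact lt_of_le_of_lt h1 hexp1
  have hconst : ∀ (m : ℕ) (c : k), algebraMap k K c ∈ L (m • E) := by
    intro m c
    refine (mem_L_iff _ _).2 fun R => ?_
    refine (R.2.1 c).trans ?_
    rw [← WithZero.exp_zero, WithZero.exp_le_exp, Finsupp.smul_apply]
    exact nsmul_nonneg (hER R) m
  -- the ideal of functions in `A` vanishing at `P`
  obtain ⟨I, hI⟩ : ∃ I : Ideal ↥A, ∀ a : ↥A, a ∈ I ↔ P.1 (a : K) < 1 :=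
    ⟨{ carrier := {a | P.1 (a : K) < 1}
       add_mem' := fun {a b} ha hb => by
         show P.1 ((a + b : ↥A) : K) < 1
         rw [Subalgebra.coe_add]
         exact Valuation.map_add_lt _ ha hb
       zero_mem' := by
         show P.1 ((0 : ↥A) : K) < 1
         rw [Subalgebra.coe_zero, map_zero]
         exact zero_lt_one
       smul_mem' := fun c x hx => by
         show P.1 ((c • x : ↥A) : K) < 1
         rw [smul_eq_mul, Subalgebra.coe_mul]
         exact val_mul_lt_one_right P (hAP c c.2) hx }, fun a => Iff.rfl⟩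
  obtain ⟨A1, hA1def⟩ : ∃ A1 : Submodule ↥A K, A1 = Submodule.span ↥A {(1 : K)} := ⟨_, rfl⟩
  have hA1 : ∀ x : K, x ∈ A1 ↔ x ∈ A := by
    intro x
    rw [hA1def, Submodule.mem_span_singleton]
    constructor
    · rintro ⟨a, rfl⟩
      show (a : K) * 1 ∈ A
      rw [mul_one]
      exact a.2
    · intro hx
      exact ⟨⟨x, hx⟩, by show x * 1 = x; rw [mul_one]⟩
  obtain ⟨N', hN'def⟩ : ∃ N' : Submodule ↥A (K ⧸ A1),
      N' = (Submodule.span ↥A (L (m₀ • E) : Set K)).map A1.mkQ := ⟨_, rfl⟩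
  have hfg : N'.FG := by
    rw [hN'def]
    apply Submodule.FG.map
    haveI := L_finite hK (m₀ • E)
    obtain ⟨T, hT⟩ := (Submodule.fg_top (L (m₀ • E))).1 Module.Finite.fg_top
    refine ⟨T, ?_⟩
    rw [← hT, Submodule.span_span_of_tower]
  have hs'A : s' ∈ A := (hLEP s' hs').1
  have ht'A : t' ∈ A := (hLEP t' ht').1
  have hs'I : (⟨s', hs'A⟩ : ↥A) ∈ I := (hI _).2 (hLEP s' hs').2
  have ht'I : (⟨t', ht'A⟩ : ↥A) ∈ I := (hI _).2 (hLEP t' ht').2
  have hle : N' ≤ I • N' := by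
    rw [hN'def, Submodule.map_span, Submodule.span_le]
    rintro _ ⟨b, hb, rfl⟩
    have hbL : b ∈ L (m₀ • E) := hb
    have hbP : P.1 b ≤ 1 := by
      have := (mem_L_iff _ _).1 hbL P
      rwa [Finsupp.smul_apply, hEP, smul_zero, WithZero.exp_zero] at this
    obtain ⟨c, hc⟩ := exists_const_sub_lt P hP1 hbP
    have hbc : b - algebraMap k K c ∈ L (m₀ • E + (E - Finsupp.single P 1)) := by
      have hbc2 : b - algebraMap k K c ∈ L (m₀ • E) := Submodule.sub_mem _ hbL (hconst m₀ c)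
      refine (mem_L_iff _ _).2 fun R => ?_
      by_cases hR : R = P
      · rw [hR, Finsupp.add_apply, Finsupp.smul_apply, Finsupp.sub_apply, hEP,
          Finsupp.single_eq_same, smul_zero, zero_add, zero_sub]
        by_cases h0 : b - algebraMap k K c = 0
        · rw [h0, map_zero]; exact zero_le'
        · rw [val_le_exp_iff P h0]
          have := (ord_pos_iff P h0).2 hc
          omega
      · refine ((mem_L_iff _ _).1 hbc2 R).trans ?_
        rw [WithZero.exp_le_exp, Finsupp.add_apply, Finsupp.sub_apply, Finsupp.single_apply,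
          if_neg (Ne.symm hR), sub_zero]
        have := hER R
        linarith
    obtain ⟨a', ha', b'', hb'', hdec⟩ := castelnuovo hK (E - Finsupp.single P 1) (m₀ • E)
      hs' ht' hs'0 hst' (by rw [hdegEP]; linarith)
      (by rw [hdegEP, Emb.deg_nsmul]; linarith) hbc
    have hrepr : A1.mkQ b = (⟨s', hs'A⟩ : ↥A) • A1.mkQ a' + (⟨t', ht'A⟩ : ↥A) • A1.mkQ b'' := by
      rw [← map_smul, ← map_smul, ← map_add, ← sub_eq_zero, ← map_sub, Submodule.mkQ_apply,
        Submodule.Quotient.mk_eq_zero, hA1]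
      have h5 : b - ((⟨s', hs'A⟩ : ↥A) • a' + (⟨t', ht'A⟩ : ↥A) • b'') = algebraMap k K c := by
        show b - (s' * a' + t' * b'') = algebraMap k K c
        rw [← hdec]
        ring
      rw [h5]
      exact A.algebraMap_mem c
    have ha'N : A1.mkQ a' ∈ (Submodule.span ↥A (A1.mkQ '' (L (m₀ • E) : Set K))) :=
      Submodule.subset_span ⟨a', ha', rfl⟩
    have hb''N : A1.mkQ b'' ∈ (Submodule.span ↥A (A1.mkQ '' (L (m₀ • E) : Set K))) :=
      Submodule.subset_span ⟨b'', hb'', rfl⟩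
    rw [hrepr]
    exact Submodule.add_mem _ (Submodule.smul_mem_smul hs'I ha'N)
      (Submodule.smul_mem_smul ht'I hb''N)
  obtain ⟨r, hrI, hr⟩ :=
    Submodule.exists_sub_one_mem_and_smul_eq_zero_of_fg_of_le_smul I N' hfg hle
  have hrL2 : ∀ b ∈ L (m₀ • E), (r : K) * b ∈ A := by
    intro b hb
    have h1 : A1.mkQ b ∈ N' := by
      rw [hN'def]
      exact Submodule.mem_map_of_mem (Submodule.subset_span hb)
    have h2 := hr _ h1
    rw [← map_smul, Submodule.mkQ_apply, Submodule.Quotient.mk_eq_zero, hA1] at h2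
    exact h2
  have hrP : P.1 (r : K) = 1 := by
    have h1 : P.1 ((r : K) - algebraMap k K 1) < 1 := by
      rw [map_one]
      have := (hI _).1 hrI
      rwa [Subalgebra.coe_sub, Subalgebra.coe_one] at this
    exact val_eq_one_of_const_ne P h1 one_ne_zero
  have hrLm : ∀ m : ℕ, ∀ b ∈ L (m • E), (r : K) * b ∈ A := by
    intro m
    induction m with
    | zero =>
      intro b hb
      exact hrL2 b (L_mono (nsmul_le_nsmul_left hE0 (by omega)) hb)
    | succ m ih =>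
      intro b hb
      by_cases hm : m + 1 ≤ m₀
      · exact hrL2 b (L_mono (nsmul_le_nsmul_left hE0 hm) hb)
      · obtain ⟨a1, ha1, b1, hb1, hdec⟩ := h3a m (by omega) b hb
        have e1 : (r : K) * b = s * ((r : K) * a1) + t * ((r : K) * b1) := by
          rw [hdec]
          ring
        rw [e1]
        exact A.add_mem (A.mul_mem (hLA s hs) (ih a1 ha1)) (A.mul_mem (hLA t ht) (ih b1 hb1))
  by_cases hz0 : z = 0
  · exact ⟨0, A.zero_mem, 1, A.one_mem, map_one _, by rw [hz0, zero_mul]⟩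
  obtain ⟨c₀, hc₀⟩ : ∃ c₀ : ℤ, c₀ = FunFld.Divisor.deg (0 ⊓ FunFld.div k z) := ⟨_, rfl⟩
  obtain ⟨m, hm⟩ : ∃ m : ℕ, 2 * (genus k K : ℤ) - c₀ ≤ m := ⟨_, Int.self_le_toNat _⟩
  obtain ⟨G, hG⟩ : ∃ G : Divisor k K, G = m • E + (0 ⊓ FunFld.div k z) := ⟨_, rfl⟩
  have hGdeg : 2 * (genus k K : ℤ) ≤ G.deg := by
    rw [hG, deg_add, Emb.deg_nsmul, ← hc₀]
    have h1 : (0 : ℤ) ≤ m := Nat.cast_nonneg _
    have h2 : (m : ℤ) * 1 ≤ m * E.deg := mul_le_mul_of_nonneg_left (by linarith) h1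
    linarith
  have hordz : 0 ≤ P.ord z := by
    have := (val_le_exp_iff P hz0 0).1 (by rw [WithZero.exp_zero]; exact hz)
    simpa using this
  have hGP : G P = 0 := by
    rw [hG, Finsupp.add_apply, Finsupp.smul_apply, hEP, smul_zero, zero_add, Finsupp.inf_apply,
      Finsupp.zero_apply, div_apply hK z P]
    exact inf_eq_left.2 hordz
  obtain ⟨b₂, hb₂, hb₂n⟩ := ell_sub_single_lt hK G hGdeg P
  have hb₂P : P.1 b₂ = 1 := by
    rw [val_eq_of_mem_not_mem hb₂ hb₂n, hGP, WithZero.exp_zero]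
  have hb₂m : b₂ ∈ L (m • E) := by
    refine L_mono ?_ hb₂
    rw [hG]
    calc m • E + (0 ⊓ FunFld.div k z) ≤ m • E + 0 := add_le_add le_rfl inf_le_left
      _ = m • E := add_zero _
  have hzb₂ : z * b₂ ∈ L (m • E) := by
    rw [mul_mem_L_iff hK (m • E) hz0]
    refine L_mono ?_ hb₂
    rw [hG]
    exact add_le_add le_rfl inf_le_right
  refine ⟨(r : K) * (z * b₂), hrLm m _ hzb₂, (r : K) * b₂, hrLm m _ hb₂m, ?_, by ring⟩
  rw [map_mul, hrP, hb₂P, one_mul]

end Groth.Agent.Lib.lead.Emb2
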