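import Mathlib
import Groth.Prelude.Def_W4bk4goldsch45
import Groth.Agent.Lib.lead.Emb2

/-! Nonsingularity criteria for projective maps of a function field. -/

namespace Groth.Agent.Lib.lead.NS
open FunFld Groth.Agent.Lib.lead.FF Groth.Agent.Lib.lead.FF2 Groth.Agent.Lib.lead.FF3
  Groth.Agent.Lib.lead.FF4
  Groth.Agent.Lib.lead.FF5 Groth.Agent.Lib.lead.FF6 Groth.Agent.Lib.lead.FF7
  Groth.Agent.Lib.lead.FF8 Groth.Agent.Lib.lead.FF9 Groth.Agent.Lib.lead.FF10
  Groth.Agent.Lib.lead.FF11 Groth.Agent.Lib.lead.FF12 Groth.Agent.Lib.lead.FF13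
  Groth.Agent.Lib.lead.FF14 Groth.Agent.Lib.lead.FF15 Groth.Agent.Lib.lead.FF16
  Groth.Agent.Lib.lead.FF17 Groth.Agent.Lib.lead.Loc Groth.Agent.Lib.lead.Emb
  Groth.Agent.Lib.lead.Emb2

variable {k K : Type*} [Field k] [Field K] [Algebra k K]

/-! ### the divisor of a tuple -/

lemma mapDiv_finite (hK : IsFunctionField k K) {n : ℕ} (φ : Fin (n + 1) → K) :
    (Function.support fun P : Place k K =>
      -Finset.univ.inf' Finset.univ_nonempty (fun i => P.ord (φ i))).Finite := by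
  refine Set.Finite.subset (Set.finite_iUnion fun i => finite_support_ord hK (φ i)) ?_
  intro R hR
  rw [Function.mem_support] at hR
  by_contra hnot
  rw [Set.mem_iUnion, not_exists] at hnot
  apply hR
  have h0 : ∀ i, R.ord (φ i) = 0 := fun i => by
    have := hnot i
    rwa [Function.mem_support, not_not] at this
  simp only [h0]
  rw [Finset.inf'_const, neg_zero]

lemma mapDiv_apply (hK : IsFunctionField k K) {n : ℕ} (φ : Fin (n + 1) → K) (R : Place k K) :
    mapDiv k φ R = -Finset.univ.inf' Finset.univ_nonempty (fun i => R.ord (φ i)) := by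
  unfold mapDiv
  rw [dif_pos (mapDiv_finite hK φ)]
  rfl

lemma val_le_mapDiv (hK : IsFunctionField k K) {n : ℕ} (φ : Fin (n + 1) → K)
    (hφ0 : ∀ i, φ i ≠ 0) (R : Place k K) (i : Fin (n + 1)) :
    R.1 (φ i) ≤ WithZero.exp (mapDiv k φ R) := by
  rw [val_le_exp_iff R (hφ0 i), mapDiv_apply hK, neg_neg]
  exact Finset.inf'_le _ (Finset.mem_univ i)

lemma exists_val_eq_mapDiv (hK : IsFunctionField k K) {n : ℕ} (φ : Fin (n + 1) → K)
    (hφ0 : ∀ i, φ i ≠ 0) (R : Place k K) :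
    ∃ i, R.1 (φ i) = WithZero.exp (mapDiv k φ R) := by
  obtain ⟨i, -, hi⟩ := Finset.exists_mem_eq_inf' Finset.univ_nonempty (fun i => R.ord (φ i))
  refine ⟨i, ?_⟩
  rw [val_eq_exp R (hφ0 i), mapDiv_apply hK, hi]

lemma span_le_L_mapDiv (hK : IsFunctionField k K) {n : ℕ} (φ : Fin (n + 1) → K)
    (hφ0 : ∀ i, φ i ≠ 0) : Submodule.span k (Set.range φ) ≤ L (mapDiv k φ) := by
  rw [Submodule.span_le]
  rintro _ ⟨i, rfl⟩
  exact (mem_L_iff _ _).2 fun R => val_le_mapDiv hK φ hφ0 R i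

/-- the entry of largest valuation at `P` attains the divisor of the tuple -/
lemma val_max_eq_mapDiv (hK : IsFunctionField k K) {n : ℕ} (φ : Fin (n + 1) → K)
    (hφ0 : ∀ i, φ i ≠ 0) (P : Place k K) {j : Fin (n + 1)}
    (hjmax : ∀ i, P.1 (φ i) ≤ P.1 (φ j)) : P.1 (φ j) = WithZero.exp (mapDiv k φ P) := by
  refine le_antisymm (val_le_mapDiv hK φ hφ0 P j) ?_
  obtain ⟨i, hi⟩ := exists_val_eq_mapDiv hK φ hφ0 P
  rw [← hi]
  exact hjmax i

lemma lt_exp_iff_le (R : Place k K) (x : K) (a : ℤ) :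
    R.1 x < WithZero.exp a ↔ R.1 x ≤ WithZero.exp (a - 1) := by
  by_cases hx : x = 0
  · rw [hx, map_zero]
    exact ⟨fun _ => zero_le', fun _ => WithZero.exp_pos⟩
  · rw [val_eq_exp R hx, WithZero.exp_lt_exp, WithZero.exp_le_exp]
    constructor <;> intro h <;> omega

/-- a pencil inside a subspace -/
lemma exists_pencil_sub [IsAlgClosed k] (hK : IsFunctionField k K) (F : Divisor k K)
    (W : Submodule k K) (hWF : W ≤ L F) (R₀ : Place k K)
    (hb : ∀ R : Place k K, ∃ t ∈ W, t ∉ L (F - Finsupp.single R 1)) :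
    ∃ s t : K, s ∈ W ∧ t ∈ W ∧ s ≠ 0 ∧
      ∀ R : Place k K, R.1 s = WithZero.exp (F R) ∨ R.1 t = WithZero.exp (F R) := by
  classical
  obtain ⟨s, hs, hsn⟩ := hb R₀
  have hs0 : s ≠ 0 := by
    rintro rfl
    exact hsn (Submodule.zero_mem _)
  obtain ⟨S, hS⟩ : ∃ S : Finset (Place k K), S = (F + FunFld.div k s).support := ⟨_, rfl⟩
  have hex : ∃ t' : ↥W, ∀ R : ↥S,
      (t' : K) ∉ L (F - Finsupp.single (R : Place k K) 1) := by
    by_contra hcon
    push Not at hcon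
    have hcov : ⋃ R : ↥S, (((L (F - Finsupp.single (R : Place k K) 1)).comap W.subtype :
        Submodule k ↥W) : Set ↥W) = Set.univ := by
      rw [Set.eq_univ_iff_forall]
      intro t'
      obtain ⟨R, hR⟩ := hcon t'
      exact Set.mem_iUnion.2 ⟨R, hR⟩
    obtain ⟨R, hR⟩ := Subspace.exists_eq_top_of_iUnion_eq_univ hcov
    obtain ⟨t, ht, hnt⟩ := hb R
    apply hnt
    have hmem : (⟨t, ht⟩ : ↥W) ∈
        (L (F - Finsupp.single (R : Place k K) 1)).comap W.subtype := by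
      rw [hR]
      trivial
    exact hmem
  obtain ⟨t', ht'⟩ := hex
  refine ⟨s, t', hs, t'.2, hs0, fun R => ?_⟩
  by_cases hR : R ∈ S
  · right
    exact val_eq_of_mem_not_mem (hWF t'.2) (ht' ⟨R, hR⟩)
  · left
    rw [hS] at hR
    have h0 : (F + FunFld.div k s) R = 0 := Finsupp.notMem_support_iff.1 hR
    rw [Finsupp.add_apply, div_apply hK s R] at h0
    rw [val_eq_exp R hs0]
    congr 1
    omega

/-- the embedding theorem in local form, for a subspace `W ≤ L(E)` -/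
theorem emb_sub [IsAlgClosed k] (hK : IsFunctionField k K) (E : Divisor k K) (P : Place k K)
    (hE0 : 0 ≤ E) (hEP : E P = 0) (hdeg1 : 1 ≤ E.deg)
    (W : Submodule k K) (hWE : W ≤ L E)
    (hb1 : ∀ R : Place k K, ∃ t ∈ W, t ∉ L (E - Finsupp.single R 1))
    (hb2 : ∀ R : Place k K, ∃ t ∈ W ⊓ L (E - Finsupp.single P 1),
      t ∉ L (E - Finsupp.single P 1 - Finsupp.single R 1))
    (m₀ : ℕ)
    (hc1 : 2 * (genus k K : ℤ) - 1 ≤ ((m₀ : ℤ) - 1) * E.deg)
    (A : Subalgebra k K) (hWA : ∀ y ∈ W, y ∈ A) (hAP : ∀ a ∈ A, P.1 a ≤ 1)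
    (z : K) (hz : P.1 z ≤ 1) : ∃ u ∈ A, ∃ w ∈ A, P.1 w = 1 ∧ z * w = u := by
  classical
  have hg0 : (0 : ℤ) ≤ genus k K := Nat.cast_nonneg _
  have hP1 := deg_eq_one hK P
  have hER : ∀ R : Place k K, (0 : ℤ) ≤ E R := fun R => by
    have := hE0 R
    simpa using this
  obtain ⟨s, t, hsW, htW, hs0, hst⟩ := exists_pencil_sub hK E W hWE P hb1
  have hs : s ∈ L E := hWE hsW
  have ht : t ∈ L E := hWE htW
  have hdegEP : FunFld.Divisor.deg (E - Finsupp.single P 1) = E.deg - 1 := by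
    rw [deg_sub, deg_single, hP1]
    simp
  obtain ⟨s', t', hs'W, ht'W, hs'0, hst'⟩ := exists_pencil_sub hK (E - Finsupp.single P 1)
    (W ⊓ L (E - Finsupp.single P 1)) inf_le_right P hb2
  have hs' : s' ∈ L (E - Finsupp.single P 1) := hs'W.2
  have ht' : t' ∈ L (E - Finsupp.single P 1) := ht'W.2
  have h3a : ∀ m : ℕ, m₀ ≤ m → ∀ y ∈ L ((m + 1) • E),
      ∃ a ∈ L (m • E), ∃ b ∈ L (m • E), y = s * a + t * b := by
    intro m hm y hy
    rw [succ_nsmul] at hy
    refine castelnuovo hK E (m • E) hs ht hs0 hst (by linarith) ?_ hy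
    rw [Emb.deg_nsmul]
    have h2 : (m₀ : ℤ) ≤ m := by exact_mod_cast hm
    have h3 : ((m₀ : ℤ) - 1) * E.deg ≤ ((m : ℤ) - 1) * E.deg :=
      mul_le_mul_of_nonneg_right (by linarith) (by linarith)
    linarith
  have hLEP : ∀ y ∈ W ⊓ L (E - Finsupp.single P 1), y ∈ A ∧ P.1 y < 1 := by
    intro y hy
    refine ⟨hWA y hy.1, ?_⟩
    have h1 := (mem_L_iff _ _).1 hy.2 P
    rw [Finsupp.sub_apply, Finsupp.single_eq_same, hEP, zero_sub] at h1
    exact lt_of_le_of_lt h1 hexp1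
  have hconst : ∀ (m : ℕ) (c : k), algebraMap k K c ∈ L (m • E) := by
    intro m c
    refine (mem_L_iff _ _).2 fun R => ?_
    refine (R.2.1 c).trans ?_
    rw [← WithZero.exp_zero, WithZero.exp_le_exp, Finsupp.smul_apply]
    exact nsmul_nonneg (hER R) m
  -- the ideal of functions in `A` vanishing at `P`
  obtain ⟨I, hI⟩ : ∃ I : Ideal ↥A, ∀ a : ↥A, a ∈ I ↔ P.1 (a : K) < 1 :=
    ⟨{ carrier := {a | P.1 (a : K) < 1}
       add_mem' := fun {a b} ha hb => by
         show P.1 ((a + b : ↥A) : K) < 1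
         rw [Subalgebra.coe_add]
         exact Valuation.map_add_lt _ ha hb
       zero_mem' := by
         show P.1 ((0 : ↥A) : K) < 1
         rw [Subalgebra.coe_zero, map_zero]
         exact zero_lt_one
       smul_mem' := fun c x hx => by
         show P.1 ((c • x : ↥A) : K) < 1
         rw [smul_eq_mul, Subalgebra.coe_mul]
         exact val_mul_lt_one_right P (hAP c c.2) hx }, fun a => Iff.rfl⟩
  obtain ⟨A1, hA1def⟩ : ∃ A1 : Submodule ↥A K, A1 = Submodule.span ↥A {(1 : K)} := ⟨_, rfl⟩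
  have hA1 : ∀ x : K, x ∈ A1 ↔ x ∈ A := by
    intro x
    rw [hA1def, Submodule.mem_span_singleton]
    constructor
    · rintro ⟨a, rfl⟩
      show (a : K) * 1 ∈ A
      rw [mul_one]
      exact a.2
    · intro hx
      exact ⟨⟨x, hx⟩, by show x * 1 = x; rw [mul_one]⟩
  obtain ⟨N', hN'def⟩ : ∃ N' : Submodule ↥A (K ⧸ A1),
      N' = (Submodule.span ↥A (L (m₀ • E) : Set K)).map A1.mkQ := ⟨_, rfl⟩
  have hfg : N'.FG := by
    rw [hN'def]
    apply Submodule.FG.map
    haveI := L_finite hK (m₀ • E)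
    obtain ⟨T, hT⟩ := (Submodule.fg_top (L (m₀ • E))).1 Module.Finite.fg_top
    refine ⟨T, ?_⟩
    rw [← hT, Submodule.span_span_of_tower]
  have hs'A : s' ∈ A := (hLEP s' hs'W).1
  have ht'A : t' ∈ A := (hLEP t' ht'W).1
  have hs'I : (⟨s', hs'A⟩ : ↥A) ∈ I := (hI _).2 (hLEP s' hs'W).2
  have ht'I : (⟨t', ht'A⟩ : ↥A) ∈ I := (hI _).2 (hLEP t' ht'W).2
  have hle : N' ≤ I • N' := by
    rw [hN'def, Submodule.map_span, Submodule.span_le]
    rintro _ ⟨b, hb, rfl⟩
    have hbL : b ∈ L (m₀ • E) := hb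
    have hbP : P.1 b ≤ 1 := by
      have := (mem_L_iff _ _).1 hbL P
      rwa [Finsupp.smul_apply, hEP, smul_zero, WithZero.exp_zero] at this
    obtain ⟨c, hc⟩ := exists_const_sub_lt P hP1 hbP
    have hbc : b - algebraMap k K c ∈ L (m₀ • E + (E - Finsupp.single P 1)) := by
      have hbc2 : b - algebraMap k K c ∈ L (m₀ • E) := Submodule.sub_mem _ hbL (hconst m₀ c)
      refine (mem_L_iff _ _).2 fun R => ?_
      by_cases hR : R = P
      · rw [hR, Finsupp.add_apply, Finsupp.smul_apply, Finsupp.sub_apply, hEP,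
          Finsupp.single_eq_same, smul_zero, zero_add, zero_sub]
        by_cases h0 : b - algebraMap k K c = 0
        · rw [h0, map_zero]; exact zero_le'
        · rw [val_le_exp_iff P h0]
          have := (ord_pos_iff P h0).2 hc
          omega
      · refine ((mem_L_iff _ _).1 hbc2 R).trans ?_
        rw [WithZero.exp_le_exp, Finsupp.add_apply, Finsupp.sub_apply, Finsupp.single_apply,
          if_neg (Ne.symm hR), sub_zero]
        have := hER R
        linarith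
    obtain ⟨a', ha', b'', hb'', hdec⟩ := castelnuovo hK (E - Finsupp.single P 1) (m₀ • E)
      hs' ht' hs'0 hst' (by rw [hdegEP]; linarith)
      (by
        rw [hdegEP, Emb.deg_nsmul]
        have : ((m₀ : ℤ) - 1) * E.deg = (m₀ : ℤ) * E.deg - E.deg := by ring
        linarith) hbc
    have hrepr : A1.mkQ b = (⟨s', hs'A⟩ : ↥A) • A1.mkQ a' + (⟨t', ht'A⟩ : ↥A) • A1.mkQ b'' := by
      rw [← map_smul, ← map_smul, ← map_add, ← sub_eq_zero, ← map_sub, Submodule.mkQ_apply,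
        Submodule.Quotient.mk_eq_zero, hA1]
      have h5 : b - ((⟨s', hs'A⟩ : ↥A) • a' + (⟨t', ht'A⟩ : ↥A) • b'') = algebraMap k K c := by
        show b - (s' * a' + t' * b'') = algebraMap k K c
        rw [← hdec]
        ring
      rw [h5]
      exact A.algebraMap_mem c
    have ha'N : A1.mkQ a' ∈ (Submodule.span ↥A (A1.mkQ '' (L (m₀ • E) : Set K))) :=
      Submodule.subset_span ⟨a', ha', rfl⟩
    have hb''N : A1.mkQ b'' ∈ (Submodule.span ↥A (A1.mkQ '' (L (m₀ • E) : Set K))) :=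
      Submodule.subset_span ⟨b'', hb'', rfl⟩
    rw [hrepr]
    exact Submodule.add_mem _ (Submodule.smul_mem_smul hs'I ha'N)
      (Submodule.smul_mem_smul ht'I hb''N)
  obtain ⟨r, hrI, hr⟩ :=
    Submodule.exists_sub_one_mem_and_smul_eq_zero_of_fg_of_le_smul I N' hfg hle
  have hrL2 : ∀ b ∈ L (m₀ • E), (r : K) * b ∈ A := by
    intro b hb
    have h1 : A1.mkQ b ∈ N' := by
      rw [hN'def]
      exact Submodule.mem_map_of_mem (Submodule.subset_span hb)
    have h2 := hr _ h1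
    rw [← map_smul, Submodule.mkQ_apply, Submodule.Quotient.mk_eq_zero, hA1] at h2
    exact h2
  have hrP : P.1 (r : K) = 1 := by
    have h1 : P.1 ((r : K) - algebraMap k K 1) < 1 := by
      rw [map_one]
      have := (hI _).1 hrI
      rwa [Subalgebra.coe_sub, Subalgebra.coe_one] at this
    exact val_eq_one_of_const_ne P h1 one_ne_zero
  have hrLm : ∀ m : ℕ, ∀ b ∈ L (m • E), (r : K) * b ∈ A := by
    intro m
    induction m with
    | zero =>
      intro b hb
      exact hrL2 b (L_mono (nsmul_le_nsmul_left hE0 (by omega)) hb)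
    | succ m ih =>
      intro b hb
      by_cases hm : m + 1 ≤ m₀
      · exact hrL2 b (L_mono (nsmul_le_nsmul_left hE0 hm) hb)
      · obtain ⟨a1, ha1, b1, hb1, hdec⟩ := h3a m (by omega) b hb
        have e1 : (r : K) * b = s * ((r : K) * a1) + t * ((r : K) * b1) := by
          rw [hdec]
          ring
        rw [e1]
        exact A.add_mem (A.mul_mem (hWA s hsW) (ih a1 ha1)) (A.mul_mem (hWA t htW) (ih b1 hb1))
  by_cases hz0 : z = 0
  · exact ⟨0, A.zero_mem, 1, A.one_mem, map_one _, by rw [hz0, zero_mul]⟩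
  obtain ⟨c₀, hc₀⟩ : ∃ c₀ : ℤ, c₀ = FunFld.Divisor.deg (0 ⊓ FunFld.div k z) := ⟨_, rfl⟩
  obtain ⟨m, hm⟩ : ∃ m : ℕ, 2 * (genus k K : ℤ) - c₀ ≤ m := ⟨_, Int.self_le_toNat _⟩
  obtain ⟨G, hG⟩ : ∃ G : Divisor k K, G = m • E + (0 ⊓ FunFld.div k z) := ⟨_, rfl⟩
  have hGdeg : 2 * (genus k K : ℤ) ≤ G.deg := by
    rw [hG, deg_add, Emb.deg_nsmul, ← hc₀]
    have h1 : (0 : ℤ) ≤ m := Nat.cast_nonneg _
    have h2 : (m : ℤ) * 1 ≤ m * E.deg := mul_le_mul_of_nonneg_left (by linarith) h1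
    linarith
  have hordz : 0 ≤ P.ord z := by
    have := (val_le_exp_iff P hz0 0).1 (by rw [WithZero.exp_zero]; exact hz)
    simpa using this
  have hGP : G P = 0 := by
    rw [hG, Finsupp.add_apply, Finsupp.smul_apply, hEP, smul_zero, zero_add, Finsupp.inf_apply,
      Finsupp.zero_apply, div_apply hK z P]
    exact inf_eq_left.2 hordz
  obtain ⟨b₂, hb₂, hb₂n⟩ := ell_sub_single_lt hK G hGdeg P
  have hb₂P : P.1 b₂ = 1 := by
    rw [val_eq_of_mem_not_mem hb₂ hb₂n, hGP, WithZero.exp_zero]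
  have hb₂m : b₂ ∈ L (m • E) := by
    refine L_mono ?_ hb₂
    rw [hG]
    calc m • E + (0 ⊓ FunFld.div k z) ≤ m • E + 0 := add_le_add le_rfl inf_le_left
      _ = m • E := add_zero _
  have hzb₂ : z * b₂ ∈ L (m • E) := by
    rw [mul_mem_L_iff hK (m • E) hz0]
    refine L_mono ?_ hb₂
    rw [hG]
    exact add_le_add le_rfl inf_le_right
  refine ⟨(r : K) * (z * b₂), hrLm m _ hzb₂, (r : K) * b₂, hrLm m _ hb₂m, ?_, by ring⟩
  rw [map_mul, hrP, hb₂P, one_mul]


end Groth.Agent.Lib.lead.NS
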