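import Mathlib
import Groth.Prelude.Def_W4bk4goldsch45
import Groth.Prelude.Def_W4bk4goldsch23Ext
import Groth.Agent.Lib.lead.NS

/-! Finite extensions of function fields: restriction of places, the fundamental equality,
conorms. -/

namespace Groth.Agent.Lib.lead.Ext
open FunFld Groth.Agent.Lib.lead.FF Groth.Agent.Lib.lead.FF2 Groth.Agent.Lib.lead.FF3
  Groth.Agent.Lib.lead.FF4
  Groth.Agent.Lib.lead.FF5 Groth.Agent.Lib.lead.FF6 Groth.Agent.Lib.lead.FF7
  Groth.Agent.Lib.lead.FF8 Groth.Agent.Lib.lead.NS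

section Val
variable {K K' : Type*} [Field K] [Field K'] [Algebra K K']

lemma val_le_one_of_root {Γ : Type*} [LinearOrderedCommGroupWithZero Γ] (v : Valuation K' Γ)
    (hv : ∀ x : K, v (algebraMap K K' x) ≤ 1) {y : K'} (hy : IsIntegral K y) : v y ≤ 1 := by
  by_contra hlt
  rw [not_le] at hlt
  obtain ⟨p, hpm, hp⟩ := hy
  have hn : p.natDegree ≠ 0 := by
    intro h0
    rw [Polynomial.eq_one_of_monic_natDegree_zero hpm h0, Polynomial.eval₂_one] at hp
    exact one_ne_zero hp
  have hsum : y ^ p.natDegree =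
      - ∑ i ∈ Finset.range p.natDegree, algebraMap K K' (p.coeff i) * y ^ i := by
    rw [Polynomial.eval₂_eq_sum_range, Finset.sum_range_succ, hpm.coeff_natDegree, map_one,
      one_mul] at hp
    exact eq_neg_of_add_eq_zero_right hp
  have hy0 : v y ^ p.natDegree ≠ 0 := pow_ne_zero _ (ne_of_gt (lt_trans zero_lt_one hlt))
  have hlt2 : v (∑ i ∈ Finset.range p.natDegree, algebraMap K K' (p.coeff i) * y ^ i) <
      v y ^ p.natDegree := by
    apply Valuation.map_sum_lt v hy0
    intro i hi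
    rw [Finset.mem_range] at hi
    rw [map_mul, map_pow]
    calc v (algebraMap K K' (p.coeff i)) * v y ^ i ≤ 1 * v y ^ i := mul_le_mul' (hv _) le_rfl
      _ = v y ^ i := one_mul _
      _ < v y ^ p.natDegree := pow_lt_pow_right₀ hlt hi
  have h3 : v (y ^ p.natDegree) = v y ^ p.natDegree := map_pow _ _ _
  rw [hsum, Valuation.map_neg] at h3
  exact absurd h3 (ne_of_lt hlt2)

end Val

variable {k K K' : Type*} [Field k] [Field K] [Field K'] [Algebra k K] [Algebra K K']
  [Algebra k K'] [IsScalarTower k K K']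

lemma exists_small [Algebra.IsAlgebraic K K'] (Q : Place k K') :
    ∃ t : K, t ≠ 0 ∧ Q.1 (algebraMap K K' t) < 1 := by
  by_contra hcon
  push Not at hcon
  have hall : ∀ x : K, Q.1 (algebraMap K K' x) ≤ 1 := by
    intro x
    by_cases hx : x = 0
    · rw [hx, map_zero, map_zero]
      exact zero_le'
    · have h1 := hcon x⁻¹ (inv_ne_zero hx)
      rw [map_inv₀, map_inv₀] at h1
      have hpos : 0 < Q.1 (algebraMap K K' x) :=
        zero_lt_iff.2 ((Valuation.ne_zero_iff _).2 ((map_ne_zero _).2 hx))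
      exact (one_le_inv₀ hpos).1 h1
  obtain ⟨y, hy⟩ := Q.2.2 (WithZero.exp 1)
  have h2 := val_le_one_of_root Q.1 hall
    (Algebra.IsAlgebraic.isAlgebraic (R := K) y).isIntegral
  rw [hy, ← WithZero.exp_zero, WithZero.exp_le_exp] at h2
  omega

lemma isOverWith_pos {Q : Place k K'} {P : Place k K} {e : ℕ} (h : IsOverWith Q P e) :
    0 < e := by
  rcases Nat.eq_zero_or_pos e with he | he
  · exfalso
    have h0 := h 0
    rw [he, pow_zero, map_zero, map_zero] at h0
    exact zero_ne_one h0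
  · exact he

lemma isOverWith_unique {Q : Place k K'} {P : Place k K} {e e' : ℕ} (h : IsOverWith Q P e)
    (h' : IsOverWith Q P e') : e = e' := by
  obtain ⟨π, hπ⟩ := exists_uniformizer P
  have h1 := (h π).symm.trans (h' π)
  rw [hπ, ← WithZero.exp_nsmul, ← WithZero.exp_nsmul, WithZero.exp_inj] at h1
  simp only [smul_neg, nsmul_eq_mul, mul_one, neg_inj, Nat.cast_inj] at h1
  exact h1

lemma place_eq_of_le {P P' : Place k K} (h : ∀ y, P.1 y ≤ 1 → P'.1 y ≤ 1) : P = P' := by
  by_contra hne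
  obtain ⟨y, hy1, hy2⟩ := exists_le_one_one_lt hne
  exact not_le.2 hy2 (h y hy1)

lemma isOverWith_le_one_iff {Q : Place k K'} {P : Place k K} {e : ℕ} (h : IsOverWith Q P e)
    (x : K) : Q.1 (algebraMap K K' x) ≤ 1 ↔ P.1 x ≤ 1 := by
  rw [h x]
  exact pow_le_one_iff (isOverWith_pos h).ne'

lemma isOverWith_lt_one_iff {Q : Place k K'} {P : Place k K} {e : ℕ} (h : IsOverWith Q P e)
    (x : K) : Q.1 (algebraMap K K' x) < 1 ↔ P.1 x < 1 := by
  rw [h x]
  exact pow_lt_one_iff (isOverWith_pos h).ne'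

lemma isOver_unique {Q : Place k K'} {P P' : Place k K} (h : IsOver Q P) (h' : IsOver Q P') :
    P = P' := by
  obtain ⟨e, he⟩ := h
  obtain ⟨e', he'⟩ := h'
  apply place_eq_of_le
  intro y hy
  rw [← isOverWith_le_one_iff he']
  exact (isOverWith_le_one_iff he y).2 hy

lemma ramIdx_eq {Q : Place k K'} {P : Place k K} {e : ℕ} (h : IsOverWith Q P e) :
    ramIdx Q P = e := by
  classical
  unfold ramIdx
  have hex : IsOver Q P := ⟨e, h⟩
  rw [dif_pos hex]
  exact isOverWith_unique (Nat.find_spec hex) h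

lemma ord_algebraMap {Q : Place k K'} {P : Place k K} {e : ℕ} (h : IsOverWith Q P e) (x : K) :
    Q.ord (algebraMap K K' x) = e * P.ord x := by
  unfold Place.ord
  rw [h x, WithZero.log_pow]
  simp

theorem exists_restrict (hK : IsFunctionField k K) [Algebra.IsAlgebraic K K'] (Q : Place k K') :
    ∃ (P : Place k K) (e : ℕ), IsOverWith Q P e := by
  classical
  obtain ⟨t₀, ht₀, ht₀Q⟩ := exists_small (K := K) Q
  obtain ⟨B, hBdef⟩ : ∃ B : ValuationSubring K, B = Q.O.comap (algebraMap K K') := ⟨_, rfl⟩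
  have hB : ∀ x : K, x ∈ B ↔ Q.1 (algebraMap K K' x) ≤ 1 := fun x => by
    rw [hBdef, ValuationSubring.mem_comap]
    exact Valuation.mem_valuationSubring_iff _ _
  have hk : ∀ c : k, algebraMap k K c ∈ B := fun c => by
    rw [hB, ← IsScalarTower.algebraMap_apply]
    exact Q.2.1 c
  have hpos : ∀ x : K, x ≠ 0 → 0 < Q.1 (algebraMap K K' x) := fun x hx =>
    zero_lt_iff.2 ((Valuation.ne_zero_iff _).2 ((map_ne_zero _).2 hx))
  have hBt₀ : B.valuation t₀ < 1 := by
    refine lt_of_le_of_ne ((B.valuation_le_one_iff t₀).2 ((hB t₀).2 ht₀Q.le)) ?_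
    intro h1
    have h2 : B.valuation t₀⁻¹ ≤ 1 := by rw [map_inv₀, h1, inv_one]
    have h3 := (hB t₀⁻¹).1 ((B.valuation_le_one_iff _).1 h2)
    rw [map_inv₀, map_inv₀, inv_le_one₀ (hpos t₀ ht₀)] at h3
    exact absurd ht₀Q (not_lt.2 h3)
  obtain ⟨P, hP⟩ := exists_place hK B hk ht₀ hBt₀
  have hP1 : ∀ x : K, P.1 x ≤ 1 ↔ Q.1 (algebraMap K K' x) ≤ 1 := fun x =>
    ((hP x).1).trans (hB x)
  have hunit : ∀ x : K, P.1 x = 1 → Q.1 (algebraMap K K' x) = 1 := by
    intro x hx
    have hx0 : x ≠ 0 := by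
      rintro rfl
      rw [map_zero] at hx
      exact zero_ne_one hx
    have h1 := (hP1 x).1 hx.le
    have h2 : Q.1 (algebraMap K K' x⁻¹) ≤ 1 := (hP1 x⁻¹).1 (by rw [map_inv₀, hx, inv_one])
    rw [map_inv₀, map_inv₀, inv_le_one₀ (hpos x hx0)] at h2
    exact le_antisymm h1 h2
  obtain ⟨π, hπ⟩ := exists_uniformizer P
  have hπ0 : π ≠ 0 := unif_ne_zero P hπ
  have hπ'0 : algebraMap K K' π ≠ 0 := (map_ne_zero _).2 hπ0
  have hπQ : Q.1 (algebraMap K K' π) < 1 := by
    rw [← not_le]
    intro h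
    have h2 : Q.1 (algebraMap K K' π⁻¹) ≤ 1 := by
      rw [map_inv₀, map_inv₀, inv_le_one₀ (hpos π hπ0)]
      exact h
    have h3 := (hP1 π⁻¹).2 h2
    rw [map_inv₀, hπ, ← WithZero.exp_neg, neg_neg, ← WithZero.exp_zero, WithZero.exp_le_exp] at h3
    omega
  obtain ⟨n, hn⟩ : ∃ n : ℤ, n = Q.ord (algebraMap K K' π) := ⟨_, rfl⟩
  have hn0 : 0 < n := by
    rw [hn]
    exact (ord_pos_iff Q hπ'0).2 hπQ
  have hQπ : Q.1 (algebraMap K K' π) = WithZero.exp (-n) := by
    rw [hn]
    exact val_eq_exp Q hπ'0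
  refine ⟨P, n.toNat, ?_⟩
  intro x
  by_cases hx : x = 0
  · rw [hx, map_zero, map_zero, map_zero, zero_pow]
    omega
  · obtain ⟨m, hm⟩ : ∃ m : ℤ, m = P.ord x := ⟨_, rfl⟩
    have hPx : P.1 x = WithZero.exp (-m) := by
      rw [hm]
      exact val_eq_exp P hx
    have hu : P.1 (x * π ^ (-m)) = 1 := by
      rw [map_mul, hPx, val_zpow_uniformizer P hπ, neg_neg, ← WithZero.exp_add, neg_add_cancel,
        WithZero.exp_zero]
    have hQu := hunit _ hu
    rw [map_mul, map_zpow₀, map_mul, map_zpow₀, hQπ, ← WithZero.exp_zsmul] at hQu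
    have hQx : Q.1 (algebraMap K K' x) = WithZero.exp (-(m * n)) := by
      have h5 : WithZero.exp ((-m) • (-n)) ≠ (0 : WithZero (Multiplicative ℤ)) :=
        WithZero.exp_ne_zero
      have h6 := eq_div_of_mul_eq h5 hQu
      rw [h6, one_div, ← WithZero.exp_neg]
      congr 1
      rw [smul_eq_mul]
      ring
    rw [hQx, hPx, ← WithZero.exp_nsmul]
    congr 1
    rw [nsmul_eq_mul, Int.toNat_of_nonneg hn0.le]
    ring

lemma exists_only_zero (hK : IsFunctionField k K) (P : Place k K) :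
    ∃ x : K, Transcendental k x ∧ P.1 x < 1 ∧ ∀ P' : Place k K, P'.1 x < 1 → P' = P := by
  classical
  obtain ⟨D, hD⟩ : ∃ D : Divisor k K, D = Finsupp.single P ((genus k K : ℤ) + 1) := ⟨_, rfl⟩
  have hdeg : D.deg = ((genus k K : ℤ) + 1) * P.deg := by rw [hD, deg_single]
  have hz : ∃ z ∈ L D, z ∉ Set.range (algebraMap k K) := by
    by_contra hall
    push Not at hall
    have hle : L D ≤ L (0 : Divisor k K) := by
      intro x hx
      rw [L_zero hK, Submodule.mem_one]
      exact hall x hx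
    haveI := L_finite hK (0 : Divisor k K)
    have h1 : ell D ≤ ell (0 : Divisor k K) := Submodule.finrank_mono hle
    rw [ell_zero hK] at h1
    have h2 := (riemann hK).1 D
    rw [hdeg] at h2
    have h3 : (ell D : ℤ) ≤ 1 := by exact_mod_cast h1
    have h4 : (1 : ℤ) ≤ P.deg := by exact_mod_cast deg_pos hK P
    have h5 : 0 ≤ ((genus k K : ℤ) + 1) * ((P.deg : ℤ) - 1) :=
      mul_nonneg (by positivity) (by linarith)
    nlinarith
  obtain ⟨z, hzL, hzk⟩ := hz
  have hztr : Transcendental k z := fun halg => hzk (hK.2 z halg)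
  have hz0 : z ≠ 0 := ne_zero_of_transcendental hztr
  have hzL' := (mem_L_iff D z).1 hzL
  have honly : ∀ P' : Place k K, 1 < P'.1 z → P' = P := by
    intro P' hP'
    by_contra hne
    have h1 := hzL' P'
    rw [hD, Finsupp.single_apply, if_neg (Ne.symm hne), WithZero.exp_zero] at h1
    exact absurd hP' (not_lt.2 h1)
  obtain ⟨R, hR⟩ := (exists_zero_and_pole hK hzk).2
  have hRP := honly R hR
  refine ⟨z⁻¹, transcendental_inv hztr, ?_, ?_⟩
  · rw [map_inv₀]
    rw [hRP] at hR
    exact inv_lt_one_of_one_lt₀ hR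
  · intro P' hP'
    apply honly
    rw [map_inv₀] at hP'
    exact (inv_lt_one₀ (zero_lt_iff.2 (val_ne_zero P' hz0))).1 hP'

lemma finrank_tower (x : K) :
    Module.finrank (IntermediateField.adjoin k ({algebraMap K K' x} : Set K')) K' =
      Module.finrank (IntermediateField.adjoin k ({x} : Set K)) K * Module.finrank K K' := by
  have hmap : (IntermediateField.adjoin k ({x} : Set K)).map (IsScalarTower.toAlgHom k K K') =
      IntermediateField.adjoin k ({algebraMap K K' x} : Set K') := by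
    rw [IntermediateField.adjoin_map, Set.image_singleton]
    rfl
  haveI : IsScalarTower (IntermediateField.adjoin k ({x} : Set K)) K K' :=
    IsScalarTower.of_algebraMap_eq (fun a => rfl)
  rw [Module.finrank_mul_finrank (IntermediateField.adjoin k ({x} : Set K)) K K']
  symm
  refine Algebra.finrank_eq_of_equiv_equiv
    (((IntermediateField.adjoin k ({x} : Set K)).equivMap (IsScalarTower.toAlgHom k K K')).trans
      (IntermediateField.equivOfEq hmap)).toRingEquiv (RingEquiv.refl K') ?_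
  ext a
  rfl

lemma zero_iff_over (hK : IsFunctionField k K) [Algebra.IsAlgebraic K K'] (P : Place k K) {x : K}
    (hxP : P.1 x < 1) (honly : ∀ P' : Place k K, P'.1 x < 1 → P' = P) (Q : Place k K') :
    Q.1 (algebraMap K K' x) < 1 ↔ IsOver Q P := by
  constructor
  · intro hQ
    obtain ⟨P', e, he⟩ := exists_restrict hK Q
    rw [isOverWith_lt_one_iff he] at hQ
    rw [← honly P' hQ]
    exact ⟨e, he⟩
  · rintro ⟨e, he⟩
    rw [isOverWith_lt_one_iff he]
    exact hxP

theorem finite_over (hK : IsFunctionField k K) (hK' : IsFunctionField k K')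
    [Algebra.IsAlgebraic K K'] (P : Place k K) : {Q : Place k K' | IsOver Q P}.Finite := by
  obtain ⟨x, hxtr, hxP, honly⟩ := exists_only_zero hK P
  have hx'tr : Transcendental k (algebraMap K K' x) :=
    (transcendental_algebraMap_iff (algebraMap K K').injective).2 hxtr
  refine (finite_zeros hK' hx'tr).subset ?_
  intro Q hQ
  exact (zero_iff_over hK P hxP honly Q).2 hQ

theorem sum_ramIdx_deg (hK : IsFunctionField k K) (hK' : IsFunctionField k K')
    [Algebra.IsAlgebraic K K'] (P : Place k K) (Qs : Finset (Place k K'))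
    (hQs : ∀ Q, Q ∈ Qs ↔ IsOver Q P) :
    ∑ Q ∈ Qs, ramIdx Q P * Q.deg = Module.finrank K K' * P.deg := by
  classical
  obtain ⟨x, hxtr, hxP, honly⟩ := exists_only_zero hK P
  have hx0 : x ≠ 0 := ne_zero_of_transcendental hxtr
  have hx'tr : Transcendental k (algebraMap K K' x) :=
    (transcendental_algebraMap_iff (algebraMap K K').injective).2 hxtr
  have h1 := sum_zeros_eq hK hxtr {P} (fun P' => by
    rw [Finset.mem_singleton]
    exact ⟨fun h => h ▸ hxP, honly P'⟩)
  rw [Finset.sum_singleton] at h1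
  have h2 := sum_zeros_eq hK' hx'tr Qs (fun Q => by
    rw [hQs Q]
    exact (zero_iff_over hK P hxP honly Q).symm)
  rw [finrank_tower (k := k) x] at h2
  have hord : 0 < P.ord x := (ord_pos_iff P hx0).2 hxP
  have h3 : ∑ Q ∈ Qs, Q.ord (algebraMap K K' x) * (Q.deg : ℤ) =
      P.ord x * ∑ Q ∈ Qs, ((ramIdx Q P * Q.deg : ℕ) : ℤ) := by
    rw [Finset.mul_sum]
    apply Finset.sum_congr rfl
    intro Q hQ
    obtain ⟨e, he⟩ := (hQs Q).1 hQ
    rw [ord_algebraMap he, ramIdx_eq he]
    push_cast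
    ring
  rw [h3] at h2
  have h4 : (P.ord x) * (∑ Q ∈ Qs, ((ramIdx Q P * Q.deg : ℕ) : ℤ)) =
      P.ord x * ((Module.finrank K K' * P.deg : ℕ) : ℤ) := by
    rw [h2]
    push_cast
    rw [← h1]
    ring
  have h5 := mul_left_cancel₀ hord.ne' h4
  exact_mod_cast h5

/-! ### conorms -/

open Classical in
/-- the divisor `∑_{Q | P} e(Q|P) Q` -/
noncomputable def fib (K' : Type*) [Field K'] [Algebra K K'] [Algebra k K'] (P : Place k K) :
    Divisor k K' :=
  if h : {Q : Place k K' | IsOver Q P}.Finite then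
    h.toFinset.sum (fun Q => (ramIdx Q P : ℤ) • Finsupp.single Q 1) else 0

lemma conorm_eq (D : Divisor k K) : conorm K' D = D.sum fun P n => n • fib K' P := rfl

lemma fib_apply_of_over {P : Place k K} (hfin : {Q : Place k K' | IsOver Q P}.Finite)
    {Q₀ : Place k K'} (h : IsOver Q₀ P) : fib K' P Q₀ = ramIdx Q₀ P := by
  classical
  unfold fib
  rw [dif_pos hfin, Finsupp.finset_sum_apply, Finset.sum_eq_single Q₀]
  · rw [Finsupp.smul_apply, Finsupp.single_eq_same, smul_eq_mul, mul_one]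
  · intro Q _ hne
    rw [Finsupp.smul_apply, Finsupp.single_apply, if_neg hne, smul_zero]
  · intro hnot
    exact absurd (hfin.mem_toFinset.2 h) hnot

lemma fib_apply_of_not_over {P : Place k K} {Q₀ : Place k K'} (h : ¬ IsOver Q₀ P) :
    fib K' P Q₀ = 0 := by
  classical
  unfold fib
  split_ifs with hfin
  · rw [Finsupp.finset_sum_apply]
    apply Finset.sum_eq_zero
    intro Q hQ
    have hne : Q ≠ Q₀ := by
      rintro rfl
      exact h (hfin.mem_toFinset.1 hQ)
    rw [Finsupp.smul_apply, Finsupp.single_apply, if_neg hne, smul_zero]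
  · rfl

theorem conorm_apply (hfin : ∀ P : Place k K, {Q : Place k K' | IsOver Q P}.Finite)
    (D : Divisor k K) {Q₀ : Place k K'} {P₀ : Place k K} {e₀ : ℕ} (h₀ : IsOverWith Q₀ P₀ e₀) :
    conorm K' D Q₀ = D P₀ * e₀ := by
  classical
  rw [conorm_eq, Finsupp.sum, Finsupp.finset_sum_apply, Finset.sum_eq_single P₀]
  · rw [Finsupp.smul_apply, fib_apply_of_over (hfin P₀) ⟨e₀, h₀⟩, ramIdx_eq h₀, smul_eq_mul]
  · intro P _ hne
    rw [Finsupp.smul_apply, fib_apply_of_not_over, smul_zero]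
    intro hover
    exact hne (isOver_unique hover ⟨e₀, h₀⟩)
  · intro hnot
    rw [Finsupp.notMem_support_iff.1 hnot, zero_smul]
    rfl

lemma deg_eq_degHom (D : Divisor k K) : D.deg = degHom k K D := by
  unfold Divisor.deg degHom
  rw [Finsupp.liftAddHom_apply]
  rfl

theorem deg_fib (hK : IsFunctionField k K) (hK' : IsFunctionField k K')
    [Algebra.IsAlgebraic K K'] (P : Place k K) :
    (fib K' P).deg = Module.finrank K K' * P.deg := by
  classical
  have hfin := finite_over hK hK' P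
  have hsum := sum_ramIdx_deg hK hK' P hfin.toFinset (fun Q => hfin.mem_toFinset)
  unfold fib
  rw [dif_pos hfin, deg_eq_degHom, map_sum]
  simp only [map_zsmul, ← deg_eq_degHom, deg_single, smul_eq_mul, one_mul]
  exact_mod_cast hsum

theorem deg_conorm (hK : IsFunctionField k K) (hK' : IsFunctionField k K')
    [Algebra.IsAlgebraic K K'] (D : Divisor k K) :
    (conorm K' D).deg = Module.finrank K K' * D.deg := by
  classical
  rw [conorm_eq, Finsupp.sum, deg_eq_degHom, map_sum]
  simp only [map_zsmul, ← deg_eq_degHom, deg_fib hK hK', smul_eq_mul]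
  unfold Divisor.deg
  rw [Finsupp.sum, Finset.mul_sum]
  apply Finset.sum_congr rfl
  intro P _
  ring

theorem mapDiv_algebraMap (hK : IsFunctionField k K) (hK' : IsFunctionField k K')
    [Algebra.IsAlgebraic K K'] {n : ℕ} (φ : Fin (n + 1) → K) :
    mapDiv k (fun i => algebraMap K K' (φ i)) = conorm K' (mapDiv k φ) := by
  classical
  ext Q₀
  obtain ⟨P₀, e₀, h₀⟩ := exists_restrict hK Q₀
  rw [conorm_apply (finite_over hK hK') _ h₀, mapDiv_apply hK', mapDiv_apply hK]
  simp only [ord_algebraMap h₀]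
  obtain ⟨j, -, hj⟩ := Finset.exists_mem_eq_inf' Finset.univ_nonempty (fun i => P₀.ord (φ i))
  have hscale : Finset.univ.inf' Finset.univ_nonempty (fun i => (e₀ : ℤ) * P₀.ord (φ i)) =
      (e₀ : ℤ) * Finset.univ.inf' Finset.univ_nonempty (fun i => P₀.ord (φ i)) := by
    apply le_antisymm
    · rw [hj]
      exact Finset.inf'_le _ (Finset.mem_univ j)
    · rw [Finset.le_inf'_iff]
      intro i _
      exact mul_le_mul_of_nonneg_left (Finset.inf'_le _ (Finset.mem_univ i))
        (Int.natCast_nonneg e₀)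
  rw [hscale]
  ring

end Groth.Agent.Lib.lead.Ext
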