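import Mathlib
import Groth.Prelude.Def_W4bk4goldsch23FF
import Groth.Agent.Lib.lead.FF
import Groth.Agent.Lib.lead.FF5
import Groth.Agent.Lib.lead.FF7

/-! Ramification groups of a place in a Galois extension: elementary valuation arguments. -/

namespace Groth.Agent.Lib.lead.Ram
open FunFld Groth.Agent.Lib.lead.FF Groth.Agent.Lib.lead.FF5 Groth.Agent.Lib.lead.FF7

variable {k K K' : Type*} [Field k] [Field K] [Field K'] [Algebra k K] [Algebra K K']
  [Algebra k K'] [IsScalarTower k K K']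

/-- membership in the `m`-th ramification group (numbering where `G₁` is the inertia group) -/
def InG (Q : Place k K') (m : ℤ) (σ : K' ≃ₐ[K] K') : Prop :=
  ∀ x : K', Q.1 x ≤ 1 → Q.1 (σ x - x) ≤ WithZero.exp (-m)

lemma inG_mono {Q : Place k K'} {m m' : ℤ} (h : m ≤ m') {σ : K' ≃ₐ[K] K'} (hσ : InG Q m' σ) :
    InG Q m σ := fun x hx => (hσ x hx).trans (WithZero.exp_le_exp.2 (by omega))

lemma exp_neg_one_lt_one :
    WithZero.exp (-(1 : ℤ)) < (1 : WithZero (Multiplicative ℤ)) := by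
  rw [← WithZero.exp_zero, WithZero.exp_lt_exp]; omega

lemma sigma_le_one {Q : Place k K'} {σ : K' ≃ₐ[K] K'} (hσ : InG Q 1 σ) {x : K'}
    (hx : Q.1 x ≤ 1) : Q.1 (σ x) ≤ 1 := by
  have h1 : Q.1 (σ x - x) ≤ 1 := (hσ x hx).trans exp_neg_one_lt_one.le
  have e : σ x = (σ x - x) + x := by ring
  rw [e]
  exact Q.1.map_add_le h1 hx

lemma sigma_lt_one {Q : Place k K'} {σ : K' ≃ₐ[K] K'} (hσ : InG Q 1 σ) {x : K'}
    (hx : Q.1 x < 1) : Q.1 (σ x) < 1 := by
  have h1 : Q.1 (σ x - x) < 1 := lt_of_le_of_lt (hσ x hx.le) exp_neg_one_lt_one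
  have e : σ x = (σ x - x) + x := by ring
  rw [e]
  exact Q.1.map_add_lt h1 hx

/-- the place `Q ∘ σ` -/
def comapPlace (Q : Place k K') (σ : K' ≃ₐ[K] K') : Place k K' :=
  ⟨Q.1.comap ((σ : K' →ₐ[K] K') : K' →+* K'), by
    intro c
    show Q.1 (σ (algebraMap k K' c)) ≤ 1
    rw [IsScalarTower.algebraMap_apply k K K', σ.commutes, ← IsScalarTower.algebraMap_apply k K K']
    exact Q.2.1 c, by
    intro g
    obtain ⟨y, hy⟩ := Q.2.2 g
    refine ⟨σ.symm y, ?_⟩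
    show Q.1 (σ (σ.symm y)) = g
    rw [σ.apply_symm_apply]
    exact hy⟩

lemma comapPlace_apply (Q : Place k K') (σ : K' ≃ₐ[K] K') (y : K') :
    (comapPlace Q σ).1 y = Q.1 (σ y) := rfl

lemma val_sigma {Q : Place k K'} {σ : K' ≃ₐ[K] K'} (hσ : InG Q 1 σ) (y : K') :
    Q.1 (σ y) = Q.1 y := by
  have hQ : comapPlace Q σ = Q := by
    by_contra hne
    obtain ⟨z, hz1, hz2⟩ := exists_le_one_one_lt hne
    rw [comapPlace_apply] at hz1
    have hz0 : z ≠ 0 := by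
      rintro rfl
      rw [map_zero] at hz2
      exact not_lt.2 zero_le' hz2
    have h1 : Q.1 z⁻¹ < 1 := by
      rw [map_inv₀]
      exact (inv_lt_one₀ (zero_lt_iff.2 ((Valuation.ne_zero_iff _).2 hz0))).2 hz2
    have h2 := sigma_lt_one hσ h1
    rw [map_inv₀, map_inv₀] at h2
    have hσz0 : σ z ≠ 0 := (map_ne_zero σ).2 hz0
    have h3 : 1 < Q.1 (σ z) :=
      (inv_lt_one₀ (zero_lt_iff.2 ((Valuation.ne_zero_iff _).2 hσz0))).1 h2
    exact not_le.2 h3 hz1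
  rw [← comapPlace_apply, hQ]

lemma inG_one (Q : Place k K') (m : ℤ) : InG Q m (1 : K' ≃ₐ[K] K') := by
  intro x _
  rw [AlgEquiv.one_apply, sub_self, map_zero]
  exact zero_le'

lemma inG_mul {Q : Place k K'} {m : ℤ} (hm : 1 ≤ m) {σ τ : K' ≃ₐ[K] K'} (hσ : InG Q m σ)
    (hτ : InG Q m τ) : InG Q m (σ * τ) := by
  intro x hx
  have hσ1 : InG Q 1 σ := inG_mono hm hσ
  rw [AlgEquiv.mul_apply]
  have e : σ (τ x) - x = σ (τ x - x) + (σ x - x) := by rw [map_sub]; ring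
  rw [e]
  apply Q.1.map_add_le
  · rw [val_sigma hσ1]; exact hτ x hx
  · exact hσ x hx

lemma inG_inv {Q : Place k K'} {m : ℤ} (hm : 1 ≤ m) {σ : K' ≃ₐ[K] K'} (hσ : InG Q m σ) :
    InG Q m σ⁻¹ := by
  intro x hx
  have hσ1 : InG Q 1 σ := inG_mono hm hσ
  have e1 : σ (σ⁻¹ x) = x := by
    rw [AlgEquiv.aut_inv]; exact σ.apply_symm_apply x
  have h1 : Q.1 (σ⁻¹ x) ≤ 1 := by
    have := val_sigma hσ1 (σ⁻¹ x)
    rw [e1] at this
    rw [← this]; exact hx
  have h2 := hσ _ h1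
  rw [e1] at h2
  rwa [Valuation.map_sub_swap]

lemma inG_pow {Q : Place k K'} {m : ℤ} (hm : 1 ≤ m) {σ : K' ≃ₐ[K] K'} (hσ : InG Q m σ)
    (n : ℕ) : InG Q m (σ ^ n) := by
  induction n with
  | zero => rw [pow_zero]; exact inG_one Q m
  | succ n ih => rw [pow_succ]; exact inG_mul hm ih hσ

lemma residue_aeval (Q : Place k K') (a : Q.O) (p : Polynomial k) :
    IsLocalRing.residue Q.O (Polynomial.aeval a p) =
      Polynomial.aeval (IsLocalRing.residue Q.O a) p := by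
  rw [Polynomial.aeval_def, Polynomial.aeval_def, Polynomial.hom_eval₂]
  rfl

lemma coe_aeval (Q : Place k K') (a : Q.O) (p : Polynomial k) :
    ((Polynomial.aeval a p : Q.O) : K') = Polynomial.aeval (a : K') p := by
  have h := Polynomial.hom_eval₂ p (algebraMap k Q.O) Q.O.subtype a
  have e : Q.O.subtype.comp (algebraMap k Q.O) = algebraMap k K' := RingHom.ext fun c => rfl
  rw [e] at h
  rw [Polynomial.aeval_def, Polynomial.aeval_def]
  exact h

lemma val_coe_le_one (Q : Place k K') (c : Q.O) : Q.1 (c : K') ≤ 1 :=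
  (Valuation.mem_valuationSubring_iff _ _).1 c.2

lemma val_unit (Q : Place k K') {D : Q.O} (hD : IsUnit D) : Q.1 (D : K') = 1 := by
  have h1 : D ∉ IsLocalRing.maximalIdeal Q.O := IsLocalRing.notMem_maximalIdeal.2 hD
  rw [mem_max_iff] at h1
  exact le_antisymm (val_coe_le_one Q D) (not_lt.1 h1)

lemma newton {Q : Place k K'} (g : Polynomial k) (ξ : IsLocalRing.ResidueField Q.O)
    (hg : Polynomial.aeval ξ g = 0) (hg' : Polynomial.aeval ξ (Polynomial.derivative g) ≠ 0)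
    (x : Q.O) (hx : IsLocalRing.residue Q.O x = ξ) (n : ℕ) :
    ∃ a : Q.O, IsLocalRing.residue Q.O a = ξ ∧
      Q.1 ((Polynomial.aeval a g : Q.O) : K') ≤ WithZero.exp (-((n + 1 : ℕ) : ℤ)) := by
  induction n with
  | zero =>
    refine ⟨x, hx, ?_⟩
    have h1 : (Polynomial.aeval x g : Q.O) ∈ IsLocalRing.maximalIdeal Q.O := by
      rw [← IsLocalRing.residue_eq_zero_iff, residue_aeval, hx, hg]
    have h2 := (mem_max_iff Q _).1 h1
    have h3 := (Groth.Agent.Lib.lead.FF7.lt_one_iff _).1 h2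
    have e0 : (-((0 + 1 : ℕ) : ℤ)) = -1 := by norm_num
    rw [e0]; exact h3
  | succ n ih =>
    obtain ⟨a, ha, hv⟩ := ih
    obtain ⟨E, hE⟩ : ∃ E : Q.O, E = Polynomial.aeval a g := ⟨_, rfl⟩
    obtain ⟨D, hD⟩ : ∃ D : Q.O, D = Polynomial.aeval a (Polynomial.derivative g) := ⟨_, rfl⟩
    rw [← hE] at hv
    have hE0 : IsLocalRing.residue Q.O E = 0 := by rw [hE, residue_aeval, ha, hg]
    have hDu : IsUnit D := by
      rw [← IsLocalRing.notMem_maximalIdeal, ← IsLocalRing.residue_eq_zero_iff, hD,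
        residue_aeval, ha]
      exact hg'
    obtain ⟨u, hu⟩ := hDu
    obtain ⟨h, hh⟩ : ∃ h : Q.O, h = -E * ((u⁻¹ : (Q.O)ˣ) : Q.O) := ⟨_, rfl⟩
    have hDh : D * h = -E := by
      rw [← hu, hh, mul_comm (-E), ← mul_assoc, Units.mul_inv, one_mul]
    obtain ⟨G, hG⟩ : ∃ G : Polynomial Q.O, G = g.map (algebraMap k Q.O) := ⟨_, rfl⟩
    obtain ⟨c, hc⟩ := Polynomial.binomExpansion G a h
    have hGa : G.eval a = E := by rw [hG, hE]; exact Polynomial.eval_map_algebraMap g a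
    have hGb : G.eval (a + h) = Polynomial.aeval (a + h) g := by
      rw [hG]; exact Polynomial.eval_map_algebraMap g (a + h)
    have hGd : G.derivative.eval a = D := by
      rw [hG, hD, Polynomial.derivative_map]; exact Polynomial.eval_map_algebraMap _ a
    rw [hGa, hGb, hGd, hDh] at hc
    have hc' : (Polynomial.aeval (a + h) g : Q.O) = c * (h * h) := by rw [hc]; ring
    refine ⟨a + h, ?_, ?_⟩
    · rw [map_add, ha, hh, map_mul, map_neg, hE0, neg_zero, zero_mul, add_zero]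
    · rw [hc']
      have hvh : Q.1 (h : K') ≤ WithZero.exp (-((n + 1 : ℕ) : ℤ)) := by
        have e : (h : K') = -(E : K') * (((u⁻¹ : (Q.O)ˣ) : Q.O) : K') := by rw [hh]; rfl
        rw [e, map_mul, Valuation.map_neg]
        calc Q.1 (E : K') * Q.1 (((u⁻¹ : (Q.O)ˣ) : Q.O) : K')
            ≤ WithZero.exp (-((n + 1 : ℕ) : ℤ)) * 1 :=
              mul_le_mul' hv (val_coe_le_one Q _)
          _ = _ := mul_one _
      have h2 : Q.1 (h : K') * Q.1 (h : K') ≤ WithZero.exp (-((n + 1 + 1 : ℕ) : ℤ)) := by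
        refine (mul_le_exp hvh hvh rfl).trans ?_
        rw [WithZero.exp_le_exp]
        omega
      have e3 : ((c * (h * h) : Q.O) : K') = (c : K') * ((h : K') * (h : K')) := rfl
      rw [e3, map_mul, map_mul]
      calc Q.1 (c : K') * (Q.1 (h : K') * Q.1 (h : K'))
          ≤ 1 * WithZero.exp (-((n + 1 + 1 : ℕ) : ℤ)) :=
            mul_le_mul' (val_coe_le_one Q c) h2
        _ = _ := one_mul _

lemma exists_repr {Q : Place k K'} [Algebra.IsSeparable k (IsLocalRing.ResidueField Q.O)]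
    {σ : K' ≃ₐ[K] K'} (hσ : InG Q 1 σ) {x : K'} (hx : Q.1 x ≤ 1) (N : ℕ) :
    ∃ a : K', Q.1 a ≤ 1 ∧ Q.1 (x - a) < 1 ∧
      Q.1 (σ a - a) ≤ WithZero.exp (-((N + 1 : ℕ) : ℤ)) := by
  obtain ⟨xR, hxR⟩ : ∃ xR : Q.O, (xR : K') = x :=
    ⟨⟨x, (Valuation.mem_valuationSubring_iff _ _).2 hx⟩, rfl⟩
  obtain ⟨ξ, hξ⟩ : ∃ ξ, ξ = IsLocalRing.residue Q.O xR := ⟨_, rfl⟩
  have hsep := Algebra.IsSeparable.isSeparable k ξ
  have hg0 : Polynomial.aeval ξ (minpoly k ξ) = 0 := minpoly.aeval k ξ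
  have hg0' : Polynomial.aeval ξ (Polynomial.derivative (minpoly k ξ)) ≠ 0 :=
    Polynomial.Separable.aeval_derivative_ne_zero hsep hg0
  obtain ⟨g, hgdef⟩ : ∃ g, g = minpoly k ξ := ⟨_, rfl⟩
  rw [← hgdef] at hg0 hg0'
  obtain ⟨a, ha, hv⟩ := newton g ξ hg0 hg0' xR hξ.symm N
  have ha1 : Q.1 (a : K') ≤ 1 := val_coe_le_one Q a
  refine ⟨(a : K'), ha1, ?_, ?_⟩
  · have h1 : xR - a ∈ IsLocalRing.maximalIdeal Q.O := by
      rw [← IsLocalRing.residue_eq_zero_iff, map_sub, ← hξ, ha, sub_self]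
    have h2 := (mem_max_iff Q _).1 h1
    rw [← hxR]
    exact h2
  · obtain ⟨b, hb⟩ : ∃ b : Q.O, (b : K') = σ (a : K') :=
      ⟨⟨σ (a : K'), (Valuation.mem_valuationSubring_iff _ _).2 (sigma_le_one hσ ha1)⟩, rfl⟩
    obtain ⟨h, hh⟩ : ∃ h : Q.O, h = b - a := ⟨_, rfl⟩
    have hba : b = a + h := by rw [hh]; ring
    obtain ⟨G, hG⟩ : ∃ G : Polynomial Q.O, G = g.map (algebraMap k Q.O) := ⟨_, rfl⟩
    obtain ⟨c, hc⟩ := Polynomial.binomExpansion G a h
    have hGa : G.eval a = Polynomial.aeval a g := by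
      rw [hG]; exact Polynomial.eval_map_algebraMap g a
    have hGb : G.eval (a + h) = Polynomial.aeval b g := by
      rw [hG, ← hba]; exact Polynomial.eval_map_algebraMap g b
    obtain ⟨D, hD⟩ : ∃ D : Q.O, D = Polynomial.aeval a (Polynomial.derivative g) := ⟨_, rfl⟩
    have hGd : G.derivative.eval a = D := by
      rw [hG, hD, Polynomial.derivative_map]; exact Polynomial.eval_map_algebraMap _ a
    rw [hGa, hGb, hGd] at hc
    have hDu : IsUnit D := by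
      rw [← IsLocalRing.notMem_maximalIdeal, ← IsLocalRing.residue_eq_zero_iff, hD,
        residue_aeval, ha]
      exact hg0'
    have hDv : Q.1 (D : K') = 1 := val_unit Q hDu
    have hvb : Q.1 ((Polynomial.aeval b g : Q.O) : K') ≤
        WithZero.exp (-((N + 1 : ℕ) : ℤ)) := by
      rw [coe_aeval, hb]
      have e1 : Polynomial.aeval (σ (a : K')) g = σ (Polynomial.aeval (a : K') g) :=
        Polynomial.aeval_algHom_apply (σ.restrictScalars k) (a : K') g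
      rw [e1, val_sigma hσ, ← coe_aeval]
      exact hv
    have hhK : (h : K') = σ (a : K') - (a : K') := by
      rw [hh, ← hb]; rfl
    have hh1 : Q.1 (h : K') ≤ WithZero.exp (-(1 : ℤ)) := by rw [hhK]; exact hσ _ ha1
    rw [← hhK]
    by_contra hcon
    push Not at hcon
    have hh0 : 0 < Q.1 (h : K') := lt_of_le_of_lt zero_le' hcon
    have hDh : (D : K') * (h : K') = ((Polynomial.aeval b g : Q.O) : K') -
        ((Polynomial.aeval a g : Q.O) : K') - (c : K') * (h : K') * (h : K') := by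
      have h5 : ((Polynomial.aeval b g : Q.O) : K') =
          ((Polynomial.aeval a g : Q.O) : K') + (D : K') * (h : K') + (c : K') * (h : K') ^ 2 :=
        congrArg (fun z : Q.O => (z : K')) hc
      rw [h5]; ring
    have h3 : Q.1 ((c : K') * (h : K') * (h : K')) < Q.1 (h : K') := by
      rw [map_mul, map_mul]
      calc Q.1 (c : K') * Q.1 (h : K') * Q.1 (h : K')
          ≤ 1 * Q.1 (h : K') * Q.1 (h : K') :=
            mul_le_mul' (mul_le_mul' (val_coe_le_one Q c) le_rfl) le_rfl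
        _ = Q.1 (h : K') * Q.1 (h : K') := by rw [one_mul]
        _ < Q.1 (h : K') := mul_lt_of_lt_one_left hh0 (lt_of_le_of_lt hh1 exp_neg_one_lt_one)
    have h4 : Q.1 ((D : K') * (h : K')) < Q.1 (h : K') := by
      rw [hDh]
      exact Q.1.map_sub_lt (Q.1.map_sub_lt (lt_of_le_of_lt hvb hcon) (lt_of_le_of_lt hv hcon)) h3
    rw [map_mul, hDv, one_mul] at h4
    exact lt_irrefl _ h4

/-- `σ ∈ G_j` iff `σ t ≡ t mod Q^j` for a local parameter `t`. -/
theorem crit {Q : Place k K'} [Algebra.IsSeparable k (IsLocalRing.ResidueField Q.O)]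
    {σ : K' ≃ₐ[K] K'} (hσ : InG Q 1 σ) {t : K'} (ht : Q.1 t = WithZero.exp (-1))
    (j : ℕ) (hj : 1 ≤ j) :
    InG Q (j : ℤ) σ ↔ Q.1 (σ t - t) ≤ WithZero.exp (-(j : ℤ)) := by
  have ht1 : Q.1 t ≤ 1 := by rw [ht]; exact exp_neg_one_lt_one.le
  have ht0 : t ≠ 0 := unif_ne_zero Q ht
  constructor
  · intro h
    exact h t ht1
  · intro H
    have key : ∀ m : ℕ, 1 ≤ m → m ≤ j → InG Q (m : ℤ) σ := by
      intro m
      induction m with
      | zero => intro h; omega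
      | succ m ih =>
        intro _ hmj
        rcases Nat.eq_zero_or_pos m with hm0 | hm
        · subst hm0
          have e0 : ((0 + 1 : ℕ) : ℤ) = 1 := by norm_num
          rw [e0]; exact hσ
        · have ihm : InG Q (m : ℤ) σ := ih hm (by omega)
          intro x hx
          obtain ⟨a, ha1, hxa, hσa⟩ := exists_repr hσ hx j
          obtain ⟨x₁, hx₁⟩ : ∃ x₁, x₁ = (x - a) * t⁻¹ := ⟨_, rfl⟩
          have hx₁v : Q.1 x₁ ≤ 1 := by
            rw [hx₁, map_mul, map_inv₀, ht, ← WithZero.exp_neg, neg_neg]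
            have h1 := (Groth.Agent.Lib.lead.FF7.lt_one_iff _).1 hxa
            have h2 := mul_le_exp h1 (le_refl (WithZero.exp (1 : ℤ)))
              (by norm_num : (-1 : ℤ) + 1 = 0)
            rwa [WithZero.exp_zero] at h2
          have hxe : x = a + t * x₁ := by
            rw [hx₁, mul_comm (x - a), ← mul_assoc, mul_inv_cancel₀ ht0, one_mul]; ring
          have hσx : σ x = σ a + σ t * σ x₁ := by
            have := congrArg σ hxe
            rwa [map_add, map_mul] at this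
          have e : σ x - x = (σ a - a) + (σ t - t) * σ x₁ + t * (σ x₁ - x₁) := by
            linear_combination hσx - hxe
          rw [e]
          have hcast : -((j + 1 : ℕ) : ℤ) ≤ -((m + 1 : ℕ) : ℤ) := by omega
          have hcast2 : -(j : ℤ) ≤ -((m + 1 : ℕ) : ℤ) := by omega
          apply Q.1.map_add_le
          · apply Q.1.map_add_le
            · exact hσa.trans (WithZero.exp_le_exp.2 hcast)
            · rw [map_mul]
              calc Q.1 (σ t - t) * Q.1 (σ x₁) ≤ WithZero.exp (-(j : ℤ)) * 1 :=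
                    mul_le_mul' H (sigma_le_one hσ hx₁v)
                _ = WithZero.exp (-(j : ℤ)) := mul_one _
                _ ≤ _ := WithZero.exp_le_exp.2 hcast2
          · rw [map_mul, ht]
            exact mul_le_exp le_rfl (ihm x₁ hx₁v) (by push_cast; ring)
    exact key j hj le_rfl

lemma act_small {Q : Place k K'} {σ : K' ≃ₐ[K] K'} {i : ℕ} (hi : 2 ≤ i)
    (hσ : InG Q (i : ℤ) σ) {t : K'} (ht : Q.1 t = WithZero.exp (-1)) {d : K'}
    (hd : Q.1 d ≤ WithZero.exp (-(i : ℤ))) :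
    Q.1 (σ d - d) ≤ WithZero.exp (-((i : ℤ) + 1)) := by
  have hσ1 : InG Q 1 σ := inG_mono (by omega) hσ
  have ht0 : t ≠ 0 := unif_ne_zero Q ht
  obtain ⟨d', hd'⟩ : ∃ d', d' = d * t⁻¹ := ⟨_, rfl⟩
  have hdd : d = t * d' := by
    rw [hd', mul_comm d, ← mul_assoc, mul_inv_cancel₀ ht0, one_mul]
  have hd'v : Q.1 d' ≤ WithZero.exp (-(i : ℤ) + 1) := by
    rw [hd', map_mul, map_inv₀, ht, ← WithZero.exp_neg, neg_neg]
    exact mul_le_exp hd le_rfl rfl
  have hd'1 : Q.1 d' ≤ 1 := by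
    refine hd'v.trans ?_
    rw [← WithZero.exp_zero, WithZero.exp_le_exp]
    omega
  have e : σ d - d = (σ t - t) * σ d' + t * (σ d' - d') := by
    have h1 : σ d = σ t * σ d' := by
      have := congrArg σ hdd
      rwa [map_mul] at this
    linear_combination h1 - hdd
  rw [e]
  apply Q.1.map_add_le
  · rw [map_mul, val_sigma hσ1]
    have ht1 : Q.1 t ≤ 1 := by rw [ht]; exact exp_neg_one_lt_one.le
    refine (mul_le_exp (hσ t ht1) hd'v rfl).trans ?_
    rw [WithZero.exp_le_exp]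
    omega
  · rw [map_mul, ht]
    exact mul_le_exp le_rfl (hσ d' hd'1) (by ring)

lemma d_mul {Q : Place k K'} {σ τ : K' ≃ₐ[K] K'} {i : ℕ} (hi : 2 ≤ i) (hσ : InG Q (i : ℤ) σ)
    (hτ : InG Q (i : ℤ) τ) {t : K'} (ht : Q.1 t = WithZero.exp (-1)) :
    Q.1 (((σ * τ) t - t) - ((σ t - t) + (τ t - t))) ≤ WithZero.exp (-((i : ℤ) + 1)) := by
  have ht1 : Q.1 t ≤ 1 := by rw [ht]; exact exp_neg_one_lt_one.le
  have e : ((σ * τ) t - t) - ((σ t - t) + (τ t - t)) = σ (τ t - t) - (τ t - t) := by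
    rw [AlgEquiv.mul_apply, map_sub]; ring
  rw [e]
  exact act_small hi hσ ht (hτ t ht1)

theorem s11025 [FiniteDimensional K K'] {Q : Place k K'}
    [Algebra.IsSeparable k (IsLocalRing.ResidueField Q.O)]
    (i : ℕ) (hi : 2 ≤ i) (σ τ : K' ≃ₐ[K] K') (hσ : InG Q (i : ℤ) σ) (hτ : InG Q (i : ℤ) τ) :
    InG Q ((i : ℤ) + 1) (σ * τ * σ⁻¹ * τ⁻¹) ∧
    (ringChar K = 0 → InG Q ((i : ℤ) + 1) σ) ∧
    ∀ p : ℕ, p.Prime → ringChar K = p → InG Q ((i : ℤ) + 1) (σ ^ p) := by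
  obtain ⟨t, ht⟩ := Q.2.2 (WithZero.exp (-1))
  have hi1 : (1 : ℤ) ≤ (i : ℤ) := by omega
  have ht1 : Q.1 t ≤ 1 := by rw [ht]; exact exp_neg_one_lt_one.le
  have crit' : ∀ ρ : K' ≃ₐ[K] K', InG Q (i : ℤ) ρ →
      Q.1 (ρ t - t) ≤ WithZero.exp (-((i : ℤ) + 1)) → InG Q ((i : ℤ) + 1) ρ := by
    intro ρ hρ h
    have h1 := crit (inG_mono hi1 hρ) ht (i + 1) (by omega)
    push_cast at h1
    exact h1.2 h
  have hone : ∀ ρ : K' ≃ₐ[K] K', ρ = 1 → ρ t - t = 0 := by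
    intro ρ h; rw [h, AlgEquiv.one_apply, sub_self]
  have hσi := inG_inv hi1 hσ
  have hτi := inG_inv hi1 hτ
  have pair : ∀ ρ : K' ≃ₐ[K] K', InG Q (i : ℤ) ρ →
      Q.1 ((ρ t - t) + (ρ⁻¹ t - t)) ≤ WithZero.exp (-((i : ℤ) + 1)) := by
    intro ρ hρ
    have h := d_mul hi hρ (inG_inv hi1 hρ) ht
    rw [hone (ρ * ρ⁻¹) (mul_inv_cancel ρ), zero_sub, Valuation.map_neg] at h
    exact h
  have pow_claim : ∀ n : ℕ, Q.1 (((σ ^ n) t - t) - (n : K') * (σ t - t)) ≤
      WithZero.exp (-((i : ℤ) + 1)) := by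
    intro n
    induction n with
    | zero =>
      rw [pow_zero, AlgEquiv.one_apply, sub_self, Nat.cast_zero, zero_mul, sub_zero, map_zero]
      exact zero_le'
    | succ n ih =>
      have A := d_mul hi (inG_pow hi1 hσ n) hσ ht
      have e : ((σ ^ (n + 1)) t - t) - ((n + 1 : ℕ) : K') * (σ t - t) =
          (((σ ^ n * σ) t - t) - (((σ ^ n) t - t) + (σ t - t))) +
          (((σ ^ n) t - t) - (n : K') * (σ t - t)) := by
        rw [pow_succ]; push_cast; ring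
      rw [e]
      exact Q.1.map_add_le A ih
  refine ⟨?_, ?_, ?_⟩
  · have hστ := inG_mul hi1 hσ hτ
    have hστσ := inG_mul hi1 hστ hσi
    have hc := inG_mul hi1 hστσ hτi
    apply crit' _ hc
    have A1 := d_mul hi hσ hτ ht
    have A2 := d_mul hi hστ hσi ht
    have A3 := d_mul hi hστσ hτi ht
    have B1 := pair σ hσ
    have B2 := pair τ hτ
    have e : (σ * τ * σ⁻¹ * τ⁻¹) t - t =
        (((σ * τ * σ⁻¹ * τ⁻¹) t - t) - (((σ * τ * σ⁻¹) t - t) + (τ⁻¹ t - t))) +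
        ((((σ * τ * σ⁻¹) t - t) - (((σ * τ) t - t) + (σ⁻¹ t - t))) +
        ((((σ * τ) t - t) - ((σ t - t) + (τ t - t))) +
        (((σ t - t) + (σ⁻¹ t - t)) + ((τ t - t) + (τ⁻¹ t - t))))) := by ring
    rw [e]
    exact Q.1.map_add_le A3 (Q.1.map_add_le A2 (Q.1.map_add_le A1 (Q.1.map_add_le B1 B2)))
  · intro h0
    apply crit' σ hσ
    haveI : CharP K 0 := (ringChar.eq_iff).1 h0
    haveI : CharZero K := CharP.charP_to_charZero K
    have hN : 0 < orderOf σ := orderOf_pos σ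
    have hNK : ((orderOf σ : ℕ) : K) ≠ 0 := Nat.cast_ne_zero.2 hN.ne'
    have hNk : ((orderOf σ : ℕ) : k) ≠ 0 := by
      intro h
      apply hNK
      rw [← map_natCast (algebraMap k K), h, map_zero]
    have hv : Q.1 ((orderOf σ : ℕ) : K') = 1 := by
      rw [← map_natCast (algebraMap k K')]
      exact val_algebraMap Q hNk
    have h1 := pow_claim (orderOf σ)
    rw [pow_orderOf_eq_one, AlgEquiv.one_apply, sub_self, zero_sub, Valuation.map_neg, map_mul,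
      hv, one_mul] at h1
    exact h1
  · intro p _ hpK
    apply crit' _ (inG_pow hi1 hσ p)
    haveI : CharP K p := (ringChar.eq_iff).1 hpK
    have hpK' : ((p : ℕ) : K') = 0 := by
      rw [← map_natCast (algebraMap K K'), CharP.cast_eq_zero K p, map_zero]
    have h1 := pow_claim p
    rw [hpK', zero_mul, sub_zero] at h1
    exact h1

open Classical in
/-- total residue map (zero outside the valuation ring) -/
noncomputable def res (Q : Place k K') (x : K') : IsLocalRing.ResidueField Q.O :=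
  if h : Q.1 x ≤ 1 then
    IsLocalRing.residue Q.O ⟨x, (Valuation.mem_valuationSubring_iff _ _).2 h⟩
  else 0

lemma res_of_le (Q : Place k K') {x : K'} (h : Q.1 x ≤ 1) :
    res Q x = IsLocalRing.residue Q.O ⟨x, (Valuation.mem_valuationSubring_iff _ _).2 h⟩ := by
  unfold res; rw [dif_pos h]

lemma res_one (Q : Place k K') : res Q 1 = 1 := by
  rw [res_of_le Q (by rw [map_one])]
  exact map_one _

lemma res_mul (Q : Place k K') {x y : K'} (hx : Q.1 x ≤ 1) (hy : Q.1 y ≤ 1) :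
    res Q (x * y) = res Q x * res Q y := by
  have hxy : Q.1 (x * y) ≤ 1 := by rw [map_mul]; exact mul_le_one' hx hy
  rw [res_of_le Q hx, res_of_le Q hy, res_of_le Q hxy, ← map_mul]
  rfl

lemma res_eq_iff (Q : Place k K') {x y : K'} (hx : Q.1 x ≤ 1) (hy : Q.1 y ≤ 1) :
    res Q x = res Q y ↔ Q.1 (x - y) < 1 := by
  rw [res_of_le Q hx, res_of_le Q hy, ← sub_eq_zero, ← map_sub,
    IsLocalRing.residue_eq_zero_iff, mem_max_iff]
  rfl

lemma unit_val {Q : Place k K'} {σ : K' ≃ₐ[K] K'} (hσ : InG Q 1 σ) {t : K'} (ht0 : t ≠ 0) :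
    Q.1 (σ t / t) = 1 := by
  rw [map_div₀, val_sigma hσ, div_self ((Valuation.ne_zero_iff _).2 ht0)]

lemma theta_mul {Q : Place k K'} {σ τ : K' ≃ₐ[K] K'} (hσ : InG Q 1 σ) (hτ : InG Q 1 τ)
    {t : K'} (ht0 : t ≠ 0) :
    res Q ((σ * τ) t / t) = res Q (σ t / t) * res Q (τ t / t) := by
  have hu : Q.1 (τ t / t) ≤ 1 := (unit_val hτ ht0).le
  have hσu : Q.1 (σ (τ t / t)) ≤ 1 := sigma_le_one hσ hu
  have hσt0 : σ t ≠ 0 := (map_ne_zero σ).2 ht0
  have e : (σ * τ) t / t = σ (τ t / t) * (σ t / t) := by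
    rw [AlgEquiv.mul_apply, map_div₀, div_mul_div_comm, mul_comm (σ t) t,
      mul_div_mul_right _ _ hσt0]
  rw [e, res_mul Q hσu (unit_val hσ ht0).le, mul_comm]
  congr 1
  rw [res_eq_iff Q hσu hu]
  exact lt_of_le_of_lt (hσ _ hu) exp_neg_one_lt_one

lemma theta_inv {Q : Place k K'} {σ : K' ≃ₐ[K] K'} (hσ : InG Q 1 σ) {t : K'} (ht0 : t ≠ 0) :
    res Q (σ⁻¹ t / t) = (res Q (σ t / t))⁻¹ := by
  have h := theta_mul hσ (inG_inv le_rfl hσ) ht0
  rw [mul_inv_cancel, AlgEquiv.one_apply, div_self ht0, res_one] at h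
  exact eq_inv_of_mul_eq_one_right h.symm

lemma theta_ne_zero {Q : Place k K'} {σ : K' ≃ₐ[K] K'} (hσ : InG Q 1 σ) {t : K'}
    (ht0 : t ≠ 0) : res Q (σ t / t) ≠ 0 := by
  intro h0
  have h := theta_mul hσ (inG_inv le_rfl hσ) ht0
  rw [mul_inv_cancel, AlgEquiv.one_apply, div_self ht0, res_one, h0, zero_mul] at h
  exact one_ne_zero h

lemma theta_pow {Q : Place k K'} {σ : K' ≃ₐ[K] K'} (hσ : InG Q 1 σ) {t : K'} (ht0 : t ≠ 0)
    (n : ℕ) : res Q ((σ ^ n) t / t) = (res Q (σ t / t)) ^ n := by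
  induction n with
  | zero => rw [pow_zero, pow_zero, AlgEquiv.one_apply, div_self ht0, res_one]
  | succ n ih => rw [pow_succ, pow_succ, theta_mul (inG_pow le_rfl hσ n) hσ ht0, ih]

lemma theta_eq_one_iff {Q : Place k K'} [Algebra.IsSeparable k (IsLocalRing.ResidueField Q.O)]
    {σ : K' ≃ₐ[K] K'} (hσ : InG Q 1 σ) {t : K'} (ht : Q.1 t = WithZero.exp (-1)) :
    res Q (σ t / t) = 1 ↔ InG Q 2 σ := by
  have ht0 : t ≠ 0 := unif_ne_zero Q ht
  have hc := crit hσ ht 2 (by norm_num)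
  have e2 : ((2 : ℕ) : ℤ) = 2 := by norm_num
  rw [e2] at hc
  rw [hc, ← res_one Q, res_eq_iff Q (unit_val hσ ht0).le (by rw [map_one])]
  have e : σ t - t = (σ t / t - 1) * t := by
    rw [sub_mul, div_mul_cancel₀ _ ht0, one_mul]
  constructor
  · intro h
    rw [e, map_mul, ht]
    exact mul_le_exp ((Groth.Agent.Lib.lead.FF7.lt_one_iff _).1 h) le_rfl (by norm_num)
  · intro h
    have e' : σ t / t - 1 = (σ t - t) * t⁻¹ := by
      rw [sub_mul, mul_inv_cancel₀ ht0, div_eq_mul_inv]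
    rw [e', map_mul, map_inv₀, ht, ← WithZero.exp_neg, neg_neg]
    have h5 := mul_le_exp h (le_refl (WithZero.exp (1 : ℤ))) (by norm_num : (-2 : ℤ) + 1 = -1)
    exact lt_of_le_of_lt h5 exp_neg_one_lt_one

variable (K) in
/-- the image of `G₁` in the units of the residue field under `σ ↦ σ t / t` -/
def thetaSubgroup (Q : Place k K') {t : K'} (ht0 : t ≠ 0) :
    Subgroup (IsLocalRing.ResidueField Q.O)ˣ where
  carrier := {u | ∃ σ : K' ≃ₐ[K] K', InG Q 1 σ ∧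
    res Q (σ t / t) = (u : IsLocalRing.ResidueField Q.O)}
  one_mem' := ⟨1, inG_one Q 1, by rw [AlgEquiv.one_apply, div_self ht0, res_one]; rfl⟩
  mul_mem' := by
    rintro a b ⟨σ, hσ, ha⟩ ⟨τ, hτ, hb⟩
    exact ⟨σ * τ, inG_mul le_rfl hσ hτ, by rw [theta_mul hσ hτ ht0, ha, hb, Units.val_mul]⟩
  inv_mem' := by
    rintro a ⟨σ, hσ, ha⟩
    exact ⟨σ⁻¹, inG_inv le_rfl hσ, by rw [theta_inv hσ ht0, ha, Units.val_inv_eq_inv_val]⟩

lemma mem_thetaSubgroup (Q : Place k K') {t : K'} (ht0 : t ≠ 0)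
    (u : (IsLocalRing.ResidueField Q.O)ˣ) :
    u ∈ thetaSubgroup K Q ht0 ↔ ∃ σ : K' ≃ₐ[K] K', InG Q 1 σ ∧
      res Q (σ t / t) = (u : IsLocalRing.ResidueField Q.O) := Iff.rfl

theorem s11024 [FiniteDimensional K K'] {Q : Place k K'}
    [Algebra.IsSeparable k (IsLocalRing.ResidueField Q.O)] :
    ∃ σ₀ : K' ≃ₐ[K] K', InG Q 1 σ₀ ∧
      ∀ σ : K' ≃ₐ[K] K', InG Q 1 σ → ∃ n : ℕ, InG Q 2 ((σ₀ ^ n)⁻¹ * σ) := by
  classical
  obtain ⟨t, ht⟩ := Q.2.2 (WithZero.exp (-1))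
  have ht0 : t ≠ 0 := unif_ne_zero Q ht
  have hfin : (thetaSubgroup K Q ht0 : Set (IsLocalRing.ResidueField Q.O)ˣ).Finite := by
    let f : (K' ≃ₐ[K] K') → (IsLocalRing.ResidueField Q.O)ˣ := fun σ =>
      if h : res Q (σ t / t) ≠ 0 then Units.mk0 (res Q (σ t / t)) h else 1
    refine (Set.finite_range f).subset ?_
    rintro u hu
    obtain ⟨σ, hσ, hu⟩ := (mem_thetaSubgroup Q ht0 u).1 hu
    refine ⟨σ, ?_⟩
    have h : res Q (σ t / t) ≠ 0 := by rw [hu]; exact u.ne_zero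
    show (if h : res Q (σ t / t) ≠ 0 then Units.mk0 (res Q (σ t / t)) h else 1) = u
    rw [dif_pos h]
    exact Units.ext hu
  haveI : Finite (thetaSubgroup K Q ht0) := Set.finite_coe_iff.2 hfin
  obtain ⟨x, hx⟩ := IsCyclic.exists_monoid_generator (α := thetaSubgroup K Q ht0)
  obtain ⟨σ₀, hσ₀, hx0⟩ := (mem_thetaSubgroup Q ht0 x.1).1 x.2
  refine ⟨σ₀, hσ₀, ?_⟩
  intro σ hσ
  have hu : res Q (σ t / t) ≠ 0 := theta_ne_zero hσ ht0
  have hmem : Units.mk0 (res Q (σ t / t)) hu ∈ thetaSubgroup K Q ht0 :=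
    (mem_thetaSubgroup Q ht0 _).2 ⟨σ, hσ, rfl⟩
  obtain ⟨n, hn⟩ := (Submonoid.mem_powers_iff _ _).1 (hx ⟨_, hmem⟩)
  refine ⟨n, ?_⟩
  have h2 : (res Q (σ₀ t / t)) ^ n = res Q (σ t / t) := by
    have h3 := congrArg (fun z : thetaSubgroup K Q ht0 =>
      ((z : (IsLocalRing.ResidueField Q.O)ˣ) : IsLocalRing.ResidueField Q.O)) hn
    simp only [Subgroup.coe_pow, Units.val_pow_eq_pow_val, Units.val_mk0] at h3
    rw [hx0]; exact h3
  have hρ0 : InG Q 1 ((σ₀ ^ n)⁻¹) := inG_inv le_rfl (inG_pow le_rfl hσ₀ n)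
  have hρ1 : InG Q 1 ((σ₀ ^ n)⁻¹ * σ) := inG_mul le_rfl hρ0 hσ
  rw [← theta_eq_one_iff hρ1 ht, theta_mul hρ0 hσ ht0,
    theta_inv (inG_pow le_rfl hσ₀ n) ht0, theta_pow hσ₀ ht0, h2]
  exact inv_mul_cancel₀ hu

end Groth.Agent.Lib.lead.Ram
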