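import Mathlib
import Groth.Prelude.Def_W4bk4goldsch23FF
import Groth.Prelude.Def_W4bk4goldsch23Ext
import Groth.Agent.Lib.lead.Ram

/-! The Galois group acts transitively on the places above a given place. -/

namespace Groth.Agent.Lib.lead.Gal
open FunFld Groth.Agent.Lib.lead.FF Groth.Agent.Lib.lead.FF5 Groth.Agent.Lib.lead.FF7
  Groth.Agent.Lib.lead.Ram
open scoped Pointwise

variable {k K K' : Type*} [Field k] [Field K] [Field K'] [Algebra k K] [Algebra K K']
  [Algebra k K'] [IsScalarTower k K K']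

/-- the action of the automorphism group on places: `σ • Q = Q ∘ σ⁻¹`. -/
instance placeAction : MulAction (K' ≃ₐ[K] K') (Place k K') where
  smul σ Q := comapPlace Q σ⁻¹
  one_smul Q := by
    apply Subtype.ext
    apply Valuation.ext
    intro y
    show Q.1 ((1 : K' ≃ₐ[K] K')⁻¹ y) = Q.1 y
    rw [inv_one, AlgEquiv.one_apply]
  mul_smul σ τ Q := by
    apply Subtype.ext
    apply Valuation.ext
    intro y
    show Q.1 ((σ * τ)⁻¹ y) = Q.1 (τ⁻¹ (σ⁻¹ y))
    rw [mul_inv_rev, AlgEquiv.mul_apply]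

lemma smul_apply (σ : K' ≃ₐ[K] K') (Q : Place k K') (y : K') :
    (σ • Q).1 y = Q.1 (σ⁻¹ y) := rfl

lemma inv_apply_self (σ : K' ≃ₐ[K] K') (x : K') : σ⁻¹ (σ x) = x := by
  rw [← AlgEquiv.mul_apply, inv_mul_cancel, AlgEquiv.one_apply]

lemma self_inv_apply (σ : K' ≃ₐ[K] K') (x : K') : σ (σ⁻¹ x) = x := by
  rw [← AlgEquiv.mul_apply, mul_inv_cancel, AlgEquiv.one_apply]

lemma isOverWith_smul (σ : K' ≃ₐ[K] K') {Q : Place k K'} {P : Place k K} {e : ℕ}
    (h : IsOverWith Q P e) : IsOverWith (σ • Q) P e := by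
  intro x
  rw [smul_apply, AlgEquiv.commutes]
  exact h x

lemma place_eq_of_le {Q Q' : Place k K'} (h : ∀ y, Q.1 y ≤ 1 → Q'.1 y ≤ 1) : Q = Q' := by
  by_contra hne
  obtain ⟨y, hy1, hy2⟩ := exists_le_one_one_lt hne
  exact not_le.2 hy2 (h y hy1)

lemma stabilizer_eq (Q : Place k K') :
    MulAction.stabilizer (K' ≃ₐ[K] K') Q = (Q.O).decompositionSubgroup K := by
  ext σ
  rw [MulAction.mem_stabilizer_iff]
  show σ • Q = Q ↔ σ ∈ MulAction.stabilizer (K' ≃ₐ[K] K') Q.O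
  rw [MulAction.mem_stabilizer_iff]
  constructor
  · intro h
    ext y
    rw [ValuationSubring.mem_pointwise_smul_iff_inv_smul_mem]
    show Q.1 (σ⁻¹ y) ≤ 1 ↔ Q.1 y ≤ 1
    rw [← smul_apply, h]
  · intro h
    symm
    apply place_eq_of_le
    intro y hy
    have h1 : y ∈ σ • Q.O := by
      rw [h]; exact (Valuation.mem_valuationSubring_iff _ _).2 hy
    rw [ValuationSubring.mem_pointwise_smul_iff_inv_smul_mem] at h1
    exact (Valuation.mem_valuationSubring_iff _ _).1 h1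

theorem transitive [FiniteDimensional K K'] [IsGalois K K'] {Q Q' : Place k K'}
    {P : Place k K} {e e' : ℕ} (he : IsOverWith Q P e) (he' : IsOverWith Q' P e') :
    ∃ σ : K' ≃ₐ[K] K', σ • Q = Q' := by
  classical
  by_contra hcon
  push Not at hcon
  have he'0 : e' ≠ 0 := by
    rintro rfl
    have := he' 0
    rw [map_zero, map_zero, map_zero, pow_zero] at this
    exact zero_ne_one this
  let S₁ : Finset (Place k K') := Finset.univ.image (fun σ : K' ≃ₐ[K] K' => σ • Q)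
  let S₂ : Finset (Place k K') := Finset.univ.image (fun σ : K' ≃ₐ[K] K' => σ • Q')
  have hS₁ : ∀ σ : K' ≃ₐ[K] K', σ • Q ∈ S₁ :=
    fun σ => Finset.mem_image_of_mem _ (Finset.mem_univ σ)
  have hS₂ : ∀ σ : K' ≃ₐ[K] K', σ • Q' ∈ S₂ :=
    fun σ => Finset.mem_image_of_mem _ (Finset.mem_univ σ)
  have hdisj : ∀ σ : K' ≃ₐ[K] K', σ • Q' ∉ S₁ := by
    intro σ hmem
    obtain ⟨τ, -, hτ⟩ := Finset.mem_image.1 hmem
    have hτ' : τ • Q = σ • Q' := hτ
    apply hcon (σ⁻¹ * τ)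
    rw [mul_smul, hτ', inv_smul_smul]
  obtain ⟨x, hx⟩ := exists_approx (S₁ ∪ S₂) (fun R => if R ∈ S₁ then (0 : K') else 1) 1
  have hx1 : ∀ σ : K' ≃ₐ[K] K', (σ • Q).1 x < 1 := by
    intro σ
    have h := hx (σ • Q) (Finset.mem_union_left _ (hS₁ σ))
    rw [if_pos (hS₁ σ), sub_zero] at h
    exact lt_of_le_of_lt h (exp_neg_lt_one one_ne_zero)
  have hx2 : ∀ σ : K' ≃ₐ[K] K', (σ • Q').1 x = 1 := by
    intro σ
    have h := hx (σ • Q') (Finset.mem_union_right _ (hS₂ σ))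
    rw [if_neg (hdisj σ)] at h
    have h1 : (σ • Q').1 (x - 1) < 1 := lt_of_le_of_lt h (exp_neg_lt_one one_ne_zero)
    have e1 : x = 1 + (x - 1) := by ring
    rw [e1]
    exact Valuation.map_one_add_of_lt _ h1
  obtain ⟨ν, hν⟩ : ∃ ν : K, algebraMap K K' ν = ∏ σ : K' ≃ₐ[K] K', σ x :=
    ⟨Algebra.norm K x, Algebra.norm_eq_prod_automorphisms K x⟩
  have hQN : Q.1 (∏ σ : K' ≃ₐ[K] K', σ x) < 1 := by
    rw [map_prod]
    have hle : ∀ σ : K' ≃ₐ[K] K', Q.1 (σ x) ≤ 1 := by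
      intro σ
      have := hx1 σ⁻¹
      rw [smul_apply, inv_inv] at this
      exact this.le
    rw [← Finset.mul_prod_erase Finset.univ _ (Finset.mem_univ (1 : K' ≃ₐ[K] K'))]
    have h1 : Q.1 ((1 : K' ≃ₐ[K] K') x) < 1 := by
      have := hx1 (1 : K' ≃ₐ[K] K')
      rw [smul_apply, inv_one] at this
      exact this
    have h2 : ∏ σ ∈ Finset.univ.erase (1 : K' ≃ₐ[K] K'), Q.1 (σ x) ≤ 1 :=
      Finset.prod_le_one' (fun σ _ => hle σ)
    calc _ ≤ Q.1 ((1 : K' ≃ₐ[K] K') x) * 1 := mul_le_mul' le_rfl h2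
      _ = Q.1 ((1 : K' ≃ₐ[K] K') x) := mul_one _
      _ < 1 := h1
  have hQ'N : Q'.1 (∏ σ : K' ≃ₐ[K] K', σ x) = 1 := by
    rw [map_prod]
    apply Finset.prod_eq_one
    intro σ _
    have := hx2 σ⁻¹
    rw [smul_apply, inv_inv] at this
    exact this
  rw [← hν, he ν] at hQN
  rw [← hν, he' ν] at hQ'N
  have hP : P.1 ν < 1 := by
    by_contra hge
    push Not at hge
    exact not_le.2 hQN (one_le_pow_of_one_le' hge e)
  have hlt := pow_lt_one₀ zero_le' hP he'0
  rw [hQ'N] at hlt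
  exact lt_irrefl _ hlt

/-- `σ` maps the valuation ring of `Q` isomorphically onto that of `σ • Q`. -/
def oEquiv (σ : K' ≃ₐ[K] K') (Q : Place k K') : Q.O ≃+* (σ • Q).O where
  toFun x := ⟨σ x, (Valuation.mem_valuationSubring_iff _ _).2 (by
    rw [smul_apply, inv_apply_self]
    exact (Valuation.mem_valuationSubring_iff _ _).1 x.2)⟩
  invFun y := ⟨σ⁻¹ y, (Valuation.mem_valuationSubring_iff _ _).2
    ((Valuation.mem_valuationSubring_iff _ _).1 y.2)⟩
  left_inv x := Subtype.ext (inv_apply_self σ x)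
  right_inv y := Subtype.ext (self_inv_apply σ y)
  map_mul' x y := Subtype.ext (map_mul σ _ _)
  map_add' x y := Subtype.ext (map_add σ _ _)

lemma deg_smul (σ : K' ≃ₐ[K] K') (Q : Place k K') : (σ • Q).deg = Q.deg := by
  let ψ : IsLocalRing.ResidueField Q.O ≃+* IsLocalRing.ResidueField (σ • Q).O :=
    IsLocalRing.ResidueField.mapEquiv (oEquiv σ Q)
  have hψ : ∀ c : k, ψ (algebraMap k _ c) = algebraMap k _ c := by
    intro c
    show IsLocalRing.ResidueField.map ((oEquiv σ Q : Q.O ≃+* (σ • Q).O) : Q.O →+* (σ • Q).O)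
      (IsLocalRing.residue Q.O (algebraMap k Q.O c)) =
        IsLocalRing.residue _ (algebraMap k (σ • Q).O c)
    rw [IsLocalRing.ResidueField.map_residue]
    congr 1
    apply Subtype.ext
    show σ (algebraMap k K' c) = algebraMap k K' c
    rw [IsScalarTower.algebraMap_apply k K K', σ.commutes]
  let ψa : IsLocalRing.ResidueField Q.O ≃ₐ[k] IsLocalRing.ResidueField (σ • Q).O :=
    AlgEquiv.ofRingEquiv hψ
  exact (ψa.toLinearEquiv.finrank_eq).symm

theorem s11022 [FiniteDimensional K K'] [IsGalois K K'] (Q : Place k K') (P : Place k K)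
    (e : ℕ) (he : IsOverWith Q P e) :
    Nat.card {Q' : Place k K' // IsOver Q' P} *
        Nat.card ((Q.O).decompositionSubgroup K) = Module.finrank K K' ∧
    ∀ Q' : Place k K', IsOver Q' P → IsOverWith Q' P e ∧ Q'.deg = Q.deg := by
  have horb : ∀ Q' : Place k K', IsOver Q' P ↔ Q' ∈ MulAction.orbit (K' ≃ₐ[K] K') Q := by
    intro Q'
    constructor
    · rintro ⟨e', he'⟩
      obtain ⟨σ, hσ⟩ := transitive he he'
      exact ⟨σ, hσ⟩
    · rintro ⟨σ, rfl⟩
      exact ⟨e, isOverWith_smul σ he⟩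
  constructor
  · have h1 := Nat.card_congr (MulAction.orbitProdStabilizerEquivGroup (K' ≃ₐ[K] K') Q)
    rw [Nat.card_prod] at h1
    have h2 : Nat.card {Q' : Place k K' // IsOver Q' P} =
        Nat.card (MulAction.orbit (K' ≃ₐ[K] K') Q) :=
      Nat.card_congr (Equiv.subtypeEquivRight horb)
    rw [h2, ← stabilizer_eq, h1]
    exact IsGalois.card_aut_eq_finrank K K'
  · intro Q' hQ'
    obtain ⟨σ, rfl⟩ := (horb Q').1 hQ'
    exact ⟨isOverWith_smul σ he, deg_smul σ Q⟩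

end Groth.Agent.Lib.lead.Gal
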