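import Mathlib
import Groth.Agent.Lib.lead.Ext
import Groth.Agent.Lib.lead.Gal

/-! Finite extensions of function fields with a possibly larger constant field:
the fundamental equality `∑ e f = n`. -/

namespace Groth.Agent.Lib.lead.Ext3
open FunFld Module Groth.Agent.Lib.lead.FF Groth.Agent.Lib.lead.FF2 Groth.Agent.Lib.lead.FF3
  Groth.Agent.Lib.lead.FF4
  Groth.Agent.Lib.lead.FF5 Groth.Agent.Lib.lead.FF6 Groth.Agent.Lib.lead.FF7
  Groth.Agent.Lib.lead.FF8 Groth.Agent.Lib.lead.Loc Groth.Agent.Lib.lead.Ext

section Alg
variable {k K' : Type*} [Field k] [Field K'] [Algebra k K']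

variable (k) in
/-- `k(x)(k') = k'(x)` as subsets of `K'` -/
lemma mem_adjoin_iff (x' y : K') :
    y ∈ IntermediateField.adjoin (IntermediateField.adjoin k ({x'} : Set K'))
        ((algebraicClosure k K' : IntermediateField k K') : Set K') ↔
      y ∈ IntermediateField.adjoin (algebraicClosure k K') ({x'} : Set K') := by
  constructor
  · intro hy
    have hE : ∀ a : IntermediateField.adjoin k ({x'} : Set K'),
        algebraMap (IntermediateField.adjoin k ({x'} : Set K')) K' a ∈
          (IntermediateField.adjoin (algebraicClosure k K') ({x'} : Set K')).toSubfield := by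
      intro a
      have h1 : IntermediateField.adjoin k ({x'} : Set K') ≤
          (IntermediateField.adjoin (algebraicClosure k K') ({x'} : Set K')).restrictScalars k := by
        rw [IntermediateField.adjoin_le_iff, Set.singleton_subset_iff]
        exact IntermediateField.mem_adjoin_simple_self _ x'
      exact h1 a.2
    have h2 : IntermediateField.adjoin (IntermediateField.adjoin k ({x'} : Set K'))
        ((algebraicClosure k K' : IntermediateField k K') : Set K') ≤
        Subfield.toIntermediateField _ hE := by
      rw [IntermediateField.adjoin_le_iff]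
      intro c hc
      exact (IntermediateField.adjoin (algebraicClosure k K') ({x'} : Set K')).algebraMap_mem
        ⟨c, hc⟩
    exact h2 hy
  · intro hy
    have hE : ∀ c : algebraicClosure k K', algebraMap (algebraicClosure k K') K' c ∈
        (IntermediateField.adjoin (IntermediateField.adjoin k ({x'} : Set K'))
          ((algebraicClosure k K' : IntermediateField k K') : Set K')).toSubfield := by
      intro c
      exact IntermediateField.subset_adjoin _ _ c.2
    have h2 : IntermediateField.adjoin (algebraicClosure k K') ({x'} : Set K') ≤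
        Subfield.toIntermediateField _ hE := by
      rw [IntermediateField.adjoin_le_iff, Set.singleton_subset_iff]
      exact (IntermediateField.adjoin (IntermediateField.adjoin k ({x'} : Set K'))
          ((algebraicClosure k K' : IntermediateField k K') : Set K')).algebraMap_mem
        ⟨x', IntermediateField.mem_adjoin_simple_self k x'⟩
    exact h2 hy

variable (k) in
/-- the two descriptions of `k'(x)` are isomorphic rings -/
def adjEquiv (x' : K') :
    IntermediateField.adjoin (IntermediateField.adjoin k ({x'} : Set K'))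
        ((algebraicClosure k K' : IntermediateField k K') : Set K') ≃+*
      IntermediateField.adjoin (algebraicClosure k K') ({x'} : Set K') where
  toFun a := ⟨a.1, (mem_adjoin_iff k x' a.1).1 a.2⟩
  invFun a := ⟨a.1, (mem_adjoin_iff k x' a.1).2 a.2⟩
  left_inv _ := rfl
  right_inv _ := rfl
  map_mul' _ _ := rfl
  map_add' _ _ := rfl

set_option maxHeartbeats 400000 in
lemma linIndep_const {x' : K'} (hK'' : IsFunctionField (algebraicClosure k K') K')
    (hx' : Transcendental (algebraicClosure k K') x') {ι : Type*}
    (a : Basis ι k (algebraicClosure k K')) :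
    LinearIndependent (IntermediateField.adjoin k ({x'} : Set K'))
      ((algebraicClosure k K').val ∘ a) := by
  classical
  obtain ⟨Q'', hQ''⟩ := exists_place_lt_one hK'' hx'
  have hx'0 : x' ≠ 0 := ne_zero_of_transcendental hx'
  obtain ⟨Q, hQ⟩ : ∃ Q : Place k K', Q.1 = Q''.1 :=
    ⟨⟨Q''.1, fun c => by
      rw [IsScalarTower.algebraMap_apply k (algebraicClosure k K') K']
      exact Q''.2.1 _, Q''.2.2⟩, rfl⟩
  have hQx : Q.1 x' < 1 := by
    rw [hQ]
    exact hQ''
  have hvc : ∀ c : algebraicClosure k K', c ≠ 0 →
      Q.1 (algebraMap (algebraicClosure k K') K' c) = 1 := by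
    intro c hc
    rw [hQ]
    exact val_algebraMap Q'' hc
  rw [linearIndependent_iff']
  intro s g hsum i₁ hi₁
  by_contra hne
  obtain ⟨i₀, hi₀s, hi₀⟩ := Finset.exists_max_image s (fun i => Q.1 ((g i : K'))) ⟨i₁, hi₁⟩
  have hg0 : (g i₀ : K') ≠ 0 := by
    intro h0
    have h1 := hi₀ i₁ hi₁
    rw [h0, map_zero] at h1
    have h2 : Q.1 (g i₁ : K') = 0 := le_antisymm h1 zero_le'
    rw [Valuation.zero_iff] at h2
    exact hne (Subtype.ext h2)
  have hd : ∀ i ∈ s, ∃ c : k, Q.1 ((g i : K') / (g i₀ : K') - algebraMap k K' c) < 1 := by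
    intro i hi
    apply exists_const_approx' Q hQx hx'0
    · exact div_mem (g i).2 (g i₀).2
    · rw [map_div₀]
      exact div_le_one_of_le₀ (hi₀ i hi) zero_le'
  choose! c hc using hd
  have hzero : ∑ i ∈ s, (g i : K') / (g i₀ : K') *
      algebraMap (algebraicClosure k K') K' (a i) = 0 := by
    have h1 : ∑ i ∈ s, (g i : K') / (g i₀ : K') * algebraMap (algebraicClosure k K') K' (a i) =
        (g i₀ : K')⁻¹ * ∑ i ∈ s, g i • ((algebraicClosure k K').val ∘ a) i := by
      rw [Finset.mul_sum]
      apply Finset.sum_congr rfl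
      intro i _
      have e : g i • ((algebraicClosure k K').val ∘ a) i =
          (g i : K') * algebraMap (algebraicClosure k K') K' (a i) := rfl
      rw [e]
      ring
    rw [h1, hsum, mul_zero]
  have hS : ∑ i ∈ s, c i • a i = 0 := by
    by_contra hS0
    have h1 := hvc _ hS0
    have h3 : algebraMap (algebraicClosure k K') K' (∑ i ∈ s, c i • a i) =
        ∑ i ∈ s, algebraMap k K' (c i) * algebraMap (algebraicClosure k K') K' (a i) := by
      rw [map_sum]
      apply Finset.sum_congr rfl
      intro i _
      rw [Algebra.smul_def, map_mul, ← IsScalarTower.algebraMap_apply]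
    have h6 : ∑ i ∈ s, (algebraMap k K' (c i) - (g i : K') / (g i₀ : K')) *
          algebraMap (algebraicClosure k K') K' (a i) =
        ∑ i ∈ s, algebraMap k K' (c i) * algebraMap (algebraicClosure k K') K' (a i) -
          ∑ i ∈ s, (g i : K') / (g i₀ : K') * algebraMap (algebraicClosure k K') K' (a i) := by
      rw [← Finset.sum_sub_distrib]
      apply Finset.sum_congr rfl
      intro i _
      ring
    rw [hzero, sub_zero] at h6
    rw [h3, ← h6] at h1
    have h4 : Q.1 (∑ i ∈ s, (algebraMap k K' (c i) - (g i : K') / (g i₀ : K')) *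
        algebraMap (algebraicClosure k K') K' (a i)) < 1 := by
      apply Valuation.map_sum_lt Q.1 one_ne_zero
      intro i hi
      apply val_mul_lt_one_left Q
      · rw [Valuation.map_sub_swap]
        exact hc i hi
      · by_cases hai : a i = 0
        · rw [hai, map_zero, map_zero]
          exact zero_le'
        · exact (hvc _ hai).le
    rw [h1] at h4
    exact lt_irrefl _ h4
  have hci₀ : c i₀ = 0 := linearIndependent_iff'.1 a.linearIndependent s c hS i₀ hi₀s
  have h5 := hc i₀ hi₀s
  rw [hci₀, map_zero, sub_zero, div_self hg0, map_one] at h5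
  exact lt_irrefl _ h5

lemma finrank_const {x' : K'} (hK'' : IsFunctionField (algebraicClosure k K') K')
    (hx' : Transcendental (algebraicClosure k K') x') :
    Module.finrank (IntermediateField.adjoin k ({x'} : Set K')) K' =
      Module.finrank k (algebraicClosure k K') *
        Module.finrank (IntermediateField.adjoin (algebraicClosure k K') ({x'} : Set K')) K' := by
  have hdis : (algebraicClosure k K').LinearDisjoint
      (IntermediateField.adjoin k ({x'} : Set K')) :=
    IntermediateField.LinearDisjoint.of_basis_left (Basis.ofVectorSpace k (algebraicClosure k K'))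
      (linIndep_const hK'' hx' _)
  have h1 := hdis.adjoin_rank_eq_rank_left_of_isAlgebraic_left
  have h2 := Module.finrank_mul_finrank (IntermediateField.adjoin k ({x'} : Set K'))
    (IntermediateField.adjoin (IntermediateField.adjoin k ({x'} : Set K'))
      ((algebraicClosure k K' : IntermediateField k K') : Set K')) K'
  have h3 : Module.finrank (IntermediateField.adjoin (IntermediateField.adjoin k ({x'} : Set K'))
      ((algebraicClosure k K' : IntermediateField k K') : Set K')) K' =
      Module.finrank (IntermediateField.adjoin (algebraicClosure k K') ({x'} : Set K')) K' :=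
    Algebra.finrank_eq_of_equiv_equiv (adjEquiv k x') (RingEquiv.refl K') (by ext a; rfl)
  have h4 : Module.finrank (IntermediateField.adjoin k ({x'} : Set K'))
      (IntermediateField.adjoin (IntermediateField.adjoin k ({x'} : Set K'))
        ((algebraicClosure k K' : IntermediateField k K') : Set K')) =
      Module.finrank k (algebraicClosure k K') := congrArg Cardinal.toNat h1
  rw [← h2, h4, h3]

/-- a place of `K'/k` is a place over the full constant field -/
def toTop (Q : Place k K') : Place (algebraicClosure k K') K' :=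
  ⟨Q.1, fun c => val_le_one_of_root (K := k) Q.1 (fun a => Q.2.1 a)
    (mem_algebraicClosure_iff'.1 c.2), Q.2.2⟩

def ofTop (Q : Place (algebraicClosure k K') K') : Place k K' :=
  ⟨Q.1, fun c => by
    rw [IsScalarTower.algebraMap_apply k (algebraicClosure k K') K']
    exact Q.2.1 _, Q.2.2⟩

lemma toTop_ofTop (Q : Place (algebraicClosure k K') K') : toTop (ofTop Q) = Q := rfl

lemma toTop_injective : Function.Injective (toTop : Place k K' → _) := by
  intro Q Q' h
  have h' : (toTop Q).1 = (toTop Q').1 := congrArg Subtype.val h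
  exact Subtype.ext h'

lemma deg_toTop (Q : Place k K') :
    Q.deg = Module.finrank k (algebraicClosure k K') * (toTop Q).deg := by
  letI i1 : Algebra (algebraicClosure k K') (IsLocalRing.ResidueField Q.O) :=
    Place.algRes (toTop Q)
  have i2 : @IsScalarTower k (algebraicClosure k K') (IsLocalRing.ResidueField Q.O) _ i1.toSMul
      (Place.algRes Q).toSMul :=
    IsScalarTower.of_algebraMap_eq (fun c => rfl)
  have h := @Module.finrank_mul_finrank k (algebraicClosure k K')
    (IsLocalRing.ResidueField Q.O) _ _ _ _ i1.toModule (Place.algRes Q).toModule i2 _ _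
  exact h.symm

end Alg

variable {k K K' : Type*} [Field k] [Field K] [Field K'] [Algebra k K] [Algebra K K']
  [Algebra k K'] [IsScalarTower k K K']

theorem isFunctionField_top (hK : IsFunctionField k K) [FiniteDimensional K K'] :
    IsFunctionField (algebraicClosure k K') K' := by
  obtain ⟨⟨x, hx, hfd⟩, -⟩ := hK
  haveI := hfd
  refine ⟨⟨algebraMap K K' x, ?_, ?_⟩, ?_⟩
  · intro halg
    have h1 : IsAlgebraic k (algebraMap K K' x) := halg.restrictScalars k
    exact hx ((isAlgebraic_algebraMap_iff (algebraMap K K').injective).1 h1)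
  · have hpos : 0 < Module.finrank
        (IntermediateField.adjoin k ({algebraMap K K' x} : Set K')) K' := by
      rw [finrank_tower (k := k) x]
      exact Nat.mul_pos Module.finrank_pos Module.finrank_pos
    haveI : Module.Finite (IntermediateField.adjoin k ({algebraMap K K' x} : Set K')) K' :=
      Module.finite_of_finrank_pos hpos
    haveI : Module.Finite (IntermediateField.adjoin
        (IntermediateField.adjoin k ({algebraMap K K' x} : Set K'))
        ((algebraicClosure k K' : IntermediateField k K') : Set K')) K' :=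
      Module.Finite.of_restrictScalars_finite
        (IntermediateField.adjoin k ({algebraMap K K' x} : Set K')) _ K'
    exact Module.Finite.of_equiv_equiv (adjEquiv k (algebraMap K K' x)) (RingEquiv.refl K')
      (by ext a; rfl)
  · intro y hy
    have h1 : IsAlgebraic k y := hy.restrictScalars k
    exact ⟨⟨y, mem_algebraicClosure_iff.2 h1⟩, rfl⟩

set_option maxHeartbeats 400000 in
theorem general (hK : IsFunctionField k K) [FiniteDimensional K K'] (P : Place k K) :
    {Q : Place k K' | IsOver Q P}.Finite ∧
    ∀ (Qs : Finset (Place k K')), (∀ Q, Q ∈ Qs ↔ IsOver Q P) →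
      (∑ Q ∈ Qs, ramIdx Q P * Q.deg) = Module.finrank K K' * P.deg := by
  classical
  obtain ⟨x, hxtr, hxP, honly⟩ := exists_only_zero hK P
  have hx0 : x ≠ 0 := ne_zero_of_transcendental hxtr
  have hK'' := isFunctionField_top (K' := K') hK
  have hx'tr : Transcendental (algebraicClosure k K') (algebraMap K K' x) := by
    intro halg
    have h1 : IsAlgebraic k (algebraMap K K' x) := halg.restrictScalars k
    exact hxtr ((isAlgebraic_algebraMap_iff (algebraMap K K').injective).1 h1)
  have hzo : ∀ Q : Place k K', Q.1 (algebraMap K K' x) < 1 ↔ IsOver Q P :=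
    zero_iff_over hK P hxP honly
  have hfin : {Q : Place k K' | IsOver Q P}.Finite := by
    have h1 := (finite_zeros hK'' hx'tr).preimage (toTop_injective (k := k) (K' := K')).injOn
    refine h1.subset ?_
    intro Q hQ
    exact (hzo Q).2 hQ
  refine ⟨hfin, ?_⟩
  intro Qs hQs
  have h1 := sum_zeros_eq hK hxtr {P} (fun P' => by
    rw [Finset.mem_singleton]
    exact ⟨fun h => h ▸ hxP, honly P'⟩)
  rw [Finset.sum_singleton] at h1
  have h2 := sum_zeros_eq hK'' hx'tr (Qs.image toTop) (fun Q'' => by
    rw [Finset.mem_image]
    constructor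
    · rintro ⟨Q, hQ, rfl⟩
      exact (hzo Q).2 ((hQs Q).1 hQ)
    · intro hQ''
      exact ⟨ofTop Q'', (hQs _).2 ((hzo (ofTop Q'')).1 hQ''), rfl⟩)
  rw [Finset.sum_image (toTop_injective (k := k) (K' := K')).injOn] at h2
  have h3 : ∑ Q ∈ Qs, Q.ord (algebraMap K K' x) * (Q.deg : ℤ) =
      ((Module.finrank (IntermediateField.adjoin k ({x} : Set K)) K *
        Module.finrank K K' : ℕ) : ℤ) := by
    rw [← finrank_tower (k := k) x, finrank_const hK'' hx'tr]
    push_cast
    rw [← h2, Finset.mul_sum]
    apply Finset.sum_congr rfl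
    intro Q _
    rw [deg_toTop Q]
    push_cast
    have e : (toTop Q).ord (algebraMap K K' x) = Q.ord (algebraMap K K' x) := rfl
    rw [e]
    ring
  have hord : 0 < P.ord x := (ord_pos_iff P hx0).2 hxP
  have h3' : ∑ Q ∈ Qs, Q.ord (algebraMap K K' x) * (Q.deg : ℤ) =
      P.ord x * ∑ Q ∈ Qs, ((ramIdx Q P * Q.deg : ℕ) : ℤ) := by
    rw [Finset.mul_sum]
    apply Finset.sum_congr rfl
    intro Q hQ
    obtain ⟨e, he⟩ := (hQs Q).1 hQ
    rw [ord_algebraMap he, ramIdx_eq he]
    push_cast
    ring
  rw [h3'] at h3
  have h4 : (P.ord x) * (∑ Q ∈ Qs, ((ramIdx Q P * Q.deg : ℕ) : ℤ)) =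
      P.ord x * ((Module.finrank K K' * P.deg : ℕ) : ℤ) := by
    rw [h3]
    push_cast
    rw [← h1]
    ring
  have h5 := mul_left_cancel₀ hord.ne' h4
  exact_mod_cast h5

/-! ### consequences -/

theorem s11021 (hK : IsFunctionField k K) [FiniteDimensional K K'] [IsGalois K K']
    (Q : Place k K') (P : Place k K) (e : ℕ) (he : IsOverWith Q P e) :
    Nat.card ((Q.O).decompositionSubgroup K) * P.deg = e * Q.deg := by
  classical
  obtain ⟨hfin, hsum⟩ := general (K' := K') hK P
  obtain ⟨hcard, hall⟩ := Groth.Agent.Lib.lead.Gal.s11022 Q P e he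
  have h1 := hsum hfin.toFinset (fun Q' => hfin.mem_toFinset)
  have h2 : ∑ Q' ∈ hfin.toFinset, ramIdx Q' P * Q'.deg = hfin.toFinset.card * (e * Q.deg) := by
    rw [Finset.sum_const_nat]
    intro Q' hQ'
    obtain ⟨h3, h4⟩ := hall Q' (hfin.mem_toFinset.1 hQ')
    rw [ramIdx_eq h3, h4]
  have h5 : Nat.card {Q' : Place k K' // IsOver Q' P} = hfin.toFinset.card := by
    have h6 : Nat.card {Q' : Place k K' // IsOver Q' P} =
        Set.ncard {Q' : Place k K' | IsOver Q' P} := Nat.card_coe_set_eq _
    rw [h6, Set.ncard_eq_toFinset_card _ hfin]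
  rw [h2, ← hcard, h5] at h1
  have hpos : 0 < hfin.toFinset.card := by
    apply Finset.card_pos.2
    exact ⟨Q, hfin.mem_toFinset.2 ⟨e, he⟩⟩
  have h7 : hfin.toFinset.card * (e * Q.deg) =
      hfin.toFinset.card * (Nat.card ((Q.O).decompositionSubgroup K) * P.deg) := by
    rw [h1]
    ring
  exact (Nat.eq_of_mul_eq_mul_left hpos h7).symm

theorem deg_fib' (hK : IsFunctionField k K) [FiniteDimensional K K'] (P : Place k K) :
    (fib K' P).deg = Module.finrank K K' * P.deg := by
  classical
  obtain ⟨hfin, hsum'⟩ := general (K' := K') hK P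
  have hsum := hsum' hfin.toFinset (fun Q => hfin.mem_toFinset)
  unfold fib
  rw [dif_pos hfin, deg_eq_degHom, map_sum]
  simp only [map_zsmul, ← deg_eq_degHom, deg_single, smul_eq_mul, one_mul]
  exact_mod_cast hsum

theorem deg_conorm' (hK : IsFunctionField k K) [FiniteDimensional K K'] (D : Divisor k K) :
    (conorm K' D).deg = Module.finrank K K' * D.deg := by
  classical
  rw [conorm_eq, Finsupp.sum, deg_eq_degHom, map_sum]
  simp only [map_zsmul, ← deg_eq_degHom, deg_fib' hK, smul_eq_mul]
  unfold Divisor.deg
  rw [Finsupp.sum, Finset.mul_sum]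
  apply Finset.sum_congr rfl
  intro P _
  ring

lemma finite_support_ord' (hK : IsFunctionField k K) [FiniteDimensional K K'] (y : K') :
    (Function.support fun Q : Place k K' => Q.ord y).Finite := by
  have hK'' := isFunctionField_top (K' := K') hK
  have h1 := (finite_support_ord hK'' y).preimage (toTop_injective (k := k) (K' := K')).injOn
  exact h1.subset (fun Q hQ => hQ)

theorem div_algebraMap (hK : IsFunctionField k K) [FiniteDimensional K K'] (x : K) :
    FunFld.div k (algebraMap K K' x) = conorm K' (FunFld.div k x) := by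
  classical
  ext Q₀
  obtain ⟨P₀, e₀, h₀⟩ := exists_restrict hK Q₀
  rw [conorm_apply (fun P => (general (K' := K') hK P).1) _ h₀, div_apply hK]
  unfold FunFld.div
  rw [dif_pos (finite_support_ord' hK (algebraMap K K' x))]
  show Q₀.ord (algebraMap K K' x) = _
  rw [ord_algebraMap h₀]
  ring

end Groth.Agent.Lib.lead.Ext3
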