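import Mathlib
import Groth.Prelude.Def_W4bk4goldsch45
import Groth.Agent.Lib.lead.NS

/-! Nonsingularity criteria for projective maps of a function field, part 2. -/

namespace Groth.Agent.Lib.lead.NS2
open FunFld Groth.Agent.Lib.lead.FF Groth.Agent.Lib.lead.FF2 Groth.Agent.Lib.lead.FF3
  Groth.Agent.Lib.lead.FF4
  Groth.Agent.Lib.lead.FF5 Groth.Agent.Lib.lead.FF6 Groth.Agent.Lib.lead.FF7
  Groth.Agent.Lib.lead.FF8 Groth.Agent.Lib.lead.FF9 Groth.Agent.Lib.lead.FF10
  Groth.Agent.Lib.lead.FF11 Groth.Agent.Lib.lead.FF12 Groth.Agent.Lib.lead.FF13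
  Groth.Agent.Lib.lead.FF14 Groth.Agent.Lib.lead.FF15 Groth.Agent.Lib.lead.FF16
  Groth.Agent.Lib.lead.FF17 Groth.Agent.Lib.lead.Loc Groth.Agent.Lib.lead.Emb
  Groth.Agent.Lib.lead.Emb2 Groth.Agent.Lib.lead.NS

variable {k K : Type*} [Field k] [Field K] [Algebra k K]

lemma adjoin_val_le_one (P : Place k K) {n : ℕ} (φ : Fin (n + 1) → K) {j : Fin (n + 1)}
    (hj0 : φ j ≠ 0) (hjmax : ∀ i, P.1 (φ i) ≤ P.1 (φ j)) :
    ∀ a ∈ Algebra.adjoin k (Set.range fun i => φ i / φ j), P.1 a ≤ 1 := by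
  intro a ha
  induction ha using Algebra.adjoin_induction with
  | mem x hx =>
    obtain ⟨i, rfl⟩ := hx
    exact (val_div_le_one_iff P hj0).2 (hjmax i)
  | algebraMap c => exact P.2.1 c
  | add x y _ _ hx hy => exact Valuation.map_add_le _ hx hy
  | mul x y _ _ hx hy =>
    rw [map_mul]
    exact mul_le_one' hx hy

lemma inLoc_val_le_one {P : Place k K} {n : ℕ} {φ : Fin (n + 1) → K} {z : K}
    (h : InLocRing φ P z) : P.1 z ≤ 1 := by
  obtain ⟨j, hj0, hjmax, u, hu, w, hw, hw1, hzw⟩ := h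
  have h1 := adjoin_val_le_one P φ hj0 hjmax u hu
  rw [← hzw, map_mul, hw1, mul_one] at h1
  exact h1

lemma inLoc_inv {P : Place k K} {n : ℕ} {φ : Fin (n + 1) → K} {z : K}
    (h : InLocRing φ P z) (h1 : P.1 z = 1) : InLocRing φ P z⁻¹ := by
  obtain ⟨j, hj0, hjmax, u, hu, w, hw, hw1, hzw⟩ := h
  have hz0 : z ≠ 0 := by
    rintro rfl
    rw [map_zero] at h1
    exact zero_ne_one h1
  refine ⟨j, hj0, hjmax, w, hw, u, hu, ?_, ?_⟩
  · rw [← hzw, map_mul, h1, hw1, one_mul]
  · rw [← hzw, ← mul_assoc, inv_mul_cancel₀ hz0, one_mul]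

lemma inLoc_sub_const {P : Place k K} {n : ℕ} {φ : Fin (n + 1) → K} {z : K}
    (h : InLocRing φ P z) (c : k) : InLocRing φ P (z - algebraMap k K c) := by
  obtain ⟨j, hj0, hjmax, u, hu, w, hw, hw1, hzw⟩ := h
  refine ⟨j, hj0, hjmax, u - algebraMap k K c * w,
    Subalgebra.sub_mem _ hu (Subalgebra.mul_mem _ (Subalgebra.algebraMap_mem _ c) hw), w, hw, hw1, ?_⟩
  rw [sub_mul, hzw]

/-- separation of points and tangent vectors implies nonsingularity -/
theorem nonsing_of_sep [IsAlgClosed k] (hK : IsFunctionField k K) {n : ℕ} (hn : 1 ≤ n)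
    (φ : Fin (n + 1) → K) (hφ : LinearIndependent k φ) (P : Place k K)
    (hsep : ∀ Q : Place k K, ∃ t ∈ Submodule.span k (Set.range φ),
      t ∈ L (mapDiv k φ - Finsupp.single P 1) ∧
        t ∉ L (mapDiv k φ - Finsupp.single P 1 - Finsupp.single Q 1)) :
    IsNonsingularAt φ P := by
  classical
  intro z hz
  have hg0 : (0 : ℤ) ≤ genus k K := Nat.cast_nonneg _
  have hφ0 : ∀ i, φ i ≠ 0 := fun i => hφ.ne_zero i
  obtain ⟨j, hjmax⟩ := exists_max_index P φ
  have hj0 := hφ0 j
  obtain ⟨M, hM⟩ : ∃ M : Divisor k K, M = mapDiv k φ := ⟨_, rfl⟩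
  rw [← hM] at hsep
  obtain ⟨E, hE⟩ : ∃ E : Divisor k K, E = M + FunFld.div k (φ j) := ⟨_, rfl⟩
  have hLE : ∀ (X : Divisor k K) (y : K), y ∈ L (E - X) ↔ φ j * y ∈ L (M - X) := by
    intro X y
    rw [mul_mem_L_iff hK _ hj0]
    have h1 : M - X + FunFld.div k (φ j) = E - X := by rw [hE]; abel
    rw [h1]
  have hLE0 : ∀ y : K, y ∈ L E ↔ φ j * y ∈ L M := by
    intro y
    have := hLE 0 y
    rwa [sub_zero, sub_zero] at this
  obtain ⟨W, hW⟩ : ∃ W : Submodule k K,
      W = Submodule.span k (Set.range fun i => φ i / φ j) := ⟨_, rfl⟩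
  have hWmem : ∀ y : K, y ∈ W ↔ φ j * y ∈ Submodule.span k (Set.range φ) := by
    intro y
    rw [hW, Submodule.mem_span_range_iff_exists_fun, Submodule.mem_span_range_iff_exists_fun]
    constructor
    · rintro ⟨c, hc⟩
      refine ⟨c, ?_⟩
      rw [← hc, sum_smul_div, mul_div_cancel₀ _ hj0]
    · rintro ⟨c, hc⟩
      refine ⟨c, ?_⟩
      rw [sum_smul_div, hc, mul_div_cancel_left₀ _ hj0]
  have hspanM : Submodule.span k (Set.range φ) ≤ L M := by
    rw [hM]
    exact span_le_L_mapDiv hK φ hφ0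
  have hφM : ∀ i, φ i ∈ L M := fun i => hspanM (Submodule.subset_span ⟨i, rfl⟩)
  have hWE : W ≤ L E := by
    intro y hy
    rw [hLE0]
    exact hspanM ((hWmem y).1 hy)
  have hxW : ∀ i, φ i / φ j ∈ W := fun i => by
    rw [hW]
    exact Submodule.subset_span ⟨i, rfl⟩
  have h1E : (1 : K) ∈ L E := by
    rw [hLE0, mul_one]
    exact hφM j
  have hE0 : 0 ≤ E := by
    intro R
    have := (mem_L_iff _ _).1 h1E R
    rw [map_one, ← WithZero.exp_zero, WithZero.exp_le_exp] at this
    simpa using this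
  have hvalj : P.1 (φ j) = WithZero.exp (M P) := by
    rw [hM]
    exact val_max_eq_mapDiv hK φ hφ0 P hjmax
  have hEP : E P = 0 := by
    rw [hE, Finsupp.add_apply, div_apply hK]
    rw [val_eq_exp P hj0] at hvalj
    have h1 := WithZero.exp_le_exp.1 hvalj.le
    have h2 := WithZero.exp_le_exp.1 hvalj.ge
    omega
  have hb1 : ∀ R : Place k K, ∃ t ∈ W, t ∉ L (E - Finsupp.single R 1) := by
    intro R
    obtain ⟨i, hi⟩ := exists_val_eq_mapDiv hK φ hφ0 R
    rw [← hM] at hi
    refine ⟨φ i / φ j, hxW i, ?_⟩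
    rw [hLE, mul_div_cancel₀ _ hj0]
    intro hmem
    have h1 := (mem_L_iff _ _).1 hmem R
    rw [hi, WithZero.exp_le_exp, Finsupp.sub_apply, Finsupp.single_eq_same] at h1
    omega
  have hb2 : ∀ R : Place k K, ∃ t ∈ W ⊓ L (E - Finsupp.single P 1),
      t ∉ L (E - Finsupp.single P 1 - Finsupp.single R 1) := by
    intro R
    obtain ⟨t, ht, htP, htn⟩ := hsep R
    have hmul : φ j * (t / φ j) = t := mul_div_cancel₀ _ hj0
    refine ⟨t / φ j, Submodule.mem_inf.2 ⟨?_, ?_⟩, ?_⟩
    · rw [hWmem, hmul]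
      exact ht
    · rw [hLE, hmul]
      exact htP
    · have h1 : E - Finsupp.single P 1 - Finsupp.single R 1 =
          E - (Finsupp.single P 1 + Finsupp.single R 1) := by abel
      have h2 : M - Finsupp.single P 1 - Finsupp.single R 1 =
          M - (Finsupp.single P 1 + Finsupp.single R 1) := by abel
      rw [h1, hLE, hmul, ← h2]
      exact htn
  have hdeg1 : 1 ≤ E.deg := by
    by_contra hlt
    rw [not_le] at hlt
    have h1 := ell_sub_le hK hE0
    rw [ell_zero hK, deg_zero] at h1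
    have h2 : ell E ≤ 1 := by
      have : (ell E : ℤ) ≤ 1 := by
        push_cast at h1
        linarith
      exact_mod_cast this
    haveI := L_finite hK E
    have h3 : L (0 : Divisor k K) = L E := by
      refine Submodule.eq_of_le_of_finrank_le (L_mono hE0) ?_
      have h4 : Module.finrank k ↥(L (0 : Divisor k K)) = 1 := ell_zero hK
      rw [h4]
      exact h2
    obtain ⟨i, hij⟩ : ∃ i : Fin (n + 1), i ≠ j := by
      by_cases h : j = 0
      · refine ⟨Fin.last n, ?_⟩
        rw [h]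
        intro h'
        have := congrArg Fin.val h'
        rw [Fin.val_last, Fin.val_zero] at this
        omega
      · exact ⟨0, fun h' => h h'.symm⟩
    have h5 : φ i / φ j ∈ L (0 : Divisor k K) := by
      rw [h3]
      exact hWE (hxW i)
    rw [L_zero hK, Submodule.mem_one] at h5
    obtain ⟨c, hc⟩ := h5
    have h6 : φ i = c • φ j := by
      rw [Algebra.smul_def, hc, div_mul_cancel₀ _ hj0]
    have h7 := hφ.notMem_span_image (s := {j}) (x := i) (by simpa using hij)
    apply h7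
    rw [Set.image_singleton, h6]
    exact Submodule.smul_mem _ _ (Submodule.subset_span rfl)
  have hAP := adjoin_val_le_one P φ hj0 hjmax
  have hWA : ∀ y ∈ W, y ∈ Algebra.adjoin k (Set.range fun i => φ i / φ j) := by
    intro y hy
    rw [hW] at hy
    have h1 : Submodule.span k (Set.range fun i => φ i / φ j) ≤
        Subalgebra.toSubmodule (Algebra.adjoin k (Set.range fun i => φ i / φ j)) :=
      Submodule.span_le.2 Algebra.subset_adjoin
    exact h1 hy
  have hc1 : 2 * (genus k K : ℤ) - 1 ≤ (((2 * genus k K + 1 : ℕ) : ℤ) - 1) * E.deg := by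
    have h : 2 * (genus k K : ℤ) * 1 ≤ 2 * (genus k K : ℤ) * E.deg :=
      mul_le_mul_of_nonneg_left hdeg1 (by linarith)
    push_cast
    linarith
  obtain ⟨u, hu, w, hw, hw1, hzw⟩ := emb_sub hK E P hE0 hEP hdeg1 W hWE hb1 hb2
    (2 * genus k K + 1) hc1 (Algebra.adjoin k (Set.range fun i => φ i / φ j)) hWA hAP z hz
  exact ⟨j, hj0, hjmax, u, hu, w, hw, hw1, hzw⟩

/-- the local ring separates points and contains a parameter ⟹ the span separates -/
theorem sep_of_loc [IsAlgClosed k] (hK : IsFunctionField k K) {n : ℕ} (φ : Fin (n + 1) → K)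
    (hφ : LinearIndependent k φ) (P : Place k K)
    (H1 : ∀ Q : Place k K, Q ≠ P → ∃ z : K, InLocRing φ P z ∧ 1 < Q.1 z)
    (H2 : ∃ t : K, InLocRing φ P t ∧ P.1 t = WithZero.exp (-1)) (Q : Place k K) :
    ∃ t ∈ Submodule.span k (Set.range φ), t ∈ L (mapDiv k φ - Finsupp.single P 1) ∧
      t ∉ L (mapDiv k φ - Finsupp.single P 1 - Finsupp.single Q 1) := by
  classical
  have hφ0 : ∀ i, φ i ≠ 0 := fun i => hφ.ne_zero i
  have hP1 := deg_eq_one hK P
  obtain ⟨M, hM⟩ : ∃ M : Divisor k K, M = mapDiv k φ := ⟨_, rfl⟩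
  rw [← hM]
  have hspanM : Submodule.span k (Set.range φ) ≤ L M := by
    rw [hM]
    exact span_le_L_mapDiv hK φ hφ0
  have hφM : ∀ i, φ i ∈ L M := fun i => hspanM (Submodule.subset_span ⟨i, rfl⟩)
  have key : ∀ (j' : Fin (n + 1)), (∀ i, P.1 (φ i) ≤ P.1 (φ j')) → ∀ (c : Fin (n + 1) → k),
      (∀ i, P.1 (φ i / φ j' - algebraMap k K (c i)) < 1) →
      ∀ i, φ i - c i • φ j' ∈ Submodule.span k (Set.range φ) ∧
        φ i - c i • φ j' ∈ L (M - Finsupp.single P 1) ∧
        P.1 (φ i - c i • φ j') =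
          WithZero.exp (M P) * P.1 (φ i / φ j' - algebraMap k K (c i)) := by
    intro j' hmax c hc i
    have hj'0 := hφ0 j'
    have hvalj : P.1 (φ j') = WithZero.exp (M P) := by
      rw [hM]
      exact val_max_eq_mapDiv hK φ hφ0 P hmax
    have hid : φ i - c i • φ j' = φ j' * (φ i / φ j' - algebraMap k K (c i)) := by
      rw [Algebra.smul_def, mul_sub, mul_div_cancel₀ _ hj'0]
      ring
    have hval : P.1 (φ i - c i • φ j') =
        WithZero.exp (M P) * P.1 (φ i / φ j' - algebraMap k K (c i)) := by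
      rw [hid, map_mul, hvalj]
    have hspan : φ i - c i • φ j' ∈ Submodule.span k (Set.range φ) :=
      Submodule.sub_mem _ (Submodule.subset_span ⟨i, rfl⟩)
        (Submodule.smul_mem _ _ (Submodule.subset_span ⟨j', rfl⟩))
    refine ⟨hspan, ?_, hval⟩
    refine (mem_L_iff _ _).2 fun R => ?_
    by_cases hR : R = P
    · rw [hR, Finsupp.sub_apply, Finsupp.single_eq_same, ← lt_exp_iff_le, hval]
      calc WithZero.exp (M P) * P.1 (φ i / φ j' - algebraMap k K (c i))
          < WithZero.exp (M P) * 1 := mul_lt_mul_of_pos_left (hc i) WithZero.exp_pos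
        _ = WithZero.exp (M P) := mul_one _
    · rw [Finsupp.sub_apply, Finsupp.single_apply, if_neg (Ne.symm hR), sub_zero]
      exact (mem_L_iff _ _).1 (hspanM hspan) R
  by_cases hQ : Q = P
  · rw [hQ]
    obtain ⟨t, ⟨j', hj'0, hmax, u, hu, w, hw, hw1, htw⟩, ht⟩ := H2
    have hxP : ∀ i, P.1 (φ i / φ j') ≤ 1 := fun i => (val_div_le_one_iff P hj'0).2 (hmax i)
    choose c hc using fun i => exists_const_sub_lt P hP1 (hxP i)
    have hPu : P.1 u = WithZero.exp (-1) := by rw [← htw, map_mul, hw1, mul_one, ht]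
    by_cases hex : ∃ i, P.1 (φ i / φ j' - algebraMap k K (c i)) = WithZero.exp (-1)
    · obtain ⟨i, hi⟩ := hex
      obtain ⟨h1, h2, h3⟩ := key j' hmax c hc i
      refine ⟨_, h1, h2, ?_⟩
      intro hmem
      have h4 := (mem_L_iff _ _).1 hmem P
      rw [h3, hi, ← WithZero.exp_add, WithZero.exp_le_exp, Finsupp.sub_apply,
        Finsupp.sub_apply, Finsupp.single_eq_same] at h4
      omega
    · exfalso
      push Not at hex
      have h2 : ∀ i, P.1 (φ i / φ j' - algebraMap k K (c i)) ≤ WithZero.exp (-2) := by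
        intro i
        by_cases h0 : φ i / φ j' - algebraMap k K (c i) = 0
        · rw [h0, map_zero]; exact zero_le'
        · have h1 := (ord_pos_iff P h0).2 (hc i)
          have h3 : P.ord (φ i / φ j' - algebraMap k K (c i)) ≠ 1 := by
            intro h1'
            apply hex i
            rw [val_eq_exp P h0, h1']
          rw [val_le_exp_iff P h0]
          omega
      obtain ⟨b, hb⟩ := adjoin_mod_sq P _ c h2 hu
      have hb0 : b = 0 := by
        apply (val_lt_one_iff_const P (lt_of_le_of_lt hb hexp2)).1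
        rw [hPu]; exact hexp1
      rw [hb0, map_zero, sub_zero, hPu, WithZero.exp_le_exp] at hb
      omega
  · obtain ⟨z, ⟨j', hj'0, hmax, u, hu, w, hw, hw1, hzw⟩, hQz⟩ := H1 Q hQ
    have hxP : ∀ i, P.1 (φ i / φ j') ≤ 1 := fun i => (val_div_le_one_iff P hj'0).2 (hmax i)
    choose c hc using fun i => exists_const_sub_lt P hP1 (hxP i)
    by_contra hcon
    push Not at hcon
    have hQt : ∀ i, Q.1 (φ i - c i • φ j') < WithZero.exp (M Q) := by
      intro i
      obtain ⟨h1, h2, -⟩ := key j' hmax c hc i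
      have h3 := (mem_L_iff _ _).1 (hcon _ h1 h2) Q
      rw [Finsupp.sub_apply, Finsupp.sub_apply, Finsupp.single_eq_same, Finsupp.single_apply,
        if_neg (Ne.symm hQ), sub_zero] at h3
      rw [lt_exp_iff_le]
      exact h3
    have hQj : Q.1 (φ j') = WithZero.exp (M Q) := by
      refine le_antisymm ((mem_L_iff _ _).1 (hφM j') Q) ?_
      by_contra hlt
      rw [not_le] at hlt
      obtain ⟨i₀, hi₀⟩ := exists_val_eq_mapDiv hK φ hφ0 Q
      rw [← hM] at hi₀
      have h2 : Q.1 (φ i₀) < WithZero.exp (M Q) := by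
        rw [← sub_add_cancel (φ i₀) (c i₀ • φ j')]
        refine Valuation.map_add_lt _ (hQt i₀) ?_
        rw [Algebra.smul_def, map_mul]
        calc Q.1 (algebraMap k K (c i₀)) * Q.1 (φ j') ≤ 1 * Q.1 (φ j') :=
              mul_le_mul' (Q.2.1 _) le_rfl
          _ = Q.1 (φ j') := one_mul _
          _ < WithZero.exp (M Q) := hlt
      rw [hi₀] at h2
      exact lt_irrefl _ h2
    have hQres : ∀ i, Q.1 (φ i / φ j' - algebraMap k K (c i)) < 1 := by
      intro i
      have hid : φ i / φ j' - algebraMap k K (c i) = (φ i - c i • φ j') / φ j' := by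
        rw [Algebra.smul_def, sub_div, mul_div_assoc, div_self hj'0, mul_one]
      rw [hid, map_div₀, hQj]
      exact (div_lt_one₀ WithZero.exp_pos).2 (hQt i)
    obtain ⟨bu, hbuP, hbuQ⟩ := adjoin_residue P Q (fun i => φ i / φ j') c hc hQres hu
    obtain ⟨bw, hbwP, hbwQ⟩ := adjoin_residue P Q (fun i => φ i / φ j') c hc hQres hw
    have hbw0 : bw ≠ 0 := by
      intro h0
      have := (val_lt_one_iff_const P hbwP).2 h0
      rw [hw1] at this
      exact lt_irrefl _ this
    have hQw : Q.1 w = 1 := val_eq_one_of_const_ne Q hbwQ hbw0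
    have hQz' : Q.1 z = Q.1 u := by rw [← hzw, map_mul, hQw, mul_one]
    rw [hQz'] at hQz
    exact absurd (val_le_one_of_sub_const Q hbuQ) (not_le.2 hQz)

/-- nonsingular ⟹ the hypotheses of `sep_of_loc` -/
theorem loc_of_nonsing (P : Place k K) {n : ℕ} (φ : Fin (n + 1) → K)
    (hns : IsNonsingularAt φ P) :
    (∀ Q : Place k K, Q ≠ P → ∃ z : K, InLocRing φ P z ∧ 1 < Q.1 z) ∧
      ∃ t : K, InLocRing φ P t ∧ P.1 t = WithZero.exp (-1) := by
  classical
  refine ⟨?_, ?_⟩
  · intro Q hQ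
    obtain ⟨u, hu1, hu2⟩ := exists_sep P {Q} (by
      rw [Finset.mem_singleton]
      exact fun h => hQ h.symm)
    exact ⟨u, hns u hu1.le, hu2 Q (Finset.mem_singleton_self Q)⟩
  · obtain ⟨π, hπ⟩ := P.2.2 (WithZero.exp (-1))
    exact ⟨π, hns π (by rw [hπ]; exact hexp1.le), hπ⟩

end Groth.Agent.Lib.lead.NS2
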