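import Mathlib
import Groth.Prelude.Def_W4bk4goldsch45
import Groth.Agent.Lib.lead.NS2

/-! Finiteness of the singular locus and the conductor of a birational projective map. -/

namespace Groth.Agent.Lib.lead.NS3
open FunFld Groth.Agent.Lib.lead.FF Groth.Agent.Lib.lead.FF2 Groth.Agent.Lib.lead.FF3
  Groth.Agent.Lib.lead.FF4
  Groth.Agent.Lib.lead.FF5 Groth.Agent.Lib.lead.FF6 Groth.Agent.Lib.lead.FF7
  Groth.Agent.Lib.lead.FF8 Groth.Agent.Lib.lead.FF9 Groth.Agent.Lib.lead.FF10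
  Groth.Agent.Lib.lead.FF11 Groth.Agent.Lib.lead.FF12 Groth.Agent.Lib.lead.FF13
  Groth.Agent.Lib.lead.FF14 Groth.Agent.Lib.lead.FF15 Groth.Agent.Lib.lead.FF16
  Groth.Agent.Lib.lead.FF17 Groth.Agent.Lib.lead.Loc Groth.Agent.Lib.lead.Emb
  Groth.Agent.Lib.lead.Emb2 Groth.Agent.Lib.lead.NS Groth.Agent.Lib.lead.NS2

variable {k K : Type*} [Field k] [Field K] [Algebra k K]

/-- the affine chart `φ_j ≠ 0` of a projective map -/
lemma chart_facts [IsAlgClosed k] (hK : IsFunctionField k K) {n : ℕ} (hn : 1 ≤ n)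
    (φ : Fin (n + 1) → K) (hφ : LinearIndependent k φ) (j : Fin (n + 1)) :
    ∃ E : Divisor k K, 0 ≤ E ∧ 1 ≤ E.deg ∧
      (∀ R : Place k K, E R = 0 ↔ ∀ i, R.1 (φ i) ≤ R.1 (φ j)) ∧
      Submodule.span k (Set.range fun i => φ i / φ j) ≤ L E ∧
      ∀ R : Place k K, ∃ t ∈ Submodule.span k (Set.range fun i => φ i / φ j),
        t ∉ L (E - Finsupp.single R 1) := by
  classical
  have hφ0 : ∀ i, φ i ≠ 0 := fun i => hφ.ne_zero i
  have hj0 := hφ0 j
  obtain ⟨M, hM⟩ : ∃ M : Divisor k K, M = mapDiv k φ := ⟨_, rfl⟩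
  obtain ⟨E, hE⟩ : ∃ E : Divisor k K, E = M + FunFld.div k (φ j) := ⟨_, rfl⟩
  have hLE : ∀ (X : Divisor k K) (y : K), y ∈ L (E - X) ↔ φ j * y ∈ L (M - X) := by
    intro X y
    rw [mul_mem_L_iff hK _ hj0]
    have h1 : M - X + FunFld.div k (φ j) = E - X := by rw [hE]; abel
    rw [h1]
  have hLE0 : ∀ y : K, y ∈ L E ↔ φ j * y ∈ L M := by
    intro y
    have := hLE 0 y
    rwa [sub_zero, sub_zero] at this
  obtain ⟨W, hW⟩ : ∃ W : Submodule k K,
      W = Submodule.span k (Set.range fun i => φ i / φ j) := ⟨_, rfl⟩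
  have hWmem : ∀ y : K, y ∈ W ↔ φ j * y ∈ Submodule.span k (Set.range φ) := by
    intro y
    rw [hW, Submodule.mem_span_range_iff_exists_fun, Submodule.mem_span_range_iff_exists_fun]
    constructor
    · rintro ⟨c, hc⟩
      refine ⟨c, ?_⟩
      rw [← hc, sum_smul_div, mul_div_cancel₀ _ hj0]
    · rintro ⟨c, hc⟩
      refine ⟨c, ?_⟩
      rw [sum_smul_div, hc, mul_div_cancel_left₀ _ hj0]
  have hspanM : Submodule.span k (Set.range φ) ≤ L M := by
    rw [hM]
    exact span_le_L_mapDiv hK φ hφ0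
  have hφM : ∀ i, φ i ∈ L M := fun i => hspanM (Submodule.subset_span ⟨i, rfl⟩)
  have hWE : W ≤ L E := by
    intro y hy
    rw [hLE0]
    exact hspanM ((hWmem y).1 hy)
  have hxW : ∀ i, φ i / φ j ∈ W := fun i => by
    rw [hW]
    exact Submodule.subset_span ⟨i, rfl⟩
  have h1E : (1 : K) ∈ L E := by
    rw [hLE0, mul_one]
    exact hφM j
  have hE0 : 0 ≤ E := by
    intro R
    have := (mem_L_iff _ _).1 h1E R
    rw [map_one, ← WithZero.exp_zero, WithZero.exp_le_exp] at this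
    simpa using this
  have hER : ∀ R : Place k K, E R = M R + R.ord (φ j) := fun R => by
    rw [hE, Finsupp.add_apply, div_apply hK]
  have hchart : ∀ R : Place k K, E R = 0 ↔ ∀ i, R.1 (φ i) ≤ R.1 (φ j) := by
    intro R
    constructor
    · intro h0 i
      have h1 := val_le_mapDiv hK φ hφ0 R i
      rw [← hM] at h1
      refine h1.trans ?_
      rw [val_eq_exp R hj0, WithZero.exp_le_exp]
      have := hER R
      omega
    · intro hjmax
      have hvalj := val_max_eq_mapDiv hK φ hφ0 R hjmax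
      rw [← hM, val_eq_exp R hj0, WithZero.exp_inj] at hvalj
      have := hER R
      omega
  have hb1 : ∀ R : Place k K, ∃ t ∈ W, t ∉ L (E - Finsupp.single R 1) := by
    intro R
    obtain ⟨i, hi⟩ := exists_val_eq_mapDiv hK φ hφ0 R
    rw [← hM] at hi
    refine ⟨φ i / φ j, hxW i, ?_⟩
    rw [hLE, mul_div_cancel₀ _ hj0]
    intro hmem
    have h1 := (mem_L_iff _ _).1 hmem R
    rw [hi, WithZero.exp_le_exp, Finsupp.sub_apply, Finsupp.single_eq_same] at h1
    omega
  have hdeg1 : 1 ≤ E.deg := by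
    by_contra hlt
    rw [not_le] at hlt
    have h1 := ell_sub_le hK hE0
    rw [ell_zero hK, deg_zero] at h1
    have h2 : ell E ≤ 1 := by
      have : (ell E : ℤ) ≤ 1 := by
        push_cast at h1
        linarith
      exact_mod_cast this
    haveI := L_finite hK E
    have h3 : L (0 : Divisor k K) = L E := by
      refine Submodule.eq_of_le_of_finrank_le (L_mono hE0) ?_
      have h4 : Module.finrank k ↥(L (0 : Divisor k K)) = 1 := ell_zero hK
      rw [h4]
      exact h2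
    obtain ⟨i, hij⟩ : ∃ i : Fin (n + 1), i ≠ j := by
      by_cases h : j = 0
      · refine ⟨Fin.last n, ?_⟩
        rw [h]
        intro h'
        have := congrArg Fin.val h'
        rw [Fin.val_last, Fin.val_zero] at this
        omega
      · exact ⟨0, fun h' => h h'.symm⟩
    have h5 : φ i / φ j ∈ L (0 : Divisor k K) := by
      rw [h3]
      exact hWE (hxW i)
    rw [L_zero hK, Submodule.mem_one] at h5
    obtain ⟨c, hc⟩ := h5
    have h6 : φ i = c • φ j := by
      rw [Algebra.smul_def, hc, div_mul_cancel₀ _ hj0]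
    have h7 := hφ.notMem_span_image (s := {j}) (x := i) (by simpa using hij)
    apply h7
    rw [Set.image_singleton, h6]
    exact Submodule.smul_mem _ _ (Submodule.subset_span rfl)
  refine ⟨E, hE0, hdeg1, hchart, ?_, ?_⟩
  · rw [← hW]
    exact hWE
  · rw [← hW]
    exact hb1

/-- a multiplier of `L(m₀E)` into `A` is a multiplier of every `L(mE)` -/
lemma grow [IsAlgClosed k] (hK : IsFunctionField k K) (E : Divisor k K) (hE0 : 0 ≤ E)
    (hdeg1 : 1 ≤ E.deg) (W : Submodule k K) (hWE : W ≤ L E)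
    (hb1 : ∀ R : Place k K, ∃ t ∈ W, t ∉ L (E - Finsupp.single R 1)) (R₀ : Place k K)
    (m₀ : ℕ) (hc1 : 2 * (genus k K : ℤ) - 1 ≤ ((m₀ : ℤ) - 1) * E.deg)
    (A : Subalgebra k K) (hWA : ∀ y ∈ W, y ∈ A) (r : K)
    (hr : ∀ b ∈ L (m₀ • E), r * b ∈ A) :
    ∀ m : ℕ, ∀ b ∈ L (m • E), r * b ∈ A := by
  classical
  have hg0 : (0 : ℤ) ≤ genus k K := Nat.cast_nonneg _
  obtain ⟨s, t, hsW, htW, hs0, hst⟩ := exists_pencil_sub hK E W hWE R₀ hb1
  have hs : s ∈ L E := hWE hsW
  have ht : t ∈ L E := hWE htW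
  have h3a : ∀ m : ℕ, m₀ ≤ m → ∀ y ∈ L ((m + 1) • E),
      ∃ a ∈ L (m • E), ∃ b ∈ L (m • E), y = s * a + t * b := by
    intro m hm y hy
    rw [succ_nsmul] at hy
    refine castelnuovo hK E (m • E) hs ht hs0 hst (by linarith) ?_ hy
    rw [Emb.deg_nsmul]
    have h2 : (m₀ : ℤ) ≤ m := by exact_mod_cast hm
    have h3 : ((m₀ : ℤ) - 1) * E.deg ≤ ((m : ℤ) - 1) * E.deg :=
      mul_le_mul_of_nonneg_right (by linarith) (by linarith)
    linarith
  intro m
  induction m with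
  | zero =>
    intro b hb
    exact hr b (L_mono (nsmul_le_nsmul_left hE0 (by omega)) hb)
  | succ m ih =>
    intro b hb
    by_cases hm : m + 1 ≤ m₀
    · exact hr b (L_mono (nsmul_le_nsmul_left hE0 hm) hb)
    · obtain ⟨a1, ha1, b1, hb1', hdec⟩ := h3a m (by omega) b hb
      have e1 : r * b = s * (r * a1) + t * (r * b1) := by
        rw [hdec]
        ring
      rw [e1]
      exact A.add_mem (A.mul_mem (hWA s hsW) (ih a1 ha1)) (A.mul_mem (hWA t htW) (ih b1 hb1'))

/-- with a multiplier that is a unit at `P`, the local ring at `P` is the valuation ring -/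
lemma loc_of_den [IsAlgClosed k] (hK : IsFunctionField k K) (E : Divisor k K) (P : Place k K)
    (hE0 : 0 ≤ E) (hEP : E P = 0) (hdeg1 : 1 ≤ E.deg) (A : Subalgebra k K) (r : K)
    (hrP : P.1 r = 1) (hrLm : ∀ m : ℕ, ∀ b ∈ L (m • E), r * b ∈ A) (z : K) (hz : P.1 z ≤ 1) :
    ∃ u ∈ A, ∃ w ∈ A, P.1 w = 1 ∧ z * w = u := by
  classical
  have hg0 : (0 : ℤ) ≤ genus k K := Nat.cast_nonneg _
  by_cases hz0 : z = 0
  · exact ⟨0, A.zero_mem, 1, A.one_mem, map_one _, by rw [hz0, zero_mul]⟩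
  obtain ⟨c₀, hc₀⟩ : ∃ c₀ : ℤ, c₀ = FunFld.Divisor.deg (0 ⊓ FunFld.div k z) := ⟨_, rfl⟩
  obtain ⟨m, hm⟩ : ∃ m : ℕ, 2 * (genus k K : ℤ) - c₀ ≤ m := ⟨_, Int.self_le_toNat _⟩
  obtain ⟨G, hG⟩ : ∃ G : Divisor k K, G = m • E + (0 ⊓ FunFld.div k z) := ⟨_, rfl⟩
  have hGdeg : 2 * (genus k K : ℤ) ≤ G.deg := by
    rw [hG, deg_add, Emb.deg_nsmul, ← hc₀]
    have h1 : (0 : ℤ) ≤ m := Nat.cast_nonneg _
    have h2 : (m : ℤ) * 1 ≤ m * E.deg := mul_le_mul_of_nonneg_left (by linarith) h1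
    linarith
  have hordz : 0 ≤ P.ord z := by
    have := (val_le_exp_iff P hz0 0).1 (by rw [WithZero.exp_zero]; exact hz)
    simpa using this
  have hGP : G P = 0 := by
    rw [hG, Finsupp.add_apply, Finsupp.smul_apply, hEP, smul_zero, zero_add, Finsupp.inf_apply,
      Finsupp.zero_apply, div_apply hK z P]
    exact inf_eq_left.2 hordz
  obtain ⟨b₂, hb₂, hb₂n⟩ := ell_sub_single_lt hK G hGdeg P
  have hb₂P : P.1 b₂ = 1 := by
    rw [val_eq_of_mem_not_mem hb₂ hb₂n, hGP, WithZero.exp_zero]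
  have hb₂m : b₂ ∈ L (m • E) := by
    refine L_mono ?_ hb₂
    rw [hG]
    calc m • E + (0 ⊓ FunFld.div k z) ≤ m • E + 0 := add_le_add le_rfl inf_le_left
      _ = m • E := add_zero _
  have hzb₂ : z * b₂ ∈ L (m • E) := by
    rw [mul_mem_L_iff hK (m • E) hz0]
    refine L_mono ?_ hb₂
    rw [hG]
    exact add_le_add le_rfl inf_le_right
  refine ⟨r * (z * b₂), hrLm m _ hzb₂, r * b₂, hrLm m _ hb₂m, ?_, by ring⟩
  rw [map_mul, hrP, hb₂P, one_mul]

lemma exists_den_elt (S : Set K) (hS : IntermediateField.adjoin k S = ⊤) (b : K) :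
    ∃ d ∈ Algebra.adjoin k S, d ≠ 0 ∧ d * b ∈ Algebra.adjoin k S := by
  have hb : b ∈ IntermediateField.adjoin k S := by
    rw [hS]
    exact IntermediateField.mem_top
  obtain ⟨r, hr, s, hs, rfl⟩ := IntermediateField.mem_adjoin_iff_div.1 hb
  by_cases hs0 : s = 0
  · refine ⟨1, Subalgebra.one_mem _, one_ne_zero, ?_⟩
    rw [hs0, div_zero, mul_zero]
    exact Subalgebra.zero_mem _
  · refine ⟨s, hs, hs0, ?_⟩
    rw [mul_div_cancel₀ _ hs0]
    exact hr

/-- a common denominator for a finite-dimensional space -/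
lemma exists_den (S : Set K) (hS : IntermediateField.adjoin k S = ⊤) (V : Submodule k K)
    [Module.Finite k ↥V] :
    ∃ q ∈ Algebra.adjoin k S, q ≠ 0 ∧ ∀ b ∈ V, q * b ∈ Algebra.adjoin k S := by
  classical
  obtain ⟨T, hT⟩ := (Submodule.fg_top V).1 Module.Finite.fg_top
  choose d hdA hd0 hdb using fun b : K => exists_den_elt (k := k) S hS b
  refine ⟨∏ b ∈ T, d b, Subalgebra.prod_mem _ fun b _ => hdA b,
    Finset.prod_ne_zero_iff.2 fun b _ => hd0 b, ?_⟩
  intro b hb
  rw [← hT] at hb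
  induction hb using Submodule.span_induction with
  | mem b hb =>
    rw [← Finset.mul_prod_erase T d (Finset.mem_coe.1 hb), mul_comm (d b), mul_assoc]
    exact Subalgebra.mul_mem _ (Subalgebra.prod_mem _ fun b' _ => hdA b') (hdb b)
  | zero =>
    rw [mul_zero]
    exact Subalgebra.zero_mem _
  | add x y _ _ hx hy =>
    rw [mul_add]
    exact Subalgebra.add_mem _ hx hy
  | smul c x _ hx =>
    rw [mul_smul_comm]
    exact Subalgebra.smul_mem _ hx c

lemma adjoin_chart_top {n : ℕ} (φ : Fin (n + 1) → K) (hφ0 : ∀ i, φ i ≠ 0)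
    (hbir : IntermediateField.adjoin k (Set.range fun i => φ i / φ 0) = ⊤) (j : Fin (n + 1)) :
    IntermediateField.adjoin k (Set.range fun i => φ i / φ j) = ⊤ := by
  rw [eq_top_iff, ← hbir, IntermediateField.adjoin_le_iff]
  rintro _ ⟨i, rfl⟩
  have h1 : φ i / φ j ∈ IntermediateField.adjoin k (Set.range fun i => φ i / φ j) :=
    IntermediateField.subset_adjoin k _ ⟨i, rfl⟩
  have h2 : φ 0 / φ j ∈ IntermediateField.adjoin k (Set.range fun i => φ i / φ j) :=
    IntermediateField.subset_adjoin k _ ⟨0, rfl⟩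
  have h3 : φ i / φ 0 = (φ i / φ j) / (φ 0 / φ j) :=
    (div_div_div_cancel_right₀ (hφ0 j) _ _).symm
  show φ i / φ 0 ∈ IntermediateField.adjoin k (Set.range fun i => φ i / φ j)
  rw [h3]
  exact IntermediateField.div_mem _ h1 h2

/-- on each chart there is a nonzero element of the coordinate ring multiplying the whole
integral closure into the coordinate ring -/
lemma chart_den [IsAlgClosed k] (hK : IsFunctionField k K) {n : ℕ} (hn : 1 ≤ n)
    (φ : Fin (n + 1) → K) (hφ : LinearIndependent k φ)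
    (hbir : IntermediateField.adjoin k (Set.range fun i => φ i / φ 0) = ⊤) (j : Fin (n + 1)) :
    ∃ (E : Divisor k K) (q : K), 0 ≤ E ∧ 1 ≤ E.deg ∧
      (∀ R : Place k K, E R = 0 ↔ ∀ i, R.1 (φ i) ≤ R.1 (φ j)) ∧ q ≠ 0 ∧
      q ∈ Algebra.adjoin k (Set.range fun i => φ i / φ j) ∧
      ∀ m : ℕ, ∀ b ∈ L (m • E), q * b ∈ Algebra.adjoin k (Set.range fun i => φ i / φ j) := by
  classical
  have hg0 : (0 : ℤ) ≤ genus k K := Nat.cast_nonneg _
  have hφ0 : ∀ i, φ i ≠ 0 := fun i => hφ.ne_zero i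
  obtain ⟨E, hE0, hdeg1, hchart, hWE, hb1⟩ := chart_facts hK hn φ hφ j
  have htop := adjoin_chart_top φ hφ0 hbir j
  haveI := L_finite hK ((2 * genus k K + 1) • E)
  obtain ⟨q, hqA, hq0, hq⟩ := exists_den (k := k) _ htop (L ((2 * genus k K + 1) • E))
  have hWA : ∀ y ∈ Submodule.span k (Set.range fun i => φ i / φ j),
      y ∈ Algebra.adjoin k (Set.range fun i => φ i / φ j) := by
    intro y hy
    have h1 : Submodule.span k (Set.range fun i => φ i / φ j) ≤
        Subalgebra.toSubmodule (Algebra.adjoin k (Set.range fun i => φ i / φ j)) :=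
      Submodule.span_le.2 Algebra.subset_adjoin
    exact h1 hy
  have hc1 : 2 * (genus k K : ℤ) - 1 ≤ (((2 * genus k K + 1 : ℕ) : ℤ) - 1) * E.deg := by
    have h : 2 * (genus k K : ℤ) * 1 ≤ 2 * (genus k K : ℤ) * E.deg :=
      mul_le_mul_of_nonneg_left hdeg1 (by linarith)
    push_cast
    linarith
  haveI := infinite_places hK
  obtain ⟨R₀⟩ : Nonempty (Place k K) := inferInstance
  exact ⟨E, q, hE0, hdeg1, hchart, hq0, hqA,
    grow hK E hE0 hdeg1 _ hWE hb1 R₀ (2 * genus k K + 1) hc1 _ hWA q hq⟩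

/-- an element regular on the chart lies in some `L(mE)` -/
lemma mem_L_nsmul_of_regular (hK : IsFunctionField k K) (E : Divisor k K) (hE0 : 0 ≤ E) (x : K)
    (hreg : ∀ R : Place k K, E R = 0 → R.1 x ≤ 1) : ∃ m : ℕ, x ∈ L (m • E) := by
  classical
  by_cases hx0 : x = 0
  · exact ⟨0, by rw [hx0]; exact Submodule.zero_mem _⟩
  have hER0 : ∀ R : Place k K, (0 : ℤ) ≤ E R := fun R => by
    have := hE0 R
    simpa using this
  obtain ⟨S, hS⟩ : ∃ S : Finset (Place k K), ∀ R, R ∈ S ↔ R.ord x ≠ 0 :=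
    ⟨(finite_support_ord hK x).toFinset, fun R => by
      rw [Set.Finite.mem_toFinset, Function.mem_support]⟩
  obtain ⟨m, hm⟩ : ∃ m : ℕ, m = ∑ R ∈ S, (R.ord x).natAbs := ⟨_, rfl⟩
  refine ⟨m, (mem_L_iff _ _).2 fun R => ?_⟩
  rw [nsmul_apply']
  by_cases hER : E R = 0
  · rw [hER, mul_zero, WithZero.exp_zero]
    exact hreg R hER
  · have hER1 : 1 ≤ E R := by
      have := hER0 R
      omega
    rw [val_le_exp_iff R hx0]
    have h2 : (m : ℤ) * 1 ≤ m * E R := mul_le_mul_of_nonneg_left hER1 (Nat.cast_nonneg _)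
    by_cases hRS : R ∈ S
    · have h1 : (R.ord x).natAbs ≤ m := by
        rw [hm]
        exact Finset.single_le_sum (f := fun R : Place k K => (R.ord x).natAbs)
          (fun _ _ => Nat.zero_le _) hRS
      have h3 : -(R.ord x) ≤ ((R.ord x).natAbs : ℤ) := by omega
      have h1' : ((R.ord x).natAbs : ℤ) ≤ (m : ℤ) := by exact_mod_cast h1
      linarith
    · have h0 : R.ord x = 0 := by
        by_contra h
        exact hRS ((hS R).2 h)
      rw [h0]
      have : (0 : ℤ) ≤ (m : ℤ) := Nat.cast_nonneg _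
      linarith

/-- a birational projective map is nonsingular at all but finitely many places -/
theorem finite_sing [IsAlgClosed k] (hK : IsFunctionField k K) {n : ℕ} (hn : 1 ≤ n)
    (φ : Fin (n + 1) → K) (hφ : LinearIndependent k φ)
    (hbir : IntermediateField.adjoin k (Set.range fun i => φ i / φ 0) = ⊤) :
    {P : Place k K | ¬ IsNonsingularAt φ P}.Finite := by
  classical
  have hφ0 : ∀ i, φ i ≠ 0 := fun i => hφ.ne_zero i
  choose E q hE0 hdeg1 hchart hq0 hqA hq using fun j => chart_den hK hn φ hφ hbir j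
  refine Set.Finite.subset (Set.finite_iUnion fun j => finite_support_ord hK (q j)) ?_
  intro P hP
  rw [Set.mem_setOf_eq] at hP
  obtain ⟨j, hjmax⟩ := exists_max_index P φ
  rw [Set.mem_iUnion]
  refine ⟨j, ?_⟩
  rw [Function.mem_support]
  intro hord
  apply hP
  intro z hz
  have hEP : E j P = 0 := (hchart j P).2 hjmax
  have hqP : P.1 (q j) = 1 := by
    rw [val_eq_exp P (hq0 j), hord, neg_zero, WithZero.exp_zero]
  obtain ⟨u, hu, w, hw, hw1, hzw⟩ :=
    loc_of_den hK (E j) P (hE0 j) hEP (hdeg1 j) _ (q j) hqP (hq j) z hz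
  exact ⟨j, hφ0 j, hjmax, u, hu, w, hw, hw1, hzw⟩

/-- the conductor: functions vanishing to high order on the fibre lie in the local ring -/
theorem conductor [IsAlgClosed k] (hK : IsFunctionField k K) {n : ℕ} (hn : 1 ≤ n)
    (φ : Fin (n + 1) → K) (hφ : LinearIndependent k φ)
    (hbir : IntermediateField.adjoin k (Set.range fun i => φ i / φ 0) = ⊤) (P : Place k K)
    (hfin : {Q : Place k K | SameImage φ P Q}.Finite) :
    ∃ N : ℕ, ∀ z : K,
      (∀ Q : Place k K, SameImage φ P Q → Q.1 z ≤ WithZero.exp (-(N : ℤ))) →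
        InLocRing φ P z := by
  classical
  have hφ0 : ∀ i, φ i ≠ 0 := fun i => hφ.ne_zero i
  obtain ⟨j, hjmax⟩ := exists_max_index P φ
  have hj0 := hφ0 j
  obtain ⟨E, q, hE0, hdeg1, hchart, hq0, hqA, hq⟩ := chart_den hK hn φ hφ hbir j
  have hEP : E P = 0 := (hchart P).2 hjmax
  obtain ⟨A, hA⟩ : ∃ A : Subalgebra k K,
      A = Algebra.adjoin k (Set.range fun i => φ i / φ j) := ⟨_, rfl⟩
  rw [← hA] at hqA hq
  have hAreg : ∀ R : Place k K, E R = 0 → ∀ a ∈ A, R.1 a ≤ 1 := fun R hR a ha => by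
    rw [hA] at ha
    exact adjoin_val_le_one R φ hj0 ((hchart R).1 hR) a ha
  obtain ⟨N, hN⟩ : ∃ N : ℕ, N = ∑ Q ∈ hfin.toFinset, (Q.ord q).natAbs := ⟨_, rfl⟩
  refine ⟨N, fun z hz => ?_⟩
  obtain ⟨z', hz'⟩ : ∃ z' : K, z' = z / q := ⟨_, rfl⟩
  have hzq : z = q * z' := by rw [hz', mul_div_cancel₀ _ hq0]
  have hfib : ∀ Q : Place k K, SameImage φ P Q → Q.1 z' ≤ 1 := by
    intro Q hQ
    have h1 := hz Q hQ
    have hQm : Q ∈ hfin.toFinset := (Set.Finite.mem_toFinset hfin).2 hQ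
    have h2 : (Q.ord q).natAbs ≤ N := by
      rw [hN]
      exact Finset.single_le_sum (f := fun Q : Place k K => (Q.ord q).natAbs)
        (fun _ _ => Nat.zero_le _) hQm
    rw [hz', map_div₀, div_le_one₀ (zero_lt_iff.2 (val_ne_zero Q hq0))]
    refine h1.trans ?_
    rw [val_eq_exp Q hq0, WithZero.exp_le_exp]
    omega
  by_cases hz'0 : z' = 0
  · have hz0 : z = 0 := by rw [hzq, hz'0, mul_zero]
    exact ⟨j, hj0, hjmax, 0, Subalgebra.zero_mem _, 1, Subalgebra.one_mem _, map_one _, by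
      rw [hz0, zero_mul]⟩
  obtain ⟨T, hT⟩ : ∃ T : Finset (Place k K), ∀ R, R ∈ T ↔ (E R = 0 ∧ 1 < R.1 z') := by
    refine ⟨(finite_support_ord hK z').toFinset.filter (fun R => E R = 0 ∧ 1 < R.1 z'),
      fun R => ?_⟩
    rw [Finset.mem_filter, Set.Finite.mem_toFinset, Function.mem_support]
    constructor
    · exact fun h => h.2
    · intro h
      refine ⟨?_, h⟩
      have := (ord_neg_iff R hz'0).2 h.2
      omega
  have hsep : ∀ R ∈ T, ∃ h ∈ A, R.1 h < 1 ∧ P.1 h = 1 := by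
    intro R hR
    obtain ⟨hER, hRz⟩ := (hT R).1 hR
    by_contra hcon
    push Not at hcon
    have hRmax := (hchart R).1 hER
    have hsame : SameImage φ P R := by
      refine ⟨j, hj0, hjmax, hRmax, fun i => ?_⟩
      obtain ⟨c, hc⟩ := exists_const_sub_lt R (deg_eq_one hK R)
        ((val_div_le_one_iff R hj0).2 (hRmax i))
      refine ⟨c, ?_, hc⟩
      have hmemA : φ i / φ j - algebraMap k K c ∈ A := by
        rw [hA]
        exact Subalgebra.sub_mem _
          (Algebra.subset_adjoin (show φ i / φ j ∈ Set.range (fun i => φ i / φ j) from ⟨i, rfl⟩))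
          (Subalgebra.algebraMap_mem _ c)
      exact lt_of_le_of_ne (hAreg P hEP _ hmemA) (hcon _ hmemA hc)
    exact absurd (hfib R hsame) (not_le.2 hRz)
  choose! h hhA hhR hhP using hsep
  obtain ⟨w₁, hw₁⟩ : ∃ w₁ : K, w₁ = ∏ R ∈ T, h R ^ (R.ord z').natAbs := ⟨_, rfl⟩
  have hw₁A : w₁ ∈ A := by
    rw [hw₁]
    exact Subalgebra.prod_mem _ fun R hR => Subalgebra.pow_mem _ (hhA R hR) _
  have hw₁P : P.1 w₁ = 1 := by
    rw [hw₁, map_prod]
    exact Finset.prod_eq_one fun R hR => by rw [map_pow, hhP R hR, one_pow]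
  have hreg : ∀ R : Place k K, E R = 0 → R.1 (w₁ * z') ≤ 1 := by
    intro R hER
    by_cases hRT : R ∈ T
    · have hsplit : w₁ = h R ^ (R.ord z').natAbs *
          ∏ x ∈ T.erase R, h x ^ (x.ord z').natAbs := by
        rw [hw₁]
        exact (Finset.mul_prod_erase T (fun x => h x ^ (x.ord z').natAbs) hRT).symm
      have h1 : R.1 (∏ x ∈ T.erase R, h x ^ (x.ord z').natAbs) ≤ 1 :=
        hAreg R hER _ (Subalgebra.prod_mem _ fun x hx =>
          Subalgebra.pow_mem _ (hhA x (Finset.mem_of_mem_erase hx)) _)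
      have h2 : R.1 (h R) ≤ WithZero.exp (-1) := by
        have := (lt_exp_iff_le R (h R) 0).1 (by rw [WithZero.exp_zero]; exact hhR R hRT)
        simpa using this
      have h3 : R.1 (h R) ^ (R.ord z').natAbs ≤ WithZero.exp (-((R.ord z').natAbs : ℤ)) := by
        calc R.1 (h R) ^ (R.ord z').natAbs
            ≤ (WithZero.exp (-1)) ^ (R.ord z').natAbs := pow_le_pow_left' h2 _
          _ = WithZero.exp (-((R.ord z').natAbs : ℤ)) := by
            rw [← WithZero.exp_nsmul, nsmul_eq_mul, mul_neg, mul_one]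
      have h4 : R.1 z' = WithZero.exp (-(R.ord z')) := val_eq_exp R hz'0
      rw [hsplit, map_mul, map_mul, map_pow]
      calc R.1 (h R) ^ (R.ord z').natAbs * R.1 (∏ x ∈ T.erase R, h x ^ (x.ord z').natAbs) * R.1 z'
          ≤ WithZero.exp (-((R.ord z').natAbs : ℤ)) * 1 * WithZero.exp (-(R.ord z')) :=
            mul_le_mul' (mul_le_mul' h3 h1) h4.le
        _ = WithZero.exp (-((R.ord z').natAbs : ℤ) + -(R.ord z')) := by
            rw [mul_one, ← WithZero.exp_add]
        _ ≤ 1 := by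
            rw [← WithZero.exp_zero, WithZero.exp_le_exp]
            omega
    · have h1 : R.1 z' ≤ 1 := by
        by_contra hlt
        exact hRT ((hT R).2 ⟨hER, not_le.1 hlt⟩)
      rw [map_mul]
      exact mul_le_one' (hAreg R hER _ hw₁A) h1
  obtain ⟨m, hm⟩ := mem_L_nsmul_of_regular hK E hE0 (w₁ * z') hreg
  have hu : q * (w₁ * z') ∈ A := hq m _ hm
  refine ⟨j, hj0, hjmax, q * (w₁ * z'), ?_, w₁, ?_, hw₁P, ?_⟩
  · rw [← hA]
    exact hu
  · rw [← hA]
    exact hw₁A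
  · rw [hzq]
    ring

end Groth.Agent.Lib.lead.NS3
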