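import Mathlib
import Groth.Prelude.Def_W4bk4goldsch45
import Groth.Agent.Lib.lead.NS3

/-! The equation of a plane model in general position has total degree `[K : k(z)]`. -/

namespace Groth.Agent.Lib.lead.Pl2
open FunFld Groth.Agent.Lib.lead.FF Groth.Agent.Lib.lead.FF2 Groth.Agent.Lib.lead.FF3
  Groth.Agent.Lib.lead.FF4
  Groth.Agent.Lib.lead.FF5 Groth.Agent.Lib.lead.FF6 Groth.Agent.Lib.lead.FF7
  Groth.Agent.Lib.lead.FF8 Groth.Agent.Lib.lead.FF9 Groth.Agent.Lib.lead.FF10
  Groth.Agent.Lib.lead.FF11 Groth.Agent.Lib.lead.FF12 Groth.Agent.Lib.lead.FF13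
  Groth.Agent.Lib.lead.FF14 Groth.Agent.Lib.lead.FF15 Groth.Agent.Lib.lead.FF16
  Groth.Agent.Lib.lead.FF17 Groth.Agent.Lib.lead.Loc Groth.Agent.Lib.lead.Emb
  Groth.Agent.Lib.lead.Emb2 Groth.Agent.Lib.lead.NS Groth.Agent.Lib.lead.NS2
  Groth.Agent.Lib.lead.NS3

variable {k K : Type*} [Field k] [Field K] [Algebra k K]

/-- integrality over `k[u]` from regularity at the places where `u` is regular -/
lemma integral_of_places (hK : IsFunctionField k K) (u v : K)
    (h : ∀ P : Place k K, P.1 u ≤ 1 → P.1 v ≤ 1) :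
    IsIntegral (Algebra.adjoin k ({u} : Set K)) v := by
  classical
  by_contra hni
  have hvR : v ∉ (integralClosure (Algebra.adjoin k ({u} : Set K)) K).toSubring :=
    fun hv => hni hv
  obtain ⟨V, hRV, hvV⟩ := Subring.exists_le_valuationSubring_of_isIntegrallyClosedIn hvR
  have hAV : ∀ x ∈ Algebra.adjoin k ({u} : Set K), x ∈ V := by
    intro x hx
    apply hRV
    show IsIntegral (Algebra.adjoin k ({u} : Set K)) x
    exact isIntegral_algebraMap (R := Algebra.adjoin k ({u} : Set K)) (A := K) (x := ⟨x, hx⟩)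
  have hk : ∀ c : k, algebraMap k K c ∈ V := fun c => hAV _ (Subalgebra.algebraMap_mem _ c)
  have huV : u ∈ V := hAV _ (Algebra.self_mem_adjoin_singleton k u)
  have hv0 : v ≠ 0 := by
    rintro rfl
    exact hvV V.zero_mem
  have hvinv : V.valuation v⁻¹ < 1 := by
    have h1 : ¬ V.valuation v ≤ 1 := fun h => hvV ((V.valuation_le_one_iff v).1 h)
    rw [map_inv₀]
    exact inv_lt_one_of_one_lt₀ (not_le.1 h1)
  obtain ⟨P, hP⟩ := exists_place hK V hk (inv_ne_zero hv0) hvinv
  have hPu : P.1 u ≤ 1 := (hP u).1.2 huV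
  exact hvV ((hP v).1.1 (h P hPu))

open IntermediateField.algebraAdjoinAdjoin in
/-- Gauss: the minimal polynomial over `k(u)` of an element integral over `k[u]` has coefficients
in `k[u]` -/
lemma gauss (u v : K) (hu : Transcendental k u)
    (hint : IsIntegral (Algebra.adjoin k ({u} : Set K)) v) (i : ℕ) :
    ∃ p : Polynomial k,
      (((minpoly (IntermediateField.adjoin k ({u} : Set K)) v).coeff i :
        IntermediateField.adjoin k ({u} : Set K)) : K) = Polynomial.aeval u p := by
  haveI : IsIntegrallyClosed (Algebra.adjoin k ({u} : Set K)) := by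
    have hinj : Function.Injective (Polynomial.aeval u : Polynomial k →ₐ[k] K) :=
      transcendental_iff_injective.1 hu
    let f : Polynomial k →ₐ[k] ↥(Algebra.adjoin k ({u} : Set K)) :=
      (Polynomial.aeval u : Polynomial k →ₐ[k] K).codRestrict _ (fun p => by
        rw [Algebra.adjoin_singleton_eq_range_aeval]
        exact ⟨p, rfl⟩)
    have hf : Function.Bijective f := by
      constructor
      · intro a b hab
        apply hinj
        exact congrArg Subtype.val hab
      · rintro ⟨x, hx⟩
        have hx' := hx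
        rw [Algebra.adjoin_singleton_eq_range_aeval] at hx'
        obtain ⟨p, hp⟩ := hx'
        exact ⟨p, Subtype.ext hp⟩
    exact IsIntegrallyClosed.of_equiv (RingEquiv.ofBijective f hf)
  have h1 := minpoly.isIntegrallyClosed_eq_field_fractions'
    (IntermediateField.adjoin k ({u} : Set K)) hint
  rw [h1, Polynomial.coeff_map]
  have ha : (((minpoly (Algebra.adjoin k ({u} : Set K)) v).coeff i :
      Algebra.adjoin k ({u} : Set K)) : K) ∈ (Polynomial.aeval u : Polynomial k →ₐ[k] K).range := by
    rw [← Algebra.adjoin_singleton_eq_range_aeval]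
    exact ((minpoly (Algebra.adjoin k ({u} : Set K)) v).coeff i).2
  obtain ⟨p, hp⟩ := ha
  exact ⟨p, hp.symm⟩

lemma gauss' (u v : K) (hu : Transcendental k u)
    (hint : IsIntegral (Algebra.adjoin k ({u} : Set K)) v) (F : IntermediateField k K)
    (hF : F = IntermediateField.adjoin k ({u} : Set K)) (i : ℕ) :
    ∃ p : Polynomial k, (((minpoly F v).coeff i : F) : K) = Polynomial.aeval u p := by
  subst hF
  exact gauss u v hu hint i

lemma val_aeval_le (P : Place k K) {s : K} (hs : P.1 s ≤ 1) (q : Polynomial k) :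
    P.1 (Polynomial.aeval s q) ≤ 1 := by
  rw [Polynomial.aeval_eq_sum_range]
  apply Valuation.map_sum_le
  intro i _
  rw [Algebra.smul_def, map_mul, map_pow]
  exact mul_le_one' (P.2.1 _) (pow_le_one' hs i)

lemma val_aeval_pole (P : Place k K) {z : K} (hz : 1 < P.1 z) (p : Polynomial k) (hp : p ≠ 0) :
    P.1 (Polynomial.aeval z p) = P.1 z ^ p.natDegree := by
  have hlc : p.leadingCoeff ≠ 0 := Polynomial.leadingCoeff_ne_zero.2 hp
  rw [Polynomial.aeval_eq_sum_range, Finset.sum_range_succ]
  have htop : P.1 (p.coeff p.natDegree • z ^ p.natDegree) = P.1 z ^ p.natDegree := by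
    rw [Algebra.smul_def, map_mul, map_pow, Polynomial.coeff_natDegree, val_algebraMap P hlc,
      one_mul]
  have hz0 : P.1 z ≠ 0 := ne_of_gt (lt_trans zero_lt_one hz)
  have hlow : P.1 (∑ i ∈ Finset.range p.natDegree, p.coeff i • z ^ i) <
      P.1 (p.coeff p.natDegree • z ^ p.natDegree) := by
    rw [htop]
    apply Valuation.map_sum_lt _ (pow_ne_zero _ hz0)
    intro i hi
    rw [Algebra.smul_def, map_mul, map_pow]
    calc P.1 (algebraMap k K (p.coeff i)) * P.1 z ^ i ≤ 1 * P.1 z ^ i :=
          mul_le_mul' (P.2.1 _) le_rfl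
      _ = P.1 z ^ i := one_mul _
      _ < P.1 z ^ p.natDegree := pow_lt_pow_right₀ hz (Finset.mem_range.1 hi)
  rw [add_comm, Valuation.map_add_eq_of_lt_left _ hlow, htop]

lemma int_lemma (hK : IsFunctionField k K) {z : K} (hz : Transcendental k z)
    (p q : Polynomial k) (i : ℕ)
    (h : Polynomial.aeval z p = Polynomial.aeval z⁻¹ q * z ^ i) : p.natDegree ≤ i := by
  by_cases hp : p = 0
  · rw [hp]
    simp
  have hzc : z ∉ Set.range (algebraMap k K) := by
    rintro ⟨c, hc⟩
    exact hz (hc ▸ isAlgebraic_algebraMap c)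
  obtain ⟨-, P, hP⟩ := exists_zero_and_pole hK hzc
  have h1 := val_aeval_pole P hP p hp
  have h2 : P.1 (Polynomial.aeval z⁻¹ q) ≤ 1 :=
    val_aeval_le P (by rw [map_inv₀]; exact (inv_lt_one_of_one_lt₀ hP).le) q
  rw [h, map_mul, map_pow] at h1
  have h3 : P.1 z ^ p.natDegree ≤ P.1 z ^ i := by
    rw [← h1]
    exact (mul_le_mul' h2 le_rfl).trans_eq (one_mul _)
  exact (pow_le_pow_iff_right₀ hP).1 h3

open IntermediateField.algebraAdjoinAdjoin in
/-- the top power of `y` is a combination of monomials of total degree at most `N` -/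
theorem top_relation (hK : IsFunctionField k K) (z y : K) (hz : Transcendental k z)
    (h1 : ∀ P : Place k K, P.1 z ≤ 1 → P.1 y ≤ 1)
    (h2 : ∀ P : Place k K, 1 < P.1 z → P.1 y ≤ P.1 z)
    (N : ℕ) (hN : (minpoly (IntermediateField.adjoin k ({z} : Set K)) y).natDegree = N) :
    y ^ N ∈ Submodule.span k {w : K | ∃ a b : ℕ, b < N ∧ a + b ≤ N ∧ w = z ^ a * y ^ b} := by
  classical
  have hz0 : z ≠ 0 := ne_zero_of_transcendental hz
  haveI hfd := finite_of_transcendental hK hz
  have hyint : IsIntegral (Algebra.adjoin k ({z} : Set K)) y := integral_of_places hK z y h1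
  have htint : IsIntegral (Algebra.adjoin k ({z⁻¹} : Set K)) (y / z) := by
    apply integral_of_places hK z⁻¹ (y / z)
    intro P hP
    have hz1 : 1 ≤ P.1 z := by
      rw [map_inv₀] at hP
      exact (inv_le_one₀ (zero_lt_iff.2 (val_ne_zero P hz0))).1 hP
    rw [val_div_le_one_iff P hz0]
    rcases hz1.lt_or_eq with hlt | heq
    · exact h2 P hlt
    · rw [← heq]
      exact h1 P heq.ge
  have hpy : ∀ i, ∃ p : Polynomial k,
      (((minpoly (IntermediateField.adjoin k ({z} : Set K)) y).coeff i :
        IntermediateField.adjoin k ({z} : Set K)) : K) = Polynomial.aeval z p :=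
    fun i => gauss z y hz hyint i
  have hqt : ∀ i, ∃ q : Polynomial k,
      (((minpoly (IntermediateField.adjoin k ({z} : Set K)) (y / z)).coeff i :
        IntermediateField.adjoin k ({z} : Set K)) : K) = Polynomial.aeval z⁻¹ q :=
    fun i => gauss' z⁻¹ (y / z) (transcendental_inv hz) htint _ (adjoin_inv z).symm i
  obtain ⟨zF, hzF⟩ : ∃ zF : IntermediateField.adjoin k ({z} : Set K), (zF : K) = z :=
    ⟨⟨z, IntermediateField.mem_adjoin_simple_self k z⟩, rfl⟩
  have hzF0 : zF ≠ 0 := by
    intro h
    apply hz0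
    rw [← hzF, h]
    rfl
  have htF : IsIntegral (IntermediateField.adjoin k ({z} : Set K)) (y / z) :=
    Algebra.IsIntegral.isIntegral _
  have hsm := IsIntegrallyClosed.minpoly_smul (R := IntermediateField.adjoin k ({z} : Set K))
    hzF0 htF
  have hzt : zF • (y / z) = y := by
    rw [Algebra.smul_def]
    show (zF : K) * (y / z) = y
    rw [hzF]
    field_simp
  rw [hzt] at hsm
  have hNt : (minpoly (IntermediateField.adjoin k ({z} : Set K)) (y / z)).natDegree = N := by
    rw [← hN, hsm, Polynomial.natDegree_scaleRoots]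
  have hcoef : ∀ i,
      (((minpoly (IntermediateField.adjoin k ({z} : Set K)) y).coeff i :
        IntermediateField.adjoin k ({z} : Set K)) : K) =
      (((minpoly (IntermediateField.adjoin k ({z} : Set K)) (y / z)).coeff i :
        IntermediateField.adjoin k ({z} : Set K)) : K) * z ^ (N - i) := by
    intro i
    rw [hsm, Polynomial.coeff_scaleRoots, hNt, IntermediateField.coe_mul,
      IntermediateField.coe_pow, hzF]
  choose p hp using hpy
  choose q hq using hqt
  have hdeg : ∀ i, (p i).natDegree ≤ N - i := by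
    intro i
    apply int_lemma hK hz (p i) (q i) (N - i)
    rw [← hp i, ← hq i]
    exact hcoef i
  have hmonic : (minpoly (IntermediateField.adjoin k ({z} : Set K)) y).Monic :=
    minpoly.monic (Algebra.IsIntegral.isIntegral y)
  have hsum := congrArg (Polynomial.aeval y) hmonic.as_sum
  rw [minpoly.aeval, hN, map_add, map_pow, Polynomial.aeval_X, map_sum] at hsum
  have hterm : ∀ i, Polynomial.aeval y
      (Polynomial.C ((minpoly (IntermediateField.adjoin k ({z} : Set K)) y).coeff i) *
        Polynomial.X ^ i) = Polynomial.aeval z (p i) * y ^ i := by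
    intro i
    rw [map_mul, Polynomial.aeval_C, map_pow, Polynomial.aeval_X, ← hp i]
    rfl
  rw [Finset.sum_congr rfl (fun i _ => hterm i)] at hsum
  have hyN : y ^ N = -∑ i ∈ Finset.range N, Polynomial.aeval z (p i) * y ^ i := by
    linear_combination -hsum
  rw [hyN]
  apply Submodule.neg_mem
  apply Submodule.sum_mem
  intro i hi
  rw [Polynomial.aeval_eq_sum_range, Finset.sum_mul]
  apply Submodule.sum_mem
  intro a ha
  rw [smul_mul_assoc]
  apply Submodule.smul_mem
  apply Submodule.subset_span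
  have h3 := hdeg i
  have h4 := Finset.mem_range.1 hi
  have h5 := Finset.mem_range.1 ha
  exact ⟨a, i, h4, by omega, rfl⟩

end Groth.Agent.Lib.lead.Pl2
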