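import Mathlib
import Groth.Agent.Lib.lead.Ext3
import Groth.Agent.Lib.lead.Pl2

/-! Places of the rational function field, and quadratic extensions `y² = f(x)`. -/

namespace Groth.Agent.Lib.lead.Hyp
open FunFld Groth.Agent.Lib.lead.FF Groth.Agent.Lib.lead.FF2 Groth.Agent.Lib.lead.FF3
  Groth.Agent.Lib.lead.FF4
  Groth.Agent.Lib.lead.FF5 Groth.Agent.Lib.lead.FF6 Groth.Agent.Lib.lead.FF7
  Groth.Agent.Lib.lead.FF8 Groth.Agent.Lib.lead.Loc Groth.Agent.Lib.lead.NS
  Groth.Agent.Lib.lead.Ext Groth.Agent.Lib.lead.Ext3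

section Rat
variable {k : Type*} [Field k]

theorem isFunctionField_ratFunc : IsFunctionField k (RatFunc k) := by
  refine ⟨⟨RatFunc.X, RatFunc.transcendental_X, ?_⟩, ?_⟩
  · rw [RatFunc.adjoin_X]
    exact Module.finite_of_finrank_pos (by rw [IntermediateField.finrank_top]; exact one_pos)
  · intro y hy
    by_contra hne
    apply RatFunc.transcendental_of_ne_C y ?_ hy
    rintro ⟨c, rfl⟩
    exact hne ⟨c, by rw [RatFunc.algebraMap_eq_C]⟩

lemma aeval_X_eq (p : Polynomial k) :
    Polynomial.aeval (RatFunc.X : RatFunc k) p = algebraMap (Polynomial k) (RatFunc k) p := by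
  rw [← RatFunc.algebraMap_X, Polynomial.aeval_algebraMap_apply, Polynomial.aeval_X_left_apply]

variable (P₀ : Place k (RatFunc k))

lemma val_poly_le (h : P₀.1 RatFunc.X ≤ 1) (p : Polynomial k) :
    P₀.1 (algebraMap (Polynomial k) (RatFunc k) p) ≤ 1 := by
  rw [← aeval_X_eq]
  exact val_aeval_le_one P₀ h p

lemma val_poly_pole (h : 1 < P₀.1 RatFunc.X) {p : Polynomial k} (hp : p ≠ 0) :
    P₀.1 (algebraMap (Polynomial k) (RatFunc k) p) = P₀.1 RatFunc.X ^ p.natDegree := by
  rw [← aeval_X_eq]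
  exact Groth.Agent.Lib.lead.Pl2.val_aeval_pole P₀ h p hp

lemma not_both (h : P₀.1 RatFunc.X ≤ 1) {a b : Polynomial k} (hab : IsCoprime a b)
    (ha : P₀.1 (algebraMap (Polynomial k) (RatFunc k) a) < 1)
    (hb : P₀.1 (algebraMap (Polynomial k) (RatFunc k) b) < 1) : False := by
  obtain ⟨u, v, huv⟩ := hab
  have h1 : P₀.1 (algebraMap (Polynomial k) (RatFunc k) (u * a + v * b)) < 1 := by
    rw [map_add, map_mul, map_mul]
    refine lt_of_le_of_lt (P₀.1.map_add _ _) (max_lt ?_ ?_)
    · exact val_mul_lt_one_right P₀ (val_poly_le P₀ h u) ha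
    · exact val_mul_lt_one_right P₀ (val_poly_le P₀ h v) hb
  rw [huv, map_one, map_one] at h1
  exact lt_irrefl _ h1

lemma val_irreducible (h : P₀.1 RatFunc.X ≤ 1) {p : Polynomial k} (hp : Irreducible p)
    (hp1 : P₀.1 (algebraMap (Polynomial k) (RatFunc k) p) < 1) :
    P₀.1 (algebraMap (Polynomial k) (RatFunc k) p) = WithZero.exp (-1) := by
  obtain ⟨π, hπ⟩ := exists_uniformizer P₀
  have hπeq := RatFunc.num_div_denom π
  have hden0 : algebraMap (Polynomial k) (RatFunc k) π.denom ≠ 0 :=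
    RatFunc.algebraMap_ne_zero π.denom_ne_zero
  have hcop : IsCoprime π.num π.denom := RatFunc.isCoprime_num_denom π
  have hd1 := val_poly_le P₀ h π.denom
  have h2 : P₀.1 (algebraMap (Polynomial k) (RatFunc k) π.num) =
      WithZero.exp (-1) * P₀.1 (algebraMap (Polynomial k) (RatFunc k) π.denom) := by
    have e1 : P₀.1 π = P₀.1 (algebraMap (Polynomial k) (RatFunc k) π.num) /
        P₀.1 (algebraMap (Polynomial k) (RatFunc k) π.denom) := by
      rw [← map_div₀, hπeq]
    rw [← hπ, e1, div_mul_cancel₀ _ ((Valuation.ne_zero_iff P₀.1).2 hden0)]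
  have hnum_lt : P₀.1 (algebraMap (Polynomial k) (RatFunc k) π.num) < 1 := by
    rw [h2]
    calc WithZero.exp (-1) * P₀.1 (algebraMap (Polynomial k) (RatFunc k) π.denom)
        ≤ WithZero.exp (-1) * 1 := mul_le_mul' le_rfl hd1
      _ = WithZero.exp (-1) := mul_one _
      _ < 1 := hexp1
  have hden_eq : P₀.1 (algebraMap (Polynomial k) (RatFunc k) π.denom) = 1 :=
    le_antisymm hd1 (not_lt.1 fun hlt => not_both P₀ h hcop hnum_lt hlt)
  rw [hden_eq, mul_one] at h2
  have hdvd : p ∣ π.num := by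
    by_contra hnd
    exact not_both P₀ h ((hp.coprime_iff_not_dvd).2 hnd) hp1 hnum_lt
  obtain ⟨c, hc⟩ := hdvd
  have h3 : P₀.1 (algebraMap (Polynomial k) (RatFunc k) p) *
      P₀.1 (algebraMap (Polynomial k) (RatFunc k) c) = WithZero.exp (-1) := by
    rw [← map_mul, ← map_mul, ← hc, h2]
  have h4 : P₀.1 (algebraMap (Polynomial k) (RatFunc k) p) ≤ WithZero.exp (-1) := by
    have h5 := (lt_exp_iff_le P₀ (algebraMap (Polynomial k) (RatFunc k) p) 0).1
      (by rw [WithZero.exp_zero]; exact hp1)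
    simpa using h5
  have h5 : WithZero.exp (-1) ≤ P₀.1 (algebraMap (Polynomial k) (RatFunc k) p) := by
    rw [← h3]
    calc P₀.1 (algebraMap (Polynomial k) (RatFunc k) p) *
          P₀.1 (algebraMap (Polynomial k) (RatFunc k) c)
        ≤ P₀.1 (algebraMap (Polynomial k) (RatFunc k) p) * 1 :=
          mul_le_mul' le_rfl (val_poly_le P₀ h c)
      _ = P₀.1 (algebraMap (Polynomial k) (RatFunc k) p) := mul_one _
  exact le_antisymm h4 h5

lemma val_squarefree (h : P₀.1 RatFunc.X ≤ 1) {f p : Polynomial k} (hf : Squarefree f)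
    (hp : Irreducible p) (hpf : p ∣ f)
    (hp1 : P₀.1 (algebraMap (Polynomial k) (RatFunc k) p) < 1) :
    P₀.1 (algebraMap (Polynomial k) (RatFunc k) f) = WithZero.exp (-1) := by
  obtain ⟨g, hg⟩ := hpf
  have hndvd : ¬ p ∣ g := by
    rintro ⟨c, hc⟩
    have hpp : p * p ∣ f := ⟨c, by rw [hg, hc]; ring⟩
    exact hp.not_isUnit (hf p hpp)
  have hcop := (hp.coprime_iff_not_dvd).2 hndvd
  have hg1 : P₀.1 (algebraMap (Polynomial k) (RatFunc k) g) = 1 :=
    le_antisymm (val_poly_le P₀ h g) (not_lt.1 fun hlt => not_both P₀ h hcop hp1 hlt)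
  rw [hg, map_mul, map_mul, hg1, mul_one]
  exact val_irreducible P₀ h hp hp1

lemma exists_irreducible (h : P₀.1 RatFunc.X ≤ 1) {f : Polynomial k} (hf0 : f ≠ 0)
    (hf1 : P₀.1 (algebraMap (Polynomial k) (RatFunc k) f) < 1) :
    ∃ p : Polynomial k, Irreducible p ∧ p ∣ f ∧
      P₀.1 (algebraMap (Polynomial k) (RatFunc k) p) < 1 := by
  obtain ⟨s, hs, u, hu⟩ := UniqueFactorizationMonoid.exists_prime_factors f hf0
  by_contra hcon
  push Not at hcon
  have h1 : ∀ b ∈ s, P₀.1 (algebraMap (Polynomial k) (RatFunc k) b) = 1 := fun b hb =>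
    le_antisymm (val_poly_le P₀ h b)
      (hcon b (hs b hb).irreducible ((Multiset.dvd_prod hb).trans ⟨u, hu.symm⟩))
  have h2 : ∀ t : Multiset (Polynomial k),
      (∀ b ∈ t, P₀.1 (algebraMap (Polynomial k) (RatFunc k) b) = 1) →
      P₀.1 (algebraMap (Polynomial k) (RatFunc k) t.prod) = 1 := by
    intro t
    induction t using Multiset.induction_on with
    | empty =>
      intro _
      rw [Multiset.prod_zero, map_one, map_one]
    | cons a t ih =>
      intro ht
      rw [Multiset.prod_cons, map_mul, map_mul, ht a (Multiset.mem_cons_self a t), one_mul]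
      exact ih (fun b hb => ht b (Multiset.mem_cons_of_mem hb))
  have h3 : P₀.1 (algebraMap (Polynomial k) (RatFunc k) (u : Polynomial k)) = 1 := by
    apply le_antisymm (val_poly_le P₀ h _)
    have h4 : P₀.1 (algebraMap (Polynomial k) (RatFunc k) (u : Polynomial k)) *
        P₀.1 (algebraMap (Polynomial k) (RatFunc k) ((u⁻¹ : (Polynomial k)ˣ) : Polynomial k))
        = 1 := by
      rw [← map_mul, ← map_mul, Units.mul_inv, map_one, map_one]
    calc (1 : WithZero (Multiplicative ℤ)) = _ := h4.symm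
      _ ≤ P₀.1 (algebraMap (Polynomial k) (RatFunc k) (u : Polynomial k)) * 1 :=
          mul_le_mul' le_rfl (val_poly_le P₀ h _)
      _ = _ := mul_one _
  rw [← hu, map_mul, map_mul, h2 s h1, h3, one_mul] at hf1
  exact lt_irrefl _ hf1

end Rat

section Deg
variable {k K K' : Type*} [Field k] [Field K] [Field K'] [Algebra k K] [Algebra K K']
  [Algebra k K'] [IsScalarTower k K K']

lemma deg_pos' (hK : IsFunctionField k K) [FiniteDimensional K K'] (Q : Place k K') :
    0 < Q.deg := by
  obtain ⟨⟨x, hx, hfd⟩, -⟩ := id hK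
  haveI := hfd
  have hK'' := isFunctionField_top (K' := K') hK
  have hx'tr : Transcendental (algebraicClosure k K') (algebraMap K K' x) := by
    intro halg
    have h1 : IsAlgebraic k (algebraMap K K' x) := halg.restrictScalars k
    exact hx ((isAlgebraic_algebraMap_iff (algebraMap K K').injective).1 h1)
  have h1 := finrank_const hK'' hx'tr
  have hpos : 0 < Module.finrank (IntermediateField.adjoin k ({algebraMap K K' x} : Set K')) K' := by
    rw [finrank_tower (k := k) x]
    exact Nat.mul_pos Module.finrank_pos Module.finrank_pos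
  rw [h1] at hpos
  have h2 : 0 < Module.finrank k (algebraicClosure k K') :=
    Nat.pos_of_ne_zero (fun h0 => by rw [h0, zero_mul] at hpos; exact lt_irrefl _ hpos)
  rw [deg_toTop Q]
  exact Nat.mul_pos h2 (deg_pos hK'' _)

lemma deg_le_deg {Q : Place k K'} {P : Place k K} {e : ℕ} (h : IsOverWith Q P e)
    (hQ : 0 < Q.deg) : P.deg ≤ Q.deg := by
  letI aP : Algebra k (IsLocalRing.ResidueField P.O) := Place.algRes P
  letI aQ : Algebra k (IsLocalRing.ResidueField Q.O) := Place.algRes Q
  let φ : P.O →+* Q.O := ((algebraMap K K').comp P.O.subtype).codRestrict Q.O (fun x =>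
    (Valuation.mem_valuationSubring_iff _ _).2 ((isOverWith_le_one_iff h x.1).2
      ((Valuation.mem_valuationSubring_iff _ _).1 x.2)))
  haveI : IsLocalHom φ := by
    constructor
    intro a ha
    rw [← IsLocalRing.notMem_maximalIdeal, mem_max_iff] at ha ⊢
    intro hlt
    exact ha ((isOverWith_lt_one_iff h a.1).2 hlt)
  let ψ : IsLocalRing.ResidueField P.O →+* IsLocalRing.ResidueField Q.O :=
    IsLocalRing.ResidueField.map φ
  have hψk : ∀ c : k, ψ (algebraMap k _ c) = algebraMap k _ c := by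
    intro c
    show ψ (IsLocalRing.residue P.O (algebraMap k P.O c)) =
      IsLocalRing.residue Q.O (algebraMap k Q.O c)
    rw [IsLocalRing.ResidueField.map_residue]
    congr 1
    exact Subtype.ext (IsScalarTower.algebraMap_apply k K K' c).symm
  let ψl : IsLocalRing.ResidueField P.O →ₗ[k] IsLocalRing.ResidueField Q.O :=
    { toFun := ψ
      map_add' := map_add ψ
      map_smul' := fun c x => by
        show ψ (algebraMap k _ c * x) = algebraMap k _ c * ψ x
        rw [map_mul, hψk] }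
  haveI : Module.Finite k (IsLocalRing.ResidueField Q.O) := Module.finite_of_finrank_pos hQ
  exact LinearMap.finrank_le_finrank_of_injective (f := ψl) ψ.injective

end Deg

section Quad
variable {k K : Type*} [Field k] [Field K] [Algebra k K]
  [Algebra (RatFunc k) K] [IsScalarTower k (RatFunc k) K]

/-- the basic relation `2 ord_P y = e ord_{P₀} f` -/
lemma two_ord {y : K} {f : Polynomial k} (hf0 : f ≠ 0)
    (heq : y ^ 2 = algebraMap (RatFunc k) K (algebraMap (Polynomial k) (RatFunc k) f))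
    {P : Place k K} {P₀ : Place k (RatFunc k)} {e : ℕ} (he : IsOverWith P P₀ e) :
    2 * P.ord y = e * P₀.ord (algebraMap (Polynomial k) (RatFunc k) f) := by
  have hy0 : y ≠ 0 := by
    rintro rfl
    rw [zero_pow two_ne_zero] at heq
    exact (map_ne_zero _).2 (RatFunc.algebraMap_ne_zero hf0) heq.symm
  rw [← ord_algebraMap he, ← heq, pow_two, ord_mul P hy0 hy0]
  ring

variable (hdeg : Module.finrank (RatFunc k) K = 2)
include hdeg

/-- above a finite place where `f` has a zero there is exactly one place, totally ramified -/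
theorem s11034 (y : K) (f : Polynomial k) (hf : Squarefree f)
    (heq : y ^ 2 = algebraMap (RatFunc k) K (algebraMap (Polynomial k) (RatFunc k) f))
    (p : Polynomial k) (hp : Irreducible p) (hpf : p ∣ f)
    (P₀ : Place k (RatFunc k)) (hP₀ : P₀.1 (algebraMap (Polynomial k) (RatFunc k) p) < 1) :
    (∃! P : Place k K, IsOver P P₀) ∧
    ∀ P : Place k K, IsOver P P₀ → IsOverWith P P₀ 2 ∧ P.deg = P₀.deg := by
  classical
  have hR : IsFunctionField k (RatFunc k) := isFunctionField_ratFunc
  haveI : FiniteDimensional (RatFunc k) K :=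
    Module.finite_of_finrank_pos (by rw [hdeg]; norm_num)
  have hf0 : f ≠ 0 := hf.ne_zero
  have hp0 : p ≠ 0 := hp.ne_zero
  -- `P₀` is a finite place
  have hfinite : P₀.1 RatFunc.X ≤ 1 := by
    by_contra hlt
    rw [not_le] at hlt
    rw [val_poly_pole P₀ hlt hp0] at hP₀
    exact absurd hP₀ (not_lt.2 (one_le_pow₀ hlt.le))
  have hvf := val_squarefree P₀ hfinite hf hp hpf hP₀
  have hordf : P₀.ord (algebraMap (Polynomial k) (RatFunc k) f) = 1 := by
    unfold Place.ord
    rw [hvf, WithZero.log_exp]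
    ring
  obtain ⟨hfin, hsum'⟩ := general (K' := K) hR P₀
  have hsum := hsum' hfin.toFinset (fun Q => hfin.mem_toFinset)
  rw [hdeg] at hsum
  have hP₀pos : 0 < P₀.deg := deg_pos hR P₀
  -- every place above has even ramification and degree `≥ deg P₀`
  have hterm : ∀ P : Place k K, IsOver P P₀ →
      2 * P₀.deg ≤ ramIdx P P₀ * P.deg ∧
      (ramIdx P P₀ * P.deg = 2 * P₀.deg → IsOverWith P P₀ 2 ∧ P.deg = P₀.deg) := by
    intro P hP
    obtain ⟨e, he⟩ := hP
    have h1 := two_ord hf0 heq he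
    rw [hordf, mul_one] at h1
    have hdegle := deg_le_deg he (deg_pos' hR P)
    have hepos := isOverWith_pos he
    rw [ramIdx_eq he]
    have he2 : 2 ≤ e := by omega
    constructor
    · exact Nat.mul_le_mul he2 hdegle
    · intro h2
      have he' : e = 2 := by
        by_contra hne
        have h3 : 3 ≤ e := by omega
        have h4 : 3 * P₀.deg ≤ e * P.deg := Nat.mul_le_mul h3 hdegle
        omega
      subst he'
      exact ⟨he, by omega⟩
  -- nonempty
  have hne : hfin.toFinset.Nonempty := by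
    by_contra hemp
    rw [Finset.not_nonempty_iff_eq_empty] at hemp
    rw [hemp, Finset.sum_empty] at hsum
    omega
  obtain ⟨P₁, hP₁⟩ := hne
  have hP₁over : IsOver P₁ P₀ := hfin.mem_toFinset.1 hP₁
  have huniq : ∀ P : Place k K, IsOver P P₀ → P = P₁ := by
    intro P hP
    by_contra hne
    have hPmem : P ∈ hfin.toFinset.erase P₁ :=
      Finset.mem_erase.2 ⟨hne, hfin.mem_toFinset.2 hP⟩
    have h1 := Finset.add_sum_erase hfin.toFinset (fun Q => ramIdx Q P₀ * Q.deg) hP₁
    have h2 : ramIdx P P₀ * P.deg ≤ ∑ Q ∈ hfin.toFinset.erase P₁, ramIdx Q P₀ * Q.deg :=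
      Finset.single_le_sum (f := fun Q => ramIdx Q P₀ * Q.deg) (fun _ _ => Nat.zero_le _) hPmem
    have h3 := (hterm P hP).1
    have h4 := (hterm P₁ hP₁over).1
    omega
  have hsingle : ramIdx P₁ P₀ * P₁.deg = 2 * P₀.deg := by
    have h1 : hfin.toFinset = {P₁} := by
      ext Q
      rw [Finset.mem_singleton, hfin.mem_toFinset]
      exact ⟨fun hQ => huniq Q hQ, fun hQ => hQ ▸ hP₁over⟩
    rw [h1, Finset.sum_singleton] at hsum
    exact hsum
  refine ⟨⟨P₁, hP₁over, fun P hP => huniq P hP⟩, ?_⟩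
  intro P hP
  rw [huniq P hP]
  exact (hterm P₁ hP₁over).2 hsingle

theorem s12535 (y : K) (f : Polynomial k) (hf : Squarefree f) (hd : 1 ≤ f.natDegree)
    (heq : y ^ 2 = algebraMap (RatFunc k) K (algebraMap (Polynomial k) (RatFunc k) f))
    (P : Place k K) :
    (0 < P.ord y → P.ord y = 1) ∧
    (0 < P.ord y ↔ ∃ P₀ : Place k (RatFunc k), IsOver P P₀ ∧
      0 ≤ P₀.ord (RatFunc.X : RatFunc k) ∧
      0 < P₀.ord (algebraMap (Polynomial k) (RatFunc k) f)) := by
  classical
  have hR : IsFunctionField k (RatFunc k) := isFunctionField_ratFunc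
  haveI : FiniteDimensional (RatFunc k) K :=
    Module.finite_of_finrank_pos (by rw [hdeg]; norm_num)
  have hf0 : f ≠ 0 := hf.ne_zero
  have hιf0 : algebraMap (Polynomial k) (RatFunc k) f ≠ 0 := RatFunc.algebraMap_ne_zero hf0
  have hX0 : (RatFunc.X : RatFunc k) ≠ 0 := RatFunc.X_ne_zero
  obtain ⟨P₀, e, he⟩ := exists_restrict hR P
  have hepos := isOverWith_pos he
  have hrel := two_ord hf0 heq he
  -- analysis when `ord_P y > 0`
  have key : 0 < P.ord y → P₀.1 RatFunc.X ≤ 1 ∧
      P₀.ord (algebraMap (Polynomial k) (RatFunc k) f) = 1 := by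
    intro hpos
    have h1 : 0 < P₀.ord (algebraMap (Polynomial k) (RatFunc k) f) := by
      by_contra hle
      rw [not_lt] at hle
      have : (e : ℤ) * P₀.ord (algebraMap (Polynomial k) (RatFunc k) f) ≤ 0 :=
        mul_nonpos_of_nonneg_of_nonpos (Int.natCast_nonneg e) hle
      omega
    have h2 : P₀.1 (algebraMap (Polynomial k) (RatFunc k) f) < 1 := (ord_pos_iff P₀ hιf0).1 h1
    have hfinite : P₀.1 RatFunc.X ≤ 1 := by
      by_contra hlt
      rw [not_le] at hlt
      rw [val_poly_pole P₀ hlt hf0] at h2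
      exact absurd h2 (not_lt.2 (one_le_pow₀ hlt.le))
    obtain ⟨p, hp, hpf, hp1⟩ := exists_irreducible P₀ hfinite hf0 h2
    have hvf := val_squarefree P₀ hfinite hf hp hpf hp1
    refine ⟨hfinite, ?_⟩
    unfold Place.ord
    rw [hvf, WithZero.log_exp]
    ring
  constructor
  · intro hpos
    obtain ⟨hfinite, hordf⟩ := key hpos
    rw [hordf, mul_one] at hrel
    -- `e ≤ 2`
    obtain ⟨hfin, hsum'⟩ := general (K' := K) hR P₀
    have hsum := hsum' hfin.toFinset (fun Q => hfin.mem_toFinset)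
    rw [hdeg] at hsum
    have hPmem : P ∈ hfin.toFinset := hfin.mem_toFinset.2 ⟨e, he⟩
    have h2 : ramIdx P P₀ * P.deg ≤ ∑ Q ∈ hfin.toFinset, ramIdx Q P₀ * Q.deg :=
      Finset.single_le_sum (f := fun Q => ramIdx Q P₀ * Q.deg) (fun _ _ => Nat.zero_le _) hPmem
    rw [ramIdx_eq he, hsum] at h2
    have hdegle := deg_le_deg he (deg_pos' hR P)
    have hP₀pos : 0 < P₀.deg := deg_pos hR P₀
    have he2 : e ≤ 2 := by
      by_contra hgt
      have h3 : 3 ≤ e := by omega
      have h4 : 3 * P₀.deg ≤ e * P.deg := Nat.mul_le_mul h3 hdegle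
      omega
    omega
  · constructor
    · intro hpos
      obtain ⟨hfinite, hordf⟩ := key hpos
      refine ⟨P₀, ⟨e, he⟩, ?_, ?_⟩
      · by_contra hneg
        rw [not_le] at hneg
        exact absurd ((ord_neg_iff P₀ hX0).1 hneg) (not_lt.2 hfinite)
      · rw [hordf]
        exact one_pos
    · rintro ⟨P₀', ⟨e', he'⟩, -, hpos'⟩
      have hrel' := two_ord hf0 heq he'
      have he'pos := isOverWith_pos he'
      have : 0 < (e' : ℤ) * P₀'.ord (algebraMap (Polynomial k) (RatFunc k) f) :=
        mul_pos (by exact_mod_cast he'pos) hpos'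
      omega

end Quad

end Groth.Agent.Lib.lead.Hyp
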