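import Mathlib
import Groth.Agent.Lib.lead.Hyp
import Groth.Agent.Lib.lead.FF13

/-! The infinite place in a quadratic extension `y² = f(x)`. -/

namespace Groth.Agent.Lib.lead.Hyp2
open FunFld Groth.Agent.Lib.lead.FF Groth.Agent.Lib.lead.FF2 Groth.Agent.Lib.lead.FF3
  Groth.Agent.Lib.lead.FF4
  Groth.Agent.Lib.lead.FF5 Groth.Agent.Lib.lead.FF6 Groth.Agent.Lib.lead.FF7
  Groth.Agent.Lib.lead.FF8 Groth.Agent.Lib.lead.Loc Groth.Agent.Lib.lead.NS
  Groth.Agent.Lib.lead.Ext Groth.Agent.Lib.lead.Ext3 Groth.Agent.Lib.lead.Hyp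

variable {k K : Type*} [Field k] [Field K] [Algebra k K]
  [Algebra (RatFunc k) K] [IsScalarTower k (RatFunc k) K]

lemma exists_const_sub_lt' {K : Type*} [Field K] [Algebra k K] (P : Place k K) (hP : P.deg = 1)
    {x : K} (hx : P.1 x ≤ 1) : ∃ b : k, P.1 (x - algebraMap k K b) < 1 := by
  have h1mem : (1 : K) ∈ OP P := by rw [mem_OP, map_one]
  have hx' : x ∈ OP P := (mem_OP P x).2 hx
  have h1 : resMap P ⟨1, h1mem⟩ ≠ 0 := by
    rw [Ne, resMap_eq_zero_iff]
    show ¬ P.1 (1 : K) < 1
    rw [map_one]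
    exact lt_irrefl _
  obtain ⟨b, hb⟩ := (finrank_eq_one_iff_of_nonzero' _ h1).1 hP (resMap P ⟨x, hx'⟩)
  refine ⟨b, ?_⟩
  have h2 : resMap P (⟨x, hx'⟩ - b • ⟨1, h1mem⟩) = 0 := by
    rw [map_sub, map_smul]
    exact sub_eq_zero.2 hb.symm
  rw [resMap_eq_zero_iff] at h2
  have h3 : ((⟨x, hx'⟩ - b • ⟨1, h1mem⟩ : ↥(OP P)) : K) = x - algebraMap k K b := by
    show x - b • (1 : K) = _
    rw [Algebra.algebraMap_eq_smul_one]
  rw [h3] at h2
  exact h2

/-- a squarefree polynomial of positive degree is not a square in `k(x)` -/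
lemma not_mem_range {y : K} {f : Polynomial k} (hf : Squarefree f) (hd : 1 ≤ f.natDegree)
    (heq : y ^ 2 = algebraMap (RatFunc k) K (algebraMap (Polynomial k) (RatFunc k) f)) :
    y ∉ Set.range (algebraMap (RatFunc k) K) := by
  rintro ⟨r, rfl⟩
  have hR : IsFunctionField k (RatFunc k) := isFunctionField_ratFunc
  have hf0 : f ≠ 0 := hf.ne_zero
  have hr2 : r ^ 2 = algebraMap (Polynomial k) (RatFunc k) f := by
    apply (algebraMap (RatFunc k) K).injective
    rw [map_pow]
    exact heq
  have hr0 : r ≠ 0 := by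
    rintro rfl
    rw [zero_pow two_ne_zero] at hr2
    exact RatFunc.algebraMap_ne_zero hf0 hr2.symm
  have hnu : ¬ IsUnit f := by
    intro hu
    have := Polynomial.natDegree_eq_zero_of_isUnit hu
    omega
  obtain ⟨p, hp, hpf⟩ := WfDvdMonoid.exists_irreducible_factor hnu hf0
  have hpnot : algebraMap (Polynomial k) (RatFunc k) p ∉ Set.range (algebraMap k (RatFunc k)) := by
    rintro ⟨c, hc⟩
    rw [RatFunc.algebraMap_eq_C, ← RatFunc.algebraMap_C] at hc
    have hpc : Polynomial.C c = p := (RatFunc.algebraMap_injective k) hc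
    rcases eq_or_ne c 0 with rfl | hc0
    · rw [map_zero] at hpc
      exact hp.ne_zero hpc.symm
    · exact hp.not_isUnit (hpc ▸ Polynomial.isUnit_C.2 (isUnit_iff_ne_zero.2 hc0))
  obtain ⟨P₀, hP₀⟩ := (exists_zero_and_pole hR hpnot).1
  have hfinite : P₀.1 RatFunc.X ≤ 1 := by
    by_contra hlt
    rw [not_le] at hlt
    rw [val_poly_pole P₀ hlt hp.ne_zero] at hP₀
    exact absurd hP₀ (not_lt.2 (one_le_pow₀ hlt.le))
  have hvf := val_squarefree P₀ hfinite hf hp hpf hP₀
  rw [← hr2, map_pow, val_eq_exp P₀ hr0, ← WithZero.exp_nsmul, WithZero.exp_inj] at hvf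
  simp only [smul_neg, nsmul_eq_mul, Nat.cast_ofNat] at hvf
  omega

lemma exists_conj (hdeg : Module.finrank (RatFunc k) K = 2) {y : K}
    (hynot : y ∉ Set.range (algebraMap (RatFunc k) K)) {F : RatFunc k}
    (heq : y ^ 2 = algebraMap (RatFunc k) K F) : ∃ σ : K ≃ₐ[RatFunc k] K, σ y = -y := by
  haveI : FiniteDimensional (RatFunc k) K :=
    Module.finite_of_finrank_pos (by rw [hdeg]; norm_num)
  haveI : Algebra.IsQuadraticExtension (RatFunc k) K :=
    { toFree := inferInstance, finrank_eq_two' := hdeg }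
  have hint : IsIntegral (RatFunc k) y := Algebra.IsIntegral.isIntegral y
  haveI := IntermediateField.isSimpleOrder_of_finrank_prime
    (F := RatFunc k) (E := K) (by rw [hdeg]; exact Nat.prime_two)
  have htop : IntermediateField.adjoin (RatFunc k) ({y} : Set K) = ⊤ := by
    rcases eq_bot_or_eq_top (IntermediateField.adjoin (RatFunc k) ({y} : Set K)) with h | h
    · exfalso
      apply hynot
      have h1 : y ∈ IntermediateField.adjoin (RatFunc k) ({y} : Set K) :=
        IntermediateField.mem_adjoin_simple_self _ y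
      rw [h] at h1
      exact IntermediateField.mem_bot.1 h1
    · exact h
  have hdeg2 : (minpoly (RatFunc k) y).natDegree = 2 := by
    rw [← IntermediateField.adjoin.finrank hint, htop, IntermediateField.finrank_top', hdeg]
  have hqm : (Polynomial.X ^ 2 - Polynomial.C F : Polynomial (RatFunc k)).Monic :=
    Polynomial.monic_X_pow_sub_C F two_ne_zero
  have hqd : (Polynomial.X ^ 2 - Polynomial.C F : Polynomial (RatFunc k)).natDegree = 2 :=
    Polynomial.natDegree_X_pow_sub_C
  have hdvd : minpoly (RatFunc k) y ∣ (Polynomial.X ^ 2 - Polynomial.C F) := by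
    apply minpoly.dvd
    rw [map_sub, map_pow, Polynomial.aeval_X, Polynomial.aeval_C, heq, sub_self]
  have hq : (Polynomial.X ^ 2 - Polynomial.C F : Polynomial (RatFunc k)) = minpoly (RatFunc k) y :=
    Polynomial.eq_of_monic_of_dvd_of_natDegree_le (minpoly.monic hint) hqm hdvd
      (by rw [hqd, hdeg2])
  have hroot : Polynomial.aeval (-y) (minpoly (RatFunc k) y) = 0 := by
    rw [← hq, map_sub, map_pow, Polynomial.aeval_X, Polynomial.aeval_C, neg_sq, heq, sub_self]
  have hconj : IsConjRoot (RatFunc k) y (-y) := (isConjRoot_iff_aeval_eq_zero hint).2 hroot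
  obtain ⟨σ, hσ⟩ := hconj.exists_algEquiv
  refine ⟨σ, ?_⟩
  rw [map_neg] at hσ
  exact neg_eq_iff_eq_neg.1 hσ

set_option maxHeartbeats 800000 in
theorem s12516 (h2 : ringChar k ≠ 2)
    (hdeg : Module.finrank (RatFunc k) K = 2) (y : K) (f : Polynomial k) (hf : Squarefree f)
    (hd : 1 ≤ f.natDegree)
    (heq : y ^ 2 = algebraMap (RatFunc k) K (algebraMap (Polynomial k) (RatFunc k) f))
    (Pinf : Place k (RatFunc k)) (hinf : Pinf.ord (RatFunc.X : RatFunc k) < 0) :
    (Odd f.natDegree → (∃! P : Place k K, IsOver P Pinf) ∧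
      ∀ P : Place k K, IsOver P Pinf → IsOverWith P Pinf 2 ∧ P.deg = 1) ∧
    (Even f.natDegree → (conorm K (Finsupp.single Pinf 1)).deg = 2 ∧
      ∀ P : Place k K, IsOver P Pinf → IsOverWith P Pinf 1) := by
  classical
  have hR : IsFunctionField k (RatFunc k) := isFunctionField_ratFunc
  haveI : FiniteDimensional (RatFunc k) K :=
    Module.finite_of_finrank_pos (by rw [hdeg]; norm_num)
  have hf0 : f ≠ 0 := hf.ne_zero
  have hX0 : (RatFunc.X : RatFunc k) ≠ 0 := RatFunc.X_ne_zero
  have hXi0 : (RatFunc.X : RatFunc k)⁻¹ ≠ 0 := inv_ne_zero hX0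
  have hXgt : 1 < Pinf.1 RatFunc.X := (ord_neg_iff Pinf hX0).1 hinf
  have hXtr : Transcendental k (RatFunc.X : RatFunc k) := RatFunc.transcendental_X
  have hXitr := transcendental_inv hXtr
  have hzfin := finite_zeros hR hXitr
  have hsz := sum_zeros_eq hR hXitr hzfin.toFinset (fun P => hzfin.mem_toFinset)
  have hfr : Module.finrank (IntermediateField.adjoin k
      ({(RatFunc.X : RatFunc k)⁻¹} : Set (RatFunc k))) (RatFunc k) = 1 := by
    rw [adjoin_inv, RatFunc.adjoin_X]
    exact IntermediateField.finrank_top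
  have hPinfz : Pinf.1 (RatFunc.X : RatFunc k)⁻¹ < 1 := by
    rw [map_inv₀]
    exact inv_lt_one_of_one_lt₀ hXgt
  have hPinf_mem : Pinf ∈ hzfin.toFinset := hzfin.mem_toFinset.2 hPinfz
  have hterm_le : Pinf.ord (RatFunc.X : RatFunc k)⁻¹ * (Pinf.deg : ℤ) ≤ 1 := by
    have h1 := Finset.single_le_sum
      (f := fun P : Place k (RatFunc k) => P.ord (RatFunc.X : RatFunc k)⁻¹ * (P.deg : ℤ))
      (fun P hP => mul_nonneg (le_of_lt ((ord_pos_iff P hXi0).2 (hzfin.mem_toFinset.1 hP)))
        (Int.natCast_nonneg _)) hPinf_mem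
    rw [hsz, hfr] at h1
    exact_mod_cast h1
  have hordpos : 0 < Pinf.ord (RatFunc.X : RatFunc k)⁻¹ := (ord_pos_iff Pinf hXi0).2 hPinfz
  have hdegpos : 0 < Pinf.deg := deg_pos hR Pinf
  have hd2 : (1 : ℤ) ≤ Pinf.deg := by exact_mod_cast hdegpos
  have hPinfdeg : Pinf.deg = 1 := by
    have h3 : (Pinf.deg : ℤ) ≤ 1 := by nlinarith
    omega
  have hordXi : Pinf.ord (RatFunc.X : RatFunc k)⁻¹ = 1 := by
    have h4 : Pinf.ord (RatFunc.X : RatFunc k)⁻¹ ≤ 1 := by nlinarith
    omega
  have hordX : Pinf.ord (RatFunc.X : RatFunc k) = -1 := by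
    rw [ord_inv] at hordXi
    omega
  have hvX : Pinf.1 RatFunc.X = WithZero.exp 1 := by
    rw [val_eq_exp Pinf hX0, hordX, neg_neg]
  have hvf : Pinf.1 (algebraMap (Polynomial k) (RatFunc k) f) =
      WithZero.exp (f.natDegree : ℤ) := by
    rw [val_poly_pole Pinf hXgt hf0, hvX, ← WithZero.exp_nsmul]
    congr 1
    simp
  have hordf : Pinf.ord (algebraMap (Polynomial k) (RatFunc k) f) = -(f.natDegree : ℤ) := by
    unfold Place.ord
    rw [hvf, WithZero.log_exp]
  obtain ⟨hfin, hsum'⟩ := general (K' := K) hR Pinf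
  have hsum := hsum' hfin.toFinset (fun Q => hfin.mem_toFinset)
  rw [hdeg, hPinfdeg] at hsum
  have hrel : ∀ (P : Place k K) (e : ℕ), IsOverWith P Pinf e →
      2 * P.ord y = -((e : ℤ) * f.natDegree) := by
    intro P e he
    rw [two_ord hf0 heq he, hordf]
    ring
  constructor
  · intro hodd
    have hterm : ∀ P : Place k K, IsOver P Pinf →
        2 ≤ ramIdx P Pinf * P.deg ∧
        (ramIdx P Pinf * P.deg = 2 → IsOverWith P Pinf 2 ∧ P.deg = 1) := by
      rintro P ⟨e, he⟩
      have h1 := hrel P e he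
      have hepos := isOverWith_pos he
      have hdpos := deg_pos' hR P
      rw [ramIdx_eq he]
      have heven : Even e := by
        obtain ⟨m, hm⟩ := hodd
        rw [hm] at h1
        push_cast at h1
        have h3 : Even (e : ℤ) := ⟨-(P.ord y) - m * e, by linarith⟩
        exact (Int.even_coe_nat e).1 h3
      obtain ⟨r, hr⟩ := heven
      have he2 : 2 ≤ e := by omega
      constructor
      · calc 2 = 2 * 1 := rfl
          _ ≤ e * P.deg := Nat.mul_le_mul he2 hdpos
      · intro h4
        have he' : e = 2 := by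
          by_contra hne
          have h3 : 3 ≤ e := by omega
          have h5 : 3 * 1 ≤ e * P.deg := Nat.mul_le_mul h3 hdpos
          omega
        subst he'
        exact ⟨he, by omega⟩
    have hne : hfin.toFinset.Nonempty := by
      by_contra hemp
      rw [Finset.not_nonempty_iff_eq_empty] at hemp
      rw [hemp, Finset.sum_empty] at hsum
      omega
    obtain ⟨P₁, hP₁⟩ := hne
    have hP₁over : IsOver P₁ Pinf := hfin.mem_toFinset.1 hP₁
    have huniq : ∀ P : Place k K, IsOver P Pinf → P = P₁ := by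
      intro P hP
      by_contra hne
      have hPmem : P ∈ hfin.toFinset.erase P₁ :=
        Finset.mem_erase.2 ⟨hne, hfin.mem_toFinset.2 hP⟩
      have h1 := Finset.add_sum_erase hfin.toFinset (fun Q => ramIdx Q Pinf * Q.deg) hP₁
      have h2' : ramIdx P Pinf * P.deg ≤ ∑ Q ∈ hfin.toFinset.erase P₁, ramIdx Q Pinf * Q.deg :=
        Finset.single_le_sum (f := fun Q => ramIdx Q Pinf * Q.deg)
          (fun _ _ => Nat.zero_le _) hPmem
      have h3 := (hterm P hP).1
      have h4 := (hterm P₁ hP₁over).1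
      omega
    have hsingle : ramIdx P₁ Pinf * P₁.deg = 2 := by
      have h1 : hfin.toFinset = {P₁} := by
        ext Q
        rw [Finset.mem_singleton, hfin.mem_toFinset]
        exact ⟨fun hQ => huniq Q hQ, fun hQ => hQ ▸ hP₁over⟩
      rw [h1, Finset.sum_singleton] at hsum
      omega
    refine ⟨⟨P₁, hP₁over, fun P hP => huniq P hP⟩, ?_⟩
    intro P hP
    rw [huniq P hP]
    exact (hterm P₁ hP₁over).2 hsingle
  · intro heven
    constructor
    · rw [deg_conorm' hR, hdeg, deg_single, hPinfdeg]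
      norm_num
    · rintro P ⟨e, he⟩
      by_contra hne1
      have hepos := isOverWith_pos he
      have hdpos := deg_pos' hR P
      have hPmem : P ∈ hfin.toFinset := hfin.mem_toFinset.2 ⟨e, he⟩
      have hle : ramIdx P Pinf * P.deg ≤ 2 := by
        have h1 := Finset.single_le_sum (f := fun Q => ramIdx Q Pinf * Q.deg)
          (fun _ _ => Nat.zero_le _) hPmem
        rw [hsum] at h1
        simpa using h1
      rw [ramIdx_eq he] at hle
      have he2 : e = 2 := by
        have hene1 : e ≠ 1 := by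
          rintro rfl
          exact hne1 he
        have h3 : e ≤ 2 := by nlinarith
        omega
      subst he2
      have hdeg1 : P.deg = 1 := by omega
      have huniq : ∀ P' : Place k K, IsOver P' Pinf → P' = P := by
        intro P' hP'
        by_contra hne
        have hP'mem : P' ∈ hfin.toFinset.erase P :=
          Finset.mem_erase.2 ⟨hne, hfin.mem_toFinset.2 hP'⟩
        have h1 := Finset.add_sum_erase hfin.toFinset (fun Q => ramIdx Q Pinf * Q.deg) hPmem
        have h2' : ramIdx P' Pinf * P'.deg ≤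
            ∑ Q ∈ hfin.toFinset.erase P, ramIdx Q Pinf * Q.deg :=
          Finset.single_le_sum (f := fun Q => ramIdx Q Pinf * Q.deg)
            (fun _ _ => Nat.zero_le _) hP'mem
        obtain ⟨e', he'⟩ := hP'
        have h3 := Nat.mul_pos (isOverWith_pos he') (deg_pos' hR P')
        rw [ramIdx_eq he'] at h2'
        have h4 : ramIdx P Pinf * P.deg = 2 := by rw [ramIdx_eq he, hdeg1]
        omega
      -- the conjugation
      have hynot := not_mem_range hf hd heq
      obtain ⟨σ, hσ⟩ := exists_conj hdeg hynot heq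
      have hσP : σ • P = P := huniq _ ⟨2, Groth.Agent.Lib.lead.Gal.isOverWith_smul σ he⟩
      have hinv : ∀ w : K, P.1 (σ w) = P.1 w := by
        intro w
        have h1 := Groth.Agent.Lib.lead.Gal.smul_apply σ P (σ w)
        rw [hσP, Groth.Agent.Lib.lead.Gal.inv_apply_self] at h1
        exact h1
      obtain ⟨m, hm⟩ := heven
      obtain ⟨x, hx⟩ : ∃ x : K, x = algebraMap (RatFunc k) K RatFunc.X := ⟨_, rfl⟩
      have hx0 : x ≠ 0 := by
        rw [hx]
        exact (map_ne_zero _).2 hX0
      have hPx : P.1 x = WithZero.exp 2 := by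
        rw [hx, he RatFunc.X, hvX, ← WithZero.exp_nsmul]
        congr 1
      have hy0 : y ≠ 0 := by
        rintro rfl
        rw [zero_pow two_ne_zero] at heq
        exact (map_ne_zero _).2 (RatFunc.algebraMap_ne_zero hf0) heq.symm
      have hordy : P.ord y = -(f.natDegree : ℤ) := by
        have h1 := hrel P 2 he
        push_cast at h1
        linarith
      have hPy : P.1 y = WithZero.exp (f.natDegree : ℤ) := by
        rw [val_eq_exp P hy0, hordy, neg_neg]
      obtain ⟨z, hz⟩ : ∃ z : K, z = y / x ^ m := ⟨_, rfl⟩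
      have hPz : P.1 z = 1 := by
        rw [hz, map_div₀, map_pow, hPx, hPy, ← WithZero.exp_nsmul, ← WithZero.exp_sub,
          ← WithZero.exp_zero]
        congr 1
        rw [hm]
        push_cast
        simp only [nsmul_eq_mul]
        ring
      obtain ⟨c, hc⟩ := exists_const_sub_lt' P hdeg1 hPz.le
      have hσx : σ x = x := by
        rw [hx]
        exact σ.commutes _
      have hσz : σ z = -z := by
        rw [hz, map_div₀, map_pow, hσ, hσx, neg_div]
      have hσc : σ (algebraMap k K c) = algebraMap k K c := by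
        rw [IsScalarTower.algebraMap_apply k (RatFunc k) K]
        exact σ.commutes _
      have h5 : P.1 (-z - algebraMap k K c) < 1 := by
        have h6 := hinv (z - algebraMap k K c)
        rw [map_sub, hσz, hσc] at h6
        rw [h6]
        exact hc
      have h7 : P.1 (2 * z) < 1 := by
        have e1 : 2 * z = (z - algebraMap k K c) - (-z - algebraMap k K c) := by ring
        rw [e1]
        exact lt_of_le_of_lt (Valuation.map_sub _ _ _) (max_lt hc h5)
      have h8 : P.1 (2 : K) = 1 := by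
        have h9 : (2 : k) ≠ 0 := Ring.two_ne_zero h2
        have h10 := val_algebraMap P h9
        rwa [map_ofNat] at h10
      rw [map_mul, h8, hPz, one_mul] at h7
      exact lt_irrefl _ h7

end Groth.Agent.Lib.lead.Hyp2
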