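import Mathlib
import Groth.Agent.Lib.lead.Hyp2

/-! Quadratic extensions: general ramification facts and Artin–Schreier extensions in char 2. -/

namespace Groth.Agent.Lib.lead.AS
open FunFld Groth.Agent.Lib.lead.FF Groth.Agent.Lib.lead.FF2 Groth.Agent.Lib.lead.FF3
  Groth.Agent.Lib.lead.FF4
  Groth.Agent.Lib.lead.FF5 Groth.Agent.Lib.lead.FF6 Groth.Agent.Lib.lead.FF7
  Groth.Agent.Lib.lead.FF8 Groth.Agent.Lib.lead.Loc Groth.Agent.Lib.lead.NS
  Groth.Agent.Lib.lead.Ext Groth.Agent.Lib.lead.Ext3 Groth.Agent.Lib.lead.Hyp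
  Groth.Agent.Lib.lead.Gal

section General
variable {k K K' : Type*} [Field k] [Field K] [Field K'] [Algebra k K] [Algebra K K']
  [Algebra k K'] [IsScalarTower k K K']

/-- residue surjectivity when degrees agree -/
lemma exists_sub_lt (hK : IsFunctionField k K) [FiniteDimensional K K'] {Q : Place k K'}
    {P : Place k K} {e : ℕ} (he : IsOverWith Q P e) (hdeg : Q.deg = P.deg) {y : K'}
    (hy : Q.1 y ≤ 1) : ∃ a : K, P.1 a ≤ 1 ∧ Q.1 (y - algebraMap K K' a) < 1 := by
  classical
  have hQpos : 0 < Q.deg := deg_pos' hK Q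
  haveI : Module.Finite k (IsLocalRing.ResidueField Q.O) := Module.finite_of_finrank_pos hQpos
  have hmem : ∀ a : ↥(OP P), algebraMap K K' a.1 ∈ OP Q := fun a =>
    (mem_OP Q _).2 ((isOverWith_le_one_iff he a.1).2 ((mem_OP P a.1).1 a.2))
  let ι : ↥(OP P) →ₗ[k] ↥(OP Q) :=
    { toFun := fun a => ⟨algebraMap K K' a.1, hmem a⟩
      map_add' := fun a b => Subtype.ext (map_add _ _ _)
      map_smul' := fun c a => Subtype.ext (by
        show algebraMap K K' (c • a.1) = c • algebraMap K K' a.1
        rw [Algebra.smul_def, map_mul, ← IsScalarTower.algebraMap_apply, Algebra.smul_def]) }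
  let L : ↥(OP P) →ₗ[k] IsLocalRing.ResidueField Q.O := (resMap Q).comp ι
  have hker : LinearMap.ker L = LinearMap.ker (resMap P) := by
    ext a
    rw [LinearMap.mem_ker, LinearMap.mem_ker, resMap_eq_zero_iff]
    show resMap Q (ι a) = 0 ↔ _
    rw [resMap_eq_zero_iff]
    exact isOverWith_lt_one_iff he a.1
  have h1 : Module.finrank k (LinearMap.range L) = P.deg := by
    rw [← L.quotKerEquivRange.finrank_eq, hker,
      ((resMap P).quotKerEquivOfSurjective (resMap_surjective P)).finrank_eq]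
    rfl
  have h2 : LinearMap.range L = ⊤ := by
    apply Submodule.eq_top_of_finrank_eq
    rw [h1, ← hdeg]; rfl
  have hy' : y ∈ OP Q := (mem_OP Q y).2 hy
  have h3 : resMap Q ⟨y, hy'⟩ ∈ LinearMap.range L := by rw [h2]; trivial
  obtain ⟨a, ha⟩ := h3
  refine ⟨a.1, (mem_OP P a.1).1 a.2, ?_⟩
  have h4 : resMap Q (⟨y, hy'⟩ - ι a) = 0 := by rw [map_sub]; exact sub_eq_zero.2 ha.symm
  rw [resMap_eq_zero_iff] at h4
  exact h4

variable (hK : IsFunctionField k K) (hdeg : Module.finrank K K' = 2)
include hK hdeg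

theorem totally (P₀ : Place k K)
    (heven : ∀ (P : Place k K') (e : ℕ), IsOverWith P P₀ e → 2 ≤ e) :
    (∃! P : Place k K', IsOver P P₀) ∧
    ∀ P : Place k K', IsOver P P₀ → IsOverWith P P₀ 2 ∧ P.deg = P₀.deg := by
  classical
  haveI : FiniteDimensional K K' :=
    Module.finite_of_finrank_pos (by rw [hdeg]; norm_num)
  obtain ⟨hfin, hsum'⟩ := general (K' := K') hK P₀
  have hsum := hsum' hfin.toFinset (fun Q => hfin.mem_toFinset)
  rw [hdeg] at hsum
  have hP₀pos : 0 < P₀.deg := deg_pos hK P₀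
  have hterm : ∀ P : Place k K', IsOver P P₀ →
      2 * P₀.deg ≤ ramIdx P P₀ * P.deg ∧
      (ramIdx P P₀ * P.deg = 2 * P₀.deg → IsOverWith P P₀ 2 ∧ P.deg = P₀.deg) := by
    intro P hP
    obtain ⟨e, he⟩ := hP
    have hdegle := deg_le_deg he (deg_pos' hK P)
    have hepos := isOverWith_pos he
    rw [ramIdx_eq he]
    have he2 : 2 ≤ e := heven P e he
    constructor
    · exact Nat.mul_le_mul he2 hdegle
    · intro h2
      have he' : e = 2 := by
        by_contra hne
        have h3 : 3 ≤ e := by omega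
        have h4 : 3 * P₀.deg ≤ e * P.deg := Nat.mul_le_mul h3 hdegle
        omega
      subst he'
      exact ⟨he, by omega⟩
  have hne : hfin.toFinset.Nonempty := by
    by_contra hemp
    rw [Finset.not_nonempty_iff_eq_empty] at hemp
    rw [hemp, Finset.sum_empty] at hsum
    omega
  obtain ⟨P₁, hP₁⟩ := hne
  have hP₁over : IsOver P₁ P₀ := hfin.mem_toFinset.1 hP₁
  have huniq : ∀ P : Place k K', IsOver P P₀ → P = P₁ := by
    intro P hP
    by_contra hne
    have hPmem : P ∈ hfin.toFinset.erase P₁ :=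
      Finset.mem_erase.2 ⟨hne, hfin.mem_toFinset.2 hP⟩
    have h1 := Finset.add_sum_erase hfin.toFinset (fun Q => ramIdx Q P₀ * Q.deg) hP₁
    have h2 : ramIdx P P₀ * P.deg ≤ ∑ Q ∈ hfin.toFinset.erase P₁, ramIdx Q P₀ * Q.deg :=
      Finset.single_le_sum (f := fun Q => ramIdx Q P₀ * Q.deg) (fun _ _ => Nat.zero_le _) hPmem
    have h3 := (hterm P hP).1
    have h4 := (hterm P₁ hP₁over).1
    omega
  have hsingle : ramIdx P₁ P₀ * P₁.deg = 2 * P₀.deg := by
    have h1 : hfin.toFinset = {P₁} := by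
      ext Q
      rw [Finset.mem_singleton, hfin.mem_toFinset]
      exact ⟨fun hQ => huniq Q hQ, fun hQ => hQ ▸ hP₁over⟩
    rw [h1, Finset.sum_singleton] at hsum
    exact hsum
  refine ⟨⟨P₁, hP₁over, fun P hP => huniq P hP⟩, ?_⟩
  intro P hP
  rw [huniq P hP]
  exact (hterm P₁ hP₁over).2 hsingle

theorem e_le_two {P₀ : Place k K} {P : Place k K'} {e : ℕ} (he : IsOverWith P P₀ e) :
    e ≤ 2 := by
  classical
  haveI : FiniteDimensional K K' :=
    Module.finite_of_finrank_pos (by rw [hdeg]; norm_num)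
  obtain ⟨hfin, hsum'⟩ := general (K' := K') hK P₀
  have hsum := hsum' hfin.toFinset (fun Q => hfin.mem_toFinset)
  rw [hdeg] at hsum
  have hPmem : P ∈ hfin.toFinset := hfin.mem_toFinset.2 ⟨e, he⟩
  have h2 : ramIdx P P₀ * P.deg ≤ ∑ Q ∈ hfin.toFinset, ramIdx Q P₀ * Q.deg :=
    Finset.single_le_sum (f := fun Q => ramIdx Q P₀ * Q.deg) (fun _ _ => Nat.zero_le _) hPmem
  rw [ramIdx_eq he, hsum] at h2
  have hdegle := deg_le_deg he (deg_pos' hK P)
  have hpos : 0 < P.deg := deg_pos' hK P
  have h3 : e * P.deg ≤ 2 * P.deg := h2.trans (Nat.mul_le_mul_left 2 hdegle)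
  exact Nat.le_of_mul_le_mul_right h3 hpos

theorem ram_two {P₀ : Place k K} {P : Place k K'} (he : IsOverWith P P₀ 2) :
    P.deg = P₀.deg ∧ ∀ P' : Place k K', IsOver P' P₀ → P' = P := by
  classical
  haveI : FiniteDimensional K K' :=
    Module.finite_of_finrank_pos (by rw [hdeg]; norm_num)
  obtain ⟨hfin, hsum'⟩ := general (K' := K') hK P₀
  have hsum := hsum' hfin.toFinset (fun Q => hfin.mem_toFinset)
  rw [hdeg] at hsum
  have hPmem : P ∈ hfin.toFinset := hfin.mem_toFinset.2 ⟨2, he⟩
  have hdegle := deg_le_deg he (deg_pos' hK P)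
  have h1 := Finset.add_sum_erase hfin.toFinset (fun Q => ramIdx Q P₀ * Q.deg) hPmem
  rw [ramIdx_eq he] at h1
  have huniq : ∀ P' : Place k K', IsOver P' P₀ → P' = P := by
    intro P' hP'
    by_contra hne
    have hP'mem : P' ∈ hfin.toFinset.erase P :=
      Finset.mem_erase.2 ⟨hne, hfin.mem_toFinset.2 hP'⟩
    have h2 : ramIdx P' P₀ * P'.deg ≤ ∑ Q ∈ hfin.toFinset.erase P, ramIdx Q P₀ * Q.deg :=
      Finset.single_le_sum (f := fun Q => ramIdx Q P₀ * Q.deg) (fun _ _ => Nat.zero_le _) hP'mem
    obtain ⟨e', he'⟩ := hP'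
    rw [ramIdx_eq he'] at h2
    have h3 : 0 < e' * P'.deg := Nat.mul_pos (isOverWith_pos he') (deg_pos' hK P')
    omega
  refine ⟨?_, huniq⟩
  have h5 : hfin.toFinset.erase P = ∅ := by
    rw [Finset.eq_empty_iff_forall_notMem]
    intro Q hQ
    rw [Finset.mem_erase, hfin.mem_toFinset] at hQ
    exact hQ.1 (huniq Q hQ.2)
  rw [h5, Finset.sum_empty, add_zero, hsum] at h1
  omega

end General

section ArtinSchreier
variable {k K : Type*} [Field k] [Field K] [Algebra k K]
  [Algebra (RatFunc k) K] [IsScalarTower k (RatFunc k) K]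

lemma exists_conj_as (h2 : ringChar k = 2) (hdeg : Module.finrank (RatFunc k) K = 2) {y : K}
    (hynot : y ∉ Set.range (algebraMap (RatFunc k) K)) {F : RatFunc k}
    (heq : y ^ 2 + y = algebraMap (RatFunc k) K F) :
    ∃ σ : K ≃ₐ[RatFunc k] K, σ y = y + 1 := by
  haveI : CharP k 2 := ringChar.of_eq h2
  haveI : CharP K 2 := charP_of_injective_algebraMap (algebraMap k K).injective 2
  haveI : FiniteDimensional (RatFunc k) K :=
    Module.finite_of_finrank_pos (by rw [hdeg]; norm_num)
  haveI : Algebra.IsQuadraticExtension (RatFunc k) K :=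
    { toFree := inferInstance, finrank_eq_two' := hdeg }
  have hint : IsIntegral (RatFunc k) y := Algebra.IsIntegral.isIntegral y
  haveI := IntermediateField.isSimpleOrder_of_finrank_prime
    (F := RatFunc k) (E := K) (by rw [hdeg]; exact Nat.prime_two)
  have htop : IntermediateField.adjoin (RatFunc k) ({y} : Set K) = ⊤ := by
    rcases eq_bot_or_eq_top (IntermediateField.adjoin (RatFunc k) ({y} : Set K)) with h | h
    · exfalso
      apply hynot
      have h1 : y ∈ IntermediateField.adjoin (RatFunc k) ({y} : Set K) :=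
        IntermediateField.mem_adjoin_simple_self _ y
      rw [h] at h1
      exact IntermediateField.mem_bot.1 h1
    · exact h
  have hdeg2 : (minpoly (RatFunc k) y).natDegree = 2 := by
    rw [← IntermediateField.adjoin.finrank hint, htop, IntermediateField.finrank_top', hdeg]
  have hqm : (Polynomial.X ^ 2 + (Polynomial.X - Polynomial.C F) :
      Polynomial (RatFunc k)).Monic := by
    apply Polynomial.monic_X_pow_add
    refine lt_of_le_of_lt (Polynomial.degree_X_sub_C_le F) ?_
    norm_num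
  have hqd : (Polynomial.X ^ 2 + (Polynomial.X - Polynomial.C F) :
      Polynomial (RatFunc k)).natDegree ≤ 2 := by
    compute_degree
  have hdvd : minpoly (RatFunc k) y ∣ (Polynomial.X ^ 2 + (Polynomial.X - Polynomial.C F)) := by
    apply minpoly.dvd
    rw [map_add, map_sub, map_pow, Polynomial.aeval_X, Polynomial.aeval_C, ← add_sub_assoc, heq,
      sub_self]
  have hq : (Polynomial.X ^ 2 + (Polynomial.X - Polynomial.C F) : Polynomial (RatFunc k)) =
      minpoly (RatFunc k) y :=
    Polynomial.eq_of_monic_of_dvd_of_natDegree_le (minpoly.monic hint) hqm hdvd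
      (by rw [hdeg2]; exact hqd)
  have hroot : Polynomial.aeval (y + 1) (minpoly (RatFunc k) y) = 0 := by
    rw [← hq, map_add, map_sub, map_pow, Polynomial.aeval_X, Polynomial.aeval_C, ← heq]
    have e1 : (y + 1) ^ 2 + (y + 1 - (y ^ 2 + y)) = 2 * (y + 1) := by ring
    rw [e1, CharTwo.two_eq_zero, zero_mul]
  have hconj : IsConjRoot (RatFunc k) y (y + 1) := (isConjRoot_iff_aeval_eq_zero hint).2 hroot
  obtain ⟨σ, hσ⟩ := hconj.exists_algEquiv
  rw [map_add, map_one] at hσ
  have h : σ y = y - 1 := eq_sub_of_add_eq hσ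
  exact ⟨σ, by rw [h, CharTwo.sub_eq_add]⟩

set_option maxHeartbeats 800000 in
theorem s12519 (h2 : ringChar k = 2)
    (hdeg : Module.finrank (RatFunc k) K = 2)
    (y : K) (hy : y ∉ Set.range (algebraMap (RatFunc k) K))
    (f : RatFunc k) (heq : y ^ 2 + y = algebraMap (RatFunc k) K f)
    (P₀ : Place k (RatFunc k)) :
    ((P₀.ord f < 0 ∧ Odd (P₀.ord f)) → (∃! P : Place k K, IsOver P P₀) ∧
      ∀ P : Place k K, IsOver P P₀ → IsOverWith P P₀ 2 ∧ P.deg = P₀.deg) ∧
    (0 ≤ P₀.ord f → ∀ P : Place k K, IsOver P P₀ → IsOverWith P P₀ 1) := by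
  classical
  have hR : IsFunctionField k (RatFunc k) := isFunctionField_ratFunc
  haveI : FiniteDimensional (RatFunc k) K :=
    Module.finite_of_finrank_pos (by rw [hdeg]; norm_num)
  haveI : CharP k 2 := ringChar.of_eq h2
  haveI : CharP K 2 := charP_of_injective_algebraMap (algebraMap k K).injective 2
  -- basic valuation facts
  have hbig : ∀ (P : Place k K), 1 < P.1 y → P.1 (y ^ 2 + y) = P.1 y ^ 2 := by
    intro P h1
    have hlt : P.1 y < P.1 (y ^ 2) := by
      rw [map_pow, pow_two]
      have h0 : 0 < P.1 y := lt_trans zero_lt_one h1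
      calc P.1 y = P.1 y * 1 := (mul_one _).symm
        _ < P.1 y * P.1 y := by
          exact mul_lt_mul_of_pos_left h1 h0
    rw [Valuation.map_add_eq_of_lt_left _ hlt, map_pow]
  have hsmall : ∀ (P : Place k K), P.1 y ≤ 1 → P.1 (y ^ 2 + y) ≤ 1 := by
    intro P h1
    refine (P.1.map_add _ _).trans (max_le ?_ h1)
    rw [map_pow]
    exact pow_le_one₀ zero_le' h1
  constructor
  · rintro ⟨hneg, hodd⟩
    apply totally hR hdeg P₀
    intro P e he
    have hepos := isOverWith_pos he
    have hf0 : f ≠ 0 := by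
      rintro rfl
      unfold Place.ord at hneg
      rw [map_zero, WithZero.log_zero] at hneg
      exact lt_irrefl _ hneg
    have hvf : 1 < P₀.1 f := (ord_neg_iff P₀ hf0).1 hneg
    have hvf' : 1 < P.1 (algebraMap (RatFunc k) K f) := by
      rw [he f]
      exact one_lt_pow₀ hvf hepos.ne'
    have hvy : 1 < P.1 y := by
      by_contra hle
      rw [not_lt] at hle
      have := hsmall P hle
      rw [heq] at this
      exact not_le.2 hvf' this
    have hy0 : y ≠ 0 := by
      rintro rfl
      rw [map_zero] at hvy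
      exact not_lt.2 zero_le' hvy
    have h1 := hbig P hvy
    have h3 : 2 * P.ord y = e * P₀.ord f := by
      rw [← ord_algebraMap he, ← heq]
      unfold Place.ord
      rw [h1, WithZero.log_pow]
      simp
    have h4 : Even ((e : ℤ) * P₀.ord f) := ⟨P.ord y, by rw [← h3]; ring⟩
    rw [Int.even_mul] at h4
    rcases h4 with h | h
    · rw [Int.even_coe_nat] at h
      obtain ⟨r, hr⟩ := h
      omega
    · exact absurd h (Int.not_even_iff_odd.2 hodd)
  · intro hnn P hP
    obtain ⟨e, he⟩ := hP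
    have hepos := isOverWith_pos he
    have hle2 := e_le_two hR hdeg he
    have he12 : e = 1 ∨ e = 2 := by omega
    rcases he12 with rfl | rfl
    · exact he
    · exfalso
      obtain ⟨hdegeq, huniq⟩ := ram_two hR hdeg he
      have hvf : P₀.1 f ≤ 1 := by
        by_contra hlt
        rw [not_le] at hlt
        have hf0 : f ≠ 0 := by
          rintro rfl
          rw [map_zero] at hlt
          exact not_lt.2 zero_le' hlt
        have := (ord_neg_iff P₀ hf0).2 hlt
        omega
      have hvf' : P.1 (algebraMap (RatFunc k) K f) ≤ 1 := (isOverWith_le_one_iff he f).2 hvf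
      have hvy : P.1 y ≤ 1 := by
        by_contra hlt
        rw [not_le] at hlt
        have h1 := hbig P hlt
        rw [heq] at h1
        rw [h1] at hvf'
        exact not_lt.2 hvf' (one_lt_pow₀ hlt two_ne_zero)
      obtain ⟨a, -, ha⟩ := exists_sub_lt hR he hdegeq hvy
      obtain ⟨σ, hσ⟩ := exists_conj_as h2 hdeg hy heq
      have hσP : σ • P = P := huniq _ ⟨2, isOverWith_smul σ he⟩
      have h5 : P.1 (σ (y - algebraMap (RatFunc k) K a)) = P.1 (y - algebraMap (RatFunc k) K a) := by
        have h6 := smul_apply σ P (σ (y - algebraMap (RatFunc k) K a))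
        rw [hσP, inv_apply_self] at h6
        exact h6
      rw [map_sub, hσ, AlgEquiv.commutes] at h5
      have h7 : (1 : K) = (y + 1 - algebraMap (RatFunc k) K a) -
          (y - algebraMap (RatFunc k) K a) := by ring
      have h8 : P.1 (1 : K) < 1 := by
        rw [h7]
        refine lt_of_le_of_lt (Valuation.map_sub _ _ _) (max_lt ?_ ha)
        rw [h5]; exact ha
      rw [map_one] at h8
      exact lt_irrefl _ h8

end ArtinSchreier

end Groth.Agent.Lib.lead.AS
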