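import Mathlib
import Groth.Prelude.Def_W4bk4goldsch23FF
import Groth.Agent.Lib.lead.FF

/-! Kähler differentials of separably generated field extensions. -/

namespace Groth.Agent.Lib.lead.Kae
open FunFld KaehlerDifferential TensorProduct

universe u v

section transfer
variable (R S T : Type*) [CommRing R] [CommRing S] [CommRing T]
  [Algebra R S] [Algebra R T] [Algebra S T] [IsScalarTower R S T]

/-- Transport a basis of differentials along a formally étale map. -/
noncomputable def basisTransfer [Algebra.FormallyEtale S T] {ι : Type*}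
    (b : Module.Basis ι S Ω[S⁄R]) : Module.Basis ι T Ω[T⁄R] :=
  (b.baseChange T).map (tensorKaehlerEquivOfFormallyEtale R S T)

lemma basisTransfer_apply [Algebra.FormallyEtale S T] {ι : Type*}
    (b : Module.Basis ι S Ω[S⁄R]) (s : ι → S) (hb : ∀ i, b i = D R S (s i)) (i : ι) :
    basisTransfer R S T b i = D R T (algebraMap S T (s i)) := by
  rw [basisTransfer, Module.Basis.map_apply, Module.Basis.baseChange_apply,
    tensorKaehlerEquivOfFormallyEtale_apply, mapBaseChange_tmul, one_smul, hb, map_D]

end transfer

open scoped IntermediateField.algebraAdjoinAdjoin in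
theorem exists_basis_of_separating {k F : Type*} [Field k] [Field F] [Algebra k F] {ι : Type*}
    (s : ι → F) (hs : AlgebraicIndependent k s)
    [Algebra.IsSeparable (IntermediateField.adjoin k (Set.range s)) F] :
    ∃ b : Module.Basis ι F Ω[F⁄k], ∀ i, b i = D k F (s i) := by
  classical
  letI algBA : Algebra (MvPolynomial ι k) (Algebra.adjoin k (Set.range s)) :=
    RingHom.toAlgebra (hs.aevalEquiv.toRingEquiv.toRingHom)
  haveI tow : IsScalarTower k (MvPolynomial ι k) (Algebra.adjoin k (Set.range s)) :=
    IsScalarTower.of_algebraMap_eq (fun c => (hs.aevalEquiv.commutes c).symm)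
  haveI et1 : Algebra.FormallyEtale (MvPolynomial ι k) (Algebra.adjoin k (Set.range s)) :=
    Algebra.FormallyEtale.of_equiv
      (AlgEquiv.ofRingEquiv (f := hs.aevalEquiv.toRingEquiv) (fun b => rfl))
  haveI et2 : Algebra.FormallyEtale (Algebra.adjoin k (Set.range s))
      (IntermediateField.adjoin k (Set.range s)) :=
    Algebra.FormallyEtale.of_isLocalization (nonZeroDivisors _)
  haveI et3 : Algebra.FormallyEtale (IntermediateField.adjoin k (Set.range s)) F :=
    Algebra.FormallyEtale.of_isSeparable _ F
  have h0 : ∀ i, mvPolynomialBasis k ι i = D k (MvPolynomial ι k) (MvPolynomial.X i) :=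
    fun i => mvPolynomialBasis_apply k ι i
  have h1 : ∀ i, basisTransfer k (MvPolynomial ι k) (Algebra.adjoin k (Set.range s))
      (mvPolynomialBasis k ι) i =
      D k _ (⟨s i, Algebra.subset_adjoin ⟨i, rfl⟩⟩ : Algebra.adjoin k (Set.range s)) := by
    intro i
    rw [basisTransfer_apply k _ _ (mvPolynomialBasis k ι) MvPolynomial.X h0]
    congr 1
    apply Subtype.ext
    have := hs.algebraMap_aevalEquiv (MvPolynomial.X i)
    rw [MvPolynomial.aeval_X] at this
    exact this
  have h2 : ∀ i, basisTransfer k (Algebra.adjoin k (Set.range s))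
      (IntermediateField.adjoin k (Set.range s))
      (basisTransfer k (MvPolynomial ι k) (Algebra.adjoin k (Set.range s))
        (mvPolynomialBasis k ι)) i =
      D k _ (⟨s i, IntermediateField.subset_adjoin k _ ⟨i, rfl⟩⟩ :
        IntermediateField.adjoin k (Set.range s)) := by
    intro i
    rw [basisTransfer_apply k _ _ _ _ h1]
    rfl
  refine ⟨basisTransfer k (IntermediateField.adjoin k (Set.range s)) F
    (basisTransfer k (Algebra.adjoin k (Set.range s))
      (IntermediateField.adjoin k (Set.range s))
      (basisTransfer k (MvPolynomial ι k) (Algebra.adjoin k (Set.range s))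
        (mvPolynomialBasis k ι))), fun i => ?_⟩
  rw [basisTransfer_apply k _ _ _ _ h2]
  rfl

/-- A basis of differentials indexed by `Fin n` for a separably generated extension of
transcendence degree `n`. -/
theorem exists_fin_basis (k : Type u) (F : Type v) [Field k] [Field F] [Algebra k F]
    (n : ℕ) (h : Algebra.trdeg k F = n)
    (hsg : ∃ s : Finset F, IsTranscendenceBasis k ((↑) : s → F) ∧
      Algebra.IsSeparable (IntermediateField.adjoin k (s : Set F)) F) :
    ∃ (t : Fin n → F) (b : Module.Basis (Fin n) F Ω[F⁄k]), ∀ i, b i = D k F (t i) := by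
  obtain ⟨s, hs, H⟩ := hsg
  haveI : Algebra.IsSeparable (↥(IntermediateField.adjoin k (Set.range ((↑) : s → F)))) F := by
    convert! H <;> simp
  obtain ⟨b, hb⟩ := exists_basis_of_separating ((↑) : s → F) hs.1
  have hc : Fintype.card ↥s = n := by
    have h1 := hs.cardinalMk_eq_trdeg
    rw [h, Cardinal.mk_fintype, Nat.cast_inj] at h1
    exact h1
  refine ⟨fun i => ((Fintype.equivFinOfCardEq hc).symm i : F),
    b.reindex (Fintype.equivFinOfCardEq hc), fun i => ?_⟩
  rw [Module.Basis.reindex_apply]
  exact hb _

/-- Spanning differentials from a subfield force separability. -/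
theorem sep_of_span' {k E F : Type*} [Field k] [Field E] [Field F] [Algebra k E] [Algebra k F]
    [Algebra E F] [IsScalarTower k E F] [Algebra.EssFiniteType E F] {ι : Type*} (x : ι → E)
    (hspan : Submodule.span F (Set.range fun i : ι => D k F (algebraMap E F (x i))) = ⊤) :
    Algebra.IsSeparable E F := by
  haveI : Algebra.FormallyUnramified E F := by
    rw [Algebra.formallyUnramified_iff]
    have hsurj : Function.Surjective (KaehlerDifferential.map k E F F) :=
      KaehlerDifferential.map_surjective k E F
    have hzero : ∀ ω : Ω[F⁄k], KaehlerDifferential.map k E F F ω = 0 := by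
      intro ω
      have hω : ω ∈ Submodule.span F (Set.range fun i : ι => D k F (algebraMap E F (x i))) := by
        rw [hspan]; trivial
      induction hω using Submodule.span_induction with
      | mem y hy =>
        obtain ⟨i, rfl⟩ := hy
        rw [KaehlerDifferential.map_D]
        change D E F (algebraMap E F (x i)) = 0
        exact Derivation.map_algebraMap _ _
      | zero => exact map_zero _
      | add a b _ _ ha hb => rw [map_add, ha, hb, add_zero]
      | smul c a _ ha => rw [map_smul, ha, smul_zero]
    refine ⟨fun a b => ?_⟩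
    obtain ⟨a', rfl⟩ := hsurj a
    obtain ⟨b', rfl⟩ := hsurj b
    rw [hzero, hzero]
  exact Algebra.FormallyUnramified.isSeparable E F

theorem s11083 (k : Type u) (F : Type v)
    [Field k] [IsAlgClosed k] [Field F] [Algebra k F] (hF : (⊤ : IntermediateField k F).FG)
    (d : ℕ) (x : Fin d → F) (hx : IsTranscendenceBasis k x) :
    Module.rank F (Ω[F⁄k]) = d := by
  haveI : Algebra.EssFiniteType k F := IntermediateField.fg_top_iff.1 hF
  have htr : Algebra.trdeg k F = d := by
    have h1 := hx.lift_cardinalMk_eq_trdeg
    simpa using h1.symm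
  obtain ⟨t, b, -⟩ := exists_fin_basis k F d htr
    (exists_isTranscendenceBasis_and_isSeparable_of_perfectField k F)
  rw [rank_eq_card_basis b, Fintype.card_fin]

theorem s11082 (k : Type u) (F : Type v)
    [Field k] [IsAlgClosed k] [Field F] [Algebra k F] (hF : (⊤ : IntermediateField k F).FG)
    {ι : Type v} (x : ι → F) (hx : IsTranscendenceBasis k x) :
    Algebra.IsSeparable (IntermediateField.adjoin k (Set.range x)) F ↔
      (LinearIndependent F (fun i : ι => KaehlerDifferential.D k F (x i)) ∧
        Submodule.span F (Set.range fun i : ι => KaehlerDifferential.D k F (x i)) = ⊤) := by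
  haveI : Algebra.EssFiniteType k F := IntermediateField.fg_top_iff.1 hF
  constructor
  · intro hsep
    haveI := hsep
    obtain ⟨b, hb⟩ := exists_basis_of_separating x hx.1
    have e : (fun i : ι => D k F (x i)) = b := funext (fun i => (hb i).symm)
    rw [e]
    exact ⟨b.linearIndependent, b.span_eq⟩
  · rintro ⟨-, hspan⟩
    haveI : Algebra.EssFiniteType (IntermediateField.adjoin k (Set.range x)) F :=
      Algebra.EssFiniteType.of_comp k _ F
    refine sep_of_span' (k := k) (fun i => (⟨x i, IntermediateField.subset_adjoin k _ ⟨i, rfl⟩⟩ :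
      IntermediateField.adjoin k (Set.range x))) ?_
    exact hspan

lemma eq_zero_of_pow_of_isField {T : Type*} [CommRing T] (hT : IsField T) (t : T) (p : ℕ)
    (h : t ^ p = 0) : t = 0 := by
  by_contra hne
  obtain ⟨u, hu⟩ := hT.mul_inv_cancel hne
  haveI := hT.nontrivial
  have h1 : (1 : T) = 0 := by
    calc (1 : T) = (t * u) ^ p := by rw [hu, one_pow]
      _ = 0 := by rw [mul_pow, h, zero_mul]
  exact one_ne_zero h1

/-- MacLane's criterion from geometricity. -/
theorem maclane {k : Type u} {K : Type v} [Field k] [Field K] [Algebra k K]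
    (hg : IsGeometric k K) (p : ℕ) [hp : Fact p.Prime] [CharP k p]
    (s : Finset K) (hs : LinearIndepOn k _root_.id (s : Set K)) :
    LinearIndepOn k (· ^ p) (s : Set K) := by
  classical
  have hs' : LinearIndependent k (fun y : (s : Set K) => (y : K)) := hs
  show LinearIndependent k (fun y : (s : Set K) => (y : K) ^ p)
  rw [Fintype.linearIndependent_iff]
  intro c hc
  have hr : ∀ y : (s : Set K), ∃ r : AlgebraicClosure k,
      r ^ p = algebraMap k (AlgebraicClosure k) (c y) :=
    fun y => IsAlgClosed.exists_pow_nat_eq _ hp.out.pos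
  choose r hr using hr
  haveI : FiniteDimensional k (IntermediateField.adjoin k (Set.range r)) :=
    IntermediateField.finiteDimensional_adjoin (fun x _ => Algebra.IsIntegral.isIntegral x)
  have hfield := hg (IntermediateField.adjoin k (Set.range r)) inferInstance
  haveI : IsDomain (TensorProduct k (IntermediateField.adjoin k (Set.range r)) K) :=
    hfield.isDomain
  haveI : Nontrivial (TensorProduct k (IntermediateField.adjoin k (Set.range r)) K) :=
    hfield.nontrivial
  haveI : CharP (TensorProduct k (IntermediateField.adjoin k (Set.range r)) K) p :=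
    charP_of_injective_algebraMap (algebraMap k _).injective p
  let r' : ↥(s : Set K) → IntermediateField.adjoin k (Set.range r) :=
    fun y => ⟨r y, IntermediateField.subset_adjoin k _ ⟨y, rfl⟩⟩
  have hpow : ∀ y : (s : Set K), (r' y ⊗ₜ[k] (y : K)) ^ p =
      (1 : IntermediateField.adjoin k (Set.range r)) ⊗ₜ[k] (c y • (y : K) ^ p) := by
    intro y
    rw [Algebra.TensorProduct.tmul_pow]
    have h1 : (r' y) ^ p = c y • (1 : IntermediateField.adjoin k (Set.range r)) := by
      apply Subtype.ext
      show (r y) ^ p = c y • (1 : AlgebraicClosure k)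
      rw [hr y, Algebra.algebraMap_eq_smul_one]
    rw [h1, TensorProduct.smul_tmul]
  have ht : (∑ y : ↥(s : Set K), r' y ⊗ₜ[k] (y : K)) ^ p = 0 := by
    have e1 := sum_pow_char (R := TensorProduct k (IntermediateField.adjoin k (Set.range r)) K) p
      Finset.univ (fun y : ↥(s : Set K) => r' y ⊗ₜ[k] (y : K))
    refine e1.trans ?_
    rw [Finset.sum_congr rfl (fun y _ => hpow y), ← TensorProduct.tmul_sum, hc,
      TensorProduct.tmul_zero]
  have ht0 : (∑ y : ↥(s : Set K), r' y ⊗ₜ[k] (y : K)) = 0 :=
    eq_zero_of_pow_of_isField hfield _ p ht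
  have hli := Module.Flat.linearIndependent_one_tmul
    (S := IntermediateField.adjoin k (Set.range r)) hs'
  rw [Fintype.linearIndependent_iff] at hli
  have hz := hli r' (by
    rw [← ht0]
    refine Finset.sum_congr rfl (fun y _ => ?_)
    rw [TensorProduct.smul_tmul', smul_eq_mul, mul_one])
  intro y
  have h1 : r y = 0 := congrArg Subtype.val (hz y)
  have h2 := hr y
  rw [h1, zero_pow hp.out.ne_zero] at h2
  exact (map_eq_zero_iff _ (algebraMap k (AlgebraicClosure k)).injective).1 h2.symm

theorem sepgen {k : Type u} {K : Type v} [Field k] [Field K] [Algebra k K]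
    (hK : IsFunctionField k K) (hg : IsGeometric k K) :
    ∃ s : Finset K, IsTranscendenceBasis k ((↑) : s → K) ∧
      Algebra.IsSeparable (IntermediateField.adjoin k (s : Set K)) K := by
  haveI := FF.essFiniteType hK
  obtain _ | ⟨p, hp, hpk⟩ := CharP.exists' k
  · exact exists_isTranscendenceBasis_and_isSeparable_of_perfectField k K
  · haveI : ExpChar k p := .prime hp.out
    exact exists_isTranscendenceBasis_and_isSeparable_of_linearIndepOn_pow_of_essFiniteType
      p hp.out (fun s hs => maclane hg p s hs)

theorem s11003 (k : Type u) (K : Type v) [Field k] [Field K] [Algebra k K]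
    (hK : FunFld.IsFunctionField k K) (hg : FunFld.IsGeometric k K) :
    Module.finrank K (KaehlerDifferential k K) = 1 := by
  obtain ⟨t, b, -⟩ := exists_fin_basis k K 1 (by rw [FF.trdeg_eq_one hK]; rfl) (sepgen hK hg)
  rw [Module.finrank_eq_card_basis b, Fintype.card_fin]

theorem s11092 (k : Type u) (K L : Type v)
    [Field k] [IsAlgClosed k] [Field K] [Field L] [Algebra k K] [Algebra k L] [Algebra K L]
    [IsScalarTower k K L] (hK : (⊤ : IntermediateField k K).FG)
    (hx : ∃ x : K, IsTranscendenceBasis k (fun _ : Unit => x)) [FiniteDimensional K L] :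
    (KaehlerDifferential.map k k K L = 0 ∨ Function.Injective (KaehlerDifferential.map k k K L)) ∧
      (Function.Injective (KaehlerDifferential.map k k K L) ↔ Algebra.IsSeparable K L) := by
  haveI : Algebra.EssFiniteType k K := IntermediateField.fg_top_iff.1 hK
  haveI : Algebra.EssFiniteType K L := inferInstance
  haveI : Algebra.EssFiniteType k L := Algebra.EssFiniteType.comp k K L
  obtain ⟨x, hx⟩ := hx
  have htK : Algebra.trdeg k K = 1 := by
    have h1 := hx.lift_cardinalMk_eq_trdeg
    simpa using h1.symm
  have htL : Algebra.trdeg k L = 1 := by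
    have h1 := trdeg_add_eq k K (A := L)
    rw [htK, trdeg_eq_zero, add_zero] at h1
    exact h1.symm
  obtain ⟨t, b, hb⟩ := exists_fin_basis k K 1 (by rw [htK]; rfl)
    (exists_isTranscendenceBasis_and_isSeparable_of_perfectField k K)
  obtain ⟨t', b', hb'⟩ := exists_fin_basis k L 1 (by rw [htL]; rfl)
    (exists_isTranscendenceBasis_and_isSeparable_of_perfectField k L)
  have hrep : ∀ ω : Ω[K⁄k], ω = (b.repr ω 0) • b 0 := by
    intro ω
    have := b.sum_repr ω
    rw [Fin.sum_univ_one] at this
    exact this.symm
  have hrep' : ∀ ω : Ω[L⁄k], ω = (b'.repr ω 0) • b' 0 := by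
    intro ω
    have := b'.sum_repr ω
    rw [Fin.sum_univ_one] at this
    exact this.symm
  have hdich : KaehlerDifferential.map k k K L (b 0) ≠ 0 →
      Function.Injective (KaehlerDifferential.map k k K L) := by
    intro hne
    rw [injective_iff_map_eq_zero]
    intro ω hω
    rw [hrep ω, map_smul, smul_eq_zero] at hω
    rcases hω with h | h
    · rw [hrep ω, h, zero_smul]
    · exact absurd h hne
  have hzero : KaehlerDifferential.map k k K L (b 0) = 0 →
      KaehlerDifferential.map k k K L = 0 := by
    intro h0
    apply LinearMap.ext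
    intro ω
    rw [hrep ω, map_smul, h0, smul_zero]
    rfl
  refine ⟨?_, ?_⟩
  · by_cases h0 : KaehlerDifferential.map k k K L (b 0) = 0
    · left; exact hzero h0
    · right; exact hdich h0
  · constructor
    · intro hinj
      have hne : KaehlerDifferential.map k k K L (b 0) ≠ 0 :=
        fun h => b.ne_zero 0 (hinj (h.trans (map_zero _).symm))
      rw [hb 0, KaehlerDifferential.map_D] at hne
      apply sep_of_span' (k := k) (E := K) (F := L) (fun _ : Fin 1 => t 0)
      rw [eq_top_iff]
      intro ω _
      obtain ⟨c, hc⟩ : ∃ c : L, ω = c • b' 0 := ⟨_, hrep' ω⟩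
      obtain ⟨c', hc'⟩ : ∃ c' : L, D k L (algebraMap K L (t 0)) = c' • b' 0 := ⟨_, hrep' _⟩
      have hc0 : c' ≠ 0 := by
        intro h0
        rw [h0, zero_smul] at hc'
        exact hne hc'
      have h3 : ω = (c / c') • D k L (algebraMap K L (t 0)) := by
        rw [hc', smul_smul, div_mul_cancel₀ _ hc0]
        exact hc
      rw [h3]
      exact Submodule.smul_mem _ _ (Submodule.subset_span ⟨0, rfl⟩)
    · intro hsep
      haveI := hsep
      haveI : Algebra.FormallyEtale K L := Algebra.FormallyEtale.of_isSeparable K L
      apply hdich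
      have h4 := basisTransfer_apply k K L b t hb 0
      rw [hb 0, KaehlerDifferential.map_D, ← h4]
      exact (basisTransfer k K L b).ne_zero 0

end Groth.Agent.Lib.lead.Kae
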