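import Mathlib
import Groth.Prelude.Def_W4bk4goldsch23FF
import Groth.Agent.Lib.lead.FF
import Groth.Agent.Lib.lead.Kae

/-! `kK^p` in a geometric function field of characteristic `p`. -/

namespace Groth.Agent.Lib.lead.Kae2
open FunFld KaehlerDifferential
open scoped IntermediateField

universe u v
variable {k : Type u} {K : Type v} [Field k] [Field K] [Algebra k K]

/-- The kernel of `d` as an intermediate field. -/
def kerD (k : Type u) (K : Type v) [Field k] [Field K] [Algebra k K] : IntermediateField k K where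
  toSubalgebra :=
    { carrier := {x | D k K x = 0}
      mul_mem' := by
        intro a b ha hb
        simp only [Set.mem_setOf_eq] at ha hb ⊢
        rw [Derivation.leibniz, ha, hb, smul_zero, smul_zero, add_zero]
      one_mem' := Derivation.map_one_eq_zero _
      add_mem' := by
        intro a b ha hb
        simp only [Set.mem_setOf_eq] at ha hb ⊢
        rw [map_add, ha, hb, add_zero]
      zero_mem' := map_zero _
      algebraMap_mem' := fun c => Derivation.map_algebraMap _ c }
  inv_mem' := by
    intro a ha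
    change D k K a = 0 at ha
    change D k K a⁻¹ = 0
    rw [Derivation.leibniz_inv, ha, smul_zero]

lemma mem_kerD {x : K} : x ∈ kerD k K ↔ D k K x = 0 := Iff.rfl

abbrev Fp (k : Type u) (K : Type v) [Field k] [Field K] [Algebra k K] (p : ℕ) :
    IntermediateField k K :=
  IntermediateField.adjoin k (Set.range fun y : K => y ^ p)

lemma pow_mem_Fp (p : ℕ) (y : K) : y ^ p ∈ Fp k K p :=
  IntermediateField.subset_adjoin k _ ⟨y, rfl⟩

lemma Fp_le_kerD (p : ℕ) [CharP K p] : Fp k K p ≤ kerD k K := by
  rw [IntermediateField.adjoin_le_iff]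
  rintro _ ⟨y, rfl⟩
  show D k K (y ^ p) = 0
  rw [Derivation.leibniz_pow, ← Nat.cast_smul_eq_nsmul K, CharP.cast_eq_zero, zero_smul]

theorem exists_sep_elt (hK : IsFunctionField k K) (hg : IsGeometric k K) :
    ∃ s : K, D k K s ≠ 0 ∧ ∀ ω : Ω[K⁄k], ∃ c : K, ω = c • D k K s := by
  obtain ⟨t, b, hb⟩ := Kae.exists_fin_basis k K 1 (by rw [FF.trdeg_eq_one hK]; rfl)
    (Kae.sepgen hK hg)
  refine ⟨t 0, ?_, ?_⟩
  · rw [← hb 0]; exact b.ne_zero 0
  · intro ω
    refine ⟨b.repr ω 0, ?_⟩
    have := b.sum_repr ω
    rw [Fin.sum_univ_one, hb 0] at this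
    exact this.symm

theorem sep_of_D_ne_zero (hK : IsFunctionField k K) {x : K}
    (hspan : ∀ ω : Ω[K⁄k], ∃ c : K, ω = c • D k K x) :
    Algebra.IsSeparable (IntermediateField.adjoin k ({x} : Set K)) K := by
  haveI := FF.essFiniteType hK
  haveI : Algebra.EssFiniteType (IntermediateField.adjoin k ({x} : Set K)) K :=
    Algebra.EssFiniteType.of_comp k _ K
  refine Kae.sep_of_span' (k := k) (fun _ : Unit =>
    (⟨x, IntermediateField.mem_adjoin_simple_self k x⟩ :
      IntermediateField.adjoin k ({x} : Set K))) ?_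
  rw [eq_top_iff]
  intro ω _
  obtain ⟨c, rfl⟩ := hspan ω
  exact Submodule.smul_mem _ _ (Submodule.subset_span ⟨(), rfl⟩)

theorem span_of_ne_zero {s x : K} (hs : ∀ ω : Ω[K⁄k], ∃ c : K, ω = c • D k K s)
    (hx : D k K x ≠ 0) : ∀ ω : Ω[K⁄k], ∃ c : K, ω = c • D k K x := by
  obtain ⟨c, hc⟩ := hs (D k K x)
  have hc0 : c ≠ 0 := by
    rintro rfl
    rw [zero_smul] at hc
    exact hx hc
  intro ω
  obtain ⟨c', hc'⟩ := hs ω
  refine ⟨c' * c⁻¹, ?_⟩
  rw [hc, smul_smul, mul_assoc, inv_mul_cancel₀ hc0, mul_one]
  exact hc'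

theorem gen_top (p : ℕ) [hp : Fact p.Prime] [CharP K p] {s : K}
    [Algebra.IsSeparable (IntermediateField.adjoin k ({s} : Set K)) K] (y : K) :
    y ∈ IntermediateField.adjoin k ((Set.range fun y : K => y ^ p) ∪ {s}) := by
  haveI : ExpChar (IntermediateField.adjoin k ({s} : Set K)) p := ExpChar.prime hp.out
  have h0 := IntermediateField.adjoin_simple_eq_adjoin_pow_expChar_of_isSeparable'
    (IntermediateField.adjoin k ({s} : Set K)) K y p
  have h1 : y ∈ IntermediateField.adjoin (IntermediateField.adjoin k ({s} : Set K))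
      ({y ^ p} : Set K) := by
    rw [← h0]; exact IntermediateField.mem_adjoin_simple_self _ y
  have h2 : y ∈ (IntermediateField.adjoin (IntermediateField.adjoin k ({s} : Set K))
      ({y ^ p} : Set K)).restrictScalars k := h1
  rw [IntermediateField.adjoin_adjoin_left] at h2
  refine IntermediateField.adjoin.mono k _ _ ?_ h2
  rintro z (hz | hz)
  · right; exact hz
  · left; exact ⟨y, hz.symm⟩

theorem finrank_aux (p : ℕ) [hp : Fact p.Prime] [CharP K p] {s : K} (hs0 : D k K s ≠ 0)
    (hgen : ∀ y : K, y ∈ IntermediateField.adjoin k ((Set.range fun y : K => y ^ p) ∪ {s})) :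
    Module.finrank (Fp k K p) K = p := by
  have hsF : s ∉ Fp k K p := fun h => hs0 (Fp_le_kerD p h)
  have htop : IntermediateField.adjoin (Fp k K p) ({s} : Set K) = ⊤ := by
    rw [← IntermediateField.restrictScalars_eq_top_iff (K := k),
      IntermediateField.adjoin_adjoin_left, eq_top_iff]
    intro y _
    exact hgen y
  have hirr : Irreducible (Polynomial.X ^ p -
      Polynomial.C (⟨s ^ p, pow_mem_Fp p s⟩ : Fp k K p)) := by
    apply X_pow_sub_C_irreducible_of_prime hp.out
    intro b hb
    have h1 : (b : K) ^ p = s ^ p := by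
      rw [← IntermediateField.coe_pow]; exact congrArg Subtype.val hb
    have h2 : ((b : K) - s) ^ p = 0 := by rw [sub_pow_char, h1, sub_self]
    have h3 : (b : K) = s := sub_eq_zero.1 (pow_eq_zero_iff hp.out.ne_zero |>.1 h2)
    exact hsF (h3 ▸ b.2)
  have hroot : Polynomial.aeval s (Polynomial.X ^ p -
      Polynomial.C (⟨s ^ p, pow_mem_Fp p s⟩ : Fp k K p)) = 0 := by
    rw [map_sub, map_pow, Polynomial.aeval_X, Polynomial.aeval_C]
    exact sub_self _
  have hmonic : (Polynomial.X ^ p -
      Polynomial.C (⟨s ^ p, pow_mem_Fp p s⟩ : Fp k K p)).Monic :=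
    Polynomial.monic_X_pow_sub_C _ hp.out.ne_zero
  have hmin : minpoly (Fp k K p) s = Polynomial.X ^ p -
      Polynomial.C (⟨s ^ p, pow_mem_Fp p s⟩ : Fp k K p) :=
    (minpoly.eq_of_irreducible_of_monic hirr hroot hmonic).symm
  have hint : IsIntegral (Fp k K p) s := ⟨_, hmonic, hroot⟩
  have h4 := IntermediateField.adjoin.finrank hint
  rw [hmin, Polynomial.natDegree_X_pow_sub_C, htop, IntermediateField.finrank_top'] at h4
  exact h4

theorem finrank_eq_p (p : ℕ) [hp : Fact p.Prime] [CharP K p] (hK : IsFunctionField k K)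
    (hg : IsGeometric k K) : Module.finrank (Fp k K p) K = p := by
  obtain ⟨s, hs0, hspan⟩ := exists_sep_elt hK hg
  haveI := sep_of_D_ne_zero hK hspan
  exact finrank_aux p hs0 (gen_top p)

theorem top_of_not_mem (p : ℕ) [hp : Fact p.Prime] {F : IntermediateField k K}
    (hfr : Module.finrank F K = p) {x : K} (hx : x ∉ F) :
    IntermediateField.adjoin F ({x} : Set K) = ⊤ := by
  haveI : FiniteDimensional F K :=
    Module.finite_of_finrank_pos (by rw [hfr]; exact hp.out.pos)
  have h1 := Module.finrank_mul_finrank F (IntermediateField.adjoin F ({x} : Set K)) K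
  rw [hfr] at h1
  have hdvd : Module.finrank F (IntermediateField.adjoin F ({x} : Set K)) ∣ p := Dvd.intro _ h1
  rcases (Nat.dvd_prime hp.out).1 hdvd with h | h
  · exfalso
    rw [IntermediateField.finrank_adjoin_simple_eq_one_iff, IntermediateField.mem_bot] at h
    obtain ⟨z, rfl⟩ := h
    exact hx z.2
  · apply IntermediateField.eq_of_le_of_finrank_eq le_top
    rw [h, IntermediateField.finrank_top', hfr]

theorem s11001 (k : Type u) (K : Type v) [Field k] [Field K] [Algebra k K] (p : ℕ)
    [Fact p.Prime] [CharP K p]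
    (hK : FunFld.IsFunctionField k K) (hg : FunFld.IsGeometric k K) :
    Module.finrank (IntermediateField.adjoin k (Set.range fun y : K => y ^ p)) K = p :=
  finrank_eq_p p hK hg

theorem s11002 (k : Type u) (K : Type v) [Field k] [Field K] [Algebra k K] (p : ℕ)
    [hp : Fact p.Prime] [CharP K p]
    (hK : FunFld.IsFunctionField k K) (hg : FunFld.IsGeometric k K) (x : K) :
    (x ∈ IntermediateField.adjoin k (Set.range fun y : K => y ^ p) ↔
      KaehlerDifferential.D k K x = 0) ∧
    (x ∈ IntermediateField.adjoin k (Set.range fun y : K => y ^ p) ↔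
      ¬ Algebra.IsSeparable (IntermediateField.adjoin k ({x} : Set K)) K) := by
  obtain ⟨s, hs0, hspan⟩ := exists_sep_elt hK hg
  have hfr := finrank_eq_p p hK hg
  have hA : x ∈ Fp k K p → D k K x = 0 := fun h => Fp_le_kerD p h
  have hB : D k K x = 0 → x ∈ Fp k K p := by
    intro hx
    by_contra hxF
    have htop : IntermediateField.adjoin (Fp k K p) ({x} : Set K) = ⊤ :=
      top_of_not_mem p hfr hxF
    have h1 : IntermediateField.adjoin k ((Set.range fun y : K => y ^ p) ∪ {x}) ≤ kerD k K := by
      rw [IntermediateField.adjoin_le_iff]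
      rintro z (hz | hz)
      · exact Fp_le_kerD p (IntermediateField.subset_adjoin k _ hz)
      · rw [Set.mem_singleton_iff] at hz
        rw [hz]; exact hx
    have e := IntermediateField.adjoin_adjoin_left (F := k)
      (S := Set.range fun y : K => y ^ p) (T := ({x} : Set K))
    have h2 : s ∈ IntermediateField.adjoin k ((Set.range fun y : K => y ^ p) ∪ {x}) := by
      rw [← e]
      show s ∈ IntermediateField.adjoin (Fp k K p) ({x} : Set K)
      rw [htop]
      exact IntermediateField.mem_top
    exact hs0 (h1 h2)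
  refine ⟨⟨hA, hB⟩, ?_⟩
  constructor
  · intro hxF hsep
    haveI := hsep
    have hxt : Transcendental k x := by
      intro halg
      obtain ⟨⟨x₀, hx₀, -⟩, -⟩ := hK
      apply hx₀
      haveI : Algebra.IsAlgebraic (IntermediateField.adjoin k ({x} : Set K)) K :=
        Algebra.IsSeparable.isAlgebraic _ _
      haveI : Algebra.IsAlgebraic k (IntermediateField.adjoin k ({x} : Set K)) :=
        IntermediateField.isAlgebraic_adjoin_simple halg.isIntegral
      exact (Algebra.IsAlgebraic.trans k (IntermediateField.adjoin k ({x} : Set K)) K).isAlgebraic x₀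
    have hai : AlgebraicIndependent k (fun _ : Unit => x) :=
      algebraicIndependent_unique_type_iff.2 hxt
    haveI : Algebra.IsSeparable (IntermediateField.adjoin k (Set.range (fun _ : Unit => x))) K := by
      rw [Set.range_const]; exact hsep
    obtain ⟨b, hb⟩ := Kae.exists_basis_of_separating (fun _ : Unit => x) hai
    have h3 := b.ne_zero ()
    rw [hb ()] at h3
    exact h3 (hA hxF)
  · intro hns
    by_contra hxF
    have hx0 : D k K x ≠ 0 := fun h => hxF (hB h)
    exact hns (sep_of_D_ne_zero hK (span_of_ne_zero hspan hx0))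

theorem s11007 (k : Type u) (K : Type v) [Field k] [Field K] [Algebra k K] (p : ℕ)
    [hp : Fact p.Prime] [CharP K p]
    (hK : FunFld.IsFunctionField k K) (hg : FunFld.IsGeometric k K) (K₀ : IntermediateField k K) :
    (IsPurelyInseparable K₀ K ∧ Module.finrank K₀ K = p) ↔
      K₀ = IntermediateField.adjoin k (Set.range fun y : K => y ^ p) := by
  have hfr := finrank_eq_p p hK hg
  constructor
  · rintro ⟨hpi, hfr₀⟩
    haveI := hpi
    haveI : ExpChar K₀ p := ExpChar.prime hp.out
    haveI : FiniteDimensional K₀ K :=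
      Module.finite_of_finrank_pos (by rw [hfr₀]; exact hp.out.pos)
    haveI : FiniteDimensional (Fp k K p) K :=
      Module.finite_of_finrank_pos (by rw [hfr]; exact hp.out.pos)
    have hy : ∀ y : K, y ^ p ∈ K₀ := by
      intro y
      obtain ⟨n, a, hmin⟩ := IsPurelyInseparable.minpoly_eq_X_pow_sub_C K₀ p y
      have hint : IsIntegral K₀ y := IsIntegral.of_finite K₀ y
      have h1 := IntermediateField.adjoin.finrank hint
      rw [hmin, Polynomial.natDegree_X_pow_sub_C] at h1
      have h2 := Module.finrank_mul_finrank K₀ (IntermediateField.adjoin K₀ ({y} : Set K)) K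
      rw [h1, hfr₀] at h2
      have h3 : p ^ n ∣ p ^ 1 := by rw [pow_one]; exact Dvd.intro _ h2
      have h4 : n ≤ 1 := (Nat.pow_dvd_pow_iff_le_right hp.out.one_lt).1 h3
      have h5 : y ^ p ^ n = (a : K) := by
        have h6 := minpoly.aeval K₀ y
        rw [hmin, map_sub, map_pow, Polynomial.aeval_X, Polynomial.aeval_C] at h6
        exact sub_eq_zero.1 h6
      interval_cases n
      · rw [pow_zero, pow_one] at h5
        rw [h5]; exact pow_mem a.2 p
      · rw [pow_one] at h5
        rw [h5]; exact a.2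
    have hle : Fp k K p ≤ K₀ := by
      rw [IntermediateField.adjoin_le_iff]
      rintro _ ⟨y, rfl⟩
      exact hy y
    exact (IntermediateField.eq_of_le_of_finrank_eq' hle (by rw [hfr, hfr₀])).symm
  · intro h
    subst h
    refine ⟨?_, hfr⟩
    haveI : ExpChar (Fp k K p) p := ExpChar.prime hp.out
    rw [isPurelyInseparable_iff_pow_mem (Fp k K p) p]
    intro x
    exact ⟨1, by rw [pow_one]; exact ⟨⟨x ^ p, pow_mem_Fp p x⟩, rfl⟩⟩

end Groth.Agent.Lib.lead.Kae2
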