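import Mathlib
import Groth.Prelude.Def_LocRes
import Groth.Prelude.Def_W4bk4goldsch23Ext
import Groth.Agent.Lib.lead.Kae2
import Groth.Agent.Lib.lead.Ext

set_option autoImplicit false

namespace Groth.Agent.Lib.lead.Dif
open FunFld LocRes LaurentSeries HahnSeries WithZero

universe u v w

section laurent
variable {F : Type*} [Field F]

lemma v_eq_iff (f : F⸨X⸩) (n : ℤ) :
    Valued.v f = exp (-n) ↔ (∀ m < n, f.coeff m = 0) ∧ f.coeff n ≠ 0 := by
  constructor
  · intro h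
    have h1 : ∀ m < n, f.coeff m = 0 := (valuation_le_iff_coeff_lt_eq_zero F).1 h.le
    refine ⟨h1, fun h0 => ?_⟩
    have h2 : Valued.v f ≤ exp (-(n+1)) := by
      rw [valuation_le_iff_coeff_lt_eq_zero F]
      intro m hm
      rcases lt_or_eq_of_le (Int.lt_add_one_iff.1 hm) with h | h
      · exact h1 m h
      · rw [h]; exact h0
    rw [h, exp_le_exp] at h2
    omega
  · rintro ⟨h1, h2⟩
    have h3 : Valued.v f ≤ exp (-n) := (valuation_le_iff_coeff_lt_eq_zero F).2 h1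
    have hf : f ≠ 0 := by rintro rfl; exact h2 (by simp)
    have hv : Valued.v f ≠ 0 := by rwa [ne_eq, map_eq_zero]
    rw [← exp_log hv] at h3 ⊢
    rw [exp_le_exp] at h3
    rw [exp_inj]
    by_contra hne
    have h4 : Valued.v f ≤ exp (-(n+1)) := by
      rw [← exp_log hv, exp_le_exp]; omega
    exact h2 ((valuation_le_iff_coeff_lt_eq_zero F).1 h4 n (by omega))

lemma v_D_of_ne (f : F⸨X⸩) (n : ℤ) (h : Valued.v f = exp (-n)) (hn : (n : F) ≠ 0) :
    Valued.v (D F f) = exp (-(n - 1)) := by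
  rw [v_eq_iff] at h ⊢
  obtain ⟨h1, h2⟩ := h
  refine ⟨fun m hm => ?_, ?_⟩
  · rw [D_coeff, h1 (m+1) (by omega), smul_zero]
  · rw [D_coeff, sub_add_cancel, zsmul_eq_mul]
    exact mul_ne_zero hn h2

lemma v_D_of_eq (f : F⸨X⸩) (n : ℤ) (h : Valued.v f = exp (-n)) (hn : (n : F) = 0) :
    Valued.v (D F f) ≤ exp (-n) := by
  rw [v_eq_iff] at h
  rw [valuation_le_iff_coeff_lt_eq_zero F]
  intro m hm
  rw [D_coeff]
  rcases lt_or_eq_of_le (show m + 1 ≤ n by omega) with h' | h'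
  · rw [h.1 _ h', smul_zero]
  · rw [h', zsmul_eq_mul, hn, zero_mul]

end laurent

section key
variable {k : Type u} {K : Type v} [Field k] [Field K] [Algebra k K]
  {F : Type*} [Field F] [Algebra k F] {F' : Type*} [Field F'] [Algebra k F']

lemma D_ne_zero_of (φ : K →ₐ[k] F⸨X⸩) (x : K) (hx : D F (φ x) ≠ 0) :
    KaehlerDifferential.D k K x ≠ 0 := by
  intro h0
  apply hx
  letI := φ.toRingHom.toAlgebra
  haveI : IsScalarTower k K F⸨X⸩ := isScalarTower_exp φ
  have h := congrArg (dExp φ).liftKaehlerDifferential h0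
  rw [Derivation.liftKaehlerDifferential_comp_D, map_zero] at h
  exact h

lemma lift_rel (φ : K →ₐ[k] F⸨X⸩) (x x' c : K)
    (hc : KaehlerDifferential.D k K x' = c • KaehlerDifferential.D k K x) :
    D F (φ x') = φ c * D F (φ x) := by
  letI := φ.toRingHom.toAlgebra
  haveI : IsScalarTower k K F⸨X⸩ := isScalarTower_exp φ
  have h := congrArg (dExp φ).liftKaehlerDifferential hc
  rw [map_smul, Derivation.liftKaehlerDifferential_comp_D,
    Derivation.liftKaehlerDifferential_comp_D] at h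
  exact h

theorem diffExp_indep {K' : Type*} [Field K'] [Algebra K K'] [Algebra k K']
    [IsScalarTower k K K']
    (hK : IsFunctionField k K) (hg : IsGeometric k K)
    (P : Place k K) (Q : Place k K') (e : ℕ) (he : IsOverWith Q P e)
    (φ : K →ₐ[k] F⸨X⸩) (hφ : ∀ f, Valued.v (φ f) = P.1 f)
    (ψ : K' →ₐ[k] F'⸨X⸩) (hψ : ∀ f, Valued.v (ψ f) = Q.1 f)
    (x x' : K) (hx : vDiff φ 1 x ≠ 0) (hx' : vDiff ψ 1 (algebraMap K K' x) ≠ 0)
    (hx2 : vDiff φ 1 x' ≠ 0) :
    vDiff ψ 1 (algebraMap K K' x') ≠ 0 ∧ diffExp φ ψ e x = diffExp φ ψ e x' := by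
  have e1 : vDiff φ 1 x = Valued.v (D F (φ x)) := by unfold vDiff; rw [map_one, one_mul]
  have e2 : vDiff φ 1 x' = Valued.v (D F (φ x')) := by unfold vDiff; rw [map_one, one_mul]
  have e3 : vDiff ψ 1 (algebraMap K K' x) = Valued.v (D F' (ψ (algebraMap K K' x))) := by
    unfold vDiff; rw [map_one, one_mul]
  have e4 : vDiff ψ 1 (algebraMap K K' x') = Valued.v (D F' (ψ (algebraMap K K' x'))) := by
    unfold vDiff; rw [map_one, one_mul]
  have hDx : D F (φ x) ≠ 0 := by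
    intro h; apply hx; rw [e1, h, map_zero]
  have hx0 := D_ne_zero_of φ x hDx
  obtain ⟨s, hs0, hs⟩ := Kae2.exists_sep_elt hK hg
  obtain ⟨c, hc⟩ := Kae2.span_of_ne_zero hs hx0 (KaehlerDifferential.D k K x')
  have r1 := lift_rel φ x x' c hc
  have r2 : D F' (ψ (algebraMap K K' x')) =
      ψ (algebraMap K K' c) * D F' (ψ (algebraMap K K' x)) :=
    lift_rel (ψ.comp (IsScalarTower.toAlgHom k K K')) x x' c hc
  have hc0 : P.1 c ≠ 0 := by
    intro h
    apply hx2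
    rw [e2, r1, map_mul, hφ, h, zero_mul]
  have v1 : vDiff φ 1 x' = P.1 c * vDiff φ 1 x := by rw [e2, r1, map_mul, hφ, e1]
  have v2 : vDiff ψ 1 (algebraMap K K' x') = P.1 c ^ e * vDiff ψ 1 (algebraMap K K' x) := by
    rw [e4, r2, map_mul, hψ, he c, e3]
  refine ⟨?_, ?_⟩
  · rw [v2]; exact mul_ne_zero (pow_ne_zero _ hc0) hx'
  · unfold diffExp ordDiff
    rw [v1, v2, log_mul hc0 hx, log_mul (pow_ne_zero _ hc0) hx', log_pow, nsmul_eq_mul]
    ring

set_option maxHeartbeats 400000 in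
theorem s12570 {K' : Type*} [Field K'] [Algebra K K'] [Algebra k K']
    [IsScalarTower k K K']
    (hK : IsFunctionField k K) (hg : IsGeometric k K)
    (P : Place k K) (Q : Place k K') (e : ℕ) (he : IsOverWith Q P e)
    (φ : K →ₐ[k] F⸨X⸩) (hφ : IsExpansionAt P.1 φ)
    (ψ : K' →ₐ[k] F'⸨X⸩) (hψ : IsExpansionAt Q.1 ψ)
    (x : K) (hx : vDiff φ 1 x ≠ 0) (hx' : vDiff ψ 1 (algebraMap K K' x) ≠ 0) :
    (¬ (ringChar K ∣ e) → diffExp φ ψ e x = (e : ℤ) - 1) ∧
    (ringChar K ∣ e → (e : ℤ) ≤ diffExp φ ψ e x) := by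
  obtain ⟨t, ht⟩ := hφ.2.2
  have hvφ : Valued.v (φ t) = exp (-(1:ℤ)) := by rw [hφ.1, ht]
  have hD1 : Valued.v (D F (φ t)) = exp (-((1:ℤ) - 1)) :=
    v_D_of_ne _ 1 hvφ (by rw [Int.cast_one]; exact one_ne_zero)
  have e2 : vDiff φ 1 t = 1 := by
    unfold vDiff; rw [map_one, one_mul, hD1]; simp
  have ht2 : vDiff φ 1 t ≠ 0 := by rw [e2]; exact one_ne_zero
  obtain ⟨hne, heq⟩ := diffExp_indep hK hg P Q e he φ hφ.1 ψ hψ.1 x t hx hx' ht2
  have hvψ : Valued.v (ψ (algebraMap K K' t)) = exp (-(e:ℤ)) := by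
    rw [hψ.1, he t, ht, ← exp_nsmul]; simp
  have hchar : (ringChar K ∣ e) ↔ ((e : ℤ) : F') = 0 := by
    rw [← ringChar.spec, Int.cast_natCast]
    rw [← map_natCast (algebraMap k K) e, ← map_natCast (algebraMap k F') e, map_eq_zero,
      map_eq_zero]
  have eψ : vDiff ψ 1 (algebraMap K K' t) = Valued.v (D F' (ψ (algebraMap K K' t))) := by
    unfold vDiff; rw [map_one, one_mul]
  rw [heq]
  constructor
  · intro hnd
    have hn : ((e:ℤ) : F') ≠ 0 := fun h => hnd (hchar.2 h)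
    have := v_D_of_ne _ (e:ℤ) hvψ hn
    unfold diffExp ordDiff
    rw [eψ, this, e2, log_exp, log_one]; ring
  · intro hd
    have := v_D_of_eq _ (e:ℤ) hvψ (hchar.1 hd)
    unfold diffExp ordDiff
    rw [e2, log_one, eψ]
    rw [eψ] at hne
    rw [← exp_log hne, exp_le_exp] at this
    simp only [neg_zero, mul_zero, sub_zero]
    omega

end key

end Groth.Agent.Lib.lead.Dif
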