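import Mathlib
import Groth.Agent.Lib.lead.AS
import Groth.Agent.Lib.lead.Dif

/-! Different exponent of Artin–Schreier extensions in char 2. -/

namespace Groth.Agent.Lib.lead.AS2
open FunFld Groth.Agent.Lib.lead.FF Groth.Agent.Lib.lead.FF2 Groth.Agent.Lib.lead.FF3
  Groth.Agent.Lib.lead.FF4
  Groth.Agent.Lib.lead.FF5 Groth.Agent.Lib.lead.FF6 Groth.Agent.Lib.lead.FF7
  Groth.Agent.Lib.lead.FF8 Groth.Agent.Lib.lead.Loc Groth.Agent.Lib.lead.NS
  Groth.Agent.Lib.lead.Ext Groth.Agent.Lib.lead.Ext3 Groth.Agent.Lib.lead.Hyp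
  Groth.Agent.Lib.lead.Gal Groth.Agent.Lib.lead.AS Groth.Agent.Lib.lead.Dif
open LocRes LaurentSeries HahnSeries WithZero

universe u v w

section indep
variable {k : Type u} {K : Type v} [Field k] [Field K] [Algebra k K]
  {F : Type*} [Field F] [Algebra k F] {F' : Type*} [Field F'] [Algebra k F']

theorem diffExp_indep' {K' : Type*} [Field K'] [Algebra K K'] [Algebra k K']
    [IsScalarTower k K K'] {s : K}
    (hs : ∀ ω : Ω[K⁄k], ∃ c : K, ω = c • KaehlerDifferential.D k K s)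
    (P : Place k K) (Q : Place k K') (e : ℕ) (he : IsOverWith Q P e)
    (φ : K →ₐ[k] F⸨X⸩) (hφ : ∀ f, Valued.v (φ f) = P.1 f)
    (ψ : K' →ₐ[k] F'⸨X⸩) (hψ : ∀ f, Valued.v (ψ f) = Q.1 f)
    (x x' : K) (hx : vDiff φ 1 x ≠ 0) (hx' : vDiff ψ 1 (algebraMap K K' x) ≠ 0)
    (hx2 : vDiff φ 1 x' ≠ 0) :
    vDiff ψ 1 (algebraMap K K' x') ≠ 0 ∧ diffExp φ ψ e x = diffExp φ ψ e x' := by
  have e1 : vDiff φ 1 x = Valued.v (D F (φ x)) := by unfold vDiff; rw [map_one, one_mul]
  have e2 : vDiff φ 1 x' = Valued.v (D F (φ x')) := by unfold vDiff; rw [map_one, one_mul]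
  have e3 : vDiff ψ 1 (algebraMap K K' x) = Valued.v (D F' (ψ (algebraMap K K' x))) := by
    unfold vDiff; rw [map_one, one_mul]
  have e4 : vDiff ψ 1 (algebraMap K K' x') = Valued.v (D F' (ψ (algebraMap K K' x'))) := by
    unfold vDiff; rw [map_one, one_mul]
  have hDx : D F (φ x) ≠ 0 := by
    intro h; apply hx; rw [e1, h, map_zero]
  have hx0 := D_ne_zero_of φ x hDx
  obtain ⟨c, hc⟩ := Kae2.span_of_ne_zero hs hx0 (KaehlerDifferential.D k K x')
  have r1 := lift_rel φ x x' c hc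
  have r2 : D F' (ψ (algebraMap K K' x')) =
      ψ (algebraMap K K' c) * D F' (ψ (algebraMap K K' x)) :=
    lift_rel (ψ.comp (IsScalarTower.toAlgHom k K K')) x x' c hc
  have hc0 : P.1 c ≠ 0 := by
    intro h
    apply hx2
    rw [e2, r1, map_mul, hφ, h, zero_mul]
  have v1 : vDiff φ 1 x' = P.1 c * vDiff φ 1 x := by rw [e2, r1, map_mul, hφ, e1]
  have v2 : vDiff ψ 1 (algebraMap K K' x') = P.1 c ^ e * vDiff ψ 1 (algebraMap K K' x) := by
    rw [e4, r2, map_mul, hψ, he c, e3]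
  refine ⟨?_, ?_⟩
  · rw [v2]; exact mul_ne_zero (pow_ne_zero _ hc0) hx'
  · unfold diffExp ordDiff
    rw [v1, v2, log_mul hc0 hx, log_mul (pow_ne_zero _ hc0) hx', log_pow, nsmul_eq_mul]
    ring

end indep

section rat
variable {k : Type*} [Field k]

theorem ratFunc_span (ω : Ω[RatFunc k⁄k]) :
    ∃ c : RatFunc k, ω = c • KaehlerDifferential.D k (RatFunc k) RatFunc.X := by
  have h := KaehlerDifferential.span_range_derivation k (RatFunc k)
  have hω : ω ∈ Submodule.span (RatFunc k)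
      (Set.range (KaehlerDifferential.D k (RatFunc k))) := by rw [h]; trivial
  have hpoly : ∀ q : Polynomial k, ∃ c : RatFunc k,
      KaehlerDifferential.D k (RatFunc k) (algebraMap (Polynomial k) (RatFunc k) q) =
        c • KaehlerDifferential.D k (RatFunc k) RatFunc.X := by
    intro q
    rw [← aeval_X_eq, Derivation.map_aeval]
    exact ⟨_, rfl⟩
  refine Submodule.span_induction
    (p := fun ω _ => ∃ c : RatFunc k, ω = c • KaehlerDifferential.D k (RatFunc k) RatFunc.X)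
    ?_ ?_ ?_ ?_ hω
  · rintro _ ⟨g, rfl⟩
    obtain ⟨a, ha⟩ := hpoly g.num
    obtain ⟨b, hb⟩ := hpoly g.denom
    have hg := RatFunc.num_div_denom g
    refine ⟨(algebraMap _ (RatFunc k) g.denom)⁻¹ ^ 2 *
      (algebraMap _ (RatFunc k) g.denom * a - algebraMap _ (RatFunc k) g.num * b), ?_⟩
    conv_lhs => rw [← hg]
    rw [Derivation.leibniz_div, ha, hb, smul_smul, smul_smul, ← sub_smul, smul_smul]
  · exact ⟨0, (zero_smul _ _).symm⟩
  · rintro x y _ _ ⟨a, rfl⟩ ⟨b, rfl⟩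
    exact ⟨a + b, (add_smul _ _ _).symm⟩
  · rintro a x _ ⟨b, rfl⟩
    exact ⟨a * b, smul_smul _ _ _⟩

end rat

section AS
variable {k : Type u} {K : Type v} [Field k] [Field K] [Algebra k K]
  [Algebra (RatFunc k) K] [IsScalarTower k (RatFunc k) K]

lemma odd_cast_ne_zero {F : Type*} [Field F] [CharP F 2] {n : ℤ} (h : Odd n) : (n : F) ≠ 0 := by
  obtain ⟨j, rfl⟩ := h
  push_cast
  rw [CharTwo.two_eq_zero, zero_mul, zero_add]
  exact one_ne_zero

lemma as_ord {y : K} {f : RatFunc k} (heq : y ^ 2 + y = algebraMap (RatFunc k) K f)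
    {P : Place k K} {p : Place k (RatFunc k)} {e : ℕ} (he : IsOverWith P p e)
    (hp : 1 < p.1 f) : 1 < P.1 y ∧ 2 * P.ord y = e * p.ord f := by
  have hepos := isOverWith_pos he
  have hvf' : 1 < P.1 (algebraMap (RatFunc k) K f) := by
    rw [he f]
    exact one_lt_pow₀ hp hepos.ne'
  have hvy : 1 < P.1 y := by
    by_contra hle
    rw [not_lt] at hle
    have h1 : P.1 (y ^ 2 + y) ≤ 1 := by
      refine (P.1.map_add _ _).trans (max_le ?_ hle)
      rw [map_pow]
      exact pow_le_one₀ zero_le' hle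
    rw [heq] at h1
    exact not_le.2 hvf' h1
  refine ⟨hvy, ?_⟩
  have hlt : P.1 y < P.1 (y ^ 2) := by
    rw [map_pow, pow_two]
    have h0 : 0 < P.1 y := lt_trans zero_lt_one hvy
    calc P.1 y = P.1 y * 1 := (mul_one _).symm
      _ < P.1 y * P.1 y := mul_lt_mul_of_pos_left hvy h0
  have h1 : P.1 (y ^ 2 + y) = P.1 y ^ 2 := by
    rw [Valuation.map_add_eq_of_lt_left _ hlt, map_pow]
  rw [← ord_algebraMap he, ← heq]
  unfold Place.ord
  rw [h1, WithZero.log_pow]
  simp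

set_option maxHeartbeats 800000 in
theorem s12588 (hdeg : Module.finrank (RatFunc k) K = 2) (h2 : ringChar k = 2)
    (y : K) (f : RatFunc k)
    (heq : y ^ 2 + y = algebraMap (RatFunc k) K f)
    (p : Place k (RatFunc k)) (hp : 1 < p.1 f) (hodd : Odd (p.ord f))
    (P : Place k K) (e : ℕ) (he : IsOverWith P p e)
    (F F' : Type w) [Field F] [Algebra k F] [Field F'] [Algebra k F']
    (φ : RatFunc k →ₐ[k] LaurentSeries F) (hφ : IsExpansionAt p.1 φ)
    (ψ : K →ₐ[k] LaurentSeries F') (hψ : IsExpansionAt P.1 ψ)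
    (z : RatFunc k) (hz : vDiff φ 1 z ≠ 0)
    (hz' : vDiff ψ 1 (algebraMap (RatFunc k) K z) ≠ 0) :
    diffExp φ ψ e z = 1 - p.ord f := by
  classical
  have hR : IsFunctionField k (RatFunc k) := isFunctionField_ratFunc
  haveI : CharP k 2 := ringChar.of_eq h2
  haveI : CharP K 2 := charP_of_injective_algebraMap (algebraMap k K).injective 2
  haveI : CharP F 2 := charP_of_injective_algebraMap (algebraMap k F).injective 2
  haveI : CharP F' 2 := charP_of_injective_algebraMap (algebraMap k F').injective 2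
  have hf0 : f ≠ 0 := by
    rintro rfl
    rw [map_zero] at hp
    exact not_lt.2 zero_le' hp
  have hneg : p.ord f < 0 := (ord_neg_iff p hf0).2 hp
  obtain ⟨hvy, hordy⟩ := as_ord heq he hp
  have hepos := isOverWith_pos he
  have hle2 := e_le_two hR hdeg he
  have he2 : e = 2 := by
    have h4 : Even ((e : ℤ) * p.ord f) := ⟨P.ord y, by rw [← hordy]; ring⟩
    rw [Int.even_mul] at h4
    rcases h4 with h | h
    · rw [Int.even_coe_nat] at h
      obtain ⟨r, hr⟩ := h
      omega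
    · exact absurd h (Int.not_even_iff_odd.2 hodd)
  subst he2
  have hPy : P.ord y = p.ord f := by
    have h22 : ((2 : ℕ) : ℤ) = 2 := rfl
    rw [h22] at hordy
    linarith
  have hy0 : y ≠ 0 := by
    rintro rfl
    rw [map_zero] at hvy
    exact not_lt.2 zero_le' hvy
  obtain ⟨t, ht⟩ := hφ.2.2
  have hvφt : Valued.v (φ t) = exp (-(1:ℤ)) := by rw [hφ.1, ht]
  have hDφt : Valued.v (D F (φ t)) = exp (-((1:ℤ) - 1)) :=
    v_D_of_ne _ 1 hvφt (by rw [Int.cast_one]; exact one_ne_zero)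
  have hDφt' : Valued.v (D F (φ t)) = 1 := by rw [hDφt]; simp
  have hvφf : Valued.v (φ f) = exp (-(p.ord f)) := by rw [hφ.1, val_eq_exp p hf0]
  have hDφf : Valued.v (D F (φ f)) = exp (-(p.ord f - 1)) :=
    v_D_of_ne _ _ hvφf (odd_cast_ne_zero hodd)
  have hDt0 : D F (φ t) ≠ 0 := by
    intro h
    rw [h, map_zero] at hDφt'
    exact zero_ne_one hDφt'
  have hdt := D_ne_zero_of φ t hDt0
  obtain ⟨c, hc⟩ := Kae2.span_of_ne_zero ratFunc_span hdt
    (KaehlerDifferential.D k (RatFunc k) f)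
  have r1 := lift_rel φ t f c hc
  have hvc : p.1 c = exp (-(p.ord f - 1)) := by
    have h := congrArg Valued.v r1
    rw [map_mul, hDφf, hDφt', mul_one, hφ.1] at h
    exact h.symm
  have r2 : D F' (ψ (algebraMap (RatFunc k) K f)) =
      ψ (algebraMap (RatFunc k) K c) * D F' (ψ (algebraMap (RatFunc k) K t)) :=
    lift_rel (ψ.comp (IsScalarTower.toAlgHom k (RatFunc k) K)) t f c hc
  have h2L : (2 : F'⸨X⸩) = 0 := by
    have h : ((2 : ℕ) : F'⸨X⸩) = 0 := by
      rw [← map_natCast (algebraMap F' F'⸨X⸩) 2, CharP.cast_eq_zero, map_zero]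
    exact_mod_cast h
  have hDy : D F' (ψ (algebraMap (RatFunc k) K f)) = D F' (ψ y) := by
    rw [← heq, map_add, map_pow, map_add, pow_two, Derivation.leibniz, smul_eq_mul, ← two_mul,
      h2L, zero_mul, zero_add]
  have hvψy : Valued.v (ψ y) = exp (-(p.ord f)) := by rw [hψ.1, val_eq_exp P hy0, hPy]
  have hDψy : Valued.v (D F' (ψ y)) = exp (-(p.ord f - 1)) :=
    v_D_of_ne _ _ hvψy (odd_cast_ne_zero hodd)
  have hvc' : P.1 (algebraMap (RatFunc k) K c) = exp (-(2 * (p.ord f - 1))) := by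
    rw [he c, hvc, ← exp_nsmul]
    congr 1
    simp
    ring
  have hV : Valued.v (D F' (ψ (algebraMap (RatFunc k) K t))) = exp (p.ord f - 1) := by
    have h := congrArg Valued.v r2
    rw [hDy, map_mul, hDψy, hψ.1, hvc'] at h
    have h' : exp (-(2 * (p.ord f - 1))) * Valued.v (D F' (ψ (algebraMap (RatFunc k) K t))) =
        exp (-(2 * (p.ord f - 1))) * exp (p.ord f - 1) := by
      rw [← h, ← exp_add]
      congr 1
      ring
    exact mul_left_cancel₀ exp_ne_zero h'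
  have e2 : vDiff φ 1 t = 1 := by unfold vDiff; rw [map_one, one_mul, hDφt']
  have eψ : vDiff ψ 1 (algebraMap (RatFunc k) K t) = exp (p.ord f - 1) := by
    unfold vDiff; rw [map_one, one_mul, hV]
  have ht2 : vDiff φ 1 t ≠ 0 := by rw [e2]; exact one_ne_zero
  obtain ⟨-, heqd⟩ := diffExp_indep' ratFunc_span p P 2 he φ hφ.1 ψ hψ.1 z t hz hz' ht2
  rw [heqd]
  unfold diffExp ordDiff
  rw [eψ, e2, log_exp, log_one]
  ring

end AS

end Groth.Agent.Lib.lead.AS2
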