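import Mathlib
import Groth.Prelude.Def_W4bk4goldsch23FF
import Groth.Prelude.Def_W4bk4goldsch23Ext
import Groth.Agent.Lib.lead.Ext3

/-! The integral closure of `O_P` in a finite extension is the intersection of the valuation
rings of the places above `P`; residue fields of nonsingular places. -/

namespace Groth.Agent.Lib.lead.IntCl
open FunFld Module Groth.Agent.Lib.lead.FF Groth.Agent.Lib.lead.FF2 Groth.Agent.Lib.lead.FF3
  Groth.Agent.Lib.lead.FF4
  Groth.Agent.Lib.lead.FF5 Groth.Agent.Lib.lead.FF6 Groth.Agent.Lib.lead.FF7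
  Groth.Agent.Lib.lead.FF8 Groth.Agent.Lib.lead.Ext Groth.Agent.Lib.lead.Ext3

section General
variable {k K K' : Type*} [Field k] [Field K] [Field K'] [Algebra k K] [Algebra K K']
  [Algebra k K'] [IsScalarTower k K K']

/-- valuation subrings of `K'` containing `k`, other than `K'`, are places. -/
theorem exists_place_of_valuationSubring (hK : IsFunctionField k K) [FiniteDimensional K K']
    (V : ValuationSubring K') (hk : ∀ c : k, algebraMap k K' c ∈ V) (hV : V ≠ ⊤) :
    ∃ Q : Place k K', ∀ x, Q.1 x ≤ 1 ↔ x ∈ V := by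
  have hK'' := isFunctionField_top (K' := K') hK
  have hk'' : ∀ c : algebraicClosure k K', algebraMap (algebraicClosure k K') K' c ∈ V := by
    intro c
    rw [← V.valuation_le_one_iff]
    refine val_le_one_of_root (K := k) V.valuation (fun a => ?_) (mem_algebraicClosure_iff'.1 c.2)
    rw [V.valuation_le_one_iff]
    exact hk a
  obtain ⟨x, hx⟩ : ∃ x : K', x ∉ V := by
    by_contra hcon
    push Not at hcon
    exact hV (top_le_iff.1 fun x _ => hcon x)
  have hx0 : x ≠ 0 := by
    rintro rfl
    exact hx (zero_mem _)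
  have hxv : 1 < V.valuation x := by
    rw [← not_le, V.valuation_le_one_iff]
    exact hx
  have ht : V.valuation x⁻¹ < 1 := by
    rw [map_inv₀]
    exact inv_lt_one_of_one_lt₀ hxv
  obtain ⟨P, hP⟩ := exists_place hK'' V hk'' (inv_ne_zero hx0) ht
  exact ⟨ofTop P, fun y => (hP y).1⟩

lemma isOver_of_hasExtension (hK : IsFunctionField k K) [Algebra.IsAlgebraic K K']
    (P : Place k K) (Q : Place k K') [P.1.HasExtension Q.1] : IsOver Q P := by
  obtain ⟨P', e, he⟩ := exists_restrict hK Q
  have hPP : P = P' := by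
    apply place_eq_of_le
    intro y hy
    rw [← isOverWith_le_one_iff he]
    exact (Valuation.HasExtension.val_map_le_one_iff P.1 Q.1 y).2 hy
  subst hPP
  exact ⟨e, he⟩

theorem isIntegral_of_forall (hK : IsFunctionField k K) [FiniteDimensional K K']
    (P : Place k K) [Algebra P.O K'] [IsScalarTower P.O K K'] (y : K')
    (hy : ∀ Q : Place k K', IsOver Q P → Q.1 y ≤ 1) : IsIntegral P.O y := by
  classical
  have hmap : ∀ r : P.O, algebraMap P.O K' r = algebraMap K K' (r : K) := fun r => by
    rw [IsScalarTower.algebraMap_apply P.O K K']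
    rfl
  obtain ⟨s, hs⟩ : ∃ s : Set K', s = Set.range (algebraMap P.O K') := ⟨_, rfl⟩
  have hmem : y ∈ (⨅ V : {V : ValuationSubring K' // s ⊆ V.toSubring}, V.1.toSubring) := by
    rw [Subring.mem_iInf]
    rintro ⟨V, hsV⟩
    show y ∈ V
    by_cases hV : V = ⊤
    · rw [hV]
      trivial
    have hkV : ∀ c : k, algebraMap k K' c ∈ V := by
      intro c
      apply hsV
      rw [hs]
      refine ⟨⟨algebraMap k K c, P.2.1 c⟩, ?_⟩
      rw [hmap, ← IsScalarTower.algebraMap_apply]
    obtain ⟨Q, hQ⟩ := exists_place_of_valuationSubring hK V hkV hV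
    obtain ⟨P', e, he⟩ := exists_restrict hK Q
    have hPP : P = P' := by
      apply place_eq_of_le
      intro z hz
      rw [← isOverWith_le_one_iff he, hQ]
      apply hsV
      rw [hs]
      exact ⟨⟨z, hz⟩, hmap _⟩
    subst hPP
    exact (hQ y).1 (hy Q ⟨e, he⟩)
  rw [iInf_valuationSubring_superset] at hmem
  have hint : IsIntegral (Subring.closure s) y := hmem
  -- transfer along the surjection `P.O → closure s`
  have hcl : ∀ r : P.O, algebraMap P.O K' r ∈ Subring.closure s := fun r =>
    Subring.subset_closure (hs ▸ ⟨r, rfl⟩)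
  letI : Algebra P.O (Subring.closure s) :=
    ((algebraMap P.O K').codRestrict (Subring.closure s) hcl).toAlgebra
  haveI : IsScalarTower P.O (Subring.closure s) K' := IsScalarTower.of_algebraMap_eq (fun _ => rfl)
  have hsurj : Function.Surjective (algebraMap P.O (Subring.closure s)) := by
    rintro ⟨z, hz⟩
    have hz' : z ∈ (algebraMap P.O K').range := by
      have hle : Subring.closure s ≤ (algebraMap P.O K').range := by
        rw [Subring.closure_le, hs]
        rintro _ ⟨r, rfl⟩
        exact ⟨r, rfl⟩
      exact hle hz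
    obtain ⟨r, hr⟩ := hz'
    exact ⟨r, Subtype.ext hr⟩
  haveI : Algebra.IsIntegral P.O (Subring.closure s) := Algebra.isIntegral_of_surjective hsurj
  exact isIntegral_trans y hint

end General

section CExt
universe u v
variable (k k' : Type u) (K K' : Type v) [Field k] [Field k'] [Field K] [Field K']
    [Algebra k k'] [FiniteDimensional k k'] [Algebra k K] [Algebra K K'] [Algebra k' K'] [Algebra k K']
    [IsScalarTower k k' K'] [IsScalarTower k K K']

theorem finite_of_bijective
    (h : Function.Bijective (Algebra.TensorProduct.productMap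
      (IsScalarTower.toAlgHom k k' K') (IsScalarTower.toAlgHom k K K'))) :
    FiniteDimensional K K' := by
  classical
  have hspan : (⊤ : Submodule K K') ≤
      Submodule.span K (Set.range fun i => algebraMap k' K' (Module.finBasis k k' i)) := by
    intro y hy
    clear hy
    obtain ⟨t, rfl⟩ := h.2 y
    induction t using TensorProduct.induction_on with
    | zero => rw [map_zero]; exact zero_mem _
    | tmul a z =>
      rw [Algebra.TensorProduct.productMap_apply_tmul]
      show algebraMap k' K' a * algebraMap K K' z ∈ _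
      have ha : a = ∑ i, (Module.finBasis k k').repr a i • Module.finBasis k k' i :=
        ((Module.finBasis k k').sum_repr a).symm
      rw [ha, map_sum, Finset.sum_mul]
      refine Submodule.sum_mem _ (fun i _ => ?_)
      rw [Algebra.smul_def, map_mul, ← IsScalarTower.algebraMap_apply k k' K',
        IsScalarTower.algebraMap_apply k K K', mul_right_comm, ← map_mul, ← Algebra.smul_def]
      exact Submodule.smul_mem _ _ (Submodule.subset_span ⟨i, rfl⟩)
    | add t₁ t₂ h₁ h₂ => rw [map_add]; exact add_mem h₁ h₂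
  have e := top_le_iff.1 hspan
  exact Module.finite_def.2 (e ▸ Submodule.fg_span (Set.finite_range _))

set_option maxHeartbeats 800000 in
theorem s12589
    (h : Function.Bijective (Algebra.TensorProduct.productMap
      (IsScalarTower.toAlgHom k k' K') (IsScalarTower.toAlgHom k K K')))
    (hK : FunFld.IsFunctionField k K)
    (P : FunFld.Place k K) [Algebra P.O K'] [IsScalarTower P.O K K']
    (hns : (integralClosure P.O K').toSubring = (Algebra.adjoin P.O (Set.range (algebraMap k' K'))).toSubring)
    (Q : FunFld.Place k K') [P.1.HasExtension Q.1] (hk' : ∀ c : k', Q.1 (algebraMap k' K' c) ≤ 1) :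
    Algebra.adjoin (IsLocalRing.ResidueField P.O)
      (Set.range fun c : k' => IsLocalRing.residue Q.O ⟨algebraMap k' K' c, hk' c⟩) = ⊤ := by
  classical
  haveI : FiniteDimensional K K' := finite_of_bijective k k' K K' h
  have hQP : IsOver Q P := isOver_of_hasExtension hK P Q
  have hfin := (general (K' := K') hK P).1
  have hmap : ∀ r : P.O, algebraMap P.O K' r = algebraMap K K' (r : K) := fun r => by
    rw [IsScalarTower.algebraMap_apply P.O K K']
    rfl
  rw [eq_top_iff]
  intro ξ _
  obtain ⟨⟨z, hz⟩, rfl⟩ := IsLocalRing.residue_surjective ξ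
  obtain ⟨y, hy⟩ := exists_approx hfin.toFinset (fun Q' => if Q' = Q then z else 0) 1
  have hyQ : Q.1 (y - z) ≤ WithZero.exp (-((1 : ℕ) : ℤ)) := by
    have := hy Q (hfin.mem_toFinset.2 hQP)
    rwa [if_pos rfl] at this
  have hexp : WithZero.exp (-((1 : ℕ) : ℤ)) < (1 : WithZero (Multiplicative ℤ)) := by
    rw [← WithZero.exp_zero, WithZero.exp_lt_exp]
    norm_num
  have hyall : ∀ Q' : Place k K', IsOver Q' P → Q'.1 y ≤ 1 := by
    intro Q' hQ'
    by_cases hQQ : Q' = Q
    · subst hQQ
      have h1 : y = (y - z) + z := by ring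
      rw [h1]
      exact (Valuation.map_add _ _ _).trans (max_le (hyQ.trans hexp.le) hz)
    · have := hy Q' (hfin.mem_toFinset.2 hQ')
      rw [if_neg hQQ, sub_zero] at this
      exact this.trans hexp.le
  have hint : IsIntegral P.O y := isIntegral_of_forall hK P y hyall
  have hmem1 : y ∈ (integralClosure P.O K').toSubring := hint
  rw [hns] at hmem1
  have hmem : y ∈ Algebra.adjoin P.O (Set.range (algebraMap k' K')) := hmem1
  have key : ∀ w (hw : w ∈ Algebra.adjoin P.O (Set.range (algebraMap k' K'))),
      ∃ hw1 : Q.1 w ≤ 1, IsLocalRing.residue Q.O ⟨w, hw1⟩ ∈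
        Algebra.adjoin (IsLocalRing.ResidueField P.O)
          (Set.range fun c : k' => IsLocalRing.residue Q.O ⟨algebraMap k' K' c, hk' c⟩) := by
    intro w hw
    induction hw using Algebra.adjoin_induction with
    | mem x hx =>
      obtain ⟨c, rfl⟩ := hx
      exact ⟨hk' c, Algebra.subset_adjoin ⟨c, rfl⟩⟩
    | algebraMap r =>
      have h1 : Q.1 (algebraMap P.O K' r) ≤ 1 := by
        rw [hmap, Valuation.HasExtension.val_map_le_one_iff P.1 Q.1]
        exact r.2
      refine ⟨h1, ?_⟩
      have h2 : IsLocalRing.residue Q.O ⟨algebraMap P.O K' r, h1⟩ =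
          algebraMap (IsLocalRing.ResidueField P.O) (IsLocalRing.ResidueField Q.O)
            (IsLocalRing.residue P.O r) := by
        rw [Valuation.HasExtension.algebraMap_residue_eq_residue_algebraMap]
        congr 1
        exact Subtype.ext (hmap r)
      rw [h2]
      exact Subalgebra.algebraMap_mem _ _
    | add a b ha hb iha ihb =>
      obtain ⟨ha1, ha2⟩ := iha
      obtain ⟨hb1, hb2⟩ := ihb
      refine ⟨(Valuation.map_add _ _ _).trans (max_le ha1 hb1), ?_⟩
      have h2 : IsLocalRing.residue Q.O ⟨a + b, (Valuation.map_add _ _ _).trans (max_le ha1 hb1)⟩ =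
          IsLocalRing.residue Q.O ⟨a, ha1⟩ + IsLocalRing.residue Q.O ⟨b, hb1⟩ := by
        rw [← map_add]
        rfl
      rw [h2]
      exact add_mem ha2 hb2
    | mul a b ha hb iha ihb =>
      obtain ⟨ha1, ha2⟩ := iha
      obtain ⟨hb1, hb2⟩ := ihb
      have hab : Q.1 (a * b) ≤ 1 := by
        rw [map_mul]
        exact mul_le_one' ha1 hb1
      refine ⟨hab, ?_⟩
      have h2 : IsLocalRing.residue Q.O ⟨a * b, hab⟩ =
          IsLocalRing.residue Q.O ⟨a, ha1⟩ * IsLocalRing.residue Q.O ⟨b, hb1⟩ := by
        rw [← map_mul]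
        rfl
      rw [h2]
      exact mul_mem ha2 hb2
  obtain ⟨hy1, hy2⟩ := key y hmem
  have heq : IsLocalRing.residue Q.O ⟨z, hz⟩ = IsLocalRing.residue Q.O ⟨y, hy1⟩ := by
    apply Ideal.Quotient.eq.2
    rw [mem_max_iff]
    show Q.1 (z - y) < 1
    rw [Valuation.map_sub_swap]
    exact lt_of_le_of_lt hyQ hexp
  rw [heq]
  exact hy2

end CExt

end Groth.Agent.Lib.lead.IntCl
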