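import Mathlib
import Groth.Agent.Lib.lead.IntCl

/-! Nonsingular places: if `k' ⊗ F_P` is reduced then the integral closure of `O_P` in
`k' ⊗ K` is `O_P[k']` and `P` is unramified. -/

namespace Groth.Agent.Lib.lead.NSing
open FunFld Module Groth.Agent.Lib.lead.FF Groth.Agent.Lib.lead.FF2 Groth.Agent.Lib.lead.FF3
  Groth.Agent.Lib.lead.FF4
  Groth.Agent.Lib.lead.FF5 Groth.Agent.Lib.lead.FF6 Groth.Agent.Lib.lead.FF7
  Groth.Agent.Lib.lead.FF8 Groth.Agent.Lib.lead.Ext Groth.Agent.Lib.lead.Ext3
  Groth.Agent.Lib.lead.IntCl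
open scoped TensorProduct IntermediateField
open Polynomial

section Red

theorem isReduced_adjoinRoot {F : Type*} [Field F] {g : F[X]} (hg : Squarefree g) :
    IsReduced (AdjoinRoot g) := by
  have h1 : (Ideal.span ({g} : Set F[X])).IsRadical :=
    isRadical_iff_span_singleton.1 hg.isRadical
  exact (Ideal.isRadical_iff_quotient_reduced _).1 h1

theorem isReduced_tensor_of_separable (k L F : Type*) [Field k] [Field L] [Field F]
    [Algebra k L] [Algebra k F] [FiniteDimensional k L] [Algebra.IsSeparable k L] :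
    IsReduced (L ⊗[k] F) := by
  obtain ⟨α, hα⟩ := Field.exists_primitive_element k L
  have hint : IsIntegral k α := Algebra.IsIntegral.isIntegral α
  let e1 : AdjoinRoot (minpoly k α) ≃ₐ[k] L :=
    (IntermediateField.adjoinRootEquivAdjoin k hint).trans
      ((IntermediateField.equivOfEq hα).trans IntermediateField.topEquiv)
  obtain ⟨q, hq⟩ : ∃ q : Polynomial (TensorProduct k F k),
      q = (minpoly k α).map
        (Algebra.TensorProduct.includeRight : k →ₐ[k] TensorProduct k F k).toRingHom := ⟨_, rfl⟩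
  let E1 : TensorProduct k L F ≃+* TensorProduct k F L :=
    (Algebra.TensorProduct.comm k L F).toRingEquiv
  let E2 : TensorProduct k F L ≃+* TensorProduct k F (AdjoinRoot (minpoly k α)) :=
    (Algebra.TensorProduct.congr (AlgEquiv.refl : F ≃ₐ[k] F) e1.symm).toRingEquiv
  let E3 : TensorProduct k F (AdjoinRoot (minpoly k α)) ≃+* AdjoinRoot q :=
    (AdjoinRoot.tensorAlgEquiv (minpoly k α) q hq.symm).toRingEquiv
  let e : TensorProduct k F k ≃+* F := (Algebra.TensorProduct.rid k F F).toRingEquiv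
  have hcomp : (e : TensorProduct k F k →+* F).comp
      (Algebra.TensorProduct.includeRight : k →ₐ[k] TensorProduct k F k).toRingHom =
      algebraMap k F := by
    ext c
    simp [e, Algebra.smul_def]
  have hqe : q.map (e : TensorProduct k F k →+* F) = (minpoly k α).map (algebraMap k F) := by
    rw [hq, Polynomial.map_map, hcomp]
  let E4 : AdjoinRoot q ≃+* AdjoinRoot ((minpoly k α).map (algebraMap k F)) :=
    AdjoinRoot.mapRingEquiv e q _ (by rw [hqe])
  have hsep : ((minpoly k α).map (algebraMap k F)).Separable :=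
    Polynomial.Separable.map (Algebra.IsSeparable.isSeparable k α)
  haveI := isReduced_adjoinRoot hsep.squarefree
  exact isReduced_of_injective (((E1.trans E2).trans E3).trans E4).toRingHom
    (((E1.trans E2).trans E3).trans E4).injective

end Red

section Gen

lemma val_le_one_of_isIntegral {R K' Γ : Type*} [CommRing R] [Field K'] [Algebra R K']
    [LinearOrderedCommGroupWithZero Γ] (v : Valuation K' Γ)
    (hv : ∀ x : R, v (algebraMap R K' x) ≤ 1) {y : K'} (hy : IsIntegral R y) : v y ≤ 1 := by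
  by_contra hlt
  rw [not_le] at hlt
  obtain ⟨p, hpm, hp⟩ := hy
  have hn : p.natDegree ≠ 0 := by
    intro h0
    rw [Polynomial.eq_one_of_monic_natDegree_zero hpm h0, Polynomial.eval₂_one] at hp
    exact one_ne_zero hp
  have hsum : y ^ p.natDegree =
      - ∑ i ∈ Finset.range p.natDegree, algebraMap R K' (p.coeff i) * y ^ i := by
    rw [Polynomial.eval₂_eq_sum_range, Finset.sum_range_succ, hpm.coeff_natDegree, map_one,
      one_mul] at hp
    exact eq_neg_of_add_eq_zero_right hp
  have hy0 : v y ^ p.natDegree ≠ 0 := pow_ne_zero _ (ne_of_gt (lt_trans zero_lt_one hlt))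
  have hlt2 : v (∑ i ∈ Finset.range p.natDegree, algebraMap R K' (p.coeff i) * y ^ i) <
      v y ^ p.natDegree := by
    apply Valuation.map_sum_lt v hy0
    intro i hi
    rw [Finset.mem_range] at hi
    rw [map_mul, map_pow]
    calc v (algebraMap R K' (p.coeff i)) * v y ^ i ≤ 1 * v y ^ i := mul_le_mul' (hv _) le_rfl
      _ = v y ^ i := one_mul _
      _ < v y ^ p.natDegree := pow_lt_pow_right₀ hlt hi
  have h3 : v (y ^ p.natDegree) = v y ^ p.natDegree := map_pow _ _ _
  rw [hsum, Valuation.map_neg] at h3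
  exact absurd h3 (ne_of_lt hlt2)

lemma map_eq_lTensor {k A B C : Type*} [Field k] [CommRing A] [CommRing B] [CommRing C]
    [Algebra k A] [Algebra k B] [Algebra k C] (g : B →ₐ[k] C) (x : A ⊗[k] B) :
    Algebra.TensorProduct.map (AlgHom.id k A) g x = LinearMap.lTensor A g.toLinearMap x := by
  induction x using TensorProduct.induction_on with
  | zero => rw [map_zero, map_zero]
  | tmul a b => rw [Algebra.TensorProduct.map_tmul, LinearMap.lTensor_tmul]; rfl
  | add x y hx hy => rw [map_add, map_add, hx, hy]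

end Gen

section Core
universe u v
variable {k k' : Type u} {K K' : Type v} [Field k] [Field k'] [Field K] [Field K']
    [Algebra k k'] [Algebra k K] [Algebra K K'] [Algebra k' K'] [Algebra k K']
    [IsScalarTower k k' K'] [IsScalarTower k K K']

def inclO (P : Place k K) : P.O →ₐ[k] K :=
  { toRingHom := P.O.subtype, commutes' := fun _ => rfl }

variable (k' K') in
def Phi (P : Place k K) : k' ⊗[k] P.O →ₐ[k] K' :=
  (Algebra.TensorProduct.productMap (IsScalarTower.toAlgHom k k' K')
    (IsScalarTower.toAlgHom k K K')).comp (Algebra.TensorProduct.map (AlgHom.id k k') (inclO P))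

lemma Phi_tmul (P : Place k K) (c : k') (r : P.O) :
    Phi k' K' P (c ⊗ₜ r) = algebraMap k' K' c * algebraMap K K' (r : K) := by
  unfold Phi
  rw [AlgHom.comp_apply, Algebra.TensorProduct.map_tmul,
    Algebra.TensorProduct.productMap_apply_tmul]
  rfl

lemma Phi_injective'
    (h : Function.Injective (Algebra.TensorProduct.productMap
      (IsScalarTower.toAlgHom k k' K') (IsScalarTower.toAlgHom k K K'))) (P : Place k K) :
    Function.Injective (Phi k' K' P) := by
  have h1 : Function.Injective (Algebra.TensorProduct.map (AlgHom.id k k') (inclO P)) := by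
    have h2 := Module.Flat.lTensor_preserves_injective_linearMap (M := k')
      (inclO P).toLinearMap Subtype.val_injective
    intro x y hxy
    apply h2
    rw [← map_eq_lTensor, ← map_eq_lTensor]
    exact hxy
  exact h.comp h1

lemma Phi_injective
    (h : Function.Bijective (Algebra.TensorProduct.productMap
      (IsScalarTower.toAlgHom k k' K') (IsScalarTower.toAlgHom k K K'))) (P : Place k K) :
    Function.Injective (Phi k' K' P) := Phi_injective' h.1 P

/-- multiplication by `1 ⊗ t` -/
lemma ker_map {P : Place k K} {F : Type*} [Field F] [Algebra k F] (π : P.O →ₐ[k] F)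
    (hπs : Function.Surjective π) (T : P.O) (hπk : ∀ r, π r = 0 ↔ ∃ r', r = T * r')
    (x : k' ⊗[k] P.O) (hx : Algebra.TensorProduct.map (AlgHom.id k k') π x = 0) :
    ∃ x', x = ((1 : k') ⊗ₜ[k] T) * x' := by
  let f : P.O →ₗ[k] P.O := LinearMap.mulLeft k T
  have hex : Function.Exact f π.toLinearMap := by
    intro r
    show π r = 0 ↔ _
    rw [hπk]
    constructor
    · rintro ⟨r', rfl⟩
      exact ⟨r', rfl⟩
    · rintro ⟨r', rfl⟩
      exact ⟨r', rfl⟩
  have hex2 := lTensor_exact k' hex hπs
  rw [map_eq_lTensor] at hx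
  obtain ⟨x', hx'⟩ := (hex2 x).1 hx
  refine ⟨x', ?_⟩
  rw [← hx']
  clear hx' hx
  induction x' using TensorProduct.induction_on with
  | zero => rw [map_zero, mul_zero]
  | tmul c r =>
    rw [LinearMap.lTensor_tmul, Algebra.TensorProduct.tmul_mul_tmul, one_mul]
    rfl
  | add a b ha hb => rw [map_add, ha, hb, mul_add]

lemma exists_scale' (P : Place k K)
    (T : P.O) (hT : P.1 (T : K) = WithZero.exp (-1)) (z : K')
    (hz : z ∈ Set.range (Algebra.TensorProduct.productMap
      (IsScalarTower.toAlgHom k k' K') (IsScalarTower.toAlgHom k K K'))) :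
    ∃ (m : ℕ) (x : k' ⊗[k] P.O), Phi k' K' P x = algebraMap K K' (T : K) ^ m * z := by
  obtain ⟨τ, rfl⟩ := hz
  have hT1 : Phi k' K' P ((1 : k') ⊗ₜ T) = algebraMap K K' (T : K) := by
    rw [Phi_tmul, map_one, one_mul]
  induction τ using TensorProduct.induction_on with
  | zero => exact ⟨0, 0, by rw [map_zero, map_zero, mul_zero]⟩
  | tmul c y =>
    obtain ⟨r, hr⟩ := exists_nat_bound (P.1 y)
    have hle : P.1 ((T : K) ^ r * y) ≤ 1 := by
      rw [map_mul, map_pow, hT, ← WithZero.exp_nsmul]
      calc WithZero.exp (r • (-1 : ℤ)) * P.1 y ≤ WithZero.exp (r • (-1 : ℤ)) * WithZero.exp (r : ℤ) :=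
            mul_le_mul' le_rfl hr
        _ = 1 := by
            rw [← WithZero.exp_add, ← WithZero.exp_zero]
            congr 1
            simp
    refine ⟨r, c ⊗ₜ ⟨(T : K) ^ r * y, hle⟩, ?_⟩
    rw [Phi_tmul, Algebra.TensorProduct.productMap_apply_tmul]
    show algebraMap k' K' c * algebraMap K K' ((T : K) ^ r * y) = _
    rw [map_mul, map_pow]
    show _ = algebraMap K K' (T : K) ^ r * (algebraMap k' K' c * algebraMap K K' y)
    ring
  | add τ₁ τ₂ h₁ h₂ =>
    obtain ⟨m₁, x₁, e₁⟩ := h₁
    obtain ⟨m₂, x₂, e₂⟩ := h₂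
    refine ⟨m₁ + m₂, ((1 : k') ⊗ₜ T) ^ m₂ * x₁ + ((1 : k') ⊗ₜ T) ^ m₁ * x₂, ?_⟩
    rw [map_add, map_mul, map_mul, map_pow, map_pow, hT1, e₁, e₂, map_add]
    ring

lemma exists_scale
    (h : Function.Bijective (Algebra.TensorProduct.productMap
      (IsScalarTower.toAlgHom k k' K') (IsScalarTower.toAlgHom k K K'))) (P : Place k K)
    (T : P.O) (hT : P.1 (T : K) = WithZero.exp (-1)) (z : K') :
    ∃ (m : ℕ) (x : k' ⊗[k] P.O), Phi k' K' P x = algebraMap K K' (T : K) ^ m * z :=
  exists_scale' P T hT z (h.2 z)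

set_option maxHeartbeats 800000 in
theorem mem_range_Phi'
    (h : Function.Injective (Algebra.TensorProduct.productMap
      (IsScalarTower.toAlgHom k k' K') (IsScalarTower.toAlgHom k K K')))
    (P : Place k K) [Algebra P.O K'] [IsScalarTower P.O K K']
    {F : Type*} [Field F] [Algebra k F] (π : P.O →ₐ[k] F)
    (hπs : Function.Surjective π) (hπk : ∀ r : P.O, π r = 0 ↔ P.1 (r : K) < 1)
    (hred : IsReduced (k' ⊗[k] F)) (z : K')
    (hzr : z ∈ Set.range (Algebra.TensorProduct.productMap
      (IsScalarTower.toAlgHom k k' K') (IsScalarTower.toAlgHom k K K')))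
    (hz : IsIntegral P.O z) :
    z ∈ Set.range (Phi k' K' P) := by
  classical
  have hmap : ∀ r : P.O, algebraMap P.O K' r = algebraMap K K' (r : K) := fun r => by
    rw [IsScalarTower.algebraMap_apply P.O K K']
    rfl
  obtain ⟨t, ht⟩ := exists_uniformizer P
  have ht1 : P.1 t ≤ 1 := by
    rw [ht, ← WithZero.exp_zero, WithZero.exp_le_exp]
    norm_num
  obtain ⟨T, hTdef⟩ : ∃ T : P.O, T = ⟨t, ht1⟩ := ⟨_, rfl⟩
  have hTt : (T : K) = t := by rw [hTdef]
  have hT : P.1 (T : K) = WithZero.exp (-1) := by rw [hTt, ht]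
  have ht0 : t ≠ 0 := unif_ne_zero P ht
  have ht'0 : algebraMap K K' (T : K) ≠ 0 := by
    rw [hTt]
    exact (_root_.map_ne_zero _).2 ht0
  have hπk' : ∀ r : P.O, π r = 0 ↔ ∃ r', r = T * r' := by
    intro r
    rw [hπk]
    constructor
    · intro hr
      have hle : P.1 ((r : K) / t) ≤ 1 := by
        rw [map_div₀, ht]
        rw [lt_one_iff] at hr
        exact div_le_one_of_le₀ hr zero_le'
      refine ⟨⟨(r : K) / t, hle⟩, Subtype.ext ?_⟩
      show (r : K) = (T : K) * ((r : K) / t)
      rw [hTt]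
      field_simp
    · rintro ⟨r', rfl⟩
      show P.1 ((T : K) * (r' : K)) < 1
      rw [map_mul, hT]
      calc WithZero.exp (-1) * P.1 (r' : K) ≤ WithZero.exp (-1) * 1 := mul_le_mul' le_rfl r'.2
        _ = WithZero.exp (-1) := mul_one _
        _ < 1 := by
          rw [← WithZero.exp_zero, WithZero.exp_lt_exp]
          norm_num
  have hπT : π T = 0 := (hπk' T).2 ⟨1, (mul_one T).symm⟩
  have hinj := Phi_injective' (k' := k') (K' := K') h P
  have hT1 : Phi k' K' P ((1 : k') ⊗ₜ T) = algebraMap K K' (T : K) := by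
    rw [Phi_tmul, map_one, one_mul]
  -- the two ring homs out of `P.O`
  let incR : P.O →+* k' ⊗[k] P.O :=
    (Algebra.TensorProduct.includeRight : P.O →ₐ[k] k' ⊗[k] P.O).toRingHom
  let incR' : F →+* k' ⊗[k] F :=
    (Algebra.TensorProduct.includeRight : F →ₐ[k] k' ⊗[k] F).toRingHom
  let Ψ : k' ⊗[k] P.O →ₐ[k] k' ⊗[k] F := Algebra.TensorProduct.map (AlgHom.id k k') π
  have hΦinc : ((Phi k' K' P : k' ⊗[k] P.O →+* K')).comp incR = algebraMap P.O K' := by
    ext r
    show Phi k' K' P ((1 : k') ⊗ₜ r) = _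
    rw [Phi_tmul, map_one, one_mul, hmap]
  have hΨinc : ((Ψ : k' ⊗[k] P.O →+* k' ⊗[k] F)).comp incR = incR'.comp (π : P.O →+* F) := by
    ext r
    show Ψ ((1 : k') ⊗ₜ r) = (1 : k') ⊗ₜ π r
    exact Algebra.TensorProduct.map_tmul _ _ _ _
  have claim : ∀ m : ℕ, ∀ z : K', IsIntegral P.O z →
      (∃ x, Phi k' K' P x = algebraMap K K' (T : K) ^ m * z) → z ∈ Set.range (Phi k' K' P) := by
    intro m
    induction m with
    | zero =>
      rintro z - ⟨x, hx⟩
      rw [pow_zero, one_mul] at hx
      exact ⟨x, hx⟩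
    | succ m ih =>
      rintro z hz ⟨x, hx⟩
      obtain ⟨p, hpm, hp⟩ := hz
      obtain ⟨s, hs⟩ : ∃ s : P.O, s = T ^ (m + 1) := ⟨_, rfl⟩
      have hfs : algebraMap P.O K' s = algebraMap K K' (T : K) ^ (m + 1) := by
        rw [hmap, hs, ← map_pow]
        rfl
      have h1 : eval₂ (algebraMap P.O K') (Phi k' K' P x) (scaleRoots p s) = 0 := by
        rw [hx, ← hfs]
        exact scaleRoots_eval₂_eq_zero _ hp
      have h2 : Phi k' K' P (eval₂ incR x (scaleRoots p s)) = 0 := by
        have := Polynomial.hom_eval₂ (scaleRoots p s) incR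
          ((Phi k' K' P : k' ⊗[k] P.O →+* K')) x
        rw [hΦinc] at this
        exact this.trans h1
      have h3 : eval₂ incR x (scaleRoots p s) = 0 := hinj (h2.trans (map_zero _).symm)
      have h4 : eval₂ (incR'.comp (π : P.O →+* F)) (Ψ x) (scaleRoots p s) = 0 := by
        have := Polynomial.hom_eval₂ (scaleRoots p s) incR
          ((Ψ : k' ⊗[k] P.O →+* k' ⊗[k] F)) x
        rw [hΨinc] at this
        refine this.symm.trans ?_
        show Ψ (eval₂ incR x (scaleRoots p s)) = 0
        rw [h3, map_zero]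
      have hπs0 : π s = 0 := by
        rw [hs, pow_succ, map_mul, hπT, mul_zero]
      have h5 : (scaleRoots p s).map (π : P.O →+* F) = X ^ p.natDegree := by
        ext i
        rw [coeff_map, coeff_scaleRoots, coeff_X_pow]
        show π (p.coeff i * s ^ (p.natDegree - i)) = _
        rcases lt_trichotomy i p.natDegree with hi | hi | hi
        · rw [if_neg hi.ne, map_mul, map_pow, hπs0, zero_pow (Nat.sub_ne_zero_of_lt hi), mul_zero]
        · rw [if_pos hi, hi, Nat.sub_self, pow_zero, mul_one, hpm.coeff_natDegree, map_one]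
        · rw [if_neg hi.ne', coeff_eq_zero_of_natDegree_lt hi, zero_mul, map_zero]
      have h6 : (Ψ x) ^ p.natDegree = 0 := by
        rw [← eval₂_map, h5, eval₂_X_pow] at h4
        exact h4
      have h7 : Ψ x = 0 := IsReduced.eq_zero _ ⟨_, h6⟩
      obtain ⟨x', hx'⟩ := ker_map π hπs T hπk' x h7
      have h8 : Phi k' K' P x' = algebraMap K K' (T : K) ^ m * z := by
        have h9 : algebraMap K K' (T : K) * Phi k' K' P x' =
            algebraMap K K' (T : K) * (algebraMap K K' (T : K) ^ m * z) := by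
          rw [← hT1, ← map_mul, ← hx', hx, hT1]
          ring
        exact mul_left_cancel₀ ht'0 h9
      exact ih z ⟨p, hpm, hp⟩ ⟨x', h8⟩
  obtain ⟨m, x, hx⟩ := exists_scale' (k' := k') (K' := K') P T hT z hzr
  exact claim m z hz ⟨x, hx⟩

variable [FiniteDimensional k k']

theorem mem_range_Phi
    (h : Function.Bijective (Algebra.TensorProduct.productMap
      (IsScalarTower.toAlgHom k k' K') (IsScalarTower.toAlgHom k K K')))
    (P : Place k K) [Algebra P.O K'] [IsScalarTower P.O K K']
    {F : Type*} [Field F] [Algebra k F] (π : P.O →ₐ[k] F)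
    (hπs : Function.Surjective π) (hπk : ∀ r : P.O, π r = 0 ↔ P.1 (r : K) < 1)
    (hred : IsReduced (k' ⊗[k] F)) (z : K') (hz : IsIntegral P.O z) :
    z ∈ Set.range (Phi k' K' P) :=
  mem_range_Phi' h.1 P π hπs hπk hred z (h.2 z) hz

end Core

end Groth.Agent.Lib.lead.NSing
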