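import Mathlib
import Groth.Agent.Lib.lead.NSing

/-! Nonsingular places: main theorems. -/

namespace Groth.Agent.Lib.lead.NSing2
open FunFld Module Groth.Agent.Lib.lead.FF Groth.Agent.Lib.lead.FF2 Groth.Agent.Lib.lead.FF3
  Groth.Agent.Lib.lead.FF4
  Groth.Agent.Lib.lead.FF5 Groth.Agent.Lib.lead.FF6 Groth.Agent.Lib.lead.FF7
  Groth.Agent.Lib.lead.FF8 Groth.Agent.Lib.lead.Ext Groth.Agent.Lib.lead.Ext3
  Groth.Agent.Lib.lead.IntCl Groth.Agent.Lib.lead.NSing
open scoped TensorProduct IntermediateField
open Polynomial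

section Core
universe u v
variable {k k' : Type u} {K K' : Type v} [Field k] [Field k'] [Field K] [Field K']
    [Algebra k k'] [Algebra k K] [Algebra K K'] [Algebra k' K'] [Algebra k K']
    [IsScalarTower k k' K'] [IsScalarTower k K K'] [FiniteDimensional k k']

lemma isIntegral_const (P : Place k K) [Algebra P.O K'] [IsScalarTower P.O K K'] (c : k') :
    IsIntegral P.O (algebraMap k' K' c) := by
  have hmap : ∀ r : P.O, algebraMap P.O K' r = algebraMap K K' (r : K) := fun r => by
    rw [IsScalarTower.algebraMap_apply P.O K K']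
    rfl
  have h1 : IsIntegral k (algebraMap k' K' c) :=
    (Algebra.IsIntegral.isIntegral (R := k) c).map (IsScalarTower.toAlgHom k k' K')
  obtain ⟨p, hpm, hp⟩ := h1
  refine ⟨p.map (algebraMap k P.O), hpm.map _, ?_⟩
  rw [eval₂_map]
  have hcomp : (algebraMap P.O K').comp (algebraMap k P.O) = algebraMap k K' := by
    ext a
    show algebraMap P.O K' (algebraMap k P.O a) = _
    rw [hmap, IsScalarTower.algebraMap_apply k K K']
    rfl
  rw [hcomp]
  exact hp

lemma Phi_mem_adjoin (P : Place k K) [Algebra P.O K'] [IsScalarTower P.O K K']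
    (x : k' ⊗[k] P.O) :
    Phi k' K' P x ∈ Algebra.adjoin P.O (Set.range (algebraMap k' K')) := by
  have hmap : ∀ r : P.O, algebraMap P.O K' r = algebraMap K K' (r : K) := fun r => by
    rw [IsScalarTower.algebraMap_apply P.O K K']
    rfl
  induction x using TensorProduct.induction_on with
  | zero => rw [map_zero]; exact zero_mem _
  | tmul c r =>
    rw [Phi_tmul, ← hmap]
    exact mul_mem (Algebra.subset_adjoin ⟨c, rfl⟩) (Subalgebra.algebraMap_mem _ r)
  | add a b ha hb => rw [map_add]; exact add_mem ha hb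

lemma adjoin_le_integralClosure (P : Place k K) [Algebra P.O K'] [IsScalarTower P.O K K'] :
    Algebra.adjoin P.O (Set.range (algebraMap k' K')) ≤ integralClosure P.O K' := by
  apply Algebra.adjoin_le
  rintro _ ⟨c, rfl⟩
  exact isIntegral_const P c

set_option maxHeartbeats 800000 in
theorem core
    (h : Function.Bijective (Algebra.TensorProduct.productMap
      (IsScalarTower.toAlgHom k k' K') (IsScalarTower.toAlgHom k K K')))
    (hK : IsFunctionField k K)
    (P : Place k K) [Algebra P.O K'] [IsScalarTower P.O K K']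
    {F : Type*} [Field F] [Algebra k F] (π : P.O →ₐ[k] F)
    (hπs : Function.Surjective π) (hπk : ∀ r : P.O, π r = 0 ↔ P.1 (r : K) < 1)
    (hred : IsReduced (k' ⊗[k] F)) :
    (integralClosure P.O K').toSubring =
      (Algebra.adjoin P.O (Set.range (algebraMap k' K'))).toSubring ∧
    ∀ Q : Place k K', IsOver Q P → IsOverWith Q P 1 := by
  classical
  have hmap : ∀ r : P.O, algebraMap P.O K' r = algebraMap K K' (r : K) := fun r => by
    rw [IsScalarTower.algebraMap_apply P.O K K']
    rfl
  refine ⟨?_, ?_⟩
  · ext z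
    constructor
    · intro hz
      have hz' : IsIntegral P.O z := hz
      obtain ⟨x, rfl⟩ := mem_range_Phi h P π hπs hπk hred z hz'
      exact Phi_mem_adjoin P x
    · intro hz
      exact adjoin_le_integralClosure P hz
  · intro Q hQ
    obtain ⟨e, he⟩ := hQ
    have hepos := isOverWith_pos he
    by_contra hne
    have he2 : 2 ≤ e := by
      rcases Nat.lt_or_ge e 2 with hlt | hge
      · exfalso
        apply hne
        have : e = 1 := by omega
        rw [← this]
        exact he
      · exact hge
    haveI : FiniteDimensional K K' := finite_of_bijective k k' K K' h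
    have hfin := (general (K' := K') hK P).1
    obtain ⟨t, ht⟩ := exists_uniformizer P
    have ht1 : P.1 t ≤ 1 := by
      rw [ht, ← WithZero.exp_zero, WithZero.exp_le_exp]
      norm_num
    obtain ⟨T, hTdef⟩ : ∃ T : P.O, T = ⟨t, ht1⟩ := ⟨_, rfl⟩
    have hTt : (T : K) = t := by rw [hTdef]
    have hT : P.1 (T : K) = WithZero.exp (-1) := by rw [hTt, ht]
    have ht0 : t ≠ 0 := unif_ne_zero P ht
    have hπk' : ∀ r : P.O, π r = 0 ↔ ∃ r', r = T * r' := by
      intro r
      rw [hπk]
      constructor
      · intro hr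
        have hle : P.1 ((r : K) / t) ≤ 1 := by
          rw [map_div₀, ht]
          rw [lt_one_iff] at hr
          exact div_le_one_of_le₀ hr zero_le'
        refine ⟨⟨(r : K) / t, hle⟩, Subtype.ext ?_⟩
        show (r : K) = (T : K) * ((r : K) / t)
        rw [hTt]
        field_simp
      · rintro ⟨r', rfl⟩
        show P.1 ((T : K) * (r' : K)) < 1
        rw [map_mul, hT]
        calc WithZero.exp (-1) * P.1 (r' : K) ≤ WithZero.exp (-1) * 1 := mul_le_mul' le_rfl r'.2
          _ = WithZero.exp (-1) := mul_one _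
          _ < 1 := by
            rw [← WithZero.exp_zero, WithZero.exp_lt_exp]
            norm_num
    have hπT : π T = 0 := (hπk' T).2 ⟨1, (mul_one T).symm⟩
    have hinj := Phi_injective (k' := k') (K' := K') h P
    have hT1 : Phi k' K' P ((1 : k') ⊗ₜ T) = algebraMap K K' (T : K) := by
      rw [Phi_tmul, map_one, one_mul]
    obtain ⟨s, hs⟩ := exists_uniformizer Q
    obtain ⟨b, hb⟩ := exists_approx hfin.toFinset (fun Q' => if Q' = Q then s else 0) 2
    have hQmem : Q ∈ hfin.toFinset := hfin.mem_toFinset.2 ⟨e, he⟩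
    have hexp2 : WithZero.exp (-((2 : ℕ) : ℤ)) < (WithZero.exp (-1) : WithZero (Multiplicative ℤ)) := by
      rw [WithZero.exp_lt_exp]
      norm_num
    have hexp1 : (WithZero.exp (-1) : WithZero (Multiplicative ℤ)) < 1 := by
      rw [← WithZero.exp_zero, WithZero.exp_lt_exp]
      norm_num
    have hbQ : Q.1 b = WithZero.exp (-1) := by
      have h1 := hb Q hQmem
      rw [if_pos rfl] at h1
      have h2 : b = s + (b - s) := by ring
      rw [h2, Valuation.map_add_eq_of_lt_left, hs]
      rw [hs]
      exact lt_of_le_of_lt h1 hexp2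
    have hball : ∀ Q' ∈ hfin.toFinset, Q'.1 b ≤ WithZero.exp (-1) := by
      intro Q' hQ'
      by_cases hQQ : Q' = Q
      · rw [hQQ, hbQ]
      · have h1 := hb Q' hQ'
        rw [if_neg hQQ, sub_zero] at h1
        exact h1.trans hexp2.le
    -- `b` is integral
    have hbint : IsIntegral P.O b := by
      apply isIntegral_of_forall hK P b
      intro Q' hQ'
      exact (hball Q' (hfin.mem_toFinset.2 hQ')).trans hexp1.le
    obtain ⟨x, hx⟩ := mem_range_Phi h P π hπs hπk hred b hbint
    -- a power of `b` is divisible by `t`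
    obtain ⟨r, hr⟩ := exists_bound hfin.toFinset (fun Q' => (Q'.1 (algebraMap K K' t))⁻¹)
    have ht'0 : algebraMap K K' t ≠ 0 := (_root_.map_ne_zero _).2 ht0
    have hbr : IsIntegral P.O (b ^ r / algebraMap K K' t) := by
      apply isIntegral_of_forall hK P
      intro Q' hQ'
      have h1 := hr Q' (hfin.mem_toFinset.2 hQ')
      have h2 := hball Q' (hfin.mem_toFinset.2 hQ')
      have hpos : 0 < Q'.1 (algebraMap K K' t) :=
        zero_lt_iff.2 ((Valuation.ne_zero_iff _).2 ht'0)
      rw [map_div₀, map_pow]
      apply div_le_one_of_le₀ _ zero_le'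
      have h3 : WithZero.exp (-(r : ℤ)) ≤ Q'.1 (algebraMap K K' t) := by
        have h4 : (Q'.1 (algebraMap K K' t))⁻¹ ≤ WithZero.exp (r : ℤ) := h1
        rw [inv_le_comm₀ hpos WithZero.exp_pos] at h4
        rwa [← WithZero.exp_neg] at h4
      refine le_trans ?_ h3
      calc Q'.1 b ^ r ≤ WithZero.exp (-1) ^ r := pow_le_pow_left₀ zero_le' h2 r
        _ = WithZero.exp (-(r : ℤ)) := by
          rw [← WithZero.exp_nsmul]
          congr 1
          simp
    obtain ⟨x₂, hx₂⟩ := mem_range_Phi h P π hπs hπk hred _ hbr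
    have h5 : x ^ r = ((1 : k') ⊗ₜ[k] T) * x₂ := by
      apply hinj
      rw [map_pow, map_mul, hx, hT1, hx₂, hTt]
      field_simp
    let Ψ : k' ⊗[k] P.O →ₐ[k] k' ⊗[k] F := Algebra.TensorProduct.map (AlgHom.id k k') π
    have h6 : (Ψ x) ^ r = 0 := by
      rw [← map_pow, h5, map_mul]
      have : Ψ ((1 : k') ⊗ₜ[k] T) = 0 := by
        show Algebra.TensorProduct.map (AlgHom.id k k') π ((1 : k') ⊗ₜ[k] T) = 0
        rw [Algebra.TensorProduct.map_tmul, hπT, TensorProduct.tmul_zero]
      rw [this, zero_mul]
    have h7 : Ψ x = 0 := IsReduced.eq_zero _ ⟨_, h6⟩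
    obtain ⟨x₃, hx₃⟩ := ker_map π hπs T hπk' x h7
    have h8 : b = algebraMap K K' t * Phi k' K' P x₃ := by
      rw [← hx, hx₃, map_mul, hT1, hTt]
    have h9 : Q.1 (Phi k' K' P x₃) ≤ 1 := by
      apply val_le_one_of_isIntegral (R := P.O) Q.1
      · intro a
        rw [hmap, isOverWith_le_one_iff he]
        exact a.2
      · exact adjoin_le_integralClosure P (Phi_mem_adjoin P x₃)
    have h10 : Q.1 b ≤ WithZero.exp (-1) ^ e := by
      rw [h8, map_mul, he t, ht]
      calc WithZero.exp (-1) ^ e * Q.1 (Phi k' K' P x₃) ≤ WithZero.exp (-1) ^ e * 1 :=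
            mul_le_mul' le_rfl h9
        _ = _ := mul_one _
    rw [hbQ, ← WithZero.exp_nsmul, WithZero.exp_le_exp] at h10
    simp at h10
    omega

end Core

section Final
universe u v
variable (k k' : Type u) (K K' : Type v) [Field k] [Field k'] [Field K] [Field K']
    [Algebra k k'] [FiniteDimensional k k'] [Algebra k K] [Algebra K K'] [Algebra k' K'] [Algebra k K']
    [IsScalarTower k k' K'] [IsScalarTower k K K']

def resO (P : Place k K) : P.O →ₐ[k] IsLocalRing.ResidueField P.O :=
  { toRingHom := IsLocalRing.residue P.O, commutes' := fun _ => rfl }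

variable {k K} in
lemma resO_ker (P : Place k K) (r : P.O) : resO k K P r = 0 ↔ P.1 (r : K) < 1 := by
  show IsLocalRing.residue P.O r = 0 ↔ _
  rw [IsLocalRing.residue_eq_zero_iff, mem_max_iff]

theorem s11012
    (h : Function.Bijective (Algebra.TensorProduct.productMap
      (IsScalarTower.toAlgHom k k' K') (IsScalarTower.toAlgHom k K K')))
    (hK : FunFld.IsFunctionField k K) [Algebra.IsSeparable k k']
    (P : FunFld.Place k K) [Algebra P.O K'] [IsScalarTower P.O K K']
    (Q : FunFld.Place k K') (hQ : FunFld.IsOver Q P) :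
    (integralClosure P.O K').toSubring =
      (Algebra.adjoin P.O (Set.range (algebraMap k' K'))).toSubring ∧
    FunFld.IsOverWith Q P 1 := by
  have hc := core h hK P (resO k K P) IsLocalRing.residue_surjective (resO_ker P)
    (isReduced_tensor_of_separable k k' (IsLocalRing.ResidueField P.O))
  exact ⟨hc.1, hc.2 Q hQ⟩

theorem s11018
    (h : Function.Bijective (Algebra.TensorProduct.productMap
      (IsScalarTower.toAlgHom k k' K') (IsScalarTower.toAlgHom k K K')))
    (hK : FunFld.IsFunctionField k K)
    (P : FunFld.Place k K) [Algebra.IsSeparable k (IsLocalRing.ResidueField P.O)]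
    [Algebra P.O K'] [IsScalarTower P.O K K'] :
    (integralClosure P.O K').toSubring =
      (Algebra.adjoin P.O (Set.range (algebraMap k' K'))).toSubring := by
  haveI hfd : @Module.Finite k (IsLocalRing.ResidueField P.O) _ _ (Place.algRes P).toModule :=
    Module.finite_of_finrank_pos (deg_pos hK P)
  haveI hred0 := isReduced_tensor_of_separable k (IsLocalRing.ResidueField P.O) k'
  have hred := isReduced_of_injective
      (Algebra.TensorProduct.comm k k' (IsLocalRing.ResidueField P.O)).toRingEquiv.toRingHom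
      (Algebra.TensorProduct.comm k k' (IsLocalRing.ResidueField P.O)).injective
  exact (core h hK P (resO k K P) IsLocalRing.residue_surjective (resO_ker P) hred).1

end Final

end Groth.Agent.Lib.lead.NSing2
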