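import Mathlib
import Groth.Agent.Lib.lead.NSing2

/-! An abstract criterion for unramifiedness: a model `A` of the integral closure with reduced
special fibre. -/

namespace Groth.Agent.Lib.lead.Abs
open FunFld Module Groth.Agent.Lib.lead.FF Groth.Agent.Lib.lead.FF2 Groth.Agent.Lib.lead.FF3
  Groth.Agent.Lib.lead.FF4
  Groth.Agent.Lib.lead.FF5 Groth.Agent.Lib.lead.FF6 Groth.Agent.Lib.lead.FF7
  Groth.Agent.Lib.lead.FF8 Groth.Agent.Lib.lead.Ext Groth.Agent.Lib.lead.Ext3
  Groth.Agent.Lib.lead.IntCl Groth.Agent.Lib.lead.NSing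
open Polynomial

variable {k K : Type*} [Field k] [Field K] [Algebra k K]

structure Model (K' : Type*) [Field K'] [Algebra K K'] [Algebra k K'] (P : Place k K)
    (A Abar : Type*) [CommRing A] [CommRing Abar] where
  ι : P.O →+* A
  Φ : A →+* K'
  Ψ : A →+* Abar
  T : P.O
  hT : P.1 (T : K) = WithZero.exp (-1)
  Φ_inj : Function.Injective Φ
  Φ_ι : ∀ r : P.O, Φ (ι r) = algebraMap K K' (r : K)
  Ψ_ι : ∀ r : P.O, P.1 (r : K) < 1 → Ψ (ι r) = 0
  ker : ∀ a, Ψ a = 0 → ∃ a', a = ι T * a'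
  scale : ∀ z : K', ∃ (m : ℕ) (a : A), Φ a = algebraMap K K' (T : K) ^ m * z
  int : ∀ a, ∀ Q : Place k K', IsOver Q P → Q.1 (Φ a) ≤ 1

lemma val_T_mul_lt (P : Place k K) (T w : P.O) (hT : P.1 (T : K) = WithZero.exp (-1)) :
    P.1 ((T * w : P.O) : K) < 1 := by
  show P.1 ((T : K) * (w : K)) < 1
  rw [map_mul, hT]
  calc WithZero.exp (-1) * P.1 (w : K) ≤ WithZero.exp (-1) * 1 := mul_le_mul' le_rfl w.2
    _ = WithZero.exp (-1) := mul_one _
    _ < 1 := by
      rw [← WithZero.exp_zero, WithZero.exp_lt_exp]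
      norm_num

variable {K' : Type*} [Field K'] [Algebra K K'] [Algebra k K'] [IsScalarTower k K K']
  [FiniteDimensional K K']

set_option maxHeartbeats 800000 in
theorem Model.mem_range (hK : IsFunctionField k K) {P : Place k K} {A Abar : Type*} [CommRing A]
    [CommRing Abar] [IsReduced Abar] (M : Model K' P A Abar) (z : K')
    (hz : ∀ Q : Place k K', IsOver Q P → Q.1 z ≤ 1) : z ∈ Set.range M.Φ := by
  classical
  letI alg : Algebra P.O K' := ((algebraMap K K').comp P.O.subtype).toAlgebra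
  haveI : IsScalarTower P.O K K' := IsScalarTower.of_algebraMap_eq (fun _ => rfl)
  have hmap : ∀ r : P.O, algebraMap P.O K' r = algebraMap K K' (r : K) := fun _ => rfl
  have hzint : IsIntegral P.O z := isIntegral_of_forall hK P z hz
  have hcomp : M.Φ.comp M.ι = algebraMap P.O K' := by
    ext r
    exact M.Φ_ι r
  have hT0 : (M.T : K) ≠ 0 := unif_ne_zero P M.hT
  have ht'0 : algebraMap K K' (M.T : K) ≠ 0 := (_root_.map_ne_zero _).2 hT0
  have claim : ∀ m : ℕ, ∀ z : K', IsIntegral P.O z →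
      (∃ a, M.Φ a = algebraMap K K' (M.T : K) ^ m * z) → z ∈ Set.range M.Φ := by
    intro m
    induction m with
    | zero =>
      rintro z - ⟨a, ha⟩
      rw [pow_zero, one_mul] at ha
      exact ⟨a, ha⟩
    | succ m ih =>
      rintro z hz ⟨a, ha⟩
      obtain ⟨p, hpm, hp⟩ := hz
      obtain ⟨s, hs⟩ : ∃ s : P.O, s = M.T ^ (m + 1) := ⟨_, rfl⟩
      have hfs : algebraMap P.O K' s = algebraMap K K' (M.T : K) ^ (m + 1) := by
        rw [hmap, hs, ← map_pow]
        rfl
      have h1 : eval₂ (algebraMap P.O K') (M.Φ a) (scaleRoots p s) = 0 := by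
        rw [ha, ← hfs]
        exact scaleRoots_eval₂_eq_zero _ hp
      have h2 : M.Φ (eval₂ M.ι a (scaleRoots p s)) = 0 := by
        have := Polynomial.hom_eval₂ (scaleRoots p s) M.ι M.Φ a
        rw [hcomp] at this
        exact this.trans h1
      have h3 : eval₂ M.ι a (scaleRoots p s) = 0 := M.Φ_inj (h2.trans (map_zero _).symm)
      have h4 : M.Ψ (eval₂ M.ι a (scaleRoots p s)) = (M.Ψ a) ^ p.natDegree := by
        rw [Polynomial.hom_eval₂, eval₂_eq_sum_range, natDegree_scaleRoots, Finset.sum_range_succ,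
          coeff_scaleRoots_natDegree, hpm.leadingCoeff, map_one, one_mul, Finset.sum_eq_zero,
          zero_add]
        intro i hi
        rw [Finset.mem_range] at hi
        have h0 : (M.Ψ.comp M.ι) ((scaleRoots p s).coeff i) = 0 := by
          show M.Ψ (M.ι ((scaleRoots p s).coeff i)) = 0
          apply M.Ψ_ι
          rw [coeff_scaleRoots]
          obtain ⟨j, hj⟩ : ∃ j, p.natDegree - i = j + 1 := ⟨p.natDegree - i - 1, by omega⟩
          have e : p.coeff i * s ^ (p.natDegree - i) = M.T * (p.coeff i * s ^ j * M.T ^ m) := by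
            rw [hj, hs]
            ring
          rw [e]
          exact val_T_mul_lt P _ _ M.hT
        rw [h0, zero_mul]
      have h5 : (M.Ψ a) ^ p.natDegree = 0 := by rw [← h4, h3, map_zero]
      have h7 : M.Ψ a = 0 := IsReduced.eq_zero _ ⟨_, h5⟩
      obtain ⟨a', ha'⟩ := M.ker a h7
      have h8 : M.Φ a' = algebraMap K K' (M.T : K) ^ m * z := by
        have h9 : algebraMap K K' (M.T : K) * M.Φ a' =
            algebraMap K K' (M.T : K) * (algebraMap K K' (M.T : K) ^ m * z) := by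
          rw [← M.Φ_ι, ← map_mul, ← ha', ha, M.Φ_ι]
          ring
        exact mul_left_cancel₀ ht'0 h9
      exact ih z ⟨p, hpm, hp⟩ ⟨a', h8⟩
  obtain ⟨m, a, ha⟩ := M.scale z
  exact claim m z hzint ⟨a, ha⟩

set_option maxHeartbeats 800000 in
theorem Model.unram (hK : IsFunctionField k K) {P : Place k K} {A Abar : Type*} [CommRing A]
    [CommRing Abar] [IsReduced Abar] (M : Model K' P A Abar) (Q : Place k K')
    (hQ : IsOver Q P) : IsOverWith Q P 1 := by
  classical
  obtain ⟨e, he⟩ := hQ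
  have hepos := isOverWith_pos he
  by_contra hne
  have he2 : 2 ≤ e := by
    rcases Nat.lt_or_ge e 2 with hlt | hge
    · exfalso
      apply hne
      have : e = 1 := by omega
      rw [← this]
      exact he
    · exact hge
  have hfin := (general (K' := K') hK P).1
  have hT0 : (M.T : K) ≠ 0 := unif_ne_zero P M.hT
  have ht'0 : algebraMap K K' (M.T : K) ≠ 0 := (_root_.map_ne_zero _).2 hT0
  obtain ⟨s, hs⟩ := exists_uniformizer Q
  obtain ⟨b, hb⟩ := exists_approx hfin.toFinset (fun Q' => if Q' = Q then s else 0) 2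
  have hQmem : Q ∈ hfin.toFinset := hfin.mem_toFinset.2 ⟨e, he⟩
  have hexp2 : WithZero.exp (-((2 : ℕ) : ℤ)) < (WithZero.exp (-1) : WithZero (Multiplicative ℤ)) := by
    rw [WithZero.exp_lt_exp]
    norm_num
  have hexp1 : (WithZero.exp (-1) : WithZero (Multiplicative ℤ)) < 1 := by
    rw [← WithZero.exp_zero, WithZero.exp_lt_exp]
    norm_num
  have hbQ : Q.1 b = WithZero.exp (-1) := by
    have h1 := hb Q hQmem
    rw [if_pos rfl] at h1
    have h2 : b = s + (b - s) := by ring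
    rw [h2, Valuation.map_add_eq_of_lt_left, hs]
    rw [hs]
    exact lt_of_le_of_lt h1 hexp2
  have hball : ∀ Q' ∈ hfin.toFinset, Q'.1 b ≤ WithZero.exp (-1) := by
    intro Q' hQ'
    by_cases hQQ : Q' = Q
    · rw [hQQ, hbQ]
    · have h1 := hb Q' hQ'
      rw [if_neg hQQ, sub_zero] at h1
      exact h1.trans hexp2.le
  obtain ⟨x, hx⟩ := M.mem_range hK b
    (fun Q' hQ' => (hball Q' (hfin.mem_toFinset.2 hQ')).trans hexp1.le)
  obtain ⟨r, hr⟩ := exists_bound hfin.toFinset (fun Q' => (Q'.1 (algebraMap K K' (M.T : K)))⁻¹)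
  have hbr : ∀ Q' : Place k K', IsOver Q' P →
      Q'.1 (b ^ r / algebraMap K K' (M.T : K)) ≤ 1 := by
    intro Q' hQ'
    have h1 := hr Q' (hfin.mem_toFinset.2 hQ')
    have h2 := hball Q' (hfin.mem_toFinset.2 hQ')
    have hpos : 0 < Q'.1 (algebraMap K K' (M.T : K)) :=
      zero_lt_iff.2 ((Valuation.ne_zero_iff _).2 ht'0)
    rw [map_div₀, map_pow]
    apply div_le_one_of_le₀ _ zero_le'
    have h3 : WithZero.exp (-(r : ℤ)) ≤ Q'.1 (algebraMap K K' (M.T : K)) := by
      have h4 : (Q'.1 (algebraMap K K' (M.T : K)))⁻¹ ≤ WithZero.exp (r : ℤ) := h1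
      rw [inv_le_comm₀ hpos WithZero.exp_pos] at h4
      rwa [← WithZero.exp_neg] at h4
    refine le_trans ?_ h3
    calc Q'.1 b ^ r ≤ WithZero.exp (-1) ^ r := pow_le_pow_left₀ zero_le' h2 r
      _ = WithZero.exp (-(r : ℤ)) := by
        rw [← WithZero.exp_nsmul]
        congr 1
        simp
  obtain ⟨x₂, hx₂⟩ := M.mem_range hK _ hbr
  have h5 : x ^ r = M.ι M.T * x₂ := by
    apply M.Φ_inj
    rw [map_pow, map_mul, hx, M.Φ_ι, hx₂]
    field_simp
  have hΨT : M.Ψ (M.ι M.T) = 0 := by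
    apply M.Ψ_ι
    rw [M.hT]
    exact hexp1
  have h6 : (M.Ψ x) ^ r = 0 := by
    rw [← map_pow, h5, map_mul, hΨT, zero_mul]
  have h7 : M.Ψ x = 0 := IsReduced.eq_zero _ ⟨_, h6⟩
  obtain ⟨x₃, hx₃⟩ := M.ker x h7
  have h8 : b = algebraMap K K' (M.T : K) * M.Φ x₃ := by
    rw [← hx, hx₃, map_mul, M.Φ_ι]
  have h9 : Q.1 (M.Φ x₃) ≤ 1 := M.int x₃ Q ⟨e, he⟩
  have h10 : Q.1 b ≤ WithZero.exp (-1) ^ e := by
    rw [h8, map_mul, he (M.T : K), M.hT]
    calc WithZero.exp (-1) ^ e * Q.1 (M.Φ x₃) ≤ WithZero.exp (-1) ^ e * 1 :=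
          mul_le_mul' le_rfl h9
      _ = _ := mul_one _
  rw [hbQ, ← WithZero.exp_nsmul, WithZero.exp_le_exp] at h10
  simp at h10
  omega

end Groth.Agent.Lib.lead.Abs
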