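import Mathlib
import Groth.Prelude.Def_W4bk4goldsch45
import Groth.Agent.Lib.lead.Pl2

/-! The affine coordinate ring `k[x, y]` as an intersection of the rings `O_P[y]`. -/

namespace Groth.Agent.Lib.lead.AdjP
open FunFld Groth.Agent.Lib.lead.FF Groth.Agent.Lib.lead.FF2 Groth.Agent.Lib.lead.FF3
  Groth.Agent.Lib.lead.FF4
  Groth.Agent.Lib.lead.FF5 Groth.Agent.Lib.lead.FF6 Groth.Agent.Lib.lead.FF7
  Groth.Agent.Lib.lead.FF8 Groth.Agent.Lib.lead.Pl2

variable {k K : Type*} [Field k] [Field K] [Algebra k K]

lemma coe_aeval {x : K} (x₀ : IntermediateField.adjoin k ({x} : Set K)) (hx₀ : (x₀ : K) = x)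
    (p : Polynomial k) :
    ((Polynomial.aeval x₀ p : IntermediateField.adjoin k ({x} : Set K)) : K) =
      Polynomial.aeval x p := by
  have h := Polynomial.aeval_algebraMap_apply (A := IntermediateField.adjoin k ({x} : Set K)) K x₀ p
  exact h.symm.trans (congrArg (fun t : K => Polynomial.aeval t p) hx₀)

/-- `k(x)` is a function field over `k` -/
lemma isFunctionField_adjoin (hK : IsFunctionField k K) {x : K} (hx : Transcendental k x)
    (x₀ : IntermediateField.adjoin k ({x} : Set K)) (hx₀ : (x₀ : K) = x) :
    Transcendental k x₀ ∧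
      IntermediateField.adjoin k ({x₀} : Set (IntermediateField.adjoin k ({x} : Set K))) = ⊤ ∧
      IsFunctionField k (IntermediateField.adjoin k ({x} : Set K)) := by
  have hx₀t : Transcendental k x₀ := by
    intro halg
    apply hx
    have h := halg.algebraMap (A := K)
    rw [← hx₀]
    exact h
  have htop : IntermediateField.adjoin k
      ({x₀} : Set (IntermediateField.adjoin k ({x} : Set K))) = ⊤ := by
    rw [eq_top_iff]
    intro z _
    obtain ⟨r, s, hrs⟩ := (IntermediateField.mem_adjoin_simple_iff k (z : K)).1 z.2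
    rw [IntermediateField.mem_adjoin_simple_iff]
    refine ⟨r, s, ?_⟩
    apply Subtype.ext
    rw [IntermediateField.coe_div, coe_aeval x₀ hx₀, coe_aeval x₀ hx₀]
    exact hrs
  refine ⟨hx₀t, htop, ⟨x₀, hx₀t, ?_⟩, ?_⟩
  · rw [htop]
    exact Module.finite_of_finrank_pos (by rw [IntermediateField.finrank_top]; exact one_pos)
  · intro y hy
    have h1 : IsAlgebraic k (y : K) := hy.algebraMap (A := K)
    obtain ⟨c, hc⟩ := hK.2 _ h1
    exact ⟨c, Subtype.ext hc⟩

/-- an element of a rational function field regular at all finite places is a polynomial -/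
lemma mem_adjoin_of_regular {E : Type*} [Field E] [Algebra k E] (hE : IsFunctionField k E)
    {x₀ : E} (hx₀ : Transcendental k x₀)
    (htop : IntermediateField.adjoin k ({x₀} : Set E) = ⊤) (c : E)
    (h : ∀ P : Place k E, P.1 x₀ ≤ 1 → P.1 c ≤ 1) : ∃ p : Polynomial k, c = Polynomial.aeval x₀ p := by
  have hint := integral_of_places hE x₀ c h
  obtain ⟨p, hp⟩ := gauss x₀ c hx₀ hint 0
  have hc : c ∈ IntermediateField.adjoin k ({x₀} : Set E) := by
    rw [htop]
    exact IntermediateField.mem_top
  have hmp : minpoly (IntermediateField.adjoin k ({x₀} : Set E)) c =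
      Polynomial.X - Polynomial.C (⟨c, hc⟩ : IntermediateField.adjoin k ({x₀} : Set E)) :=
    minpoly.eq_X_sub_C E (⟨c, hc⟩ : IntermediateField.adjoin k ({x₀} : Set E))
  rw [hmp, Polynomial.coeff_sub, Polynomial.coeff_X_zero, Polynomial.coeff_C_zero, zero_sub] at hp
  refine ⟨-p, ?_⟩
  rw [map_neg, ← hp]
  simp

set_option maxHeartbeats 400000 in
theorem s11067 [IsAlgClosed k]
    (hK : FunFld.IsFunctionField k K) (x y : K) (hx : Transcendental k x)
    (hxy : IntermediateField.adjoin k ({x, y} : Set K) = ⊤)
    (hy : IsIntegral (Algebra.adjoin k ({x} : Set K)) y) :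
    (Algebra.adjoin k ({x, y} : Set K) : Set K) =
      ⋂ (P : FunFld.Place k (IntermediateField.adjoin k ({x} : Set K)))
        (_ : P.1 ⟨x, IntermediateField.mem_adjoin_simple_self k x⟩ ≤ 1),
        (Subring.closure
          ((algebraMap (IntermediateField.adjoin k ({x} : Set K)) K '' (P.O : Set _)) ∪ {y}) :
          Set K) := by
  classical
  obtain ⟨x₀, hx₀def⟩ : ∃ x₀ : IntermediateField.adjoin k ({x} : Set K),
      x₀ = ⟨x, IntermediateField.mem_adjoin_simple_self k x⟩ := ⟨_, rfl⟩
  rw [← hx₀def]
  have hx₀ : (x₀ : K) = x := by rw [hx₀def]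
  obtain ⟨hx₀t, htopE, hE⟩ := isFunctionField_adjoin hK hx x₀ hx₀
  haveI hfd := finite_of_transcendental hK hx
  have hyE : IsIntegral (IntermediateField.adjoin k ({x} : Set K)) y :=
    Algebra.IsIntegral.isIntegral y
  have hmonic := minpoly.monic hyE
  have hroot := minpoly.aeval (IntermediateField.adjoin k ({x} : Set K)) y
  -- coefficients of the minimal polynomial are polynomials in `x₀`
  have hcoef : ∀ i, ∃ p : Polynomial k,
      (minpoly (IntermediateField.adjoin k ({x} : Set K)) y).coeff i = Polynomial.aeval x₀ p := by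
    intro i
    obtain ⟨p, hp⟩ := gauss x y hx hy i
    refine ⟨p, Subtype.ext ?_⟩
    rw [hp, coe_aeval x₀ hx₀]
  -- K = E(y)
  have htopy : IntermediateField.adjoin (IntermediateField.adjoin k ({x} : Set K))
      ({y} : Set K) = ⊤ := by
    have h1 : (IntermediateField.adjoin (IntermediateField.adjoin k ({x} : Set K))
        ({y} : Set K)).restrictScalars k = ⊤ := by
      rw [IntermediateField.adjoin_adjoin_left, Set.singleton_union]
      exact hxy
    exact IntermediateField.restrictScalars_eq_top_iff.1 h1
  have hrep : ∀ w : K, ∃ q : Polynomial (IntermediateField.adjoin k ({x} : Set K)),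
      Polynomial.aeval y q = w := by
    intro w
    have h1 : w ∈ (IntermediateField.adjoin (IntermediateField.adjoin k ({x} : Set K))
        ({y} : Set K)).toSubalgebra := by
      rw [htopy]
      exact Algebra.mem_top
    rw [IntermediateField.adjoin_simple_toSubalgebra_of_isAlgebraic hyE.isAlgebraic,
      Algebra.adjoin_singleton_eq_range_aeval] at h1
    obtain ⟨q, hq⟩ := h1
    exact ⟨q, hq⟩
  have huniq : ∀ q₁ q₂ : Polynomial (IntermediateField.adjoin k ({x} : Set K)),
      q₁.degree < (minpoly (IntermediateField.adjoin k ({x} : Set K)) y).degree →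
      q₂.degree < (minpoly (IntermediateField.adjoin k ({x} : Set K)) y).degree →
      Polynomial.aeval y q₁ = Polynomial.aeval y q₂ → q₁ = q₂ := by
    intro q₁ q₂ h1 h2 h
    by_contra hne
    have hne' : q₁ - q₂ ≠ 0 := sub_ne_zero.2 hne
    have h3 : Polynomial.aeval y (q₁ - q₂) = 0 := by rw [map_sub, h, sub_self]
    have h4 := minpoly.degree_le_of_ne_zero _ y hne' h3
    have h5 : (q₁ - q₂).degree < (minpoly (IntermediateField.adjoin k ({x} : Set K)) y).degree :=
      lt_of_le_of_lt (Polynomial.degree_sub_le _ _) (max_lt h1 h2)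
    exact absurd h4 (not_le.2 h5)
  ext w
  rw [Set.mem_iInter₂]
  constructor
  · intro hw P hP
    have hw' : w ∈ Algebra.adjoin k ({x, y} : Set K) := hw
    clear hw
    rw [SetLike.mem_coe]
    induction hw' using Algebra.adjoin_induction with
    | mem v hv =>
      rw [Set.mem_insert_iff, Set.mem_singleton_iff] at hv
      rcases hv with hv | hv
      · apply Subring.subset_closure
        left
        refine ⟨x₀, (Valuation.mem_valuationSubring_iff _ _).2 hP, ?_⟩
        rw [hv]
        exact hx₀
      · apply Subring.subset_closure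
        right
        rw [hv]
        exact Set.mem_singleton _
    | algebraMap c =>
      apply Subring.subset_closure
      left
      exact ⟨algebraMap k _ c, (Valuation.mem_valuationSubring_iff _ _).2 (P.2.1 c), rfl⟩
    | add a b _ _ ha hb => exact Subring.add_mem _ ha hb
    | mul a b _ _ ha hb => exact Subring.mul_mem _ ha hb
  · intro hw
    obtain ⟨q, hq⟩ := hrep w
    obtain ⟨qw, hqw⟩ : ∃ qw : Polynomial (IntermediateField.adjoin k ({x} : Set K)),
        qw = q %ₘ minpoly (IntermediateField.adjoin k ({x} : Set K)) y := ⟨_, rfl⟩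
    have hqw1 : Polynomial.aeval y qw = w := by
      rw [hqw, Polynomial.aeval_modByMonic_eq_self_of_root hroot, hq]
    have hqw2 : qw.degree < (minpoly (IntermediateField.adjoin k ({x} : Set K)) y).degree := by
      rw [hqw]
      exact Polynomial.degree_modByMonic_lt q hmonic
    -- the coefficients are regular at all finite places
    have hreg : ∀ i, ∀ P : Place k (IntermediateField.adjoin k ({x} : Set K)), P.1 x₀ ≤ 1 →
        P.1 (qw.coeff i) ≤ 1 := by
      intro i P hP
      obtain ⟨T, hT⟩ : ∃ T : Subring (IntermediateField.adjoin k ({x} : Set K)),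
          T = P.O.toSubring := ⟨_, rfl⟩
      have hTmem : ∀ a, a ∈ T ↔ P.1 a ≤ 1 := fun a => by
        rw [hT]
        exact Valuation.mem_valuationSubring_iff _ _
      have hcoeffs : (↑(minpoly (IntermediateField.adjoin k ({x} : Set K)) y).coeffs :
          Set (IntermediateField.adjoin k ({x} : Set K))) ⊆ T := by
        intro a ha
        rw [Finset.mem_coe, Polynomial.mem_coeffs_iff] at ha
        obtain ⟨n, -, rfl⟩ := ha
        obtain ⟨p, hp⟩ := hcoef n
        rw [SetLike.mem_coe, hTmem, hp]
        exact val_aeval_le P hP p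
      obtain ⟨m₀, hm₀⟩ : ∃ m₀ : Polynomial T, m₀ =
          (minpoly (IntermediateField.adjoin k ({x} : Set K)) y).toSubring T hcoeffs := ⟨_, rfl⟩
      have hm₀map : m₀.map T.subtype = minpoly (IntermediateField.adjoin k ({x} : Set K)) y := by
        rw [hm₀]
        exact Polynomial.map_toSubring _ T hcoeffs
      have hm₀monic : m₀.Monic := by
        rw [hm₀, Polynomial.monic_toSubring]
        exact hmonic
      -- the ring homomorphism `T[X] → K`
      obtain ⟨Φ, hΦ⟩ : ∃ Φ : Polynomial T →+* K, ∀ q₀ : Polynomial T,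
          Φ q₀ = Polynomial.aeval y (q₀.map T.subtype) :=
        ⟨((Polynomial.aeval y : Polynomial (IntermediateField.adjoin k ({x} : Set K)) →ₐ[_] K) :
          Polynomial (IntermediateField.adjoin k ({x} : Set K)) →+* K).comp
            (Polynomial.mapRingHom T.subtype), fun q₀ => rfl⟩
      have hle : Subring.closure ((algebraMap (IntermediateField.adjoin k ({x} : Set K)) K ''
          (P.O : Set _)) ∪ {y}) ≤ Φ.range := by
        rw [Subring.closure_le]
        rintro v (⟨a, ha, rfl⟩ | hv)
        · have haT : a ∈ T := (hTmem a).2 ((Valuation.mem_valuationSubring_iff _ _).1 ha)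
          refine ⟨Polynomial.C ⟨a, haT⟩, ?_⟩
          rw [hΦ, Polynomial.map_C, Polynomial.aeval_C]
          rfl
        · refine ⟨Polynomial.X, ?_⟩
          rw [hΦ, Polynomial.map_X, Polynomial.aeval_X]
          exact hv.symm
      obtain ⟨q₀, hq₀⟩ := hle (hw P hP)
      rw [hΦ] at hq₀
      have hred : (q₀ %ₘ m₀).map T.subtype = qw := by
        apply huniq _ _ _ hqw2
        · rw [Polynomial.map_modByMonic _ hm₀monic, hm₀map,
            Polynomial.aeval_modByMonic_eq_self_of_root hroot, hq₀, hqw1]
        · rw [Polynomial.map_modByMonic _ hm₀monic, hm₀map]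
          exact Polynomial.degree_modByMonic_lt _ hmonic
      rw [← hred, Polynomial.coeff_map, ← hTmem]
      exact ((q₀ %ₘ m₀).coeff i).2
    -- conclude
    have hpoly : ∀ i, ∃ p : Polynomial k, qw.coeff i = Polynomial.aeval x₀ p := fun i =>
      mem_adjoin_of_regular hE hx₀t htopE _ (hreg i)
    choose p hp using hpoly
    rw [SetLike.mem_coe, ← hqw1, Polynomial.aeval_eq_sum_range]
    apply Subalgebra.sum_mem
    intro i _
    have e : qw.coeff i • y ^ i = Polynomial.aeval x (p i) * y ^ i := by
      have e1 : qw.coeff i • y ^ i = ((qw.coeff i : IntermediateField.adjoin k ({x} : Set K)) : K)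
          * y ^ i := rfl
      rw [e1, hp i, coe_aeval x₀ hx₀]
    rw [e]
    apply Subalgebra.mul_mem
    · have h1 : Polynomial.aeval x (p i) ∈ Algebra.adjoin k ({x} : Set K) :=
        Polynomial.aeval_mem_adjoin_singleton k x
      exact Algebra.adjoin_mono (Set.singleton_subset_iff.2 (Set.mem_insert _ _)) h1
    · have hy' : y ∈ Algebra.adjoin k ({x, y} : Set K) :=
        Algebra.subset_adjoin (Set.mem_insert_of_mem _ (Set.mem_singleton y))
      exact pow_mem hy' i

end Groth.Agent.Lib.lead.AdjP
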