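import Mathlib
import Groth.Prelude.Def_W4bk4goldsch23FF
import Groth.Agent.Lib.lead.FF

/-! Constant field extensions of geometric function fields. -/

namespace Groth.Agent.Lib.lead.CExt
open FunFld
open scoped TensorProduct IntermediateField

universe u v

section
variable (k k' : Type u) (K K' : Type v) [Field k] [Field k'] [Field K] [Field K']
    [Algebra k k'] [FiniteDimensional k k'] [Algebra k K] [Algebra K K'] [Algebra k' K'] [Algebra k K']
    [IsScalarTower k k' K'] [IsScalarTower k K K']

theorem geo_ext
    (h : Function.Bijective (Algebra.TensorProduct.productMap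
      (IsScalarTower.toAlgHom k k' K') (IsScalarTower.toAlgHom k K K')))
    (hg : IsGeometric k K) : IsGeometric k' K' := by
  intro k'' _ _ hfin
  haveI := hfin
  letI : Algebra k k'' := ((algebraMap k' k'').comp (algebraMap k k')).toAlgebra
  haveI : IsScalarTower k k' k'' := IsScalarTower.of_algebraMap_eq (fun _ => rfl)
  haveI : FiniteDimensional k k'' := Module.Finite.trans k' k''
  have hf := hg k'' inferInstance
  have hfun : ∀ z, Algebra.TensorProduct.productLeftAlgHom (Algebra.ofId k' K')
      (IsScalarTower.toAlgHom k K K') z =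
      Algebra.TensorProduct.productMap (IsScalarTower.toAlgHom k k' K')
        (IsScalarTower.toAlgHom k K K') z := by
    intro z
    induction z using TensorProduct.induction_on with
    | zero => rw [map_zero, map_zero]
    | tmul a b =>
      rw [Algebra.TensorProduct.lift_tmul, Algebra.TensorProduct.productMap_apply_tmul]
      rfl
    | add x y hx hy => rw [map_add, map_add, hx, hy]
  have hpm : Function.Bijective (Algebra.TensorProduct.productLeftAlgHom (Algebra.ofId k' K')
      (IsScalarTower.toAlgHom k K K')) := by
    have e0 : (Algebra.TensorProduct.productLeftAlgHom (Algebra.ofId k' K')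
      (IsScalarTower.toAlgHom k K K') : k' ⊗[k] K → K') =
      Algebra.TensorProduct.productMap (IsScalarTower.toAlgHom k k' K')
        (IsScalarTower.toAlgHom k K K') := funext hfun
    rw [e0]; exact h
  let e : k' ⊗[k] K ≃ₐ[k'] K' := AlgEquiv.ofBijective _ hpm
  let e2 : k'' ⊗[k'] K' ≃ₐ[k'] k'' ⊗[k'] (k' ⊗[k] K) :=
    Algebra.TensorProduct.congr AlgEquiv.refl e.symm
  let e3 : k'' ⊗[k'] (k' ⊗[k] K) ≃ₐ[k''] k'' ⊗[k] K :=
    Algebra.TensorProduct.cancelBaseChange k k' k'' k'' K
  exact MulEquiv.isField hf (e2.toRingEquiv.trans e3.toRingEquiv).toMulEquiv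

theorem fin_ext
    (h : Function.Bijective (Algebra.TensorProduct.productMap
      (IsScalarTower.toAlgHom k k' K') (IsScalarTower.toAlgHom k K K')))
    (hK : IsFunctionField k K) :
    ∃ x' : K', Transcendental k' x' ∧
      FiniteDimensional (IntermediateField.adjoin k' ({x'} : Set K')) K' := by
  obtain ⟨⟨x, hx, hfin⟩, -⟩ := hK
  haveI := hfin
  refine ⟨algebraMap K K' x, ?_, ?_⟩
  · intro halg
    haveI : Algebra.IsAlgebraic k k' := Algebra.IsAlgebraic.of_finite k k'
    have h1 : IsAlgebraic k (algebraMap K K' x) := halg.restrictScalars k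
    exact hx ((isAlgebraic_algebraMap_iff (algebraMap K K').injective).1 h1)
  · have hE : ∀ r ∈ IntermediateField.adjoin k ({x} : Set K),
        algebraMap K K' r ∈ IntermediateField.adjoin k' ({algebraMap K K' x} : Set K') := by
      have hle : IntermediateField.adjoin k ({x} : Set K) ≤
          ((IntermediateField.adjoin k' ({algebraMap K K' x} : Set K')).restrictScalars k).comap
            (IsScalarTower.toAlgHom k K K') := by
        rw [IntermediateField.adjoin_le_iff]
        intro z hz
        rw [Set.mem_singleton_iff] at hz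
        rw [hz]
        show algebraMap K K' x ∈ IntermediateField.adjoin k' ({algebraMap K K' x} : Set K')
        exact IntermediateField.mem_adjoin_simple_self k' _
      intro r hr
      exact hle hr
    have hspan : (⊤ : Submodule (IntermediateField.adjoin k' ({algebraMap K K' x} : Set K')) K') ≤
        Submodule.span (IntermediateField.adjoin k' ({algebraMap K K' x} : Set K'))
          (Set.range fun i => algebraMap K K'
            (Module.finBasis (IntermediateField.adjoin k ({x} : Set K)) K i)) := by
      intro y hy
      clear hy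
      obtain ⟨t, rfl⟩ := h.2 y
      induction t using TensorProduct.induction_on with
      | zero => rw [map_zero]; exact zero_mem _
      | tmul a z =>
        rw [Algebra.TensorProduct.productMap_apply_tmul]
        have hz : z = ∑ i, (((Module.finBasis (IntermediateField.adjoin k ({x} : Set K)) K).repr z i :
            IntermediateField.adjoin k ({x} : Set K)) : K) *
            Module.finBasis (IntermediateField.adjoin k ({x} : Set K)) K i := by
          conv_lhs => rw [← (Module.finBasis (IntermediateField.adjoin k ({x} : Set K)) K).sum_repr z]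
          exact Finset.sum_congr rfl (fun i _ => Algebra.smul_def _ _)
        show algebraMap k' K' a * algebraMap K K' z ∈ _
        rw [hz, map_sum, Finset.mul_sum]
        refine Submodule.sum_mem _ (fun i _ => ?_)
        rw [map_mul, ← mul_assoc]
        have hmem : algebraMap k' K' a * algebraMap K K'
            (((Module.finBasis (IntermediateField.adjoin k ({x} : Set K)) K).repr z i :
              IntermediateField.adjoin k ({x} : Set K)) : K) ∈
            IntermediateField.adjoin k' ({algebraMap K K' x} : Set K') :=
          (IntermediateField.adjoin k' ({algebraMap K K' x} : Set K')).mul_mem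
            ((IntermediateField.adjoin k' ({algebraMap K K' x} : Set K')).algebraMap_mem a)
            (hE _ (SetLike.coe_mem _))
        exact Submodule.smul_mem _
          (⟨_, hmem⟩ : IntermediateField.adjoin k' ({algebraMap K K' x} : Set K'))
          (Submodule.subset_span ⟨i, rfl⟩)
      | add t₁ t₂ h₁ h₂ => rw [map_add]; exact add_mem h₁ h₂
    have e := top_le_iff.1 hspan
    exact Module.finite_def.2 (e ▸ Submodule.fg_span (Set.finite_range _))

theorem closed_ext (hg' : IsGeometric k' K') (y : K') (hy : IsAlgebraic k' y) :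
    y ∈ Set.range (algebraMap k' K') := by
  have hint : IsIntegral k' y := hy.isIntegral
  have hirr := minpoly.irreducible hint
  haveI : Fact (Irreducible (minpoly k' y)) := ⟨hirr⟩
  have hm0 : minpoly k' y ≠ 0 := minpoly.ne_zero hint
  haveI : FiniteDimensional k' (AdjoinRoot (minpoly k' y)) :=
    (AdjoinRoot.powerBasis hm0).finite
  have hT := hg' (AdjoinRoot (minpoly k' y)) inferInstance
  have hroot : Polynomial.eval₂ (Algebra.ofId k' K' : k' →+* K') y (minpoly k' y) = 0 := by
    show Polynomial.eval₂ (algebraMap k' K') y (minpoly k' y) = 0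
    rw [← Polynomial.aeval_def]
    exact minpoly.aeval k' y
  let μ : AdjoinRoot (minpoly k' y) ⊗[k'] K' →ₐ[k'] K' :=
    Algebra.TensorProduct.productMap
      (AdjoinRoot.liftAlgHom (minpoly k' y) (Algebra.ofId k' K') y hroot) (AlgHom.id k' K')
  have hinj : ∀ a : AdjoinRoot (minpoly k' y) ⊗[k'] K', μ a = 0 → a = 0 := by
    intro a ha
    by_contra hne
    obtain ⟨u, hu⟩ := hT.mul_inv_cancel hne
    have h1 := congrArg μ hu
    rw [map_mul, ha, zero_mul, map_one] at h1
    exact zero_ne_one h1
  have hEq : (AdjoinRoot.root (minpoly k' y)) ⊗ₜ[k'] (1 : K') =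
      (1 : AdjoinRoot (minpoly k' y)) ⊗ₜ[k'] y := by
    rw [← sub_eq_zero]
    apply hinj
    rw [map_sub, Algebra.TensorProduct.productMap_apply_tmul,
      Algebra.TensorProduct.productMap_apply_tmul, AdjoinRoot.liftAlgHom_root, map_one, map_one]
    simp
  have hdeg : (minpoly k' y).natDegree = 1 := by
    by_contra hne
    have hpos := minpoly.natDegree_pos hint
    have h2 : 1 < (AdjoinRoot.powerBasis hm0).dim := by
      show 1 < (minpoly k' y).natDegree
      omega
    have h0 : 0 < (AdjoinRoot.powerBasis hm0).dim := by omega
    let f : AdjoinRoot (minpoly k' y) →ₗ[k'] k' :=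
      (AdjoinRoot.powerBasis hm0).basis.coord ⟨1, h2⟩
    have hf1 : f (AdjoinRoot.root (minpoly k' y)) = 1 := by
      have : AdjoinRoot.root (minpoly k' y) = (AdjoinRoot.powerBasis hm0).basis ⟨1, h2⟩ := by
        rw [PowerBasis.basis_eq_pow]
        show _ = (AdjoinRoot.root (minpoly k' y)) ^ 1
        rw [pow_one]
      rw [this]
      show ((AdjoinRoot.powerBasis hm0).basis.repr ((AdjoinRoot.powerBasis hm0).basis ⟨1, h2⟩))
        ⟨1, h2⟩ = 1
      rw [Module.Basis.repr_self, Finsupp.single_eq_same]
    have hf0 : f 1 = 0 := by
      have : (1 : AdjoinRoot (minpoly k' y)) = (AdjoinRoot.powerBasis hm0).basis ⟨0, h0⟩ := by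
        rw [PowerBasis.basis_eq_pow]
        show _ = (AdjoinRoot.root (minpoly k' y)) ^ 0
        rw [pow_zero]
      rw [this]
      have hne' : (⟨0, h0⟩ : Fin (AdjoinRoot.powerBasis hm0).dim) ≠ ⟨1, h2⟩ := by
        intro hh
        exact absurd (congrArg Fin.val hh) (by norm_num)
      show ((AdjoinRoot.powerBasis hm0).basis.repr ((AdjoinRoot.powerBasis hm0).basis ⟨0, h0⟩))
        ⟨1, h2⟩ = 0
      rw [Module.Basis.repr_self, Finsupp.single_apply, if_neg hne']
    have h3 := congrArg (fun t => TensorProduct.lid k' K' (LinearMap.rTensor K' f t)) hEq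
    simp only [LinearMap.rTensor_tmul, TensorProduct.lid_tmul, hf1, hf0, one_smul, zero_smul] at h3
    exact one_ne_zero h3
  rw [minpoly.natDegree_eq_one_iff] at hdeg
  exact hdeg

theorem s11006
    (h : Function.Bijective (Algebra.TensorProduct.productMap
      (IsScalarTower.toAlgHom k k' K') (IsScalarTower.toAlgHom k K K')))
    (hK : FunFld.IsFunctionField k K) (hg : FunFld.IsGeometric k K) :
    FunFld.IsFunctionField k' K' ∧ FunFld.IsGeometric k' K' := by
  have hg' := geo_ext k k' K K' h hg
  exact ⟨⟨fin_ext k k' K K' h hK, closed_ext k' K' hg'⟩, hg'⟩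

end

end Groth.Agent.Lib.lead.CExt
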