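import Mathlib
import Groth.Agent.Lib.lead.ADg
import Groth.Agent.Lib.lead.NSing

/-! Finiteness of the integral closure of `O_P` in a finite extension. -/

namespace Groth.Agent.Lib.lead.Fin1
open FunFld Module Groth.Agent.Lib.lead.FF Groth.Agent.Lib.lead.FF2 Groth.Agent.Lib.lead.FF3
  Groth.Agent.Lib.lead.FF4
  Groth.Agent.Lib.lead.FF5 Groth.Agent.Lib.lead.FF6 Groth.Agent.Lib.lead.FF7
  Groth.Agent.Lib.lead.FF8 Groth.Agent.Lib.lead.Ext Groth.Agent.Lib.lead.Ext3
  Groth.Agent.Lib.lead.IntCl Groth.Agent.Lib.lead.NSing Groth.Agent.Lib.lead.ADg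

section Lin
variable {k : Type*} [Field k] {V : Type*} [AddCommGroup V] [Module k V]

lemma finrank_relQ_le {A B : Submodule k V} (F : Finset V)
    (h : B ≤ Submodule.span k (F : Set V) ⊔ A) : Module.finrank k (RelQ A B) ≤ F.card := by
  classical
  let f : ↥B →ₗ[k] V ⧸ A := A.mkQ ∘ₗ B.subtype
  have hker : LinearMap.ker f = Submodule.comap B.subtype A := by
    ext b
    rw [LinearMap.mem_ker, Submodule.mem_comap]
    show A.mkQ (b : V) = 0 ↔ _
    rw [Submodule.mkQ_apply, Submodule.Quotient.mk_eq_zero]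
    rfl
  have e : RelQ A B ≃ₗ[k] LinearMap.range f :=
    (Submodule.quotEquivOfEq _ _ hker.symm).trans f.quotKerEquivRange
  rw [e.finrank_eq]
  have hle : LinearMap.range f ≤ (Submodule.span k (F : Set V)).map A.mkQ := by
    rintro _ ⟨b, rfl⟩
    obtain ⟨s, hs, a, ha, hsa⟩ := Submodule.mem_sup.1 (h b.2)
    refine ⟨s, hs, ?_⟩
    show A.mkQ s = A.mkQ (b : V)
    rw [← hsa, map_add, Submodule.mkQ_apply, Submodule.mkQ_apply,
      (Submodule.Quotient.mk_eq_zero A).2 ha, add_zero]
  haveI : Module.Finite k ((Submodule.span k (F : Set V)).map A.mkQ) :=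
    Module.Finite.iff_fg.2 ((Submodule.fg_span F.finite_toSet).map _)
  calc Module.finrank k (LinearMap.range f)
      ≤ Module.finrank k ((Submodule.span k (F : Set V)).map A.mkQ) := Submodule.finrank_mono hle
    _ ≤ Module.finrank k (Submodule.span k (F : Set V)) := Submodule.finrank_map_le _ _
    _ ≤ F.card := finrank_span_finset_le_card F

end Lin

variable {k K K' : Type*} [Field k] [Field K] [Field K'] [Algebra k K] [Algebra K K']
  [Algebra k K'] [IsScalarTower k K K'] [FiniteDimensional K K']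

lemma finrank_const_pos (hK : IsFunctionField k K) :
    0 < Module.finrank k (algebraicClosure k K') := by
  have hK'' := isFunctionField_top (K' := K') hK
  obtain ⟨⟨x, hxtr, hfd⟩, -⟩ := hK
  haveI := hfd
  have hx'tr : Transcendental (algebraicClosure k K') (algebraMap K K' x) := by
    intro halg
    have h1 : IsAlgebraic k (algebraMap K K' x) := halg.restrictScalars k
    exact hxtr ((isAlgebraic_algebraMap_iff (algebraMap K K').injective).1 h1)
  have h1 := finrank_const hK'' hx'tr
  rw [finrank_tower (k := k) x] at h1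
  have hpos : 0 < Module.finrank (IntermediateField.adjoin k ({x} : Set K)) K *
      Module.finrank K K' := Nat.mul_pos Module.finrank_pos Module.finrank_pos
  rw [h1] at hpos
  exact Nat.pos_of_ne_zero (fun h => by rw [h, zero_mul] at hpos; exact lt_irrefl _ hpos)

lemma finite_res (hK : IsFunctionField k K) (Q : Place k K') :
    Module.Finite k (IsLocalRing.ResidueField Q.O) := by
  apply Module.finite_of_finrank_pos
  show 0 < Q.deg
  rw [deg_toTop Q]
  exact Nat.mul_pos (finrank_const_pos hK) (deg_pos (isFunctionField_top (K' := K') hK) (toTop Q))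

theorem dim_quot (hK : IsFunctionField k K) (P : Place k K) (t : K)
    (ht : P.1 t = WithZero.exp (-1)) (S : Finset (Place k K'))
    (hS : ∀ Q, Q ∈ S ↔ IsOver Q P) :
    Module.finrank k (RelQ (XS S (algebraMap K K' t)) (RS S)) =
      Module.finrank K K' * P.deg := by
  classical
  have ht0 : t ≠ 0 := unif_ne_zero P ht
  have ht'0 : algebraMap K K' t ≠ 0 := (_root_.map_ne_zero _).2 ht0
  have hexp1 : (WithZero.exp (-1) : WithZero (Multiplicative ℤ)) < 1 := by
    rw [← WithZero.exp_zero, WithZero.exp_lt_exp]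
    norm_num
  have hlt : ∀ Q ∈ S, Q.1 (algebraMap K K' t) < 1 := by
    intro Q hQ
    obtain ⟨e, he⟩ := (hS Q).1 hQ
    rw [isOverWith_lt_one_iff he, ht]
    exact hexp1
  obtain ⟨e⟩ := relS_equiv S (algebraMap K K' t) ht'0 hlt
  have hnn := BS_nonneg ht'0 S hlt
  obtain ⟨h1, h2⟩ := AD_dim' (fun Q => finite_res (K := K) hK Q)
    (neg_nonpos.2 hnn : -(BS S (algebraMap K K' t)) ≤ 0)
  rw [deg_zero, deg_neg, zero_sub, neg_neg, deg_BS] at h2
  have h3 := (general (K' := K') hK P).2 S hS
  have hordt : P.ord t = 1 := by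
    unfold Place.ord
    rw [ht, WithZero.log_exp]
    norm_num
  have h4 : ∑ Q ∈ S, Q.ord (algebraMap K K' t) * (Q.deg : ℤ) =
      ((∑ Q ∈ S, ramIdx Q P * Q.deg : ℕ) : ℤ) := by
    push_cast
    apply Finset.sum_congr rfl
    intro Q hQ
    obtain ⟨e', he'⟩ := (hS Q).1 hQ
    rw [ord_algebraMap he', ramIdx_eq he', hordt, mul_one]
  rw [h4, h3] at h2
  rw [e.finrank_eq]
  exact_mod_cast h2

/-- lifts of a `k`-basis of the residue field -/
lemma exists_lifts (hK : IsFunctionField k K) (P : Place k K) :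
    ∃ u : Fin P.deg → K, (∀ j, P.1 (u j) ≤ 1) ∧
      ∀ r : K, P.1 r ≤ 1 → ∃ c : Fin P.deg → k,
        P.1 (r - ∑ j, algebraMap k K (c j) * u j) < 1 := by
  classical
  haveI : Module.Finite k (IsLocalRing.ResidueField P.O) :=
    Module.finite_of_finrank_pos (deg_pos hK P)
  let bas : Basis (Fin P.deg) k (IsLocalRing.ResidueField P.O) :=
    Module.finBasis k (IsLocalRing.ResidueField P.O)
  choose u hu using fun j => resMap_surjective P (bas j)
  refine ⟨fun j => (u j : K), fun j => (u j).2, ?_⟩
  intro r hr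
  refine ⟨fun j => bas.repr (resMap P ⟨r, hr⟩) j, ?_⟩
  have h1 : resMap P (⟨r, hr⟩ - ∑ j, bas.repr (resMap P ⟨r, hr⟩) j • u j) = 0 := by
    rw [map_sub, map_sum]
    simp only [map_smul, hu]
    exact sub_eq_zero.2 (bas.sum_repr _).symm
  rw [resMap_eq_zero_iff] at h1
  have h2 : ((⟨r, hr⟩ - ∑ j, bas.repr (resMap P ⟨r, hr⟩) j • u j : ↥(OP P)) : K) =
      r - ∑ j, algebraMap k K (bas.repr (resMap P ⟨r, hr⟩) j) * (u j : K) := by
    rw [Submodule.coe_sub, Submodule.coe_sum]
    congr 1
    apply Finset.sum_congr rfl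
    intro j _
    rw [Submodule.coe_smul, Algebra.smul_def]
  rw [h2] at h1
  exact h1

section Main
variable (P : Place k K) (t : K) (S : Finset (Place k K'))

/-- independence modulo `t` -/
def Good (r : ℕ) (b : Fin r → K') : Prop :=
  (∀ i, b i ∈ RS S) ∧ ∀ c : Fin r → K, (∀ i, P.1 (c i) ≤ 1) →
    (∑ i, algebraMap K K' (c i) * b i) ∈ XS S (algebraMap K K' t) → ∀ i, P.1 (c i) < 1

variable {P t S}

lemma mul_mem_RS (hS : ∀ Q, Q ∈ S ↔ IsOver Q P) {c : K} (hc : P.1 c ≤ 1) {z : K'}
    (hz : z ∈ RS S) : algebraMap K K' c * z ∈ RS S := by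
  intro Q hQ
  obtain ⟨e, he⟩ := (hS Q).1 hQ
  rw [map_mul]
  exact mul_le_one' ((isOverWith_le_one_iff he c).2 hc) (hz Q hQ)

lemma mul_mem_XS (hS : ∀ Q, Q ∈ S ↔ IsOver Q P) (ht : P.1 t = WithZero.exp (-1)) {c : K}
    (hc : P.1 c < 1) {z : K'} (hz : z ∈ RS S) :
    algebraMap K K' c * z ∈ XS S (algebraMap K K' t) := by
  intro Q hQ
  obtain ⟨e, he⟩ := (hS Q).1 hQ
  rw [map_mul, he c, he t, ht]
  rw [lt_one_iff] at hc
  calc P.1 c ^ e * Q.1 z ≤ WithZero.exp (-1) ^ e * 1 :=
        mul_le_mul' (pow_le_pow_left₀ zero_le' hc e) (hz Q hQ)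
    _ = WithZero.exp (-1) ^ e := mul_one _

lemma mul_mem_XS' (hS : ∀ Q, Q ∈ S ↔ IsOver Q P) {c : K}
    (hc : P.1 c ≤ 1) {z : K'} (hz : z ∈ XS S (algebraMap K K' t)) :
    algebraMap K K' c * z ∈ XS S (algebraMap K K' t) := by
  intro Q hQ
  obtain ⟨e, he⟩ := (hS Q).1 hQ
  rw [map_mul]
  calc Q.1 (algebraMap K K' c) * Q.1 z ≤ 1 * Q.1 (algebraMap K K' t) :=
        mul_le_mul' ((isOverWith_le_one_iff he c).2 hc) (hz Q hQ)
    _ = _ := one_mul _

set_option maxHeartbeats 1600000 in
lemma extend (hK : IsFunctionField k K) (hS : ∀ Q, Q ∈ S ↔ IsOver Q P)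
    (ht : P.1 t = WithZero.exp (-1)) {r : ℕ} (hr : r < Module.finrank K K') (b : Fin r → K')
    (hb : Good P t S r b) : ∃ z, Good P t S (r + 1) (Fin.snoc b z) := by
  classical
  obtain ⟨u, hu1, hu2⟩ := exists_lifts hK P
  have hdim := dim_quot hK P t ht S hS
  have hdpos : 0 < P.deg := deg_pos hK P
  -- there is an element outside `M + tB`
  have hex : ∃ z ∈ RS S, ∀ c : Fin r → K, (∀ i, P.1 (c i) ≤ 1) →
      z - ∑ i, algebraMap K K' (c i) * b i ∉ XS S (algebraMap K K' t) := by
    by_contra hcon
    push Not at hcon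
    let F : Finset K' := (Finset.univ : Finset (Fin r × Fin P.deg)).image
      (fun p => algebraMap K K' (u p.2) * b p.1)
    have hle : RS S ≤ Submodule.span k (F : Set K') ⊔ XS S (algebraMap K K' t) := by
      intro z hz
      obtain ⟨c, hc1, hc2⟩ := hcon z hz
      choose κ hκ using fun i => hu2 (c i) (hc1 i)
      have e1 : z = (∑ i, ∑ j, κ i j • (algebraMap K K' (u j) * b i)) +
          ((∑ i, algebraMap K K' (c i - ∑ j, algebraMap k K (κ i j) * u j) * b i) +
            (z - ∑ i, algebraMap K K' (c i) * b i)) := by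
        have e2 : ∀ i, algebraMap K K' (c i) * b i =
            (∑ j, κ i j • (algebraMap K K' (u j) * b i)) +
              algebraMap K K' (c i - ∑ j, algebraMap k K (κ i j) * u j) * b i := by
          intro i
          rw [map_sub, map_sum, sub_mul, Finset.sum_mul]
          have e3 : ∀ j, κ i j • (algebraMap K K' (u j) * b i) =
              algebraMap K K' (algebraMap k K (κ i j) * u j) * b i := by
            intro j
            rw [Algebra.smul_def, map_mul, ← IsScalarTower.algebraMap_apply, mul_assoc]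
          simp only [e3]
          ring
        have e4 : ∑ i, algebraMap K K' (c i) * b i =
            (∑ i, ∑ j, κ i j • (algebraMap K K' (u j) * b i)) +
              ∑ i, algebraMap K K' (c i - ∑ j, algebraMap k K (κ i j) * u j) * b i := by
          rw [← Finset.sum_add_distrib]
          exact Finset.sum_congr rfl (fun i _ => e2 i)
        rw [← add_assoc, ← e4]
        ring
      rw [e1]
      apply Submodule.add_mem_sup
      · apply Submodule.sum_mem
        intro i _
        apply Submodule.sum_mem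
        intro j _
        apply Submodule.smul_mem
        apply Submodule.subset_span
        exact Finset.mem_coe.2 (Finset.mem_image.2 ⟨(i, j), Finset.mem_univ _, rfl⟩)
      · apply Submodule.add_mem _ _ hc2
        apply Submodule.sum_mem
        intro i _
        exact mul_mem_XS hS ht (hκ i) (hb.1 i)
    have h1 := finrank_relQ_le F hle
    have h2 : F.card ≤ r * P.deg := by
      calc F.card ≤ (Finset.univ : Finset (Fin r × Fin P.deg)).card := Finset.card_image_le
        _ = r * P.deg := by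
          rw [Finset.card_univ, Fintype.card_prod, Fintype.card_fin, Fintype.card_fin]
    rw [hdim] at h1
    have h3 : r * P.deg < Module.finrank K K' * P.deg := Nat.mul_lt_mul_of_pos_right hr hdpos
    omega
  obtain ⟨z, hzB, hz⟩ := hex
  refine ⟨z, ?_, ?_⟩
  · intro i
    refine Fin.lastCases ?_ (fun i => ?_) i
    · rw [Fin.snoc_last]
      exact hzB
    · rw [Fin.snoc_castSucc]
      exact hb.1 i
  · intro c hc hsum
    rw [Fin.sum_univ_castSucc] at hsum
    simp only [Fin.snoc_castSucc, Fin.snoc_last] at hsum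
    have hlast : P.1 (c (Fin.last r)) < 1 := by
      by_contra hnot
      have h1 : P.1 (c (Fin.last r)) = 1 := le_antisymm (hc _) (not_lt.1 hnot)
      have hc0 : c (Fin.last r) ≠ 0 := by
        intro h0
        rw [h0, map_zero] at h1
        exact zero_ne_one h1
      have hw : P.1 (c (Fin.last r))⁻¹ ≤ 1 := by rw [map_inv₀, h1, inv_one]
      have h2 := mul_mem_XS' (t := t) hS hw hsum
      apply hz (fun i => -((c (Fin.last r))⁻¹ * c (Fin.castSucc i)))
      · intro i
        rw [Valuation.map_neg, map_mul, map_inv₀, h1, inv_one, one_mul]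
        exact hc _
      · have e1 : z - ∑ i, algebraMap K K' (-((c (Fin.last r))⁻¹ * c (Fin.castSucc i))) * b i =
            algebraMap K K' (c (Fin.last r))⁻¹ *
              (∑ i : Fin r, algebraMap K K' (c (Fin.castSucc i)) * b i +
                algebraMap K K' (c (Fin.last r)) * z) := by
          have hne : algebraMap K K' (c (Fin.last r)) ≠ 0 := (_root_.map_ne_zero _).2 hc0
          rw [mul_add, Finset.mul_sum, ← mul_assoc, map_inv₀, inv_mul_cancel₀ hne, one_mul]
          simp only [map_neg, map_mul, map_inv₀, neg_mul, Finset.sum_neg_distrib, sub_neg_eq_add,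
            mul_assoc]
          ring
        rw [e1]
        exact h2
    have h3 : (∑ i : Fin r, algebraMap K K' (c (Fin.castSucc i)) * b i) ∈
        XS S (algebraMap K K' t) := by
      have h4 := mul_mem_XS hS ht hlast hzB
      have h5 := Submodule.sub_mem _ hsum h4
      rwa [add_sub_cancel_right] at h5
    have h6 := hb.2 (fun i => c (Fin.castSucc i)) (fun i => hc _) h3
    intro i
    refine Fin.lastCases hlast (fun i => h6 i) i

lemma exists_good (hK : IsFunctionField k K) (hS : ∀ Q, Q ∈ S ↔ IsOver Q P)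
    (ht : P.1 t = WithZero.exp (-1)) :
    ∀ r, r ≤ Module.finrank K K' → ∃ b : Fin r → K', Good P t S r b := by
  intro r
  induction r with
  | zero =>
    intro _
    exact ⟨Fin.elim0, fun i => i.elim0, fun c _ _ i => i.elim0⟩
  | succ r ih =>
    intro hr
    obtain ⟨b, hb⟩ := ih (Nat.le_of_succ_le hr)
    obtain ⟨z, hz⟩ := extend hK hS ht (Nat.lt_of_succ_le hr) b hb
    exact ⟨_, hz⟩

lemma coeff_le (hS : ∀ Q, Q ∈ S ↔ IsOver Q P) (ht : P.1 t = WithZero.exp (-1))
    {n : ℕ} {b : Fin n → K'} (hb : Good P t S n b) (c : Fin n → K)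
    (hz : (∑ i, algebraMap K K' (c i) * b i) ∈ RS S) : ∀ i, P.1 (c i) ≤ 1 := by
  classical
  by_contra hcon
  push Not at hcon
  obtain ⟨i₁, hi₁⟩ := hcon
  obtain ⟨i₀, -, hmax⟩ := Finset.exists_max_image Finset.univ (fun i => P.1 (c i))
    ⟨i₁, Finset.mem_univ _⟩
  have hm : 1 < P.1 (c i₀) := lt_of_lt_of_le hi₁ (hmax i₁ (Finset.mem_univ _))
  have hm0 : c i₀ ≠ 0 := by
    intro h0
    rw [h0, map_zero] at hm
    exact not_lt.2 zero_le' hm
  have hpos : 0 < P.1 (c i₀) := lt_trans zero_lt_one hm
  have hinv : P.1 (c i₀)⁻¹ < 1 := by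
    rw [map_inv₀]
    exact inv_lt_one_of_one_lt₀ hm
  have h1 := mul_mem_XS hS ht hinv hz
  rw [Finset.mul_sum] at h1
  have h2 : ∑ i, algebraMap K K' (c i₀)⁻¹ * (algebraMap K K' (c i) * b i) =
      ∑ i, algebraMap K K' ((c i₀)⁻¹ * c i) * b i := by
    apply Finset.sum_congr rfl
    intro i _
    rw [map_mul, mul_assoc]
  rw [h2] at h1
  have h3 := hb.2 (fun i => (c i₀)⁻¹ * c i) (fun i => by
    rw [map_mul, map_inv₀, inv_mul_le_iff₀ hpos, mul_one]
    exact hmax i (Finset.mem_univ _)) h1 i₀
  rw [inv_mul_cancel₀ hm0, map_one] at h3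
  exact lt_irrefl _ h3

set_option maxHeartbeats 800000 in
theorem s10981 (hK : IsFunctionField k K) (P : Place k K)
    [Algebra P.O K'] [IsScalarTower P.O K K'] :
    Module.Finite P.O (integralClosure P.O K') := by
  classical
  have hmap : ∀ r : P.O, algebraMap P.O K' r = algebraMap K K' (r : K) := fun r => by
    rw [IsScalarTower.algebraMap_apply P.O K K']
    rfl
  obtain ⟨hfin, -⟩ := general (K' := K') hK P
  obtain ⟨S, hSdef⟩ : ∃ S : Finset (Place k K'), S = hfin.toFinset := ⟨_, rfl⟩
  have hS : ∀ Q, Q ∈ S ↔ IsOver Q P := fun Q => by rw [hSdef]; exact hfin.mem_toFinset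
  obtain ⟨t, ht⟩ := exists_uniformizer P
  have ht0 : t ≠ 0 := unif_ne_zero P ht
  obtain ⟨b, hb⟩ := exists_good (K' := K') hK hS ht (Module.finrank K K') le_rfl
  -- linear independence
  have hli : LinearIndependent K b := by
    rw [Fintype.linearIndependent_iff]
    intro c hc
    by_contra hcon
    push Not at hcon
    obtain ⟨j, hj⟩ := hcon
    have h0 : (∑ i, algebraMap K K' ((c j)⁻¹ * t⁻¹ * c i) * b i) ∈ RS S := by
      have e1 : ∑ i, algebraMap K K' ((c j)⁻¹ * t⁻¹ * c i) * b i =
          algebraMap K K' ((c j)⁻¹ * t⁻¹) * ∑ i, c i • b i := by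
        rw [Finset.mul_sum]
        apply Finset.sum_congr rfl
        intro i _
        rw [map_mul, Algebra.smul_def, mul_assoc]
      rw [e1, hc, mul_zero]
      exact Submodule.zero_mem _
    have h1 := coeff_le hS ht hb _ h0 j
    rw [mul_assoc, mul_comm t⁻¹, ← mul_assoc, inv_mul_cancel₀ hj, one_mul, map_inv₀, ht,
      ← WithZero.exp_neg, neg_neg, ← WithZero.exp_zero, WithZero.exp_le_exp] at h1
    omega
  haveI : Nonempty (Fin (Module.finrank K K')) := ⟨⟨0, Module.finrank_pos⟩⟩
  let bas : Basis (Fin (Module.finrank K K')) K K' :=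
    basisOfLinearIndependentOfCardEqFinrank hli (Fintype.card_fin _)
  have hbas : ∀ i, bas i = b i := fun i => by
    show basisOfLinearIndependentOfCardEqFinrank hli (Fintype.card_fin _) i = b i
    rw [coe_basisOfLinearIndependentOfCardEqFinrank]
  have hspan : Subalgebra.toSubmodule (integralClosure P.O K') =
      Submodule.span P.O (Set.range b) := by
    apply le_antisymm
    · intro z hz
      have hzint : IsIntegral P.O z := hz
      have hzB : z ∈ RS S := by
        intro Q hQ
        obtain ⟨e, he⟩ := (hS Q).1 hQ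
        apply val_le_one_of_isIntegral (R := P.O) Q.1 _ hzint
        intro a
        rw [hmap, isOverWith_le_one_iff he]
        exact a.2
      have hrepr : z = ∑ i, algebraMap K K' (bas.repr z i) * b i := by
        conv_lhs => rw [← bas.sum_repr z]
        apply Finset.sum_congr rfl
        intro i _
        rw [hbas, Algebra.smul_def]
      have hco := coeff_le hS ht hb (fun i => bas.repr z i) (hrepr ▸ hzB)
      rw [hrepr]
      apply Submodule.sum_mem
      intro i _
      have e1 : algebraMap K K' (bas.repr z i) * b i =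
          (⟨bas.repr z i, hco i⟩ : P.O) • b i := by
        rw [Algebra.smul_def, hmap]
      rw [e1]
      exact Submodule.smul_mem _ _ (Submodule.subset_span ⟨i, rfl⟩)
    · rw [Submodule.span_le]
      rintro _ ⟨i, rfl⟩
      show IsIntegral P.O (b i)
      apply isIntegral_of_forall hK P
      intro Q hQ
      exact hb.1 i Q ((hS Q).2 hQ)
  have hfg : (Subalgebra.toSubmodule (integralClosure P.O K')).FG := by
    rw [hspan]
    exact Submodule.fg_span (Set.finite_range b)
  exact Module.Finite.iff_fg.2 hfg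

end Main

end Groth.Agent.Lib.lead.Fin1
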