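import Mathlib
import Groth.Agent.Lib.lead.Fin1
import Groth.Agent.Lib.lead.NSing2

/-! The conductor of `O_P[k']` in the integral closure. -/

namespace Groth.Agent.Lib.lead.Cond
open FunFld Module Groth.Agent.Lib.lead.FF Groth.Agent.Lib.lead.FF2 Groth.Agent.Lib.lead.FF3
  Groth.Agent.Lib.lead.FF4
  Groth.Agent.Lib.lead.FF5 Groth.Agent.Lib.lead.FF6 Groth.Agent.Lib.lead.FF7
  Groth.Agent.Lib.lead.FF8 Groth.Agent.Lib.lead.Ext Groth.Agent.Lib.lead.Ext3
  Groth.Agent.Lib.lead.IntCl Groth.Agent.Lib.lead.NSing Groth.Agent.Lib.lead.NSing2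
  Groth.Agent.Lib.lead.Fin1
open scoped TensorProduct

section Exp
variable {k K : Type*} [Field k] [Field K] [Algebra k K]

/-- `t`-adic expansion to order `m` -/
lemma expansion (P : Place k K) {d : ℕ} (u : Fin d → K)
    (hu : ∀ r : K, P.1 r ≤ 1 → ∃ c : Fin d → k, P.1 (r - ∑ j, algebraMap k K (c j) * u j) < 1)
    (t : K) (ht : P.1 t = WithZero.exp (-1)) (m : ℕ) (r : K) (hr : P.1 r ≤ 1) :
    ∃ (κ : Fin m → Fin d → k) (r' : K), P.1 r' ≤ 1 ∧
      r = (∑ a : Fin m, ∑ l, algebraMap k K (κ a l) * u l * t ^ (a : ℕ)) + t ^ m * r' := by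
  have ht0 : t ≠ 0 := unif_ne_zero P ht
  induction m with
  | zero =>
    exact ⟨fun a => a.elim0, r, hr, by simp⟩
  | succ m ih =>
    obtain ⟨κ, r', hr', e⟩ := ih
    obtain ⟨c, hc⟩ := hu r' hr'
    have hle : P.1 ((r' - ∑ j, algebraMap k K (c j) * u j) / t) ≤ 1 := by
      rw [map_div₀, ht]
      rw [lt_one_iff] at hc
      exact div_le_one_of_le₀ hc zero_le'
    refine ⟨Fin.snoc κ c, (r' - ∑ j, algebraMap k K (c j) * u j) / t, hle, ?_⟩
    rw [Fin.sum_univ_castSucc]
    simp only [Fin.snoc_castSucc, Fin.snoc_last, Fin.coe_castSucc, Fin.val_last]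
    rw [e, ← Finset.sum_mul]
    field_simp
    ring

end Exp

universe u v
variable (k k' : Type u) (K K' : Type v) [Field k] [Field k'] [Field K] [Field K']
    [Algebra k k'] [FiniteDimensional k k'] [Algebra k K] [Algebra K K'] [Algebra k' K'] [Algebra k K']
    [IsScalarTower k k' K'] [IsScalarTower k K K']

set_option maxHeartbeats 1600000 in
theorem s12526
    (h : Function.Bijective (Algebra.TensorProduct.productMap
      (IsScalarTower.toAlgHom k k' K') (IsScalarTower.toAlgHom k K K')))
    (hK : FunFld.IsFunctionField k K)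
    (P : FunFld.Place k K) [Algebra P.O K'] [IsScalarTower P.O K K'] :
    (∃ V : Submodule k K', FiniteDimensional k V ∧ ∀ r ∈ integralClosure P.O K',
        ∃ s ∈ Algebra.adjoin P.O (Set.range (algebraMap k' K')), r - s ∈ V) ∧
    (∃ c ∈ integralClosure P.O K', c ≠ 0 ∧ ∀ r ∈ integralClosure P.O K',
        c * r ∈ Algebra.adjoin P.O (Set.range (algebraMap k' K'))) := by
  classical
  haveI : FiniteDimensional K K' := finite_of_bijective k k' K K' h
  have hmap : ∀ r : P.O, algebraMap P.O K' r = algebraMap K K' (r : K) := fun r => by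
    rw [IsScalarTower.algebraMap_apply P.O K K']
    rfl
  have hfinR : Module.Finite P.O (integralClosure P.O K') := s10981 hK P
  have hfg : (Subalgebra.toSubmodule (integralClosure P.O K')).FG := Module.Finite.iff_fg.1 hfinR
  obtain ⟨n, b, hb⟩ := Submodule.fg_iff_exists_fin_generating_family.1 hfg
  obtain ⟨t, ht⟩ := exists_uniformizer P
  have ht1 : P.1 t ≤ 1 := by
    rw [ht, ← WithZero.exp_zero, WithZero.exp_le_exp]
    norm_num
  obtain ⟨T, hTdef⟩ : ∃ T : P.O, T = ⟨t, ht1⟩ := ⟨_, rfl⟩
  have hTt : (T : K) = t := by rw [hTdef]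
  have hT : P.1 (T : K) = WithZero.exp (-1) := by rw [hTt, ht]
  have ht0 : t ≠ 0 := unif_ne_zero P ht
  have ht'0 : algebraMap K K' t ≠ 0 := (_root_.map_ne_zero _).2 ht0
  obtain ⟨A, hA⟩ : ∃ A : Subalgebra P.O K', A = Algebra.adjoin P.O (Set.range (algebraMap k' K')) :=
    ⟨_, rfl⟩
  rw [← hA]
  have hAK : ∀ c : K, P.1 c ≤ 1 → algebraMap K K' c ∈ A := by
    intro c hc
    have := A.algebraMap_mem ⟨c, hc⟩
    rwa [hmap] at this
  -- scale the generators
  choose mi xi hxi using fun i => exists_scale (k' := k') (K' := K') h P T hT (b i)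
  obtain ⟨m, hm⟩ : ∃ m, m = ∑ i, mi i := ⟨_, rfl⟩
  have hmi : ∀ i, mi i ≤ m := fun i => by
    rw [hm]
    exact Finset.single_le_sum (f := mi) (fun _ _ => Nat.zero_le _) (Finset.mem_univ i)
  have hgen : ∀ i, algebraMap K K' t ^ m * b i ∈ A := by
    intro i
    obtain ⟨d, hd⟩ := Nat.exists_eq_add_of_le (hmi i)
    have e1 : algebraMap K K' t ^ m * b i =
        algebraMap K K' (t ^ d) * (algebraMap K K' (T : K) ^ mi i * b i) := by
      rw [hd, hTt, map_pow, pow_add]
      ring
    rw [e1, ← hxi i]
    apply A.mul_mem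
    · apply hAK
      rw [map_pow]
      exact pow_le_one₀ zero_le' ht1
    · rw [hA]
      exact Phi_mem_adjoin P (xi i)
  have hcond0 : ∀ r ∈ Submodule.span P.O (Set.range b), algebraMap K K' t ^ m * r ∈ A := by
    intro r hr'
    induction hr' using Submodule.span_induction with
    | mem x hx =>
      obtain ⟨i, rfl⟩ := hx
      exact hgen i
    | zero => rw [mul_zero]; exact A.zero_mem
    | add x y _ _ hx hy => rw [mul_add]; exact A.add_mem hx hy
    | smul a x _ hx =>
      rw [Algebra.smul_def, mul_left_comm]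
      exact A.mul_mem (A.algebraMap_mem a) hx
  have hcond : ∀ r ∈ integralClosure P.O K', algebraMap K K' t ^ m * r ∈ A := by
    intro r hr
    apply hcond0
    rw [hb]
    exact hr
  have hbint : ∀ i, b i ∈ integralClosure P.O K' := by
    intro i
    have : b i ∈ Submodule.span P.O (Set.range b) := Submodule.subset_span ⟨i, rfl⟩
    rw [hb] at this
    exact this
  refine ⟨?_, ?_⟩
  · -- the finite-dimensional complement
    obtain ⟨u, hu1, hu2⟩ := exists_lifts hK P
    let G : Finset K' := (Finset.univ : Finset (Fin n × Fin m × Fin P.deg)).image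
      (fun q => algebraMap K K' (u q.2.2 * t ^ (q.2.1 : ℕ)) * b q.1)
    refine ⟨Submodule.span k (G : Set K'), FiniteDimensional.span_finset k G, ?_⟩
    intro r hr
    have hr' : r ∈ Submodule.span P.O (Set.range b) := by
      rw [hb]
      exact hr
    obtain ⟨a, ha⟩ := (Submodule.mem_span_range_iff_exists_fun P.O).1 hr'
    choose κ r' hr'1 hr'2 using fun i => expansion P u hu2 t ht m ((a i : P.O) : K) (a i).2
    refine ⟨∑ i, algebraMap K K' (r' i) * (algebraMap K K' t ^ m * b i), ?_, ?_⟩
    · apply A.sum_mem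
      intro i _
      exact A.mul_mem (hAK _ (hr'1 i)) (hgen i)
    · have e1 : r - ∑ i, algebraMap K K' (r' i) * (algebraMap K K' t ^ m * b i) =
          ∑ i, ∑ x : Fin m, ∑ l, κ i x l •
            (algebraMap K K' (u l * t ^ (x : ℕ)) * b i) := by
        rw [← ha, ← Finset.sum_sub_distrib]
        apply Finset.sum_congr rfl
        intro i _
        rw [Algebra.smul_def, hmap]
        conv_lhs => rw [hr'2 i]
        rw [map_add, map_sum, add_mul, Finset.sum_mul]
        have e2 : algebraMap K K' (t ^ m * r' i) * b i =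
            algebraMap K K' (r' i) * (algebraMap K K' t ^ m * b i) := by
          rw [map_mul, map_pow]
          ring
        rw [e2, add_sub_cancel_right]
        apply Finset.sum_congr rfl
        intro x _
        rw [map_sum, Finset.sum_mul]
        apply Finset.sum_congr rfl
        intro l _
        rw [Algebra.smul_def, map_mul, map_mul, map_mul, ← IsScalarTower.algebraMap_apply]
        ring
      rw [e1]
      apply Submodule.sum_mem
      intro i _
      apply Submodule.sum_mem
      intro x _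
      apply Submodule.sum_mem
      intro l _
      apply Submodule.smul_mem
      apply Submodule.subset_span
      exact Finset.mem_coe.2 (Finset.mem_image.2 ⟨(i, x, l), Finset.mem_univ _, rfl⟩)
  · refine ⟨algebraMap K K' t ^ m, ?_, pow_ne_zero _ ht'0, hcond⟩
    have : algebraMap P.O K' (T ^ m) = algebraMap K K' t ^ m := by
      rw [hmap, ← map_pow, ← hTt]
      rfl
    rw [← this]
    exact Subalgebra.algebraMap_mem _ _

end Groth.Agent.Lib.lead.Cond
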