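import Mathlib
import Groth.Agent.Lib.lead.Ext3

/-! Transitivity of the conorm. -/

namespace Groth.Agent.Lib.lead.Cono
open FunFld Module Groth.Agent.Lib.lead.FF Groth.Agent.Lib.lead.FF2 Groth.Agent.Lib.lead.FF3
  Groth.Agent.Lib.lead.FF4
  Groth.Agent.Lib.lead.FF5 Groth.Agent.Lib.lead.FF6 Groth.Agent.Lib.lead.FF7
  Groth.Agent.Lib.lead.FF8 Groth.Agent.Lib.lead.Ext Groth.Agent.Lib.lead.Ext3

variable {k K K' K'' : Type*} [Field k] [Field K] [Field K'] [Field K'']
    [Algebra k K] [Algebra k K'] [Algebra k K''] [Algebra K K'] [Algebra K' K''] [Algebra K K'']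
    [IsScalarTower k K K'] [IsScalarTower k K' K''] [IsScalarTower k K K''] [IsScalarTower K K' K'']

/-- a place of `K''/k` as a place over the constant field of `K'` -/
def up (R : Place k K'') : Place (algebraicClosure k K') K'' :=
  ⟨R.1, fun c => by
    have hint : IsIntegral k (algebraMap (algebraicClosure k K') K'' c) := by
      have h1 : IsIntegral k (c : K') := mem_algebraicClosure_iff'.1 c.2
      have h2 := h1.map (IsScalarTower.toAlgHom k K' K'')
      exact h2
    exact val_le_one_of_root (K := k) R.1 (fun a => R.2.1 a) hint, R.2.2⟩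

lemma up_injective : Function.Injective (up (k := k) (K' := K') (K'' := K'')) := by
  intro R R' h
  have h' : (up (K' := K') R).1 = (up (K' := K') R').1 := congrArg Subtype.val h
  exact Subtype.ext h'

variable [FiniteDimensional K K'] [FiniteDimensional K' K'']

theorem exists_restrict_top (hK : IsFunctionField k K) (R : Place k K'') :
    ∃ (Q : Place k K') (e : ℕ), IsOverWith R Q e := by
  have hK' := isFunctionField_top (K' := K') hK
  obtain ⟨Q', e, he⟩ := exists_restrict hK' (up (K' := K') R)
  exact ⟨ofTop Q', e, he⟩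

theorem finite_over_top (hK : IsFunctionField k K) (Q : Place k K') :
    {R : Place k K'' | IsOver R Q}.Finite := by
  have hK' := isFunctionField_top (K' := K') hK
  have h1 := (general (K' := K'') hK' (toTop Q)).1
  apply (h1.preimage (up_injective (k := k) (K' := K') (K'' := K'')).injOn).subset
  rintro R ⟨e, he⟩
  exact ⟨e, he⟩

theorem s12514 (hK : IsFunctionField k K) (D : Divisor k K) :
    conorm K'' (conorm K' D) = conorm K'' D := by
  classical
  haveI : FiniteDimensional K K'' := Module.Finite.trans K' K''
  ext R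
  obtain ⟨Q, e₂, he₂⟩ := exists_restrict_top (K' := K') hK R
  obtain ⟨P, e₁, he₁⟩ := exists_restrict hK Q
  have he : IsOverWith R P (e₁ * e₂) := by
    intro x
    rw [IsScalarTower.algebraMap_apply K K' K'', he₂, he₁, pow_mul]
  rw [conorm_apply (fun Q => finite_over_top hK Q) _ he₂,
    conorm_apply (fun P => (general (K' := K') hK P).1) _ he₁,
    conorm_apply (fun P => (general (K' := K'') hK P).1) _ he]
  push_cast
  ring

end Groth.Agent.Lib.lead.Cono
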