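import Mathlib
import Groth.Agent.Lib.lead.Dif

/-! Totally ramified places: `v_Q(f'(s)) = d(Q|P)`. -/

namespace Groth.Agent.Lib.lead.Dif2
open FunFld Groth.Agent.Lib.lead.FF Groth.Agent.Lib.lead.FF4 Groth.Agent.Lib.lead.Ext
  Groth.Agent.Lib.lead.Dif
open LocRes LaurentSeries HahnSeries WithZero

universe u v w

section laurent
variable {F : Type*} [Field F]

lemma v_D_le_one (f : F⸨X⸩) (h : Valued.v f ≤ 1) : Valued.v (D F f) ≤ 1 := by
  have h' : Valued.v f ≤ exp (-(0:ℤ)) := by simpa using h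
  rw [valuation_le_iff_coeff_lt_eq_zero F] at h'
  have h2 : Valued.v (D F f) ≤ exp (-(0:ℤ)) := by
    rw [valuation_le_iff_coeff_lt_eq_zero F]
    intro m hm
    rw [D_coeff]
    rcases lt_or_eq_of_le (show m + 1 ≤ 0 by omega) with h1 | h1
    · rw [h' _ h1, smul_zero]
    · rw [h1, zero_smul]
  simpa using h2

end laurent

section chain
variable {R : Type*} [CommRing R] {F : Type*} [Field F] (ρ : R →+* F⸨X⸩)

lemma chain (S : F⸨X⸩) (p : Polynomial R) :
    D F (p.eval₂ ρ S) = (Polynomial.derivative p).eval₂ ρ S * D F S +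
      p.sum (fun i a => D F (ρ a) * S ^ i) := by
  induction p using Polynomial.induction_on' with
  | add p q hp hq =>
    rw [Polynomial.eval₂_add, map_add, hp, hq, Polynomial.derivative_add, Polynomial.eval₂_add,
      Polynomial.sum_add_index]
    · ring
    · intro i; simp
    · intro i a b; simp [add_mul]
  | monomial n a =>
    rw [Polynomial.eval₂_monomial, Polynomial.derivative_monomial, Polynomial.eval₂_monomial,
      Polynomial.sum_monomial_index]
    · rw [Derivation.leibniz, Derivation.leibniz_pow, map_mul, map_natCast]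
      simp only [smul_eq_mul, nsmul_eq_mul]
      ring
    · simp

end chain

section Eis
variable {k : Type u} {K : Type v} {K' : Type*} [Field k] [Field K] [Field K'] [Algebra k K]
  [Algebra K K'] [Algebra k K'] [IsScalarTower k K K']

lemma val_term {Q : Place k K'} {P : Place k K} {n : ℕ} (he : IsOverWith Q P n) {s : K'}
    (hs : Q.1 s = exp (-1)) (a : K) (ha : a ≠ 0) (i : ℕ) :
    Q.1 (algebraMap K K' a * s ^ i) = exp (-((n : ℤ) * P.ord a + i)) := by
  rw [map_mul, map_pow, he a, hs, val_eq_exp P ha, ← exp_nsmul, ← exp_nsmul, ← exp_add]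
  congr 1
  simp only [nsmul_eq_mul]
  ring

set_option maxHeartbeats 800000 in
theorem eisenstein [FiniteDimensional K K'] {Q : Place k K'} {P : Place k K}
    (he : IsOverWith Q P (Module.finrank K K')) {s : K'} (hs : Q.1 s = exp (-1)) :
    P.1 ((minpoly K s).coeff 0) = exp (-1) ∧ ∀ i, 1 ≤ i → P.1 ((minpoly K s).coeff i) ≤ 1 := by
  classical
  set n := Module.finrank K K' with hn
  set g := minpoly K s with hg
  have hint : IsIntegral K s := Algebra.IsIntegral.isIntegral s
  have hmonic : g.Monic := minpoly.monic hint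
  set d := g.natDegree with hd
  have hdn : d ≤ n := minpoly.natDegree_le s
  have hnpos : 0 < n := Module.finrank_pos
  have hord1 : P.ord (1 : K) = 0 := by unfold Place.ord; rw [map_one, log_one, neg_zero]
  let T : ℕ → K' := fun i => algebraMap K K' (g.coeff i) * s ^ i
  have hsum : ∑ i ∈ Finset.range (d + 1), T i = 0 := by
    have h := minpoly.aeval K s
    rw [Polynomial.aeval_eq_sum_range] at h
    rw [← h]
    refine Finset.sum_congr rfl (fun i _ => ?_)
    exact (Algebra.smul_def _ _).symm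
  have hcd : g.coeff d = 1 := hmonic.coeff_natDegree
  have hTd : Q.1 (T d) = exp (-(d : ℤ)) := by
    show Q.1 (algebraMap K K' (g.coeff d) * s ^ d) = _
    rw [hcd, map_one, one_mul, map_pow, hs, ← exp_nsmul]
    simp
  obtain ⟨j, hjmem, hjmax⟩ := Finset.exists_max_image (Finset.range (d+1))
    (fun i => Q.1 (T i)) ⟨d, Finset.self_mem_range_succ d⟩
  have hTj0 : Q.1 (T j) ≠ 0 := by
    have h1 := hjmax d (Finset.self_mem_range_succ d)
    simp only [hTd] at h1
    intro h0
    rw [h0] at h1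
    exact exp_ne_zero (le_zero_iff.1 h1)
  have hex : ∃ i ∈ Finset.range (d+1), i ≠ j ∧ Q.1 (T i) = Q.1 (T j) := by
    by_contra hno
    push Not at hno
    have hlt : ∀ i ∈ Finset.range (d+1) \ {j}, Q.1 (T i) < Q.1 (T j) := by
      intro i hi
      rw [Finset.mem_sdiff, Finset.mem_singleton] at hi
      exact lt_of_le_of_ne (hjmax i hi.1) (hno i hi.1 hi.2)
    have h1 := Q.1.map_sum_eq_of_lt hjmem hlt
    rw [hsum, map_zero] at h1
    exact hTj0 h1.symm
  obtain ⟨i, himem, hij, hval⟩ := hex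
  have hgj : g.coeff j ≠ 0 := by
    intro h0
    apply hTj0
    show Q.1 (algebraMap K K' (g.coeff j) * s ^ j) = 0
    rw [h0, map_zero, zero_mul, map_zero]
  have hgi : g.coeff i ≠ 0 := by
    intro h0
    apply hTj0
    rw [← hval]
    show Q.1 (algebraMap K K' (g.coeff i) * s ^ i) = 0
    rw [h0, map_zero, zero_mul, map_zero]
  have hvi : Q.1 (T i) = _ := val_term he hs _ hgi i
  have hvj : Q.1 (T j) = _ := val_term he hs _ hgj j
  have hw : (n : ℤ) * P.ord (g.coeff i) + i = (n : ℤ) * P.ord (g.coeff j) + j := by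
    have h1 : exp (-((n : ℤ) * P.ord (g.coeff i) + i)) =
        exp (-((n : ℤ) * P.ord (g.coeff j) + j)) := by rw [← hvi, ← hvj]; exact hval
    rw [exp_inj] at h1
    linarith
  rw [Finset.mem_range] at himem hjmem
  have hkey : (i = 0 ∧ j = n) ∨ (i = n ∧ j = 0) := by
    have h1 : (n : ℤ) * (P.ord (g.coeff i) - P.ord (g.coeff j)) = (j : ℤ) - i := by linarith
    rcases lt_trichotomy (P.ord (g.coeff i)) (P.ord (g.coeff j)) with hab | hab | hab
    · have h2 : (n : ℤ) * (P.ord (g.coeff i) - P.ord (g.coeff j)) ≤ (n : ℤ) * (-1) :=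
        mul_le_mul_of_nonneg_left (by omega) (by positivity)
      right; omega
    · exfalso
      rw [hab, sub_self, mul_zero] at h1
      apply hij; omega
    · have h2 : (n : ℤ) * 1 ≤ (n : ℤ) * (P.ord (g.coeff i) - P.ord (g.coeff j)) :=
        mul_le_mul_of_nonneg_left (by omega) (by positivity)
      left; omega
  have hdn' : d = n := by rcases hkey with ⟨_, h⟩ | ⟨h, _⟩ <;> omega
  have hmain : g.coeff 0 ≠ 0 ∧ P.ord (g.coeff 0) = 1 ∧ Q.1 (T j) = exp (-(n : ℤ)) := by
    rcases hkey with ⟨hi0, hjn⟩ | ⟨hin, hj0⟩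
    · subst hi0
      have hcj : g.coeff j = 1 := by rw [hjn, ← hdn']; exact hcd
      rw [hcj, hord1] at hw
      refine ⟨hgi, ?_, ?_⟩
      · have h3 : (n : ℤ) * P.ord (g.coeff 0) = (n : ℤ) * 1 := by
          rw [hjn] at hw; push_cast at hw ⊢; linarith
        exact mul_left_cancel₀ (by positivity) h3
      · rw [hvj, hcj, hord1, hjn]; congr 1; ring
    · subst hj0
      have hci : g.coeff i = 1 := by rw [hin, ← hdn']; exact hcd
      rw [hci, hord1] at hw
      refine ⟨hgj, ?_, ?_⟩
      · have h3 : (n : ℤ) * P.ord (g.coeff 0) = (n : ℤ) * 1 := by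
          rw [hin] at hw; push_cast at hw ⊢; linarith
        exact mul_left_cancel₀ (by positivity) h3
      · rw [← hval, hvi, hci, hord1, hin]; congr 1; ring
  obtain ⟨hg0, hord0, hmax⟩ := hmain
  constructor
  · rw [val_eq_exp P hg0, hord0]
  · intro i' hi'
    by_cases hci : g.coeff i' = 0
    · rw [hci, map_zero]; exact zero_le'
    · have hi'd : i' ≤ d := Polynomial.le_natDegree_of_ne_zero hci
      have h1 := hjmax i' (Finset.mem_range.2 (by omega))
      simp only [hmax] at h1
      have h2 : Q.1 (T i') = _ := val_term he hs _ hci i'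
      rw [h2, exp_le_exp] at h1
      rw [val_eq_exp P hci, ← exp_zero, exp_le_exp]
      by_contra hneg
      rw [not_le] at hneg
      have h3 : (n : ℤ) * P.ord (g.coeff i') ≤ (n : ℤ) * (-1) :=
        mul_le_mul_of_nonneg_left (by omega) (by positivity)
      omega

end Eis

section main
variable {k : Type u} {K : Type v} {K' : Type v} [Field k] [Field K] [Field K'] [Algebra k K]
  [Algebra K K'] [Algebra k K'] [IsScalarTower k K K']

set_option maxHeartbeats 800000 in
theorem s12573 [FiniteDimensional K K']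
    (hK : IsFunctionField k K) (hg : IsGeometric k K)
    (F F' : Type w) [Field F] [Algebra k F] [Field F'] [Algebra k F']
    (P : Place k K) (Q : Place k K') (e : ℕ) (he : IsOverWith Q P e)
    (φ : K →ₐ[k] LaurentSeries F) (hφ : IsExpansionAt P.1 φ)
    (ψ : K' →ₐ[k] LaurentSeries F') (hψ : IsExpansionAt Q.1 ψ)
    (x : K) (hx : vDiff φ 1 x ≠ 0) (hx' : vDiff ψ 1 (algebraMap K K' x) ≠ 0)
    (hn : e = Module.finrank K K') (s : K') (hs : Q.1 s = exp (-1)) :
    Q.ord (Polynomial.aeval s (Polynomial.derivative (minpoly K s))) = diffExp φ ψ e x := by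
  classical
  subst hn
  obtain ⟨hE1, hE2⟩ := eisenstein he hs
  obtain ⟨t, ht⟩ := hφ.2.2
  have hvφt : Valued.v (φ t) = exp (-(1:ℤ)) := by rw [hφ.1, ht]
  have hDφt : Valued.v (D F (φ t)) = exp (-((1:ℤ) - 1)) :=
    v_D_of_ne _ 1 hvφt (by rw [Int.cast_one]; exact one_ne_zero)
  have hDφt' : Valued.v (D F (φ t)) = 1 := by rw [hDφt]; simp
  have hDt0 : D F (φ t) ≠ 0 := by
    intro h
    rw [h, map_zero] at hDφt'
    exact zero_ne_one hDφt'
  have hdt := D_ne_zero_of φ t hDt0
  obtain ⟨s₀, hs0, hspan⟩ := Kae2.exists_sep_elt hK hg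
  have hspant := Kae2.span_of_ne_zero hspan hdt
  choose c hc using fun a : K => hspant (KaehlerDifferential.D k K a)
  have r1 : ∀ a, D F (φ a) = φ (c a) * D F (φ t) := fun a => lift_rel φ t a (c a) (hc a)
  let ρ : K →+* F'⸨X⸩ := (ψ : K' →+* F'⸨X⸩).comp (algebraMap K K')
  have r2 : ∀ a, D F' (ρ a) = ρ (c a) * D F' (ρ t) := fun a =>
    lift_rel (ψ.comp (IsScalarTower.toAlgHom k K K')) t a (c a) (hc a)
  have hvc : ∀ a, P.1 (c a) = Valued.v (D F (φ a)) := by
    intro a
    have h := congrArg Valued.v (r1 a)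
    rw [map_mul, hDφt', mul_one, hφ.1] at h
    exact h.symm
  have hc_le : ∀ a, P.1 a ≤ 1 → P.1 (c a) ≤ 1 := by
    intro a ha
    rw [hvc]
    exact v_D_le_one _ (by rw [hφ.1]; exact ha)
  have hc0 : P.1 (c ((minpoly K s).coeff 0)) = 1 := by
    rw [hvc]
    have h := v_D_of_ne (φ ((minpoly K s).coeff 0)) 1 (by rw [hφ.1, hE1])
      (by rw [Int.cast_one]; exact one_ne_zero)
    rw [h]; simp
  have hchain := chain ρ (ψ s) (minpoly K s)
  have hev : (minpoly K s).eval₂ ρ (ψ s) = 0 := by
    have h1 : (minpoly K s).eval₂ ρ (ψ s) = ψ (Polynomial.aeval s (minpoly K s)) := by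
      rw [Polynomial.aeval_def]
      exact (Polynomial.hom_eval₂ (minpoly K s) (algebraMap K K') (ψ : K' →+* F'⸨X⸩) s).symm
    rw [h1, minpoly.aeval, map_zero]
  have hev' : (Polynomial.derivative (minpoly K s)).eval₂ ρ (ψ s) =
      ψ (Polynomial.aeval s (Polynomial.derivative (minpoly K s))) := by
    rw [Polynomial.aeval_def]
    exact (Polynomial.hom_eval₂ _ (algebraMap K K') (ψ : K' →+* F'⸨X⸩) s).symm
  rw [hev, map_zero, hev'] at hchain
  have hsumeq : (minpoly K s).sum (fun i a => D F' (ρ a) * (ψ s) ^ i) =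
      (∑ i ∈ (minpoly K s).support, ρ (c ((minpoly K s).coeff i)) * (ψ s) ^ i) * D F' (ρ t) := by
    rw [Polynomial.sum_def, Finset.sum_mul]
    refine Finset.sum_congr rfl (fun i _ => ?_)
    rw [r2]; ring
  have h0mem : 0 ∈ (minpoly K s).support := Polynomial.mem_support_iff.2 (by
    intro h0
    rw [h0, map_zero] at hE1
    exact exp_ne_zero hE1.symm)
  have hexp1 : (exp (-1 : ℤ) : WithZero (Multiplicative ℤ)) < 1 := by
    rw [← exp_zero, exp_lt_exp]; norm_num
  have hU : Valued.v (∑ i ∈ (minpoly K s).support,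
      ρ (c ((minpoly K s).coeff i)) * (ψ s) ^ i) = 1 := by
    have hterm0 : Valued.v (ρ (c ((minpoly K s).coeff 0)) * (ψ s) ^ 0) = 1 := by
      rw [pow_zero, mul_one]
      show Valued.v (ψ (algebraMap K K' _)) = 1
      rw [hψ.1, he, hc0, one_pow]
    rw [Valuation.map_sum_eq_of_lt _ h0mem, hterm0]
    intro i hi
    rw [Finset.mem_sdiff, Finset.mem_singleton] at hi
    rw [hterm0]
    have hi1 : 1 ≤ i := Nat.one_le_iff_ne_zero.2 hi.2
    have h1 : Valued.v (ρ (c ((minpoly K s).coeff i))) ≤ 1 := by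
      show Valued.v (ψ (algebraMap K K' _)) ≤ 1
      rw [hψ.1, he]
      exact pow_le_one₀ zero_le' (hc_le _ (hE2 i hi1))
    have h2 : Valued.v ((ψ s) ^ i) < 1 := by
      rw [map_pow, hψ.1, hs]
      exact pow_lt_one₀ zero_le' hexp1 (by omega)
    rw [map_mul]
    calc Valued.v (ρ (c ((minpoly K s).coeff i))) * Valued.v ((ψ s) ^ i)
        ≤ 1 * Valued.v ((ψ s) ^ i) := mul_le_mul' h1 le_rfl
      _ = Valued.v ((ψ s) ^ i) := one_mul _
      _ < 1 := h2
  have hDS : Valued.v (D F' (ψ s)) = 1 := by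
    have h := v_D_of_ne (ψ s) 1 (by rw [hψ.1, hs]) (by rw [Int.cast_one]; exact one_ne_zero)
    rw [h]; simp
  have hfinal : Q.1 (Polynomial.aeval s (Polynomial.derivative (minpoly K s))) =
      Valued.v (D F' (ρ t)) := by
    rw [hsumeq] at hchain
    have h' := eq_neg_of_add_eq_zero_left hchain.symm
    have h3 := congrArg Valued.v h'
    rw [map_mul, hDS, mul_one, Valuation.map_neg, map_mul, hU, one_mul, hψ.1] at h3
    exact h3
  have e2 : vDiff φ 1 t = 1 := by unfold vDiff; rw [map_one, one_mul, hDφt']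
  have eψ : vDiff ψ 1 (algebraMap K K' t) = Valued.v (D F' (ρ t)) := by
    unfold vDiff; rw [map_one, one_mul]; rfl
  have ht2 : vDiff φ 1 t ≠ 0 := by rw [e2]; exact one_ne_zero
  obtain ⟨hne, heqd⟩ := diffExp_indep hK hg P Q _ he φ hφ.1 ψ hψ.1 x t hx hx' ht2
  rw [heqd]
  unfold diffExp ordDiff Place.ord
  rw [eψ, e2, log_one, hfinal]
  ring

end main

end Groth.Agent.Lib.lead.Dif2
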