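import Mathlib
import Groth.Agent.Lib.lead.Ext

/-! The degree of `τ(φ)` for a `k`-embedding `τ : K → K`. -/

namespace Groth.Agent.Lib.lead.Ext2
open FunFld Groth.Agent.Lib.lead.FF Groth.Agent.Lib.lead.Ext

variable {k K : Type*} [Field k] [Field K] [Algebra k K]

/-- a copy of `K`, viewed as an extension of `K` through `τ` -/
def Big (_τ : K →ₐ[k] K) : Type _ := K

noncomputable instance (τ : K →ₐ[k] K) : Field (Big τ) := inferInstanceAs (Field K)
noncomputable instance (τ : K →ₐ[k] K) : Algebra k (Big τ) := inferInstanceAs (Algebra k K)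
noncomputable instance (τ : K →ₐ[k] K) : Algebra K (Big τ) := τ.toRingHom.toAlgebra
instance (τ : K →ₐ[k] K) : IsScalarTower k K (Big τ) :=
  IsScalarTower.of_algebraMap_eq (fun c => (τ.commutes c).symm)

lemma big_isAlgebraic (hK : IsFunctionField k K) (τ : K →ₐ[k] K) :
    Algebra.IsAlgebraic K (Big τ) := by
  haveI : FaithfulSMul K (Big τ) :=
    (faithfulSMul_iff_algebraMap_injective K (Big τ)).2 (algebraMap K (Big τ)).injective
  have h1 := trdeg_add_eq k K (A := Big τ)
  have h2 : Algebra.trdeg k K = 1 := trdeg_eq_one hK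
  have h3 : Algebra.trdeg k (Big τ) = 1 := trdeg_eq_one hK
  rw [h2, h3] at h1
  rw [← trdeg_eq_zero_iff]
  have h4 : (1 : Cardinal) + Algebra.trdeg K (Big τ) = 1 + 0 := by rw [h1, add_zero]
  exact Cardinal.eq_of_add_eq_add_left h4 Cardinal.one_lt_aleph0

theorem s11052 (hK : IsFunctionField k K) (τ : K →ₐ[k] K) {n : ℕ} (φ : Fin (n + 1) → K) :
    (mapDiv k (τ ∘ φ)).deg = Module.finrank τ.fieldRange K * (mapDiv k φ).deg := by
  haveI := big_isAlgebraic hK τ
  have hK' : IsFunctionField k (Big τ) := hK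
  have h1 : mapDiv k (fun i => algebraMap K (Big τ) (φ i)) = conorm (Big τ) (mapDiv k φ) :=
    mapDiv_algebraMap hK hK' φ
  have h2 := deg_conorm hK hK' (mapDiv k φ)
  have h3 : Module.finrank K (Big τ) = Module.finrank τ.fieldRange K :=
    Algebra.finrank_eq_of_equiv_equiv (AlgEquiv.ofInjectiveField τ).toRingEquiv
      (RingEquiv.refl K) (by ext a; rfl)
  rw [← h3, ← h2, ← h1]
  rfl

end Groth.Agent.Lib.lead.Ext2
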