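import Mathlib
import Groth.Prelude.Def_W4bk4goldsch23FF
import Groth.Agent.Lib.lead.FF17

/-! Gap numbers at a place of a function field over an algebraically closed field. -/

namespace Groth.Agent.Lib.lead.Gaps
open FunFld Groth.Agent.Lib.lead.FF Groth.Agent.Lib.lead.FF2 Groth.Agent.Lib.lead.FF3
  Groth.Agent.Lib.lead.FF4
  Groth.Agent.Lib.lead.FF5 Groth.Agent.Lib.lead.FF6 Groth.Agent.Lib.lead.FF7
  Groth.Agent.Lib.lead.FF8 Groth.Agent.Lib.lead.FF9 Groth.Agent.Lib.lead.FF10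
  Groth.Agent.Lib.lead.FF11 Groth.Agent.Lib.lead.FF12 Groth.Agent.Lib.lead.FF13
  Groth.Agent.Lib.lead.FF14 Groth.Agent.Lib.lead.FF15 Groth.Agent.Lib.lead.FF16
  Groth.Agent.Lib.lead.FF17

variable {k K : Type*} [Field k] [Field K] [Algebra k K]

/-- `m` is a gap number at `P` -/
def gap (P : Place k K) (m : ℕ) : Prop :=
  L (Finsupp.single P (m : ℤ)) = L (Finsupp.single P ((m : ℤ) - 1))

open Classical in
/-- number of gaps in `[1, n]` -/
noncomputable def cnt (P : Place k K) (n : ℕ) : ℕ :=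
  ((Finset.Ico 1 (n + 1)).filter (gap P)).card

lemma gap_succ_iff (P : Place k K) (n : ℕ) :
    gap P (n + 1) ↔ L (Finsupp.single P ((n : ℤ) + 1)) = L (Finsupp.single P (n : ℤ)) := by
  unfold gap
  have h1 : ((n + 1 : ℕ) : ℤ) = (n : ℤ) + 1 := Nat.cast_succ n
  have h2 : ((n : ℤ) + 1) - 1 = n := by ring
  rw [h1, h2]

open Classical in
lemma cnt_succ (P : Place k K) (n : ℕ) :
    cnt P (n + 1) = cnt P n + (if gap P (n + 1) then 1 else 0) := by
  unfold cnt
  have hI : Finset.Ico 1 (n + 1 + 1) = insert (n + 1) (Finset.Ico 1 (n + 1)) := by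
    ext x
    simp only [Finset.mem_insert, Finset.mem_Ico]
    omega
  rw [hI, Finset.filter_insert]
  have hnot : n + 1 ∉ (Finset.Ico 1 (n + 1)).filter (gap P) := by
    simp [Finset.mem_filter, Finset.mem_Ico]
  split_ifs with h
  · rw [Finset.card_insert_of_notMem hnot]
  · rw [add_zero]

lemma cnt_eq_of_no_gap (P : Place k K) {a b : ℕ} (hab : a ≤ b)
    (h : ∀ m, a < m → m ≤ b → ¬ gap P m) : cnt P b = cnt P a := by
  classical
  unfold cnt
  congr 1
  ext m
  simp only [Finset.mem_filter, Finset.mem_Ico]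
  constructor
  · rintro ⟨⟨h1, h2⟩, h3⟩
    refine ⟨⟨h1, ?_⟩, h3⟩
    by_contra hcon
    exact h m (by omega) (by omega) h3
  · rintro ⟨⟨h1, h2⟩, h3⟩
    exact ⟨⟨h1, by omega⟩, h3⟩

lemma ncard_le_eq_cnt (P : Place k K) (N : ℕ) :
    Set.ncard {m : ℕ | 1 ≤ m ∧ m ≤ N ∧
      L (Finsupp.single P (m : ℤ)) = L (Finsupp.single P ((m : ℤ) - 1))} = cnt P N := by
  classical
  unfold cnt
  rw [← Set.ncard_coe_finset]
  congr 1
  ext m
  simp only [Set.mem_setOf_eq, Finset.coe_filter, Finset.mem_Ico]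
  constructor
  · rintro ⟨a, b, c⟩
    exact ⟨⟨a, by omega⟩, c⟩
  · rintro ⟨⟨a, b⟩, c⟩
    exact ⟨a, by omega, c⟩

lemma ncard_lt_eq_cnt (P : Place k K) (n : ℕ) (hn : 1 ≤ n) :
    Set.ncard {m : ℕ | 1 ≤ m ∧ m < n ∧
      L (Finsupp.single P (m : ℤ)) = L (Finsupp.single P ((m : ℤ) - 1))} = cnt P (n - 1) := by
  classical
  unfold cnt
  rw [← Set.ncard_coe_finset]
  congr 1
  ext m
  simp only [Set.mem_setOf_eq, Finset.coe_filter, Finset.mem_Ico]
  constructor
  · rintro ⟨a, b, c⟩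
    exact ⟨⟨a, by omega⟩, c⟩
  · rintro ⟨⟨a, b⟩, c⟩
    exact ⟨a, by omega, c⟩

/-- if `n` is a gap and `m < n` is not, then `n - m` is a gap -/
lemma gap_sub (P : Place k K) {n m : ℕ} (hmn : m < n) (hn : gap P n)
    (hm : ¬ gap P m) : gap P (n - m) := by
  by_contra hnm
  have hlem : L (Finsupp.single P ((m : ℤ) - 1)) ≤ L (Finsupp.single P (m : ℤ)) :=
    L_mono (single_mono P (by linarith))
  have hlenm : L (Finsupp.single P (((n - m : ℕ) : ℤ) - 1)) ≤
      L (Finsupp.single P ((n - m : ℕ) : ℤ)) :=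
    L_mono (single_mono P (by linarith))
  obtain ⟨a, ha1, ha2⟩ := SetLike.exists_of_lt (lt_of_le_of_ne hlem (fun h => hm h.symm))
  obtain ⟨b, hb1, hb2⟩ := SetLike.exists_of_lt (lt_of_le_of_ne hlenm (fun h => hnm h.symm))
  obtain ⟨ha0, hao⟩ := ord_eq_of_mem_not_mem (n := (m : ℤ) - 1)
    (by rw [sub_add_cancel]; exact ha1) ha2
  obtain ⟨hb0, hbo⟩ := ord_eq_of_mem_not_mem (n := ((n - m : ℕ) : ℤ) - 1)
    (by rw [sub_add_cancel]; exact hb1) hb2
  have hcast : ((n - m : ℕ) : ℤ) = (n : ℤ) - m := Nat.cast_sub (le_of_lt hmn)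
  have hab : a * b ∈ L (Finsupp.single P (n : ℤ)) :=
    mul_mem_L_single ha1 hb1 (by rw [hcast]; ring)
  unfold gap at hn
  rw [hn] at hab
  have hab0 : a * b ≠ 0 := mul_ne_zero ha0 hb0
  have h1 := (mem_L_iff _ _).1 hab P
  rw [Finsupp.single_eq_same, val_le_exp_iff P hab0, ord_mul P ha0 hb0, hao, hbo, hcast] at h1
  linarith

lemma half_aux (p : ℕ → Prop) [DecidablePred p] (n : ℕ)
    (h : ∀ m, 1 ≤ m → m < n → ¬ p m → p (n - m)) :
    n - 1 ≤ 2 * ((Finset.Ico 1 n).filter p).card := by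
  have hsum := Finset.card_filter_add_card_filter_not (s := Finset.Ico 1 n) p
  rw [Nat.card_Ico] at hsum
  have hle : ((Finset.Ico 1 n).filter (fun m => ¬ p m)).card ≤
      ((Finset.Ico 1 n).filter p).card := by
    apply Finset.card_le_card_of_injOn (fun m => n - m)
    · intro m hm
      have hm' : m ∈ (Finset.Ico 1 n).filter (fun m => ¬ p m) := hm
      rw [Finset.mem_filter, Finset.mem_Ico] at hm'
      obtain ⟨⟨h1, h2⟩, h3⟩ := hm'
      show n - m ∈ (Finset.Ico 1 n).filter p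
      rw [Finset.mem_filter, Finset.mem_Ico]
      exact ⟨⟨by omega, by omega⟩, h m h1 h2 h3⟩
    · intro a ha b hb hab
      have ha' : a ∈ (Finset.Ico 1 n).filter (fun m => ¬ p m) := ha
      have hb' : b ∈ (Finset.Ico 1 n).filter (fun m => ¬ p m) := hb
      rw [Finset.mem_filter, Finset.mem_Ico] at ha' hb'
      have hab' : n - a = n - b := hab
      omega
  omega

/-- a gap `n` has at least `(n-1)/2` gaps below it -/
lemma half_gaps (P : Place k K) {n : ℕ} (hn1 : 1 ≤ n) (hn : gap P n) :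
    n - 1 ≤ 2 * cnt P (n - 1) := by
  classical
  unfold cnt
  rw [Nat.sub_add_cancel hn1]
  exact half_aux (gap P) n (fun m _ hm2 hm3 => gap_sub P hm2 hn hm3)

/-- `ℓ(nP) + #gaps in [1,n] = n + 1` -/
lemma ell_count [IsAlgClosed k] (hK : IsFunctionField k K) (P : Place k K) (n : ℕ) :
    ell (Finsupp.single P (n : ℤ)) + cnt P n = n + 1 := by
  classical
  induction n with
  | zero =>
    have h0 : cnt P 0 = 0 := by
      unfold cnt
      simp
    rw [h0, Nat.cast_zero, Finsupp.single_zero, ell_zero hK]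
  | succ n ih =>
    rw [cnt_succ]
    have hcst : ((n + 1 : ℕ) : ℤ) = (n : ℤ) + 1 := Nat.cast_succ n
    rw [hcst]
    have hP1 : P.deg = 1 := deg_eq_one hK P
    have hle : (Finsupp.single P (n : ℤ) : Divisor k K) ≤ Finsupp.single P ((n : ℤ) + 1) :=
      single_mono P (by linarith)
    have h1 := ell_mono hK hle
    have h2 := ell_sub_le hK hle
    rw [deg_single, deg_single, hP1] at h2
    simp only [Nat.cast_one, mul_one] at h2
    by_cases hg : gap P (n + 1)
    · rw [if_pos hg]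
      have heq : ell (Finsupp.single P ((n : ℤ) + 1)) = ell (Finsupp.single P (n : ℤ)) := by
        unfold ell
        rw [(gap_succ_iff P n).1 hg]
      omega
    · rw [if_neg hg]
      have hlt : L (Finsupp.single P (n : ℤ)) < L (Finsupp.single P ((n : ℤ) + 1)) := by
        refine lt_of_le_of_ne (L_mono hle) ?_
        intro heq
        exact hg ((gap_succ_iff P n).2 heq.symm)
      haveI := L_finite hK (Finsupp.single P ((n : ℤ) + 1))
      have h3 : ell (Finsupp.single P (n : ℤ)) < ell (Finsupp.single P ((n : ℤ) + 1)) :=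
        Submodule.finrank_lt_finrank_of_lt hlt
      omega

/-- the key bound: for `n ≤ 2g - 1`, at least half of `[1,n]` are gaps -/
lemma le_two_cnt [IsAlgClosed k] (hK : IsFunctionField k K) (P : Place k K) (n : ℕ)
    (hn : n + 1 ≤ 2 * genus k K) : n ≤ 2 * cnt P n := by
  classical
  by_cases hex : ∃ m, n < m ∧ m ≤ 2 * genus k K - 1 ∧ gap P m
  · obtain ⟨γ, ⟨h1, h2, h3⟩, hγmin⟩ : ∃ γ, (n < γ ∧ γ ≤ 2 * genus k K - 1 ∧ gap P γ) ∧
        ∀ m < γ, ¬ (n < m ∧ m ≤ 2 * genus k K - 1 ∧ gap P m) :=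
      ⟨Nat.find hex, Nat.find_spec hex, fun m hm => Nat.find_min hex hm⟩
    have hhalf := half_gaps P (by omega : 1 ≤ γ) h3
    have hc : cnt P (γ - 1) = cnt P n :=
      cnt_eq_of_no_gap P (by omega) (fun m hm1 hm2 hm3 =>
        hγmin m (by omega) ⟨hm1, by omega, hm3⟩)
    rw [hc] at hhalf
    omega
  · have hex' : ∀ m, n < m → m ≤ 2 * genus k K - 1 → ¬ gap P m := by
      intro m hm1 hm2 hm3
      exact hex ⟨m, hm1, hm2, hm3⟩
    have hc : cnt P (2 * genus k K - 1) = cnt P n :=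
      cnt_eq_of_no_gap P (by omega) hex'
    have hcount := ell_count hK P (2 * genus k K - 1)
    have hP1 : P.deg = 1 := deg_eq_one hK P
    have hcast : ((2 * genus k K - 1 : ℕ) : ℤ) = 2 * (genus k K : ℤ) - 1 := by omega
    obtain ⟨E, hE⟩ : ∃ E : Divisor k K,
        E = Finsupp.single P ((2 * genus k K - 1 : ℕ) : ℤ) := ⟨_, rfl⟩
    have hdeg : E.deg = 2 * (genus k K : ℤ) - 1 := by
      rw [hE, deg_single, hP1, hcast]
      simp
    have h := ell_eq_of_deg_ge hK E (by rw [hdeg])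
    rw [hdeg] at h
    rw [← hE] at hcount
    omega

end Groth.Agent.Lib.lead.Gaps
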