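import Mathlib
import Groth.Prelude.Def_W4bk4goldsch23FF

/-! Perfect constant field implies geometric. -/

namespace Groth.Agent.Lib.lead.Geo
open FunFld

universe u v

open scoped IntermediateField

/-- An irreducible monic polynomial over `k` stays irreducible over `K` when `k` is algebraically
closed in `K`. -/
lemma irreducible_map {k : Type*} {K : Type*} [Field k] [Field K] [Algebra k K]
    (hcl : ∀ y : K, IsAlgebraic k y → y ∈ Set.range (algebraMap k K))
    {f : Polynomial k} (hf : Irreducible f) (hm : f.Monic) :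
    Irreducible (f.map (algebraMap k K)) := by
  have hFm : (f.map (algebraMap k K)).Monic := hm.map _
  rw [Polynomial.Monic.irreducible_iff_natDegree hFm]
  constructor
  · intro h1
    have hd : (f.map (algebraMap k K)).natDegree = 0 := by rw [h1]; exact Polynomial.natDegree_one
    rw [Polynomial.natDegree_map] at hd
    have h2 := Polynomial.degree_pos_of_irreducible hf
    rw [← Polynomial.natDegree_pos_iff_degree_pos] at h2
    omega
  · intro g h hg hh hgh
    have lift : ∀ q : Polynomial K, q.Monic → q ∣ f.map (algebraMap k K) →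
        ∃ q₀ : Polynomial k, q₀.map (algebraMap k K) = q ∧ q₀.natDegree = q.natDegree ∧
          q₀.Monic := by
      intro q hq hqd
      have h1 := integralClosure.mem_lifts_of_monic_of_dvd_map K hm hq hqd
      have h2 : q ∈ Polynomial.lifts (algebraMap k K) := by
        rw [Polynomial.lifts_iff_coeff_lifts] at h1 ⊢
        intro n
        obtain ⟨c, hc⟩ := h1 n
        have hc' : IsAlgebraic k (c : K) := (c.2 : IsIntegral k (c : K)).isAlgebraic
        obtain ⟨d, hd⟩ := hcl _ hc'
        exact ⟨d, by rw [hd, ← hc]; rfl⟩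
      exact Polynomial.lifts_and_natDegree_eq_and_monic h2 hq
    obtain ⟨g₀, hg₀, hg₀d, hg₀m⟩ := lift g hg (Dvd.intro h hgh)
    obtain ⟨h₀, hh₀, hh₀d, hh₀m⟩ := lift h hh (Dvd.intro_left g hgh)
    have e : g₀ * h₀ = f := by
      apply Polynomial.map_injective (algebraMap k K) (algebraMap k K).injective
      rw [Polynomial.map_mul, hg₀, hh₀, hgh]
    rcases hf.isUnit_or_isUnit e.symm with hu | hu
    · left; rw [← hg₀d]; exact Polynomial.natDegree_eq_zero_of_isUnit hu
    · right; rw [← hh₀d]; exact Polynomial.natDegree_eq_zero_of_isUnit hu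

/-- `k(α) ⊗ K` is a field when the minimal polynomial of `α` stays irreducible. -/
lemma isField_tensor_of_primitive {k : Type*} {k' : Type*} {K : Type*} [Field k] [Field k']
    [Field K] [Algebra k k'] [Algebra k K] (α : k') (hα : k⟮α⟯ = ⊤) (hint : IsIntegral k α)
    (hirr : Irreducible ((minpoly k α).map (algebraMap k K))) :
    IsField (TensorProduct k k' K) := by
  obtain ⟨p, hp⟩ : ∃ p, p = minpoly k α := ⟨_, rfl⟩
  let e1 : AdjoinRoot (minpoly k α) ≃ₐ[k] k' :=
    (IntermediateField.adjoinRootEquivAdjoin k hint).trans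
      ((IntermediateField.equivOfEq hα).trans IntermediateField.topEquiv)
  obtain ⟨q, hq⟩ : ∃ q : Polynomial (TensorProduct k K k),
      q = (minpoly k α).map
        (Algebra.TensorProduct.includeRight : k →ₐ[k] TensorProduct k K k).toRingHom := ⟨_, rfl⟩
  let E1 : TensorProduct k k' K ≃+* TensorProduct k K k' :=
    (Algebra.TensorProduct.comm k k' K).toRingEquiv
  let E2 : TensorProduct k K k' ≃+* TensorProduct k K (AdjoinRoot (minpoly k α)) :=
    (Algebra.TensorProduct.congr (AlgEquiv.refl : K ≃ₐ[k] K) e1.symm).toRingEquiv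
  let E3 : TensorProduct k K (AdjoinRoot (minpoly k α)) ≃+* AdjoinRoot q :=
    (AdjoinRoot.tensorAlgEquiv (minpoly k α) q hq.symm).toRingEquiv
  let e : TensorProduct k K k ≃+* K := (Algebra.TensorProduct.rid k K K).toRingEquiv
  have hcomp : (e : TensorProduct k K k →+* K).comp
      (Algebra.TensorProduct.includeRight : k →ₐ[k] TensorProduct k K k).toRingHom =
      algebraMap k K := by
    ext c
    simp [e, Algebra.smul_def]
  have hqe : q.map (e : TensorProduct k K k →+* K) = (minpoly k α).map (algebraMap k K) := by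
    rw [hq, Polynomial.map_map, hcomp]
  let E4 : AdjoinRoot q ≃+* AdjoinRoot ((minpoly k α).map (algebraMap k K)) :=
    AdjoinRoot.mapRingEquiv e q _ (by rw [hqe])
  haveI : Fact (Irreducible ((minpoly k α).map (algebraMap k K))) := ⟨hirr⟩
  have hfield : IsField (AdjoinRoot ((minpoly k α).map (algebraMap k K))) := Field.toIsField _
  exact (((E1.trans E2).trans E3).trans E4).toMulEquiv.isField hfield

theorem geometric_of_perfect (k : Type u) (K : Type v) [Field k] [Field K] [Algebra k K]
    [PerfectField k] (hK : IsFunctionField k K) : IsGeometric k K := by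
  intro k' _ _ hfin
  haveI := hfin
  obtain ⟨α, hα⟩ := Field.exists_primitive_element k k'
  have hint : IsIntegral k α := Algebra.IsIntegral.isIntegral α
  exact isField_tensor_of_primitive α hα hint
    (irreducible_map hK.2 (minpoly.irreducible hint) (minpoly.monic hint))

open scoped TensorProduct in
theorem isField_tensor_algebraic (K₀ F₀ K : Type*) [Field K₀] [PerfectField K₀] [Field F₀]
    [Algebra K₀ F₀] [Field K] [Algebra K₀ K] [Algebra.IsAlgebraic K₀ K]
    (hcl : ∀ y : F₀, IsAlgebraic K₀ y → y ∈ Set.range (algebraMap K₀ F₀)) :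
    IsField (TensorProduct K₀ F₀ K) := by
  let φ : ∀ L : IntermediateField K₀ K, TensorProduct K₀ F₀ L →ₐ[K₀] TensorProduct K₀ F₀ K :=
    fun L => Algebra.TensorProduct.map (AlgHom.id K₀ F₀) L.val
  have hφinj : ∀ L : IntermediateField K₀ K, Function.Injective (φ L) := by
    intro L
    have hlin : ∀ z, φ L z = LinearMap.lTensor F₀ (L.val.toLinearMap) z := by
      intro z
      induction z using TensorProduct.induction_on with
      | zero => simp
      | tmul a b => simp [φ]
      | add z₁ z₂ h₁ h₂ => rw [map_add, map_add, h₁, h₂]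
    have hinj := Module.Flat.lTensor_preserves_injective_linearMap (M := F₀)
      (L.val.toLinearMap) (fun a b hab => Subtype.ext hab)
    intro a b hab
    apply hinj
    rw [← hlin, ← hlin, hab]
  have hmono : ∀ {L L' : IntermediateField K₀ K} (hLL : L ≤ L') (w : TensorProduct K₀ F₀ L),
      ∃ w' : TensorProduct K₀ F₀ L', φ L' w' = φ L w := by
    intro L L' hLL w
    refine ⟨Algebra.TensorProduct.map (AlgHom.id K₀ F₀) (IntermediateField.inclusion hLL) w, ?_⟩
    induction w using TensorProduct.induction_on with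
    | zero => simp
    | tmul a b => simp [φ]
    | add w₁ w₂ h₁ h₂ => rw [map_add, map_add, map_add, h₁, h₂]
  have hcover : ∀ z : TensorProduct K₀ F₀ K, ∃ L : IntermediateField K₀ K,
      FiniteDimensional K₀ L ∧ ∃ w, φ L w = z := by
    intro z
    induction z using TensorProduct.induction_on with
    | zero => exact ⟨⊥, inferInstance, 0, map_zero _⟩
    | tmul a b =>
      refine ⟨K₀⟮b⟯, IntermediateField.adjoin.finiteDimensional (Algebra.IsIntegral.isIntegral b),
        a ⊗ₜ ⟨b, IntermediateField.mem_adjoin_simple_self K₀ b⟩, ?_⟩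
      simp [φ]
    | add z₁ z₂ h₁ h₂ =>
      obtain ⟨L₁, hf₁, w₁, hw₁⟩ := h₁
      obtain ⟨L₂, hf₂, w₂, hw₂⟩ := h₂
      haveI := hf₁
      haveI := hf₂
      obtain ⟨w₁', hw₁'⟩ := hmono (le_sup_left : L₁ ≤ L₁ ⊔ L₂) w₁
      obtain ⟨w₂', hw₂'⟩ := hmono (le_sup_right : L₂ ≤ L₁ ⊔ L₂) w₂
      refine ⟨L₁ ⊔ L₂, IntermediateField.finiteDimensional_sup L₁ L₂, w₁' + w₂', ?_⟩
      rw [map_add, hw₁', hw₂', hw₁, hw₂]
  have hfieldL : ∀ L : IntermediateField K₀ K, FiniteDimensional K₀ L →
      IsField (TensorProduct K₀ F₀ L) := by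
    intro L hL
    haveI := hL
    obtain ⟨α, hα⟩ := Field.exists_primitive_element K₀ L
    have hint : IsIntegral K₀ α := Algebra.IsIntegral.isIntegral α
    have h1 := isField_tensor_of_primitive (K := F₀) α hα hint
      (irreducible_map hcl (minpoly.irreducible hint) (minpoly.monic hint))
    exact (Algebra.TensorProduct.comm K₀ F₀ L).toRingEquiv.toMulEquiv.isField h1
  haveI : Nontrivial (TensorProduct K₀ F₀ K) := by
    have hF := hfieldL ⊥ inferInstance
    obtain ⟨a, b, hab⟩ := hF.exists_pair_ne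
    exact ⟨⟨φ ⊥ a, φ ⊥ b, fun h => hab (hφinj ⊥ h)⟩⟩
  haveI : NoZeroDivisors (TensorProduct K₀ F₀ K) := by
    refine ⟨?_⟩
    intro x y hxy
    obtain ⟨L₁, hf₁, x', hx'⟩ := hcover x
    obtain ⟨L₂, hf₂, y', hy'⟩ := hcover y
    haveI := hf₁
    haveI := hf₂
    obtain ⟨x'', hx''⟩ := hmono (le_sup_left : L₁ ≤ L₁ ⊔ L₂) x'
    obtain ⟨y'', hy''⟩ := hmono (le_sup_right : L₂ ≤ L₁ ⊔ L₂) y'
    have hF := hfieldL (L₁ ⊔ L₂) (IntermediateField.finiteDimensional_sup L₁ L₂)
    have h0 : x'' * y'' = 0 :=
      hφinj (L₁ ⊔ L₂) (by rw [map_mul, map_zero, hx'', hy'', hx', hy', hxy])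
    by_cases hx0 : x'' = 0
    · left; rw [← hx', ← hx'', hx0, map_zero]
    · right
      obtain ⟨u, hu⟩ := hF.mul_inv_cancel hx0
      have hy0 : y'' = 0 := by
        calc y'' = y'' * (x'' * u) := by rw [hu, mul_one]
          _ = (x'' * y'') * u := by ring
          _ = 0 := by rw [h0, zero_mul]
      rw [← hy', ← hy'', hy0, map_zero]
  haveI : IsDomain (TensorProduct K₀ F₀ K) := NoZeroDivisors.to_isDomain _
  exact Algebra.TensorProduct.isField_of_isAlgebraic K₀ F₀ K (Or.inr inferInstance)

theorem s11095 (K₀ F₀ K : Type*) [Field K₀] [PerfectField K₀] [Field F₀]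
    [Algebra K₀ F₀] [Field K] [Algebra K₀ K] [Algebra.IsAlgebraic K₀ K]
    (h : algebraicClosure K₀ F₀ = ⊥) : IsField (TensorProduct K₀ F₀ K) := by
  apply isField_tensor_algebraic
  intro y hy
  have h1 : y ∈ algebraicClosure K₀ F₀ := mem_algebraicClosure_iff.2 hy
  rw [h] at h1
  exact IntermediateField.mem_bot.1 h1

end Groth.Agent.Lib.lead.Geo
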