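import Mathlib

/-! Graded algebras generated by finitely many homogeneous elements of positive degree:
monomial spanning sets and splitting lemmas. -/

namespace Groth.Agent.Lib.lead.GrMon

open DirectSum

variable {R A : Type*} [CommRing R] [CommRing A] [Algebra R A]
variable (𝒜 : ℕ → Submodule R A) [GradedAlgebra 𝒜]
variable {s : ℕ} (f : Fin s → A) (deg : Fin s → ℕ)

/-- weight of an exponent vector -/
def wt (deg : Fin s → ℕ) (e : Fin s → ℕ) : ℕ := ∑ i, e i * deg i

/-- monomial in the generators -/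
def mon (f : Fin s → A) (e : Fin s → ℕ) : A := ∏ i, f i ^ e i

theorem mon_mem (hf : ∀ i, f i ∈ 𝒜 (deg i)) (e : Fin s → ℕ) : mon f e ∈ 𝒜 (wt deg e) := by
  unfold mon wt
  apply SetLike.prod_mem_graded 𝒜 (fun i => e i * deg i) (fun i => f i ^ e i)
  intro i _
  have h := SetLike.pow_mem_graded (A := 𝒜) (e i) (hf i)
  rwa [smul_eq_mul] at h

theorem mem_span_mon (hf : ∀ i, f i ∈ 𝒜 (deg i)) (hgen : Algebra.adjoin R (Set.range f) = ⊤)
    (m : ℕ) (x : A) (hx : x ∈ 𝒜 m) :
    x ∈ Submodule.span R {y | ∃ e : Fin s → ℕ, wt deg e = m ∧ y = mon f e} := by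
  classical
  have hx' : x ∈ (MvPolynomial.aeval f : MvPolynomial (Fin s) R →ₐ[R] A).range := by
    rw [← Algebra.adjoin_range_eq_range_aeval, hgen]; trivial
  obtain ⟨P, hPx⟩ := hx'
  have hPx' : MvPolynomial.aeval f P = x := hPx
  have hP : x = ∑ e ∈ P.support, P.coeff e • mon f (fun i => e i) := by
    rw [← hPx']
    conv_lhs => rw [P.as_sum]
    rw [map_sum]
    refine Finset.sum_congr rfl fun e _ => ?_
    rw [MvPolynomial.aeval_monomial, Algebra.smul_def]
    congr 1
    unfold mon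
    exact Finsupp.prod_fintype _ _ (fun i => pow_zero _)
  have hxe : x = GradedAlgebra.proj 𝒜 m x := by
    rw [GradedAlgebra.proj_apply, DirectSum.decompose_of_mem_same 𝒜 hx]
  rw [hxe, hP, map_sum]
  refine Submodule.sum_mem _ fun e _ => ?_
  rw [map_smul]
  refine Submodule.smul_mem _ _ ?_
  rw [GradedAlgebra.proj_apply]
  by_cases hw : wt deg (fun i => e i) = m
  · have hm : mon f (fun i => e i) ∈ 𝒜 m := hw ▸ mon_mem 𝒜 f deg hf _
    rw [DirectSum.decompose_of_mem_same 𝒜 hm]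
    exact Submodule.subset_span ⟨_, hw, rfl⟩
  · rw [DirectSum.decompose_of_mem_ne 𝒜 (mon_mem 𝒜 f deg hf _) hw]
    exact Submodule.zero_mem _

theorem mon_split (e : Fin s → ℕ) (i : Fin s) (q : ℕ) (hq : q ≤ e i) :
    mon f e = mon f (Function.update e i (e i - q)) * f i ^ q ∧
      wt deg e = wt deg (Function.update e i (e i - q)) + q * deg i := by
  classical
  have he : ∀ j, e j = Function.update e i (e i - q) j + (if j = i then q else 0) := by
    intro j
    by_cases h : j = i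
    · subst h; simp; omega
    · simp [h]
  constructor
  · unfold mon
    have h1 : ∏ j, f j ^ (if j = i then q else 0) = f i ^ q := by
      rw [Finset.prod_eq_single i]
      · simp
      · intro j _ hj; simp [hj]
      · intro h; exact absurd (Finset.mem_univ i) h
    rw [← h1, ← Finset.prod_mul_distrib]
    refine Finset.prod_congr rfl fun j _ => ?_
    rw [← pow_add, ← he j]
  · unfold wt
    have h1 : ∑ j, (if j = i then q else 0) * deg j = q * deg i := by
      rw [Finset.sum_eq_single i]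
      · simp
      · intro j _ hj; simp [hj]
      · intro h; exact absurd (Finset.mem_univ i) h
    rw [← h1, ← Finset.sum_add_distrib]
    refine Finset.sum_congr rfl fun j _ => ?_
    rw [← add_mul, ← he j]

theorem exists_large (e : Fin s → ℕ) (l : ℕ) (h : s * (l - 1) < wt deg e) :
    ∃ i, l ≤ e i * deg i := by
  by_contra hcon
  push Not at hcon
  have h2 : wt deg e ≤ s * (l - 1) := by
    unfold wt
    calc ∑ i, e i * deg i ≤ ∑ _i : Fin s, (l - 1) :=
          Finset.sum_le_sum (fun i _ => by have := hcon i; omega)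
      _ = s * (l - 1) := by simp
  omega

theorem le_mul_of_large (hdeg : ∀ i, 0 < deg i) (hf : ∀ i, f i ∈ 𝒜 (deg i))
    (hgen : Algebra.adjoin R (Set.range f) = ⊤) (l : ℕ) (hl : ∀ i, deg i ∣ l)
    (n : ℕ) (hn : s * (l - 1) < n + l) : 𝒜 (n + l) ≤ 𝒜 n * 𝒜 l := by
  intro x hx
  have h := mem_span_mon 𝒜 f deg hf hgen (n + l) x hx
  refine (Submodule.span_le.2 ?_) h
  rintro y ⟨e, hw, rfl⟩
  obtain ⟨i, hi⟩ := exists_large deg e l (by rw [hw]; exact hn)
  obtain ⟨q, hq⟩ := hl i
  have hqe : q ≤ e i := by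
    have hpos := hdeg i
    rw [hq, mul_comm] at hi
    exact Nat.le_of_mul_le_mul_right hi hpos
  obtain ⟨h1, h2⟩ := mon_split f deg e i q hqe
  rw [h1]
  apply Submodule.mul_mem_mul
  · have hw' : wt deg (Function.update e i (e i - q)) = n := by
      have hc : q * deg i = deg i * q := mul_comm _ _
      rw [hw] at h2
      omega
    rw [← hw']; exact mon_mem 𝒜 f deg hf _
  · have h3 : f i ^ q ∈ 𝒜 (q • deg i) := SetLike.pow_mem_graded (A := 𝒜) q (hf i)
    rw [smul_eq_mul, mul_comm, ← hq] at h3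
    exact h3

theorem mul_le (n l : ℕ) : 𝒜 n * 𝒜 l ≤ 𝒜 (n + l) :=
  Submodule.mul_le.2 (fun _ ha _ hb => SetLike.mul_mem_graded ha hb)

theorem lcm_pos (hdeg : ∀ i, 0 < deg i) : 0 < Finset.univ.lcm deg := by
  apply Nat.pos_of_ne_zero
  intro h
  rw [Finset.lcm_eq_zero_iff] at h
  obtain ⟨i, _, hi⟩ := h
  exact (hdeg i).ne' hi

theorem arith1 (s l n : ℕ) (hl : 0 < l) (hn : (s - 1) * (l - 1) ≤ n) : s * (l - 1) < n + l := by
  rcases s with _ | s
  · simp; omega
  · have h1 : (s + 1) * (l - 1) = s * (l - 1) + (l - 1) := by ring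
    simp only [Nat.add_sub_cancel] at hn
    omega

theorem arith2 (s l a k : ℕ) (hl : 0 < l) (ha : s - 1 ≤ a) (hk : 1 ≤ k) :
    s * (l - 1) < k * (a * l) + l := by
  have h1 : s ≤ a + 1 := by omega
  have h2 : s * (l - 1) ≤ (a + 1) * (l - 1) := Nat.mul_le_mul_right _ h1
  have h3 : (a + 1) * (l - 1) + (a + 1) = (a + 1) * l := by
    rw [← Nat.mul_succ]; congr 1; omega
  have h4 : a * l ≤ k * (a * l) := Nat.le_mul_of_pos_left _ hk
  have h5 : (a + 1) * l = a * l + l := by ring
  omega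

theorem zero_eq_one (hdeg : ∀ i, 0 < deg i) (hf : ∀ i, f i ∈ 𝒜 (deg i))
    (hgen : Algebra.adjoin R (Set.range f) = ⊤) : 𝒜 0 = 1 := by
  apply le_antisymm
  · intro x hx
    have h := mem_span_mon 𝒜 f deg hf hgen 0 x hx
    refine (Submodule.span_le.2 ?_) h
    rintro y ⟨e, hw, rfl⟩
    have he : ∀ i, e i = 0 := by
      intro i
      unfold wt at hw
      have h1 := (Finset.sum_eq_zero_iff.1 hw) i (Finset.mem_univ i)
      rcases Nat.mul_eq_zero.1 h1 with h2 | h2
      · exact h2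
      · exact absurd h2 (hdeg i).ne'
    have : mon f e = 1 := by
      unfold mon
      apply Finset.prod_eq_one
      intro i _
      rw [he i, pow_zero]
    rw [this]
    exact Submodule.one_le.1 le_rfl
  · exact Submodule.one_le.2 (SetLike.one_mem_graded 𝒜)

theorem pow_le (l : ℕ) : ∀ a : ℕ, (𝒜 l) ^ a ≤ 𝒜 (a * l) := by
  intro a
  induction a with
  | zero =>
    rw [pow_zero, zero_mul]
    exact Submodule.one_le.2 (SetLike.one_mem_graded 𝒜)
  | succ a ih =>
    rw [pow_succ, add_one_mul]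
    exact (mul_le_mul' ih le_rfl).trans (mul_le 𝒜 _ _)

theorem le_mul_pow (hdeg : ∀ i, 0 < deg i) (hf : ∀ i, f i ∈ 𝒜 (deg i))
    (hgen : Algebra.adjoin R (Set.range f) = ⊤) (l : ℕ) (hl : ∀ i, deg i ∣ l)
    (m : ℕ) (hm : s * (l - 1) < m + l) : ∀ j : ℕ, 𝒜 (m + j * l) ≤ 𝒜 m * (𝒜 l) ^ j := by
  intro j
  induction j with
  | zero => rw [zero_mul, add_zero, pow_zero, mul_one]
  | succ j ih =>
    have h1 : m + (j + 1) * l = (m + j * l) + l := by ring
    rw [h1, pow_succ, ← mul_assoc]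
    refine (le_mul_of_large 𝒜 f deg hdeg hf hgen l hl (m + j * l) (by omega)).trans ?_
    exact mul_le_mul' ih le_rfl

theorem pos_mem (hf : ∀ i, f i ∈ 𝒜 (deg i))
    (hgen : Algebra.adjoin R (Set.range f) = ⊤) (I : Ideal A) (hI : ∀ i, f i ∈ I)
    (m : ℕ) (hm : 0 < m) (y : A) (hy : y ∈ 𝒜 m) : y ∈ I := by
  have h := mem_span_mon 𝒜 f deg hf hgen m y hy
  have hle : Submodule.span R {y | ∃ e : Fin s → ℕ, wt deg e = m ∧ y = mon f e} ≤
      I.restrictScalars R := by
    rw [Submodule.span_le]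
    rintro z ⟨e, hw, rfl⟩
    have hex : ∃ i, 0 < e i := by
      by_contra hcon
      push Not at hcon
      have h0 : wt deg e = 0 := by
        unfold wt
        apply Finset.sum_eq_zero
        intro i _
        have h1 := hcon i
        have h2 : e i = 0 := by omega
        rw [h2, zero_mul]
      omega
    obtain ⟨i, hi⟩ := hex
    show mon f e ∈ I
    unfold mon
    exact Ideal.mem_of_dvd I (Finset.dvd_prod_of_mem (fun j => f j ^ e j) (Finset.mem_univ i))
      (Ideal.pow_mem_of_mem I (hI i) _ hi)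
  exact hle h


/-! ### Versions with generators over the degree-zero part -/

theorem mem_span_mon0 (hf : ∀ i, f i ∈ 𝒜 (deg i))
    (hgen : Algebra.adjoin (𝒜 0) (Set.range f) = ⊤)
    (m : ℕ) (x : A) (hx : x ∈ 𝒜 m) :
    x ∈ Submodule.span R
      {y | ∃ c ∈ 𝒜 0, ∃ e : Fin s → ℕ, wt deg e = m ∧ y = c * mon f e} := by
  classical
  have hx' : x ∈ (MvPolynomial.aeval f : MvPolynomial (Fin s) (𝒜 0) →ₐ[𝒜 0] A).range := by
    rw [← Algebra.adjoin_range_eq_range_aeval, hgen]; trivial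
  obtain ⟨P, hPx⟩ := hx'
  have hPx' : MvPolynomial.aeval f P = x := hPx
  have hP : x = ∑ e ∈ P.support, ((P.coeff e : 𝒜 0) : A) * mon f (fun i => e i) := by
    rw [← hPx']
    conv_lhs => rw [P.as_sum]
    rw [map_sum]
    refine Finset.sum_congr rfl fun e _ => ?_
    rw [MvPolynomial.aeval_monomial]
    refine congrArg₂ (· * ·) rfl ?_
    unfold mon
    exact Finsupp.prod_fintype _ _ (fun i => pow_zero _)
  have hxe : x = GradedRing.proj 𝒜 m x := by
    rw [GradedRing.proj_apply, DirectSum.decompose_of_mem_same 𝒜 hx]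
  rw [hxe, hP, map_sum]
  refine Submodule.sum_mem _ fun e _ => ?_
  have hmem : ((P.coeff e : 𝒜 0) : A) * mon f (fun i => e i) ∈ 𝒜 (wt deg fun i => e i) := by
    have h := SetLike.mul_mem_graded (P.coeff e).2 (mon_mem 𝒜 f deg hf (fun i => e i))
    rwa [zero_add] at h
  rw [GradedRing.proj_apply]
  by_cases hw : wt deg (fun i => e i) = m
  · have hm : ((P.coeff e : 𝒜 0) : A) * mon f (fun i => e i) ∈ 𝒜 m := hw ▸ hmem
    rw [DirectSum.decompose_of_mem_same 𝒜 hm]
    exact Submodule.subset_span ⟨_, (P.coeff e).2, _, hw, rfl⟩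
  · rw [DirectSum.decompose_of_mem_ne 𝒜 hmem hw]
    exact Submodule.zero_mem _

theorem le_mul_of_large0 (hdeg : ∀ i, 0 < deg i) (hf : ∀ i, f i ∈ 𝒜 (deg i))
    (hgen : Algebra.adjoin (𝒜 0) (Set.range f) = ⊤) (l : ℕ) (hl : ∀ i, deg i ∣ l)
    (n : ℕ) (hn : s * (l - 1) < n + l) : 𝒜 (n + l) ≤ 𝒜 n * 𝒜 l := by
  intro x hx
  have h := mem_span_mon0 𝒜 f deg hf hgen (n + l) x hx
  refine (Submodule.span_le.2 ?_) h
  rintro y ⟨c, hc, e, hw, rfl⟩
  obtain ⟨i, hi⟩ := exists_large deg e l (by rw [hw]; exact hn)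
  obtain ⟨q, hq⟩ := hl i
  have hqe : q ≤ e i := by
    have hpos := hdeg i
    rw [hq, mul_comm] at hi
    exact Nat.le_of_mul_le_mul_right hi hpos
  obtain ⟨h1, h2⟩ := mon_split f deg e i q hqe
  rw [h1, ← mul_assoc]
  apply Submodule.mul_mem_mul
  · have hw' : wt deg (Function.update e i (e i - q)) = n := by
      have hc : q * deg i = deg i * q := mul_comm _ _
      rw [hw] at h2
      omega
    have h4 := SetLike.mul_mem_graded hc (mon_mem 𝒜 f deg hf (Function.update e i (e i - q)))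
    rwa [zero_add, hw'] at h4
  · have h3 : f i ^ q ∈ 𝒜 (q • deg i) := SetLike.pow_mem_graded (A := 𝒜) q (hf i)
    rw [smul_eq_mul, mul_comm, ← hq] at h3
    exact h3

theorem le_mul_pow' (l : ℕ) (H : ∀ n, s * (l - 1) < n + l → 𝒜 (n + l) ≤ 𝒜 n * 𝒜 l)
    (m : ℕ) (hm : s * (l - 1) < m + l) : ∀ j : ℕ, 𝒜 (m + j * l) ≤ 𝒜 m * (𝒜 l) ^ j := by
  intro j
  induction j with
  | zero => rw [zero_mul, add_zero, pow_zero, mul_one]
  | succ j ih =>
    have h1 : m + (j + 1) * l = (m + j * l) + l := by ring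
    rw [h1, pow_succ, ← mul_assoc]
    refine (H (m + j * l) (by omega)).trans ?_
    exact mul_le_mul' ih le_rfl

theorem veronese_pow' (l : ℕ) (hlpos : 0 < l)
    (H : ∀ n, s * (l - 1) < n + l → 𝒜 (n + l) ≤ 𝒜 n * 𝒜 l) (a : ℕ) (ha : s - 1 ≤ a) :
    ∀ k : ℕ, 1 ≤ k → 𝒜 (k * (a * l)) = 𝒜 (a * l) ^ k := by
  intro k hk
  induction k with
  | zero => omega
  | succ k ih =>
    rcases Nat.eq_zero_or_pos k with rfl | hk0
    · rw [zero_add, one_mul, pow_one]
    · rw [pow_succ, ← ih hk0, add_one_mul]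
      apply le_antisymm
      · refine (le_mul_pow' 𝒜 l H (k * (a * l)) (arith2 s l a k hlpos ha hk0) a).trans ?_
        exact mul_le_mul' le_rfl (pow_le 𝒜 l a)
      · exact mul_le 𝒜 _ _

/-- Homogeneous generators of positive degree indexed by `Fin s`, from finite type over `𝒜 0`. -/
theorem exists_gens [Algebra.FiniteType (𝒜 0) A] :
    ∃ (s : ℕ) (f : Fin s → A) (deg : Fin s → ℕ), (∀ i, 0 < deg i) ∧ (∀ i, f i ∈ 𝒜 (deg i)) ∧
      Algebra.adjoin (𝒜 0) (Set.range f) = ⊤ := by
  classical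
  obtain ⟨t, ht, hhom⟩ := GradedAlgebra.exists_finset_adjoin_eq_top_and_homogeneous_ne_zero 𝒜
  choose! n hn using hhom
  refine ⟨t.card, fun i => (t.equivFin.symm i : A), fun i => n (t.equivFin.symm i : A),
    fun i => Nat.pos_of_ne_zero (hn _ (t.equivFin.symm i).2).1,
    fun i => (hn _ (t.equivFin.symm i).2).2, ?_⟩
  have hr : Set.range (fun i => (t.equivFin.symm i : A)) = (t : Set A) := by
    ext y
    constructor
    · rintro ⟨i, rfl⟩; exact (t.equivFin.symm i).2
    · intro hy; exact ⟨t.equivFin ⟨y, hy⟩, by simp⟩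
  rw [hr]; exact ht


/-- A Noetherian `ℕ`-graded ring is of finite type over its degree-zero part. -/
theorem finiteType_zero_of_noetherian [IsNoetherianRing A] : Algebra.FiniteType (𝒜 0) A := by
  classical
  obtain ⟨t, ht⟩ := (isNoetherianRing_iff_ideal_fg A).1 inferInstance
    (HomogeneousIdeal.irrelevant 𝒜).toIdeal
  let T : Finset A := t.biUnion (fun x => (DirectSum.decompose 𝒜 x).support.image
    (fun k => (DirectSum.decompose 𝒜 x k : A)))
  refine ⟨⟨T, ?_⟩⟩
  have hTmem : ∀ x ∈ t, ∀ k ∈ (DirectSum.decompose 𝒜 x).support,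
      (DirectSum.decompose 𝒜 x k : A) ∈ Algebra.adjoin (𝒜 0) (T : Set A) := by
    intro x hx k hk
    apply Algebra.subset_adjoin
    simp only [T, Finset.coe_biUnion, Finset.coe_image, Set.mem_iUnion, Set.mem_image,
      Finset.mem_coe]
    exact ⟨x, hx, k, hk, rfl⟩
  have ht_irr : ∀ x ∈ t, x ∈ (HomogeneousIdeal.irrelevant 𝒜).toIdeal := by
    intro x hx; rw [← ht]; exact Ideal.subset_span hx
  have hk_pos : ∀ x ∈ t, ∀ k ∈ (DirectSum.decompose 𝒜 x).support, 0 < k := by
    intro x hx k hk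
    rcases Nat.eq_zero_or_pos k with rfl | h
    · exfalso
      have h0 : GradedRing.proj 𝒜 0 x = 0 :=
        (HomogeneousIdeal.mem_irrelevant_iff 𝒜 x).1 (ht_irr x hx)
      rw [DFinsupp.mem_support_iff] at hk
      apply hk
      apply Subtype.ext
      exact h0
    · exact h
  have key : ∀ n, ∀ y ∈ 𝒜 n, y ∈ Algebra.adjoin (𝒜 0) (T : Set A) := by
    intro n
    induction n using Nat.strong_induction_on with
    | _ n ih =>
      intro y hy
      rcases Nat.eq_zero_or_pos n with rfl | hn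
      · exact Subalgebra.algebraMap_mem _ (⟨y, hy⟩ : 𝒜 0)
      · have hyirr : y ∈ Ideal.span (t : Set A) := by
          rw [ht]; exact HomogeneousIdeal.mem_irrelevant_of_mem 𝒜 hn hy
        obtain ⟨a, -, hay⟩ := Submodule.mem_span_finset.1 hyirr
        have hy1 : y = ∑ x ∈ t, ∑ k ∈ (DirectSum.decompose 𝒜 x).support,
            a x * (DirectSum.decompose 𝒜 x k : A) := by
          rw [← hay]
          refine Finset.sum_congr rfl fun x _ => ?_
          rw [← Finset.mul_sum, DirectSum.sum_support_decompose 𝒜 x, smul_eq_mul]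
        have hy2 : y = GradedRing.proj 𝒜 n y := by
          rw [GradedRing.proj_apply, DirectSum.decompose_of_mem_same 𝒜 hy]
        rw [hy2, hy1, map_sum]
        refine Subalgebra.sum_mem _ fun x hx => ?_
        rw [map_sum]
        refine Subalgebra.sum_mem _ fun k hk => ?_
        rw [GradedRing.proj_apply]
        by_cases hkn : k ≤ n
        · rw [DirectSum.coe_decompose_mul_of_right_mem_of_le 𝒜 (SetLike.coe_mem _) hkn]
          have hkp := hk_pos x hx k hk
          exact Subalgebra.mul_mem _ (ih (n - k) (by omega) _ (SetLike.coe_mem _))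
            (hTmem x hx k hk)
        · rw [DirectSum.coe_decompose_mul_of_right_mem_of_not_le 𝒜 (SetLike.coe_mem _) hkn]
          exact Subalgebra.zero_mem _
  rw [eq_top_iff]
  intro b _
  rw [← DirectSum.sum_support_decompose 𝒜 b]
  exact Subalgebra.sum_mem _ fun n _ => key n _ (SetLike.coe_mem _)


theorem exists_repr0 (hgen : Algebra.adjoin (𝒜 0) (Set.range f) = ⊤) (x : A) :
    ∃ P : MvPolynomial (Fin s) (𝒜 0),
      x = ∑ e ∈ P.support, ((P.coeff e : 𝒜 0) : A) * mon f (fun i => e i) := by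
  classical
  have hx' : x ∈ (MvPolynomial.aeval f : MvPolynomial (Fin s) (𝒜 0) →ₐ[𝒜 0] A).range := by
    rw [← Algebra.adjoin_range_eq_range_aeval, hgen]; trivial
  obtain ⟨P, hPx⟩ := hx'
  have hPx' : MvPolynomial.aeval f P = x := hPx
  refine ⟨P, ?_⟩
  rw [← hPx']
  conv_lhs => rw [P.as_sum]
  rw [map_sum]
  refine Finset.sum_congr rfl fun e _ => ?_
  rw [MvPolynomial.aeval_monomial]
  refine congrArg₂ (· * ·) rfl ?_
  unfold mon
  exact Finsupp.prod_fintype _ _ (fun i => pow_zero _)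

/-- degree-`N` projection on a graded module, as a linear map -/
noncomputable def projM {M : Type*} [AddCommGroup M] [Module R M] (ℳ : ℕ → Submodule R M)
    [DirectSum.Decomposition ℳ] (N : ℕ) : M →ₗ[R] M :=
  (ℳ N).subtype ∘ₗ DirectSum.component R ℕ (fun i => ℳ i) N ∘ₗ
    (DirectSum.decomposeLinearEquiv ℳ).toLinearMap

theorem projM_apply {M : Type*} [AddCommGroup M] [Module R M] (ℳ : ℕ → Submodule R M)
    [DirectSum.Decomposition ℳ] (N : ℕ) (x : M) :
    projM ℳ N x = ((DirectSum.decompose ℳ x N : ℳ N) : M) := rfl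

end Groth.Agent.Lib.lead.GrMon
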