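import Mathlib

/-! Hilbert 90 for `GL_n` and `SL_n` over a finite Galois extension (cocycle form). -/

namespace Groth.Agent.Lib.H90

open Matrix

universe u

variable {K L : Type u} [Field K] [Field L] [Algebra K L] [FiniteDimensional K L] [IsGalois K L]

/-- entrywise action as a ring hom -/
noncomputable def mp {n : ℕ} (σ : L ≃ₐ[K] L) :
    Matrix (Fin n) (Fin n) L →+* Matrix (Fin n) (Fin n) L :=
  (σ : L →+* L).mapMatrix

lemma mp_apply {n : ℕ} (σ : L ≃ₐ[K] L) (M : Matrix (Fin n) (Fin n) L) :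
    mp σ M = M.map σ := rfl

lemma dedekind (c : (L ≃ₐ[K] L) → L)
    (h : ∀ x : L, ∑ σ : L ≃ₐ[K] L, c σ * σ x = 0) : ∀ σ, c σ = 0 := by
  classical
  have hli : LinearIndependent L
      (fun σ : L ≃ₐ[K] L => ((σ : L →ₐ[K] L).toLinearMap : L →ₗ[K] L)) :=
    (linearIndependent_toLinearMap K L L).comp (fun σ : L ≃ₐ[K] L => (σ : L →ₐ[K] L))
      (fun σ τ hστ => AlgEquiv.ext fun x => DFunLike.congr_fun hστ x)
  have hsum : ∑ σ : L ≃ₐ[K] L, c σ • ((σ : L →ₐ[K] L).toLinearMap : L →ₗ[K] L) = 0 := by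
    apply LinearMap.ext
    intro x
    rw [LinearMap.sum_apply, LinearMap.zero_apply, ← h x]
    refine Finset.sum_congr rfl fun σ _ => ?_
    rw [LinearMap.smul_apply, smul_eq_mul]
    rfl
  exact Fintype.linearIndependent_iff.mp hli c hsum

/-- `b(x) = Σ_σ B σ *ᵥ σ(x)` -/
noncomputable def bvec {n : ℕ} (B : (L ≃ₐ[K] L) → GL (Fin n) L) (x : Fin n → L) : Fin n → L :=
  ∑ σ : L ≃ₐ[K] L, (B σ : Matrix (Fin n) (Fin n) L).mulVec (fun i => σ (x i))

lemma span_bvec {n : ℕ} (B : (L ≃ₐ[K] L) → GL (Fin n) L) :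
    Submodule.span L (Set.range (bvec B)) = ⊤ := by
  classical
  by_contra hne
  obtain ⟨f, hf0, hf⟩ := Submodule.exists_le_ker_of_lt_top _ (lt_top_iff_ne_top.mpr hne)
  apply hf0
  have hfb : ∀ x, f (bvec B x) = 0 := fun x =>
    LinearMap.mem_ker.mp (hf (Submodule.subset_span ⟨x, rfl⟩))
  have key : ∀ (x : Fin n → L) (σ : L ≃ₐ[K] L),
      f ((B σ : Matrix (Fin n) (Fin n) L).mulVec (fun i => σ (x i))) = 0 := by
    intro x
    apply dedekind
    intro h
    have h0 := hfb (h • x)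
    rw [bvec, map_sum] at h0
    refine Eq.trans (Finset.sum_congr rfl fun σ _ => ?_) h0
    have e : (fun i => σ ((h • x) i)) = σ h • (fun i => σ (x i)) := by
      funext i
      simp only [Pi.smul_apply, smul_eq_mul, map_mul]
    rw [e, Matrix.mulVec_smul, map_smul, smul_eq_mul, mul_comm]
  apply LinearMap.ext
  intro y
  have h1 := key ((((B 1)⁻¹ : GL (Fin n) L) : Matrix (Fin n) (Fin n) L).mulVec y) 1
  simp only [AlgEquiv.one_apply] at h1
  rw [Matrix.mulVec_mulVec, Units.mul_inv, Matrix.one_mulVec] at h1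
  rw [LinearMap.zero_apply]
  exact h1

theorem main {n : ℕ} (B : (L ≃ₐ[K] L) → GL (Fin n) L)
    (hB : ∀ σ τ : L ≃ₐ[K] L,
      (B σ : Matrix (Fin n) (Fin n) L) * (B τ : Matrix (Fin n) (Fin n) L).map σ =
        (B (σ * τ) : Matrix (Fin n) (Fin n) L)) :
    ∃ A' : Matrix (Fin n) (Fin n) L, IsUnit A' ∧
      ∀ τ : L ≃ₐ[K] L, (B τ : Matrix (Fin n) (Fin n) L) * A'.map τ = A' := by
  classical
  have hspan := span_bvec B
  obtain ⟨f, hfS, -, hfli⟩ :=
    Submodule.exists_fun_fin_finrank_span_eq L (Set.range (bvec B))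
  have hN : Module.finrank L (Submodule.span L (Set.range (bvec B))) = n := by
    rw [hspan, finrank_top, Module.finrank_fin_fun]
  choose x hx using hfS
  let e : Fin n ≃ Fin (Module.finrank L (Submodule.span L (Set.range (bvec B)))) :=
    finCongr hN.symm
  obtain ⟨C, hC⟩ : ∃ C : Matrix (Fin n) (Fin n) L, C = Matrix.of fun k j => x (e j) k := ⟨_, rfl⟩
  obtain ⟨A', hA'⟩ : ∃ A' : Matrix (Fin n) (Fin n) L,
      A' = ∑ σ : L ≃ₐ[K] L, (B σ : Matrix (Fin n) (Fin n) L) * C.map σ := ⟨_, rfl⟩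
  have hcol : ∀ j, A'.col j = f (e j) := by
    intro j
    rw [← hx (e j)]
    funext i
    simp only [hA', hC, bvec, Matrix.col_apply, Matrix.sum_apply, Finset.sum_apply,
      Matrix.mul_apply, Matrix.mulVec, dotProduct, Matrix.map_apply, Matrix.of_apply]
  refine ⟨A', ?_, ?_⟩
  · rw [← Matrix.linearIndependent_cols_iff_isUnit]
    have hc : A'.col = f ∘ e := funext hcol
    rw [hc]
    exact hfli.comp _ e.injective
  · intro τ
    have hmap : A'.map τ = ∑ σ : L ≃ₐ[K] L,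
        ((B σ : Matrix (Fin n) (Fin n) L).map τ) * C.map (τ * σ) := by
      rw [← mp_apply τ A', hA', map_sum]
      refine Finset.sum_congr rfl fun σ _ => ?_
      rw [map_mul, mp_apply, mp_apply]
      congr 1
    rw [hmap, Finset.mul_sum]
    calc ∑ σ : L ≃ₐ[K] L, (B τ : Matrix (Fin n) (Fin n) L) *
          (((B σ : Matrix (Fin n) (Fin n) L).map τ) * C.map (τ * σ))
        = ∑ σ : L ≃ₐ[K] L, (B (τ * σ) : Matrix (Fin n) (Fin n) L) * C.map (τ * σ) := by
          refine Finset.sum_congr rfl fun σ _ => ?_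
          rw [← mul_assoc, hB]
      _ = ∑ σ : L ≃ₐ[K] L, (B σ : Matrix (Fin n) (Fin n) L) * C.map σ :=
          Equiv.sum_comp (Equiv.mulLeft τ)
            (fun σ => (B σ : Matrix (Fin n) (Fin n) L) * C.map σ)
      _ = A' := hA'.symm

theorem gl {n : ℕ} (B : (L ≃ₐ[K] L) → GL (Fin n) L)
    (hB : ∀ σ τ : L ≃ₐ[K] L,
      (B σ : Matrix (Fin n) (Fin n) L) * (B τ : Matrix (Fin n) (Fin n) L).map σ =
        (B (σ * τ) : Matrix (Fin n) (Fin n) L)) :
    ∃ A : GL (Fin n) L, ∀ σ : L ≃ₐ[K] L,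
      (B σ : Matrix (Fin n) (Fin n) L) =
        ((A⁻¹ : GL (Fin n) L) : Matrix (Fin n) (Fin n) L) *
          (A : Matrix (Fin n) (Fin n) L).map σ := by
  obtain ⟨A', hA', hfix⟩ := main B hB
  refine ⟨hA'.unit⁻¹, fun σ => ?_⟩
  rw [inv_inv, IsUnit.unit_spec]
  have h1 : A'.map σ * ((↑(hA'.unit⁻¹) : Matrix (Fin n) (Fin n) L)).map σ = 1 := by
    rw [← mp_apply σ A', ← mp_apply σ (↑(hA'.unit⁻¹) : Matrix (Fin n) (Fin n) L), ← map_mul,
      hA'.mul_val_inv, map_one]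
  calc (B σ : Matrix (Fin n) (Fin n) L)
      = ↑(B σ) * (A'.map σ * ((↑(hA'.unit⁻¹) : Matrix (Fin n) (Fin n) L)).map σ) := by
        rw [h1, mul_one]
    _ = (↑(B σ) * A'.map σ) * ((↑(hA'.unit⁻¹) : Matrix (Fin n) (Fin n) L)).map σ := by
        rw [mul_assoc]
    _ = A' * ((↑(hA'.unit⁻¹) : Matrix (Fin n) (Fin n) L)).map σ := by rw [hfix]

theorem sl {n : ℕ} (B : (L ≃ₐ[K] L) → GL (Fin n) L)
    (hB : ∀ σ τ : L ≃ₐ[K] L,
      (B σ : Matrix (Fin n) (Fin n) L) * (B τ : Matrix (Fin n) (Fin n) L).map σ =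
        (B (σ * τ) : Matrix (Fin n) (Fin n) L))
    (hdet : ∀ σ : L ≃ₐ[K] L, Matrix.det (B σ : Matrix (Fin n) (Fin n) L) = 1) :
    ∃ A : GL (Fin n) L, Matrix.det (A : Matrix (Fin n) (Fin n) L) = 1 ∧ ∀ σ : L ≃ₐ[K] L,
      (B σ : Matrix (Fin n) (Fin n) L) =
        ((A⁻¹ : GL (Fin n) L) : Matrix (Fin n) (Fin n) L) *
          (A : Matrix (Fin n) (Fin n) L).map σ := by
  classical
  obtain ⟨A, hA⟩ := gl B hB
  obtain ⟨d, hd⟩ : ∃ d : L, d = Matrix.det (A : Matrix (Fin n) (Fin n) L) := ⟨_, rfl⟩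
  have hd0 : d ≠ 0 := by
    have hu : IsUnit d := by
      rw [hd]
      exact (Matrix.isUnit_iff_isUnit_det _).mp A.isUnit
    exact hu.ne_zero
  have hσd : ∀ σ : L ≃ₐ[K] L, σ d = d := by
    intro σ
    have h1 : (A : Matrix (Fin n) (Fin n) L).map σ =
        (A : Matrix (Fin n) (Fin n) L) * (B σ : Matrix (Fin n) (Fin n) L) := by
      rw [hA σ, ← mul_assoc, Units.mul_inv, one_mul]
    have h2 : σ d = Matrix.det ((A : Matrix (Fin n) (Fin n) L).map σ) := by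
      rw [hd, ← mp_apply σ (A : Matrix (Fin n) (Fin n) L)]
      exact (RingHom.map_det (σ : L →+* L) _)
    rw [h2, h1, Matrix.det_mul, hdet, mul_one, hd]
  rcases Nat.eq_zero_or_pos n with hn | hn
  · subst hn
    exact ⟨A, Matrix.det_isEmpty, hA⟩
  · obtain ⟨D, hD⟩ : ∃ D : Matrix (Fin n) (Fin n) L,
        D = Matrix.diagonal (fun i => if i = (⟨0, hn⟩ : Fin n) then d⁻¹ else 1) := ⟨_, rfl⟩
    have hDdet : D.det = d⁻¹ := by
      rw [hD, Matrix.det_diagonal, Finset.prod_ite_eq']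
      simp
    have hDmap : ∀ σ : L ≃ₐ[K] L, D.map σ = D := by
      intro σ
      rw [hD, Matrix.diagonal_map (map_zero σ)]
      congr 1
      funext i
      simp only [apply_ite σ, map_inv₀, hσd σ, map_one]
    have hdetDA : (D * (A : Matrix (Fin n) (Fin n) L)).det = 1 := by
      rw [Matrix.det_mul, hDdet, ← hd, inv_mul_cancel₀ hd0]
    have hDA : IsUnit (D * (A : Matrix (Fin n) (Fin n) L)) := by
      rw [Matrix.isUnit_iff_isUnit_det, hdetDA]
      exact isUnit_one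
    refine ⟨hDA.unit, ?_, fun σ => ?_⟩
    · rw [IsUnit.unit_spec, hdetDA]
    · rw [IsUnit.unit_spec, hA σ]
      have h3 : (↑(hDA.unit⁻¹) : Matrix (Fin n) (Fin n) L) * D = ↑(A⁻¹) := by
        have h4 : (↑(hDA.unit⁻¹) : Matrix (Fin n) (Fin n) L) *
            (D * (A : Matrix (Fin n) (Fin n) L)) = 1 := hDA.val_inv_mul
        calc (↑(hDA.unit⁻¹) : Matrix (Fin n) (Fin n) L) * D
            = ((↑(hDA.unit⁻¹) : Matrix (Fin n) (Fin n) L) * D) *
                ((A : Matrix (Fin n) (Fin n) L) * (↑(A⁻¹) : Matrix (Fin n) (Fin n) L)) := by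
              rw [Units.mul_inv, mul_one]
          _ = ((↑(hDA.unit⁻¹) : Matrix (Fin n) (Fin n) L) *
                (D * (A : Matrix (Fin n) (Fin n) L))) * (↑(A⁻¹) : Matrix (Fin n) (Fin n) L) := by
              simp only [mul_assoc]
          _ = (↑(A⁻¹) : Matrix (Fin n) (Fin n) L) := by rw [h4, one_mul]
      rw [← mp_apply σ (D * (A : Matrix (Fin n) (Fin n) L)), map_mul, mp_apply, mp_apply, hDmap,
        ← mul_assoc, h3]

end Groth.Agent.Lib.H90
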