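import Mathlib
import Groth.Prelude.Def_GrSyz

set_option autoImplicit false
universe u

namespace Groth.Agent.LeadHilb
open MvPolynomial

section PartA
variable (k : Type u) [Field k] (r : ℕ)

theorem weight_one (d : Fin (r + 1) →₀ ℕ) :
    Finsupp.weight (fun _ : Fin (r + 1) => (1 : ℤ)) d = ((∑ i, d i : ℕ) : ℤ) := by
  rw [Finsupp.weight_apply, Finsupp.sum_fintype _ _ (fun i => by simp)]
  simp

theorem stdGr_eq (n : ℤ) : GrSyz.stdGr k (Fin (r + 1)) n =
    AddMonoidAlgebra.supported k k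
      {d : Fin (r + 1) →₀ ℕ | Finsupp.weight (fun _ : Fin (r + 1) => (1 : ℤ)) d = n} :=
  weightedHomogeneousSubmodule_eq_finsupp_supported k _ n

theorem set_nonneg (N : ℕ) :
    {d : Fin (r + 1) →₀ ℕ | Finsupp.weight (fun _ : Fin (r + 1) => (1 : ℤ)) d = (N : ℤ)} =
      ↑(Finset.finsuppAntidiag (Finset.univ : Finset (Fin (r + 1))) N) := by
  ext d
  simp only [Set.mem_setOf_eq, Finset.mem_coe, Finset.mem_finsuppAntidiag, Finset.subset_univ,
    and_true, weight_one]
  constructor <;> intro h <;> exact_mod_cast h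

theorem set_neg (n : ℤ) (hn : n < 0) :
    {d : Fin (r + 1) →₀ ℕ | Finsupp.weight (fun _ : Fin (r + 1) => (1 : ℤ)) d = n} = ∅ := by
  ext d
  simp only [Set.mem_setOf_eq, Set.mem_empty_iff_false, iff_false, weight_one]
  omega

theorem finrank_stdGr_card (n : ℤ) : Module.finrank k (GrSyz.stdGr k (Fin (r + 1)) n) =
    Nat.card {d : Fin (r + 1) →₀ ℕ | Finsupp.weight (fun _ : Fin (r + 1) => (1 : ℤ)) d = n} := by
  rw [stdGr_eq]
  exact Module.finrank_eq_nat_card_basis (basisRestrictSupport k _)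

theorem finrank_stdGr (n : ℤ) : Module.finrank k (GrSyz.stdGr k (Fin (r + 1)) n) =
    if 0 ≤ n then Nat.choose (r + n.toNat) r else 0 := by
  classical
  rw [finrank_stdGr_card]
  split_ifs with hn
  · obtain ⟨N, rfl⟩ := Int.eq_ofNat_of_zero_le hn
    rw [set_nonneg, Nat.card_coe_set_eq, Set.ncard_coe_finset,
      Finset.card_finsuppAntidiag_nat_eq_choose, Finset.card_univ, Fintype.card_fin,
      Int.toNat_natCast]
    rw [show r + 1 + N - 1 = r + N by omega, Nat.choose_symm_add]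
  · rw [set_neg r n (by omega)]
    simp

theorem finite_stdGr (n : ℤ) : Module.Finite k (GrSyz.stdGr k (Fin (r + 1)) n) := by
  rw [stdGr_eq]
  have hfin : Finite ↑{d : Fin (r + 1) →₀ ℕ |
      Finsupp.weight (fun _ : Fin (r + 1) => (1 : ℤ)) d = n} := by
    rcases lt_or_ge n 0 with hn | hn
    · rw [set_neg r n hn]; infer_instance
    · obtain ⟨N, rfl⟩ := Int.eq_ofNat_of_zero_le hn
      rw [set_nonneg]; exact (Finset.finite_toSet _).to_subtype
  exact Module.Finite.of_basis (basisRestrictSupport k _)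

end PartA

section PartB
variable (k : Type u) [Field k] (r : ℕ)

theorem proj_mem (n : ℤ) (x : MvPolynomial (Fin (r + 1)) k) :
    GradedRing.proj (GrSyz.stdGr k (Fin (r + 1))) n x ∈ GrSyz.stdGr k (Fin (r + 1)) n := by
  rw [GradedRing.proj_apply]; exact SetLike.coe_mem _

theorem proj_of_mem {n : ℤ} {x : MvPolynomial (Fin (r + 1)) k}
    (hx : x ∈ GrSyz.stdGr k (Fin (r + 1)) n) :
    GradedRing.proj (GrSyz.stdGr k (Fin (r + 1))) n x = x := by
  rw [GradedRing.proj_apply]; exact DirectSum.decompose_of_mem_same _ hx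

theorem proj_mul_left {i j : ℤ} {a : MvPolynomial (Fin (r + 1)) k}
    (ha : a ∈ GrSyz.stdGr k (Fin (r + 1)) i) (b : MvPolynomial (Fin (r + 1)) k) (n : ℤ)
    (hn : n = i + j) :
    GradedRing.proj (GrSyz.stdGr k (Fin (r + 1))) n (a * b) =
      a * GradedRing.proj (GrSyz.stdGr k (Fin (r + 1))) j b := by
  subst hn
  rw [GradedRing.proj_apply, GradedRing.proj_apply]
  exact DirectSum.coe_decompose_mul_add_of_left_mem _ ha

theorem proj_mulVec {n m : ℕ} (α : Fin n → ℤ) (β : Fin m → ℤ)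
    (D : Matrix (Fin n) (Fin m) (MvPolynomial (Fin (r + 1)) k))
    (hD : ∀ a b, D a b ∈ GrSyz.stdGr k (Fin (r + 1)) (β b - α a))
    (d : ℤ) (w : Fin m → MvPolynomial (Fin (r + 1)) k) (a : Fin n) :
    (D.mulVec (fun b => GradedRing.proj (GrSyz.stdGr k (Fin (r + 1))) (d - β b) (w b))) a =
      GradedRing.proj (GrSyz.stdGr k (Fin (r + 1))) (d - α a) (D.mulVec w a) := by
  simp only [Matrix.mulVec, dotProduct]
  rw [map_sum]
  refine Finset.sum_congr rfl fun b _ => ?_
  exact (proj_mul_left k r (hD a b) (w b) (d - α a) (by ring)).symm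

variable {M : Type u} [AddCommGroup M] [Module k M] [Module (MvPolynomial (Fin (r + 1)) k) M]
    [IsScalarTower k (MvPolynomial (Fin (r + 1)) k) M]
    (ℳ : ℤ → Submodule k M) [DirectSum.Decomposition ℳ]
    [SetLike.GradedSMul (GrSyz.stdGr k (Fin (r + 1))) ℳ]

/-- the degree-`n` component of a graded module, as a linear map -/
noncomputable def prM (n : ℤ) : M →ₗ[k] M :=
  (ℳ n).subtype ∘ₗ (DirectSum.component k ℤ (fun i => ↥(ℳ i)) n) ∘ₗ
    (DirectSum.decomposeLinearEquiv ℳ).toLinearMap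

theorem prM_apply (n : ℤ) (y : M) : prM k ℳ n y = ((DirectSum.decompose ℳ y) n : M) := rfl

include r in
theorem prM_smul {j : ℤ} {y : M} (hy : y ∈ ℳ j) (a : MvPolynomial (Fin (r + 1)) k) (n : ℤ) :
    prM k ℳ n (a • y) = (GradedRing.proj (GrSyz.stdGr k (Fin (r + 1))) (n - j) a) • y := by
  classical
  have ha := DirectSum.sum_support_decompose (GrSyz.stdGr k (Fin (r + 1))) a
  conv_lhs => rw [← ha, Finset.sum_smul, map_sum]
  rw [Finset.sum_eq_single (n - j)]
  · rw [prM_apply, GradedRing.proj_apply]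
    have hmem : ((DirectSum.decompose (GrSyz.stdGr k (Fin (r + 1))) a (n - j) :
        MvPolynomial (Fin (r + 1)) k)) • y ∈ ℳ n := by
      have h := SetLike.GradedSMul.smul_mem (A := GrSyz.stdGr k (Fin (r + 1))) (B := ℳ)
        (SetLike.coe_mem (DirectSum.decompose (GrSyz.stdGr k (Fin (r + 1))) a (n - j))) hy
      simpa [vadd_eq_add] using h
    exact DirectSum.decompose_of_mem_same ℳ hmem
  · intro i _ hi
    rw [prM_apply]
    have hmem : ((DirectSum.decompose (GrSyz.stdGr k (Fin (r + 1))) a i :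
        MvPolynomial (Fin (r + 1)) k)) • y ∈ ℳ (i + j) :=
      SetLike.GradedSMul.smul_mem (A := GrSyz.stdGr k (Fin (r + 1))) (B := ℳ)
        (SetLike.coe_mem _) hy
    exact DirectSum.decompose_of_mem_ne ℳ hmem (by intro h; apply hi; omega)
  · intro hns
    have h0 : (DirectSum.decompose (GrSyz.stdGr k (Fin (r + 1))) a (n - j) :
        MvPolynomial (Fin (r + 1)) k) = 0 := by
      rw [DFinsupp.notMem_support_iff.mp hns]; rfl
    rw [h0, zero_smul, map_zero]

end PartB

section PartC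
variable {k : Type u} [Field k] {r : ℕ}
    {M : Type u} [AddCommGroup M] [Module k M] [Module (MvPolynomial (Fin (r + 1)) k) M]
    [IsScalarTower k (MvPolynomial (Fin (r + 1)) k) M]
    {ℳ : ℤ → Submodule k M} [DirectSum.Decomposition ℳ]
    [SetLike.GradedSMul (GrSyz.stdGr k (Fin (r + 1))) ℳ]
    (F : GrSyz.FreeRes (GrSyz.stdGr k (Fin (r + 1))) ℳ) (d : ℤ)

/-- the degree-`d` piece of the `i`-th term of the resolution -/
abbrev Pc (i : ℕ) : Type u :=
  (b : Fin (F.rk i)) → ↥(GrSyz.stdGr k (Fin (r + 1)) (d - F.deg i b))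

noncomputable def ιc (i : ℕ) :
    Pc F d i →ₗ[k] (Fin (F.rk i) → MvPolynomial (Fin (r + 1)) k) :=
  LinearMap.pi fun b => (GrSyz.stdGr k (Fin (r + 1)) (d - F.deg i b)).subtype ∘ₗ LinearMap.proj b

theorem ιc_apply (i : ℕ) (v : Pc F d i) (b : Fin (F.rk i)) :
    ιc F d i v b = (v b : MvPolynomial (Fin (r + 1)) k) := rfl

theorem ιc_injective (i : ℕ) : Function.Injective (ιc F d i) := by
  intro v w h
  funext b
  exact Subtype.ext (congrFun h b)

theorem memD (i : ℕ) (v : Pc F d (i + 1)) (a : Fin (F.rk i)) :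
    (F.dLin i (ιc F d (i + 1) v)) a ∈ GrSyz.stdGr k (Fin (r + 1)) (d - F.deg i a) := by
  rw [Matrix.mulVecLin_apply]
  simp only [Matrix.mulVec, dotProduct, ιc_apply]
  refine Submodule.sum_mem _ fun b _ => ?_
  have h := SetLike.mul_mem_graded (F.d_mem i a b) (v b).2
  rwa [show F.deg (i + 1) b - F.deg i a + (d - F.deg (i + 1) b) = d - F.deg i a by ring] at h

noncomputable def δc (i : ℕ) : Pc F d (i + 1) →ₗ[k] Pc F d i :=
  LinearMap.pi fun a => LinearMap.codRestrict (GrSyz.stdGr k (Fin (r + 1)) (d - F.deg i a))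
    (LinearMap.proj a ∘ₗ (F.dLin i).restrictScalars k ∘ₗ ιc F d (i + 1))
    (fun v => memD F d i v a)

theorem ι_δ (i : ℕ) (v : Pc F d (i + 1)) :
    ιc F d i (δc F d i v) = F.dLin i (ιc F d (i + 1) v) := rfl

theorem memAug (v : Pc F d 0) : F.augLin (ιc F d 0 v) ∈ ℳ d := by
  rw [Fintype.linearCombination_apply]
  refine Submodule.sum_mem _ fun b _ => ?_
  have h := SetLike.GradedSMul.smul_mem (A := GrSyz.stdGr k (Fin (r + 1))) (B := ℳ)
    (v b).2 (F.aug_mem b)
  simpa [vadd_eq_add, ιc_apply] using h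

noncomputable def εc : Pc F d 0 →ₗ[k] ↥(ℳ d) :=
  LinearMap.codRestrict (ℳ d) (F.augLin.restrictScalars k ∘ₗ ιc F d 0) (fun v => memAug F d v)

theorem εc_apply (v : Pc F d 0) : (εc F d v : M) = F.augLin (ιc F d 0 v) := rfl

/-- project a vector to the degree-`d` piece -/
noncomputable def liftc (j : ℕ) (w : Fin (F.rk j) → MvPolynomial (Fin (r + 1)) k) : Pc F d j :=
  fun b => ⟨GradedRing.proj (GrSyz.stdGr k (Fin (r + 1))) (d - F.deg j b) (w b),
    proj_mem k r _ _⟩

theorem ker_δ (i : ℕ) : LinearMap.ker (δc F d i) = LinearMap.range (δc F d (i + 1)) := by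
  apply le_antisymm
  · intro v hv
    rw [LinearMap.mem_ker] at hv
    have h1 : F.dLin i (ιc F d (i + 1) v) = 0 := by rw [← ι_δ, hv, map_zero]
    have h2 : ιc F d (i + 1) v ∈ LinearMap.range (F.dLin (i + 1)) := by
      rw [← F.exact_succ i]; exact h1
    obtain ⟨w, hw⟩ := h2
    refine ⟨liftc F d (i + 2) w, ?_⟩
    apply ιc_injective F d (i + 1)
    rw [ι_δ]
    funext a
    have h3 := proj_mulVec k r (F.deg (i + 1)) (F.deg (i + 2)) (F.d (i + 1)) (F.d_mem (i + 1))
      d w a
    calc F.dLin (i + 1) (ιc F d (i + 2) (liftc F d (i + 2) w)) a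
        = GradedRing.proj (GrSyz.stdGr k (Fin (r + 1))) (d - F.deg (i + 1) a)
            ((F.d (i + 1)).mulVec w a) := h3
      _ = GradedRing.proj (GrSyz.stdGr k (Fin (r + 1))) (d - F.deg (i + 1) a)
            (ιc F d (i + 1) v a) := by rw [← hw]; rfl
      _ = ιc F d (i + 1) v a := proj_of_mem k r (v a).2
  · rintro v ⟨u, rfl⟩
    rw [LinearMap.mem_ker]
    apply ιc_injective F d i
    rw [ι_δ, ι_δ, map_zero]
    have h : F.dLin (i + 1) (ιc F d (i + 2) u) ∈ LinearMap.ker (F.dLin i) := by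
      rw [F.exact_succ i]; exact ⟨_, rfl⟩
    exact h

theorem range_ε : LinearMap.range (εc F d) = ⊤ := by
  rw [LinearMap.range_eq_top]
  rintro ⟨y, hy⟩
  obtain ⟨w, hw⟩ := F.aug_surjective y
  refine ⟨liftc F d 0 w, ?_⟩
  apply Subtype.ext
  rw [εc_apply, Fintype.linearCombination_apply]
  show ∑ b, (GradedRing.proj (GrSyz.stdGr k (Fin (r + 1))) (d - F.deg 0 b) (w b)) • F.aug b = y
  have h1 : ∀ b, (GradedRing.proj (GrSyz.stdGr k (Fin (r + 1))) (d - F.deg 0 b) (w b)) • F.aug b
      = prM k ℳ d (w b • F.aug b) := fun b => (prM_smul k r ℳ (F.aug_mem b) (w b) d).symm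
  rw [Finset.sum_congr rfl (fun b _ => h1 b), ← map_sum, ← Fintype.linearCombination_apply, hw,
    prM_apply]
  exact DirectSum.decompose_of_mem_same ℳ hy

theorem ker_ε : LinearMap.ker (εc F d) = LinearMap.range (δc F d 0) := by
  apply le_antisymm
  · intro v hv
    rw [LinearMap.mem_ker] at hv
    have h1 : F.augLin (ιc F d 0 v) = 0 := by
      have h := congrArg Subtype.val hv
      simpa [εc_apply] using h
    have h2 : ιc F d 0 v ∈ LinearMap.range (F.dLin 0) := by
      rw [← F.exact_zero]; exact h1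
    obtain ⟨w, hw⟩ := h2
    refine ⟨liftc F d (0 + 1) w, ?_⟩
    apply ιc_injective F d 0
    rw [ι_δ]
    funext a
    have h3 := proj_mulVec k r (F.deg 0) (F.deg (0 + 1)) (F.d 0) (F.d_mem 0) d w a
    calc F.dLin 0 (ιc F d (0 + 1) (liftc F d (0 + 1) w)) a
        = GradedRing.proj (GrSyz.stdGr k (Fin (r + 1))) (d - F.deg 0 a)
            ((F.d 0).mulVec w a) := h3
      _ = GradedRing.proj (GrSyz.stdGr k (Fin (r + 1))) (d - F.deg 0 a)
            (ιc F d 0 v a) := by rw [← hw]; rfl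
      _ = ιc F d 0 v a := proj_of_mem k r (v a).2
  · rintro v ⟨u, rfl⟩
    rw [LinearMap.mem_ker]
    apply Subtype.ext
    rw [εc_apply, ι_δ]
    have h : F.dLin 0 (ιc F d (0 + 1) u) ∈ LinearMap.ker F.augLin := by
      rw [F.exact_zero]; exact ⟨_, rfl⟩
    exact h

theorem hilbert_formula (m : ℕ) (hF : F.HasLengthLE m) :
    (Module.finrank k ↥(ℳ d) : ℤ) =
      ∑ i ∈ Finset.range (m + 1), (-1 : ℤ) ^ i * ∑ b : Fin (F.rk i),
        (if F.deg i b ≤ d then ((Nat.choose (r + (d - F.deg i b).toNat) r : ℕ) : ℤ) else 0) := by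
  haveI : ∀ n : ℤ, Module.Finite k ↥(GrSyz.stdGr k (Fin (r + 1)) n) := finite_stdGr k r
  have hg : ∀ i, (Module.finrank k (Pc F d i) : ℤ) = ∑ b : Fin (F.rk i),
      (if F.deg i b ≤ d then ((Nat.choose (r + (d - F.deg i b).toNat) r : ℕ) : ℤ) else 0) := by
    intro i
    rw [Module.finrank_pi_fintype, Nat.cast_sum]
    refine Finset.sum_congr rfl fun b _ => ?_
    rw [finrank_stdGr]
    by_cases h : F.deg i b ≤ d
    · rw [if_pos h, if_pos (show 0 ≤ d - F.deg i b by omega)]
    · rw [if_neg h, if_neg (show ¬ 0 ≤ d - F.deg i b by omega)]; simp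
  have R0 : Module.finrank k (Pc F d 0) =
      Module.finrank k ↥(ℳ d) + Module.finrank k (LinearMap.range (δc F d 0)) := by
    have h := LinearMap.finrank_range_add_finrank_ker (εc F d)
    rw [range_ε, finrank_top, ker_ε] at h
    exact h.symm
  have R1 : ∀ i, Module.finrank k (Pc F d (i + 1)) =
      Module.finrank k (LinearMap.range (δc F d i)) +
        Module.finrank k (LinearMap.range (δc F d (i + 1))) := by
    intro i
    have h := LinearMap.finrank_range_add_finrank_ker (δc F d i)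
    rw [ker_δ] at h
    exact h.symm
  have R2 : Module.finrank k (LinearMap.range (δc F d m)) = 0 := by
    have h0 : Module.finrank k (Pc F d (m + 1)) = 0 := by
      have hrk : F.rk (m + 1) = 0 := hF (m + 1) (Nat.lt_succ_self m)
      haveI : IsEmpty (Fin (F.rk (m + 1))) := by rw [hrk]; infer_instance
      exact Module.finrank_zero_of_subsingleton
    have h1 := R1 m
    omega
  have key : ∀ n, ∑ i ∈ Finset.range (n + 1), (-1 : ℤ) ^ i * (Module.finrank k (Pc F d i) : ℤ) =
      (Module.finrank k ↥(ℳ d) : ℤ) +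
        (-1) ^ n * (Module.finrank k (LinearMap.range (δc F d n)) : ℤ) := by
    intro n
    induction n with
    | zero => simp [R0]
    | succ n ih =>
      rw [Finset.sum_range_succ, ih, R1 n]
      push_cast
      ring
  have h1 := key m
  rw [R2, Nat.cast_zero, mul_zero, add_zero] at h1
  rw [← h1]
  exact Finset.sum_congr rfl fun i _ => by rw [hg i]

end PartC

end Groth.Agent.LeadHilb
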