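import Mathlib
import Groth.Agent.Lib.lead.Hilb

set_option autoImplicit false
universe u

namespace Groth.Agent.LeadHilb
open MvPolynomial

theorem irrel_le_ker (k : Type u) [Field k] (σ : Type*) :
    (GrSyz.irrel (GrSyz.stdGr k σ)).toIdeal ≤
      RingHom.ker (MvPolynomial.constantCoeff (R := k) (σ := σ)) := by
  show Ideal.span {r | ∃ n : ℤ, 0 < n ∧ r ∈ GrSyz.stdGr k σ n} ≤ _
  rw [Ideal.span_le]
  rintro x ⟨n, hn, hx⟩
  rw [SetLike.mem_coe, RingHom.mem_ker, MvPolynomial.constantCoeff_eq]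
  by_contra hne
  have h1 : Finsupp.weight (fun _ : σ => (1 : ℤ)) (0 : σ →₀ ℕ) = n := hx hne
  rw [map_zero] at h1
  omega

theorem eq_zero_of_le (k : Type u) [Field k] (r : ℕ) {n : ℤ} (hn : n ≤ 0)
    {x : MvPolynomial (Fin (r + 1)) k} (hx : x ∈ GrSyz.stdGr k (Fin (r + 1)) n)
    (h0 : MvPolynomial.constantCoeff x = 0) : x = 0 := by
  ext d
  rw [MvPolynomial.coeff_zero]
  by_contra hne
  have hw : Finsupp.weight (fun _ : Fin (r + 1) => (1 : ℤ)) d = n := hx hne
  rw [weight_one] at hw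
  have hd : d = 0 := by
    ext i
    have h2 : d i ≤ ∑ i, d i :=
      Finset.single_le_sum (f := fun i => d i) (fun _ _ => Nat.zero_le _) (Finset.mem_univ i)
    simp only [Finsupp.coe_zero, Pi.zero_apply]
    omega
  subst hd
  have h3 : MvPolynomial.coeff 0 x = 0 := by rw [← MvPolynomial.constantCoeff_eq]; exact h0
  exact hne h3

end Groth.Agent.LeadHilb
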