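import Mathlib
import Groth.Agent.Lib.lead.Hyp2

/-! `k` is algebraically closed in `k(x, y)`, `y² = f(x)` squarefree (S11019). -/

namespace Groth.Agent.Lib.lead.Hyp3
open FunFld Groth.Agent.Lib.lead.FF Groth.Agent.Lib.lead.FF2 Groth.Agent.Lib.lead.FF3
  Groth.Agent.Lib.lead.FF4
  Groth.Agent.Lib.lead.FF5 Groth.Agent.Lib.lead.FF6 Groth.Agent.Lib.lead.FF7
  Groth.Agent.Lib.lead.FF8 Groth.Agent.Lib.lead.Loc Groth.Agent.Lib.lead.NS
  Groth.Agent.Lib.lead.Ext Groth.Agent.Lib.lead.Ext3 Groth.Agent.Lib.lead.Hyp
  Groth.Agent.Lib.lead.Hyp2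

section nosq
variable {k : Type*} [Field k]

lemma no_sq {f : Polynomial k} (hf : Squarefree f) (hd : 1 ≤ f.natDegree) (w : RatFunc k) (c : k)
    (hc : c ≠ 0)
    (h : w ^ 2 * algebraMap (Polynomial k) (RatFunc k) f = algebraMap k (RatFunc k) c) : False := by
  have hR : IsFunctionField k (RatFunc k) := isFunctionField_ratFunc
  have hf0 : f ≠ 0 := hf.ne_zero
  have hw0 : w ≠ 0 := by
    rintro rfl
    rw [zero_pow two_ne_zero, zero_mul] at h
    exact hc ((map_eq_zero _).1 h.symm)
  have hnu : ¬ IsUnit f := by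
    intro hu
    have := Polynomial.natDegree_eq_zero_of_isUnit hu
    omega
  obtain ⟨p, hp, hpf⟩ := WfDvdMonoid.exists_irreducible_factor hnu hf0
  have hpnot : algebraMap (Polynomial k) (RatFunc k) p ∉ Set.range (algebraMap k (RatFunc k)) := by
    rintro ⟨c, hc⟩
    rw [RatFunc.algebraMap_eq_C, ← RatFunc.algebraMap_C] at hc
    have hpc : Polynomial.C c = p := (RatFunc.algebraMap_injective k) hc
    rcases eq_or_ne c 0 with rfl | hc0
    · rw [map_zero] at hpc
      exact hp.ne_zero hpc.symm
    · exact hp.not_isUnit (hpc ▸ Polynomial.isUnit_C.2 (isUnit_iff_ne_zero.2 hc0))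
  obtain ⟨P₀, hP₀⟩ := (exists_zero_and_pole hR hpnot).1
  have hfinite : P₀.1 RatFunc.X ≤ 1 := by
    by_contra hlt
    rw [not_le] at hlt
    rw [val_poly_pole P₀ hlt hp.ne_zero] at hP₀
    exact absurd hP₀ (not_lt.2 (one_le_pow₀ hlt.le))
  have hvf := val_squarefree P₀ hfinite hf hp hpf hP₀
  have h1 := congrArg P₀.1 h
  rw [map_mul, map_pow, hvf, val_algebraMap P₀ hc, val_eq_exp P₀ hw0, ← WithZero.exp_nsmul,
    ← WithZero.exp_add, ← WithZero.exp_zero, WithZero.exp_inj] at h1
  simp only [smul_neg, nsmul_eq_mul, Nat.cast_ofNat] at h1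
  omega

end nosq

section main
variable {k K : Type*} [Field k] [Field K] [Algebra k K]

set_option maxHeartbeats 1600000 in
theorem s11019 (h2 : ringChar k ≠ 2) (x y : K) (hx : Transcendental k x)
    (hxy : IntermediateField.adjoin k ({x, y} : Set K) = ⊤)
    (f : Polynomial k) (hf : Squarefree f) (hd : 1 ≤ f.natDegree)
    (heq : y ^ 2 = Polynomial.aeval x f) : IsFunctionField k K := by
  classical
  have hinj : Function.Injective (Polynomial.aeval x : Polynomial k →ₐ[k] K) :=
    transcendental_iff_injective.1 hx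
  let Φ : RatFunc k →ₐ[k] K := RatFunc.liftAlgHom (Polynomial.aeval x)
    (nonZeroDivisors_le_comap_nonZeroDivisors_of_injective _ hinj)
  letI algR : Algebra (RatFunc k) K := Φ.toRingHom.toAlgebra
  haveI tow : IsScalarTower k (RatFunc k) K :=
    IsScalarTower.of_algebraMap_eq (fun c => (Φ.commutes c).symm)
  have hΦp : ∀ q : Polynomial k, algebraMap (RatFunc k) K (algebraMap (Polynomial k) (RatFunc k) q) =
      Polynomial.aeval x q := by
    intro q
    show Φ (algebraMap (Polynomial k) (RatFunc k) q) = _
    have h := RatFunc.liftAlgHom_apply_div (Polynomial.aeval x : Polynomial k →ₐ[k] K)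
      (nonZeroDivisors_le_comap_nonZeroDivisors_of_injective _ hinj) q 1
    rw [map_one, map_one, div_one, div_one] at h
    exact h
  have hΦX : algebraMap (RatFunc k) K RatFunc.X = x := by
    rw [← RatFunc.algebraMap_X, hΦp, Polynomial.aeval_X]
  have heq' : y ^ 2 = algebraMap (RatFunc k) K (algebraMap (Polynomial k) (RatFunc k) f) := by
    rw [hΦp]; exact heq
  have hynot : y ∉ Set.range (algebraMap (RatFunc k) K) := not_mem_range hf hd heq'
  -- `K = k(x)(y)` over `RatFunc k`
  have htopR : IntermediateField.adjoin (RatFunc k) ({y} : Set K) = ⊤ := by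
    rw [← IntermediateField.restrictScalars_eq_top_iff (K := k), eq_top_iff, ← hxy,
      IntermediateField.adjoin_le_iff]
    rintro z (rfl | rfl)
    · show z ∈ IntermediateField.adjoin (RatFunc k) ({y} : Set K)
      rw [← hΦX]
      exact IntermediateField.algebraMap_mem _ _
    · exact IntermediateField.mem_adjoin_simple_self _ _
  have hyint : IsIntegral (RatFunc k) y := by
    refine ⟨Polynomial.X ^ 2 - Polynomial.C (algebraMap (Polynomial k) (RatFunc k) f),
      Polynomial.monic_X_pow_sub_C _ two_ne_zero, ?_⟩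
    rw [Polynomial.eval₂_sub, Polynomial.eval₂_pow, Polynomial.eval₂_X, Polynomial.eval₂_C, heq',
      sub_self]
  have hdvd : minpoly (RatFunc k) y ∣
      (Polynomial.X ^ 2 - Polynomial.C (algebraMap (Polynomial k) (RatFunc k) f)) := by
    apply minpoly.dvd
    rw [map_sub, map_pow, Polynomial.aeval_X, Polynomial.aeval_C, heq', sub_self]
  have hle2 : (minpoly (RatFunc k) y).natDegree ≤ 2 := by
    have h1 := Polynomial.natDegree_le_of_dvd hdvd
      (Polynomial.monic_X_pow_sub_C _ two_ne_zero).ne_zero
    rwa [Polynomial.natDegree_X_pow_sub_C] at h1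
  have hge2 : 2 ≤ (minpoly (RatFunc k) y).natDegree :=
    (minpoly.two_le_natDegree_iff hyint).2 (by
      intro hmem
      exact hynot (by simpa using hmem))
  have hdeg : Module.finrank (RatFunc k) K = 2 := by
    have h1 := IntermediateField.adjoin.finrank hyint
    rw [htopR, IntermediateField.finrank_top'] at h1
    omega
  haveI : FiniteDimensional (RatFunc k) K :=
    Module.finite_of_finrank_pos (by rw [hdeg]; norm_num)
  have hR : IsFunctionField k (RatFunc k) := isFunctionField_ratFunc
  refine ⟨⟨x, hx, ?_⟩, ?_⟩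
  · -- finite over `k(x)`
    have hfx : Polynomial.aeval x f ∈ IntermediateField.adjoin k ({x} : Set K) :=
      IntermediateField.algebra_adjoin_le_adjoin k _ (Polynomial.aeval_mem_adjoin_singleton k x)
    have hyint' : IsIntegral (IntermediateField.adjoin k ({x} : Set K)) y := by
      refine ⟨Polynomial.X ^ 2 - Polynomial.C ⟨Polynomial.aeval x f, hfx⟩,
        Polynomial.monic_X_pow_sub_C _ two_ne_zero, ?_⟩
      rw [Polynomial.eval₂_sub, Polynomial.eval₂_pow, Polynomial.eval₂_X, Polynomial.eval₂_C, heq]
      exact sub_self _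
    haveI := IntermediateField.adjoin.finiteDimensional hyint'
    have htop' : IntermediateField.adjoin (IntermediateField.adjoin k ({x} : Set K))
        ({y} : Set K) = ⊤ := by
      rw [← IntermediateField.restrictScalars_eq_top_iff (K := k),
        IntermediateField.adjoin_adjoin_left, Set.union_singleton, Set.pair_comm]
      exact hxy
    rw [htop'] at this
    exact Module.Finite.equiv (IntermediateField.topEquiv
      (F := IntermediateField.adjoin k ({x} : Set K)) (E := K)).toLinearEquiv
  · -- constants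
    intro z hz
    obtain ⟨σ, hσ⟩ := exists_conj hdeg hynot heq'
    have h2R : (2 : RatFunc k) ≠ 0 := by
      have hk : (2 : k) ≠ 0 := Ring.two_ne_zero h2
      rw [← map_ofNat (algebraMap k (RatFunc k)) 2]
      exact (map_ne_zero _).2 hk
    have hli : LinearIndependent (RatFunc k) ![(1:K), y] := by
      rw [LinearIndependent.pair_iff]
      intro s t hst
      by_cases ht : t = 0
      · subst ht
        rw [zero_smul, add_zero, Algebra.smul_def, mul_one] at hst
        exact ⟨(map_eq_zero _).1 hst, rfl⟩
      · exfalso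
        apply hynot
        refine ⟨-s / t, ?_⟩
        have h3 : t • y = -(s • (1:K)) := by
          rw [eq_neg_iff_add_eq_zero, add_comm]; exact hst
        rw [Algebra.smul_def, Algebra.smul_def, mul_one] at h3
        rw [map_div₀, map_neg, ← h3, mul_div_cancel_left₀]
        exact (map_ne_zero _).2 ht
    have hspan : Submodule.span (RatFunc k) (Set.range ![(1:K), y]) = ⊤ :=
      hli.span_eq_top_of_card_eq_finrank' (by rw [hdeg]; simp)
    have hrange : Set.range ![(1:K), y] = {1, y} := by
      ext w
      constructor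
      · rintro ⟨i, rfl⟩
        fin_cases i <;> simp
      · rintro (rfl | rfl)
        · exact ⟨0, rfl⟩
        · exact ⟨1, rfl⟩
    have hmem : z ∈ Submodule.span (RatFunc k) ({1, y} : Set K) := by
      rw [← hrange, hspan]; trivial
    obtain ⟨a, b, hab⟩ := Submodule.mem_span_pair.1 hmem
    have hz' : z = algebraMap (RatFunc k) K a + algebraMap (RatFunc k) K b * y := by
      rw [← hab, Algebra.smul_def, Algebra.smul_def, mul_one]
    have hσz : σ z = algebraMap (RatFunc k) K a - algebraMap (RatFunc k) K b * y := by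
      rw [hz', map_add, map_mul, AlgEquiv.commutes, AlgEquiv.commutes, hσ]; ring
    have hσalg : IsAlgebraic k (σ z) :=
      hz.algHom ((σ : K →ₐ[RatFunc k] K).restrictScalars k)
    -- trace
    have htr : IsAlgebraic k (algebraMap (RatFunc k) K (2 * a)) := by
      have h5 : algebraMap (RatFunc k) K (2 * a) = z + σ z := by
        rw [hσz, hz', map_mul, map_ofNat]; ring
      rw [h5]
      exact hz.add hσalg
    have htr' : IsAlgebraic k (2 * a) :=
      (isAlgebraic_algebraMap_iff (algebraMap (RatFunc k) K).injective).1 htr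
    obtain ⟨a₁, ha₁⟩ := hR.2 _ htr'
    have ha : a = algebraMap k (RatFunc k) (a₁ / 2) := by
      have hk2 : (2 : k) ≠ 0 := Ring.two_ne_zero h2
      rw [map_div₀, ha₁, map_ofNat, mul_div_cancel_left₀ _ h2R]
    -- norm
    have hnm : IsAlgebraic k (algebraMap (RatFunc k) K
        (a ^ 2 - b ^ 2 * algebraMap (Polynomial k) (RatFunc k) f)) := by
      have h5 : algebraMap (RatFunc k) K
          (a ^ 2 - b ^ 2 * algebraMap (Polynomial k) (RatFunc k) f) = z * σ z := by
        rw [hσz, hz', map_sub, map_mul, map_pow, map_pow, ← heq']; ring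
      rw [h5]
      exact hz.mul hσalg
    have hnm' := (isAlgebraic_algebraMap_iff (algebraMap (RatFunc k) K).injective).1 hnm
    obtain ⟨d, hd'⟩ := hR.2 _ hnm'
    have hb : b = 0 := by
      by_contra hb0
      have hbf : b ^ 2 * algebraMap (Polynomial k) (RatFunc k) f =
          algebraMap k (RatFunc k) ((a₁ / 2) ^ 2 - d) := by
        rw [map_sub, map_pow, ← ha, hd']; ring
      refine no_sq hf hd b _ ?_ hbf
      intro h0
      rw [h0, map_zero] at hbf
      have hF0 : algebraMap (Polynomial k) (RatFunc k) f ≠ 0 :=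
        RatFunc.algebraMap_ne_zero hf.ne_zero
      exact mul_ne_zero (pow_ne_zero 2 hb0) hF0 hbf
    refine ⟨a₁ / 2, ?_⟩
    rw [hz', hb, map_zero, zero_mul, add_zero, ha, ← IsScalarTower.algebraMap_apply]

end main

end Groth.Agent.Lib.lead.Hyp3
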