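import Mathlib
import Groth.Prelude.Def_W4bk4goldsch23FF
import Groth.Agent.Lib.lead.FF
import Groth.Agent.Lib.lead.Kae
import Groth.Agent.Lib.lead.Kae2
import Groth.Agent.Lib.lead.Geo

/-! Weakly separable extensions. -/

namespace Groth.Agent.Lib.lead.Kae3
open FunFld KaehlerDifferential
open scoped IntermediateField

universe u v

theorem s11026 (k k' : Type u) (K K' : Type v) [Field k] [Field k'] [Field K] [Field K']
    [Algebra k k'] [Algebra k K] [Algebra K K'] [Algebra k' K'] [Algebra k K']
    [IsScalarTower k k' K'] [IsScalarTower k K K'] [FiniteDimensional K K']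
    (hK : FunFld.IsFunctionField k K) (hg : FunFld.IsGeometric k K)
    (hK' : FunFld.IsFunctionField k' K') (hg' : FunFld.IsGeometric k' K')
    (hw : Function.Injective (KaehlerDifferential.map k k' K K')) :
    Algebra.IsSeparable (IntermediateField.adjoin K (Set.range (algebraMap k' K'))) K' := by
  obtain ⟨s, hs0, -⟩ := Kae2.exists_sep_elt hK hg
  obtain ⟨s', -, hspan'⟩ := Kae2.exists_sep_elt hK' hg'
  have h1 : D k' K' (algebraMap K K' s) ≠ 0 := by
    rw [← KaehlerDifferential.map_D k k' K K']
    intro h0
    exact hs0 (hw (h0.trans (map_zero _).symm))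
  have hspan := Kae2.span_of_ne_zero hspan' h1
  haveI hsep : Algebra.IsSeparable
      (IntermediateField.adjoin k' ({algebraMap K K' s} : Set K')) K' :=
    Kae2.sep_of_D_ne_zero hK' hspan
  let E' : IntermediateField k' K' :=
    { toSubalgebra :=
        { carrier := (IntermediateField.adjoin K (Set.range (algebraMap k' K')) : Set K')
          mul_mem' := fun ha hb =>
            (IntermediateField.adjoin K (Set.range (algebraMap k' K'))).mul_mem ha hb
          one_mem' := (IntermediateField.adjoin K (Set.range (algebraMap k' K'))).one_mem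
          add_mem' := fun ha hb =>
            (IntermediateField.adjoin K (Set.range (algebraMap k' K'))).add_mem ha hb
          zero_mem' := (IntermediateField.adjoin K (Set.range (algebraMap k' K'))).zero_mem
          algebraMap_mem' := fun c => IntermediateField.subset_adjoin K _ ⟨c, rfl⟩ }
      inv_mem' := fun x hx =>
        (IntermediateField.adjoin K (Set.range (algebraMap k' K'))).inv_mem hx }
  have hle : IntermediateField.adjoin k' ({algebraMap K K' s} : Set K') ≤ E' := by
    rw [IntermediateField.adjoin_le_iff]
    rintro _ rfl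
    exact (IntermediateField.adjoin K (Set.range (algebraMap k' K'))).algebraMap_mem s
  let φ : IntermediateField.adjoin k' ({algebraMap K K' s} : Set K') →+*
      IntermediateField.adjoin K (Set.range (algebraMap k' K')) :=
    { toFun := fun x => ⟨x.1, hle x.2⟩
      map_one' := rfl
      map_mul' := fun _ _ => rfl
      map_zero' := rfl
      map_add' := fun _ _ => rfl }
  letI : Algebra (IntermediateField.adjoin k' ({algebraMap K K' s} : Set K'))
      (IntermediateField.adjoin K (Set.range (algebraMap k' K'))) := φ.toAlgebra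
  haveI : IsScalarTower (IntermediateField.adjoin k' ({algebraMap K K' s} : Set K'))
      (IntermediateField.adjoin K (Set.range (algebraMap k' K'))) K' :=
    IsScalarTower.of_algebraMap_eq (fun x => rfl)
  exact Algebra.isSeparable_tower_top_of_isSeparable
    (IntermediateField.adjoin k' ({algebraMap K K' s} : Set K')) _ K'

end Groth.Agent.Lib.lead.Kae3

namespace Groth.Agent.Lib.lead.Kae3
open FunFld KaehlerDifferential
open scoped IntermediateField

universe u v

theorem s12520 (k₀ k : Type u) (K₀ K : Type v) [Field k₀] [Field k] [Field K₀] [Field K]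
    [Algebra k₀ k] [Algebra k₀ K₀] [Algebra k₀ K] [Algebra k K] [Algebra K₀ K]
    [IsScalarTower k₀ k K] [IsScalarTower k₀ K₀ K] [FiniteDimensional K₀ K]
    (p : ℕ) [Fact p.Prime] [CharP K p]
    (hK : FunFld.IsFunctionField k K) (hg : FunFld.IsGeometric k K)
    (hK₀ : FunFld.IsFunctionField k₀ K₀) (hg₀ : FunFld.IsGeometric k₀ K₀) :
    (Set.range (algebraMap K₀ K) ⊆ ↑(IntermediateField.adjoin k (Set.range fun y : K => y ^ p)) →
      KaehlerDifferential.map k₀ k K₀ K = 0) ∧
    (¬ Set.range (algebraMap K₀ K) ⊆ ↑(IntermediateField.adjoin k (Set.range fun y : K => y ^ p)) →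
      Function.Injective (KaehlerDifferential.map k₀ k K₀ K)) := by
  obtain ⟨s₀, hs₀, hspan₀⟩ := Kae2.exists_sep_elt hK₀ hg₀
  constructor
  · intro hsub
    apply LinearMap.ext
    intro ω
    obtain ⟨c, rfl⟩ := hspan₀ ω
    rw [map_smul, KaehlerDifferential.map_D]
    have h1 : algebraMap K₀ K s₀ ∈ IntermediateField.adjoin k (Set.range fun y : K => y ^ p) :=
      hsub ⟨s₀, rfl⟩
    rw [((Kae2.s11002 k K p hK hg (algebraMap K₀ K s₀)).1).1 h1, smul_zero]
    rfl
  · intro hnsub
    rw [Set.not_subset] at hnsub
    obtain ⟨_, ⟨a, rfl⟩, ha⟩ := hnsub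
    have h1 : D k K (algebraMap K₀ K a) ≠ 0 := fun h0 =>
      ha (((Kae2.s11002 k K p hK hg (algebraMap K₀ K a)).1).2 h0)
    have h2 : KaehlerDifferential.map k₀ k K₀ K (D k₀ K₀ s₀) ≠ 0 := by
      intro h0
      obtain ⟨c, hc⟩ := hspan₀ (D k₀ K₀ a)
      apply h1
      rw [← KaehlerDifferential.map_D k₀ k K₀ K, hc, map_smul, h0, smul_zero]
    rw [injective_iff_map_eq_zero]
    intro ω hω
    obtain ⟨c, rfl⟩ := hspan₀ ω
    rw [map_smul] at hω
    by_cases hc : c = 0
    · rw [hc, zero_smul]
    · exfalso
      apply h2
      have h3 : c⁻¹ • (c • KaehlerDifferential.map k₀ k K₀ K (D k₀ K₀ s₀)) = 0 := by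
        rw [hω, smul_zero]
      rwa [smul_smul, inv_mul_cancel₀ hc, one_smul] at h3

end Groth.Agent.Lib.lead.Kae3

namespace Groth.Agent.Lib.lead.Kae3
open FunFld KaehlerDifferential
open scoped IntermediateField

theorem s11050
    (k K : Type*) [Field k] [IsAlgClosed k] [Field K] [Algebra k K]
    (hK : FunFld.IsFunctionField k K) (W : Submodule k K)
    [FiniteDimensional k W] (h1 : (1 : K) ∈ W)
    (hW : IntermediateField.adjoin k (W : Set K) = ⊤) :
    (∃ x ∈ W, Algebra.IsSeparable (IntermediateField.adjoin k ({x} : Set K)) K) ∧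
    ∀ x ∈ W, Algebra.IsSeparable (IntermediateField.adjoin k ({x} : Set K)) K →
      ∃ y ∈ W, IntermediateField.adjoin k ({x, y} : Set K) = ⊤ := by
  have hg : IsGeometric k K := Geo.geometric_of_perfect k K hK
  obtain ⟨s, hs0, hspan⟩ := Kae2.exists_sep_elt hK hg
  constructor
  · by_contra hcon
    push Not at hcon
    have hWker : ∀ w ∈ W, D k K w = 0 := by
      intro w hw
      by_contra hne
      exact hcon w hw (Kae2.sep_of_D_ne_zero hK (Kae2.span_of_ne_zero hspan hne))
    have hle : IntermediateField.adjoin k (W : Set K) ≤ Kae2.kerD k K := by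
      rw [IntermediateField.adjoin_le_iff]
      intro w hw
      exact hWker w hw
    rw [hW] at hle
    exact hs0 (hle IntermediateField.mem_top)
  · intro x hx hsep
    haveI := hsep
    haveI := FF.essFiniteType hK
    haveI : Algebra.EssFiniteType (IntermediateField.adjoin k ({x} : Set K)) K :=
      Algebra.EssFiniteType.of_comp k _ K
    haveI : Algebra.IsAlgebraic (IntermediateField.adjoin k ({x} : Set K)) K :=
      Algebra.IsSeparable.isAlgebraic _ _
    haveI : FiniteDimensional (IntermediateField.adjoin k ({x} : Set K)) K :=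
      Algebra.finite_of_essFiniteType_of_isAlgebraic
    haveI : Finite (IntermediateField (IntermediateField.adjoin k ({x} : Set K)) K) :=
      Field.finite_intermediateField_of_exists_primitive_element _ _
        (Field.exists_primitive_element _ _)
    by_contra hcon
    push Not at hcon
    let p : {M : IntermediateField (IntermediateField.adjoin k ({x} : Set K)) K // M ≠ ⊤} →
        Subspace k W :=
      fun M => Submodule.comap W.subtype ((M.1.restrictScalars k).toSubalgebra.toSubmodule)
    have hcov : ⋃ i, (p i : Set W) = Set.univ := by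
      rw [Set.eq_univ_iff_forall]
      intro w
      rw [Set.mem_iUnion]
      have hne : IntermediateField.adjoin (IntermediateField.adjoin k ({x} : Set K))
          ({(w : K)} : Set K) ≠ ⊤ := by
        intro htop
        apply hcon w w.2
        have e := IntermediateField.adjoin_adjoin_left (F := k) (S := ({x} : Set K))
          (T := ({(w : K)} : Set K))
        rw [htop, Set.singleton_union] at e
        rw [← e]
        exact IntermediateField.restrictScalars_top
      refine ⟨⟨_, hne⟩, ?_⟩
      show (w : K) ∈ IntermediateField.adjoin (IntermediateField.adjoin k ({x} : Set K))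
        ({(w : K)} : Set K)
      exact IntermediateField.mem_adjoin_simple_self _ _
    obtain ⟨⟨M, hM⟩, hMtop⟩ := Subspace.exists_eq_top_of_iUnion_eq_univ hcov
    apply hM
    have hWM : ∀ w ∈ W, w ∈ M := by
      intro w hw
      have h2 : (⟨w, hw⟩ : W) ∈ p ⟨M, hM⟩ := by rw [hMtop]; trivial
      exact h2
    rw [← IntermediateField.restrictScalars_eq_top_iff (K := k), eq_top_iff, ← hW,
      IntermediateField.adjoin_le_iff]
    intro w hw
    exact hWM w hw

end Groth.Agent.Lib.lead.Kae3
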