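import Mathlib
import Groth.Prelude.Def_W4c2quivmodsheafKron

namespace Groth.Agent.LeadKron
open KronMod Module

variable {K : Type*} [Field K] {V W : Type*} [AddCommGroup V] [Module K V]
  [AddCommGroup W] [Module K W] {n : ℕ}

/-- the sum map `Vⁿ → W` -/
noncomputable def sumMap (f : Fin n → (V →ₗ[K] W)) : (Fin n → V) →ₗ[K] W :=
  ∑ j, (f j) ∘ₗ (LinearMap.proj j)

lemma sumMap_apply (f : Fin n → (V →ₗ[K] W)) (v : Fin n → V) :
    sumMap f v = ∑ j, f j (v j) := by
  simp [sumMap, LinearMap.sum_apply]

lemma sumMap_single (f : Fin n → (V →ₗ[K] W)) (j : Fin n) (v : V) :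
    sumMap f (Pi.single j v) = f j v := by
  rw [sumMap_apply, Finset.sum_eq_single j]
  · simp
  · intro b _ hb; simp [Pi.single_eq_of_ne hb]
  · simp

/-- the map `V → Wⁿ` -/
def piMap (f : Fin n → (V →ₗ[K] W)) : V →ₗ[K] (Fin n → W) := LinearMap.pi f

lemma piMap_apply (f : Fin n → (V →ₗ[K] W)) (v : V) (j : Fin n) : piMap f v j = f j v := rfl

lemma isSubrep_apply {f : Fin n → (V →ₗ[K] W)} {V' : Submodule K V} {W' : Submodule K W}
    (h : IsSubrep f V' W') (j : Fin n) {v : V} (hv : v ∈ V') : f j v ∈ W' :=
  h j (Submodule.mem_map_of_mem hv)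

lemma subrep_top_range (f : Fin n → (V →ₗ[K] W)) :
    IsSubrep f ⊤ (LinearMap.range (sumMap f)) := by
  intro j
  rintro _ ⟨v, _, rfl⟩
  exact ⟨Pi.single j v, sumMap_single f j v⟩

lemma finrank_pi_fin [FiniteDimensional K V] : finrank K (Fin n → V) = n * finrank K V := by
  rw [Module.finrank_pi_fintype]; simp

lemma finrank_range_sumMap_le [FiniteDimensional K V] (f : Fin n → (V →ₗ[K] W)) :
    finrank K (LinearMap.range (sumMap f)) ≤ n * finrank K V := by
  have := LinearMap.finrank_range_le (sumMap f)
  rwa [finrank_pi_fin] at this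

lemma subrep_ker_bot (f : Fin n → (V →ₗ[K] W)) :
    IsSubrep f (LinearMap.ker (piMap f)) ⊥ := by
  intro j
  rintro _ ⟨v, hv, rfl⟩
  have : piMap f v = 0 := hv
  have := congrFun this j
  simpa [piMap_apply] using this

lemma finrank_le_ker_piMap [FiniteDimensional K V] [FiniteDimensional K W]
    (f : Fin n → (V →ₗ[K] W)) :
    finrank K V ≤ finrank K (LinearMap.ker (piMap f)) + n * finrank K W := by
  have h1 := LinearMap.finrank_range_add_finrank_ker (piMap f)
  have h2 := Submodule.finrank_le (LinearMap.range (piMap f))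
  rw [finrank_pi_fin] at h2
  omega

lemma range_sumMap_le {f : Fin n → (V →ₗ[K] W)} {W' : Submodule K W}
    (h : IsSubrep f ⊤ W') : LinearMap.range (sumMap f) ≤ W' := by
  rintro _ ⟨v, rfl⟩
  rw [sumMap_apply]
  exact Submodule.sum_mem _ (fun j _ => isSubrep_apply h j Submodule.mem_top)

lemma le_ker_piMap {f : Fin n → (V →ₗ[K] W)} {V' : Submodule K V}
    (h : IsSubrep f V' ⊥) : V' ≤ LinearMap.ker (piMap f) := by
  intro v hv
  rw [LinearMap.mem_ker]
  funext j
  have := isSubrep_apply h j hv
  simpa [piMap_apply] using this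

lemma mul_finrank_le_of_sumMap_inj [FiniteDimensional K V] [FiniteDimensional K W]
    {f : Fin n → (V →ₗ[K] W)} (hinj : Function.Injective (sumMap f))
    {V' : Submodule K V} {W' : Submodule K W} (h : IsSubrep f V' W') :
    n * finrank K V' ≤ finrank K W' := by
  let T : (Fin n → V') →ₗ[K] W := sumMap (fun j => (f j).domRestrict V')
  have hT : ∀ v, T v = sumMap f (fun j => (v j : V)) := by
    intro v
    simp [T, sumMap_apply]
  have hTinj : Function.Injective T := by
    intro a b hab
    rw [hT, hT] at hab
    have := hinj hab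
    funext j
    exact Subtype.ext (congrFun this j)
  have hr : LinearMap.range T ≤ W' := by
    rintro _ ⟨v, rfl⟩
    rw [hT, sumMap_apply]
    exact Submodule.sum_mem _ (fun j _ => isSubrep_apply h j (v j).2)
  have h1 := LinearMap.finrank_range_of_inj hTinj
  have h2 := Submodule.finrank_mono hr
  rw [h1, finrank_pi_fin] at h2
  exact h2

lemma finrank_le_mul_of_piMap_inj [FiniteDimensional K V] [FiniteDimensional K W]
    {f : Fin n → (V →ₗ[K] W)} (hinj : Function.Injective (piMap f))
    {V' : Submodule K V} {W' : Submodule K W} (h : IsSubrep f V' W') :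
    finrank K V' ≤ n * finrank K W' := by
  let T : V' →ₗ[K] (Fin n → W') :=
    LinearMap.pi (fun j => ((f j).domRestrict V').codRestrict W'
      (fun v => isSubrep_apply h j v.2))
  have hTinj : Function.Injective T := by
    intro a b hab
    apply Subtype.ext
    apply hinj
    funext j
    have := congrFun hab j
    have := congrArg Subtype.val this
    simpa [T, piMap_apply] using this
  have := LinearMap.finrank_le_finrank_of_injective hTinj
  rwa [finrank_pi_fin] at this

lemma finrank_le_of_inj_of_maps [FiniteDimensional K V] [FiniteDimensional K W]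
    {g : V →ₗ[K] W} (hinj : Function.Injective g)
    {V' : Submodule K V} {W' : Submodule K W} (h : ∀ v ∈ V', g v ∈ W') :
    finrank K V' ≤ finrank K W' := by
  let T : V' →ₗ[K] W' := (g.domRestrict V').codRestrict W' (fun v => h v v.2)
  have hTinj : Function.Injective T := by
    intro a b hab
    apply Subtype.ext
    apply hinj
    have := congrArg Subtype.val hab
    simpa [T] using this
  exact LinearMap.finrank_le_finrank_of_injective hTinj

lemma top_ne_bot_of_finrank_pos {M : Type*} [AddCommGroup M] [Module K M]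
    (h : 0 < finrank K M) : (⊤ : Submodule K M) ≠ ⊥ := by
  intro h1
  have := congrArg (fun S : Submodule K M => finrank K S) h1
  simp at this
  omega

lemma stable_imp_semistable {f : Fin n → (V →ₗ[K] W)} (h : IsStable f) : IsSemistable f :=
  ⟨h.1, fun V' W' a b c => le_of_lt (h.2 V' W' a b c)⟩

end Groth.Agent.LeadKron
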