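import Groth.Agent.Lib.lead.Kron

namespace Groth.Agent.LeadKron
open KronMod Module

variable {K : Type*} [Field K] {V W : Type*} [AddCommGroup V] [Module K V]
  [AddCommGroup W] [Module K W] {n : ℕ}

theorem semistable_iff_sumMap_bij [FiniteDimensional K V] [FiniteDimensional K W]
    (f : Fin n → (V →ₗ[K] W)) (hV : 0 < finrank K V) (hW : finrank K W = n * finrank K V) :
    IsSemistable f ↔ Function.Bijective (sumMap f) := by
  have hdim : finrank K (Fin n → V) = finrank K W := by rw [finrank_pi_fin, hW]
  constructor
  · rintro ⟨_, hss⟩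
    have hsurj : Function.Surjective (sumMap f) := by
      rw [← LinearMap.range_eq_top]
      by_contra hne
      have h1 := hss ⊤ (LinearMap.range (sumMap f)) (subrep_top_range f)
        (fun hh => top_ne_bot_of_finrank_pos hV hh.1) (fun hh => hne hh.2)
      rw [finrank_top, mul_comm] at h1
      have h2 := Nat.le_of_mul_le_mul_left h1 hV
      have h3 := Submodule.finrank_le (LinearMap.range (sumMap f))
      exact hne (Submodule.eq_top_of_finrank_eq (le_antisymm h3 h2))
    exact ⟨(LinearMap.injective_iff_surjective_of_finrank_eq_finrank hdim).mpr hsurj, hsurj⟩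
  · intro hb
    refine ⟨by omega, fun V' W' hsub _ _ => ?_⟩
    have := mul_finrank_le_of_sumMap_inj hb.1 hsub
    rw [hW]
    calc n * finrank K V * finrank K V' = finrank K V * (n * finrank K V') := by ring
      _ ≤ finrank K V * finrank K W' := Nat.mul_le_mul_left _ this

theorem semistable_iff_piMap_bij [FiniteDimensional K V] [FiniteDimensional K W]
    (f : Fin n → (V →ₗ[K] W)) (hW : 0 < finrank K W) (hV : finrank K V = n * finrank K W) :
    IsSemistable f ↔ Function.Bijective (piMap f) := by
  have hdim : finrank K V = finrank K (Fin n → W) := by rw [finrank_pi_fin, hV]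
  constructor
  · rintro ⟨_, hss⟩
    have hinj : Function.Injective (piMap f) := by
      rw [← LinearMap.ker_eq_bot]
      by_contra hne
      have h1 := hss (LinearMap.ker (piMap f)) ⊥ (subrep_ker_bot f)
        (fun hh => hne hh.1) (fun hh => top_ne_bot_of_finrank_pos hW hh.2.symm)
      rw [finrank_bot, Nat.mul_zero] at h1
      have h2 : finrank K (LinearMap.ker (piMap f)) = 0 := by
        rcases Nat.eq_zero_or_pos (finrank K (LinearMap.ker (piMap f))) with h | h
        · exact h
        · have := Nat.mul_pos hW h
          omega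
      exact hne (Submodule.finrank_eq_zero.mp h2)
    exact ⟨hinj, (LinearMap.injective_iff_surjective_of_finrank_eq_finrank hdim).mp hinj⟩
  · intro hb
    refine ⟨by omega, fun V' W' hsub _ _ => ?_⟩
    have := finrank_le_mul_of_piMap_inj hb.1 hsub
    rw [hV]
    calc finrank K W * finrank K V' ≤ finrank K W * (n * finrank K W') :=
          Nat.mul_le_mul_left _ this
      _ = n * finrank K W * finrank K W' := by ring

lemma sumMap_coe (f : Fin n → (V →ₗ[K] W)) :
    (fun v : Fin n → V => ∑ j, f j (v j)) = ⇑(sumMap f) := by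
  funext v; exact (sumMap_apply f v).symm

lemma piMap_coe (f : Fin n → (V →ₗ[K] W)) :
    (fun v : V => fun j : Fin n => f j v) = ⇑(piMap f) := rfl

theorem exists_unique_semistable_sum [FiniteDimensional K V] [FiniteDimensional K W]
    (hV : 0 < finrank K V) (hW : finrank K W = n * finrank K V) :
    (∃ f : Fin n → (V →ₗ[K] W), IsSemistable f) ∧
    ∀ f f' : Fin n → (V →ₗ[K] W), IsSemistable f → IsSemistable f' → AreIso f f' := by
  constructor
  · have hdim : finrank K (Fin n → V) = finrank K W := by rw [finrank_pi_fin, hW]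
    let e : (Fin n → V) ≃ₗ[K] W := LinearEquiv.ofFinrankEq _ _ hdim
    refine ⟨fun j => e.toLinearMap ∘ₗ LinearMap.single K (fun _ => V) j, ?_⟩
    rw [semistable_iff_sumMap_bij _ hV hW]
    have : ⇑(sumMap (fun j => e.toLinearMap ∘ₗ LinearMap.single K (fun _ => V) j)) = ⇑e := by
      funext v
      rw [sumMap_apply]
      simp only [LinearMap.coe_comp, LinearEquiv.coe_coe, Function.comp_apply,
        LinearMap.coe_single]
      rw [← map_sum, Finset.univ_sum_single]
    rw [this]
    exact e.bijective
  · intro f f' hf hf'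
    rw [semistable_iff_sumMap_bij _ hV hW] at hf hf'
    let E := LinearEquiv.ofBijective (sumMap f) hf
    let E' := LinearEquiv.ofBijective (sumMap f') hf'
    refine ⟨LinearEquiv.refl K V, E.symm.trans E', fun j => ?_⟩
    ext v
    have h1 : f j v = E (Pi.single j v) := (sumMap_single f j v).symm
    have h2 : f' j v = E' (Pi.single j v) := (sumMap_single f' j v).symm
    simp only [LinearMap.coe_comp, LinearEquiv.coe_coe, Function.comp_apply,
      LinearEquiv.trans_apply, LinearEquiv.refl_apply]
    rw [h1, h2, LinearEquiv.symm_apply_apply]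

theorem exists_unique_semistable_pi [FiniteDimensional K V] [FiniteDimensional K W]
    (hW : 0 < finrank K W) (hV : finrank K V = n * finrank K W) :
    (∃ f : Fin n → (V →ₗ[K] W), IsSemistable f) ∧
    ∀ f f' : Fin n → (V →ₗ[K] W), IsSemistable f → IsSemistable f' → AreIso f f' := by
  constructor
  · have hdim : finrank K V = finrank K (Fin n → W) := by rw [finrank_pi_fin, hV]
    let e : V ≃ₗ[K] (Fin n → W) := LinearEquiv.ofFinrankEq _ _ hdim
    refine ⟨fun j => LinearMap.proj j ∘ₗ e.toLinearMap, ?_⟩
    rw [semistable_iff_piMap_bij _ hW hV]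
    have : ⇑(piMap (fun j => (LinearMap.proj j : (Fin n → W) →ₗ[K] W) ∘ₗ e.toLinearMap)) = ⇑e := by
      funext v j
      rfl
    rw [this]
    exact e.bijective
  · intro f f' hf hf'
    rw [semistable_iff_piMap_bij _ hW hV] at hf hf'
    let E := LinearEquiv.ofBijective (piMap f) hf
    let E' := LinearEquiv.ofBijective (piMap f') hf'
    refine ⟨E.trans E'.symm, LinearEquiv.refl K W, fun j => ?_⟩
    ext v
    simp only [LinearMap.coe_comp, LinearEquiv.coe_coe, Function.comp_apply,
      LinearEquiv.trans_apply, LinearEquiv.refl_apply]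
    have h2 : ∀ x, f' j x = E' x j := fun x => rfl
    rw [h2, LinearEquiv.apply_symm_apply]
    rfl

lemma finrank_span_singleton_le (x : W) : finrank K (K ∙ x) ≤ 1 := by
  by_cases hx : x = 0
  · rw [hx, Submodule.span_zero_singleton, finrank_bot]; exact Nat.zero_le 1
  · rw [finrank_span_singleton hx]

/-- a "line" subrepresentation kills stability when `2 ≤ dim V ≤ dim W`... -/
theorem not_stable_of_line [FiniteDimensional K V] [FiniteDimensional K W]
    (f : Fin n → (V →ₗ[K] W)) (v : V) (hv : v ≠ 0) (W' : Submodule K W) (m : ℕ)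
    (hW' : finrank K W' ≤ m)
    (hvw : ∀ j, f j v ∈ W') (h2 : 2 ≤ finrank K V) (hle : finrank K V * m ≤ finrank K W) :
    ¬ IsStable f := by
  rintro ⟨_, hst⟩
  have hsub : IsSubrep f (K ∙ v) W' := by
    intro j
    rw [Submodule.map_span, Set.image_singleton, Submodule.span_singleton_le_iff_mem]
    exact hvw j
  have hfr : finrank K (K ∙ v) = 1 := finrank_span_singleton hv
  have h1 := hst (K ∙ v) W' hsub
    (fun hh => by rw [hh.1, finrank_bot] at hfr; omega)
    (fun hh => by rw [hh.1, finrank_top] at hfr; omega)
  rw [hfr, Nat.mul_one] at h1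
  have : finrank K V * finrank K W' ≤ finrank K V * m := Nat.mul_le_mul_left _ hW'
  omega

theorem semistable_of_bij_comb [FiniteDimensional K V] [FiniteDimensional K W]
    (f : Fin n → (V →ₗ[K] W)) (k : ℕ) (hk : 1 ≤ k)
    (hV : finrank K V = k) (hW : finrank K W = k)
    (z : Fin n → K) (hz : Function.Injective ((∑ j, z j • f j : V →ₗ[K] W) : V → W)) :
    IsSemistable f := by
  refine ⟨by omega, fun V' W' hsub _ _ => ?_⟩
  have := finrank_le_of_inj_of_maps hz (V' := V') (W' := W') (fun v hv => by
    rw [LinearMap.sum_apply]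
    exact Submodule.sum_mem _ (fun j _ => by
      rw [LinearMap.smul_apply]
      exact Submodule.smul_mem _ _ (isSubrep_apply hsub j hv)))
  rw [hV, hW]
  exact Nat.mul_le_mul_left _ this

end Groth.Agent.LeadKron
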