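import Groth.Agent.Lib.lead.Kron2

namespace Groth.Agent.LeadKron
open KronMod Module

variable {K : Type*} [Field K] {V W : Type*} [AddCommGroup V] [Module K V]
  [AddCommGroup W] [Module K W] {n : ℕ}

lemma eq_bot_or_eq_top_of_finrank_one {M : Type*} [AddCommGroup M] [Module K M]
    (h : finrank K M = 1) (S : Submodule K M) : S = ⊥ ∨ S = ⊤ := by
  have := is_simple_module_of_finrank_eq_one (K := K) (A := K) h
  exact eq_bot_or_eq_top S

theorem stable_iff_sum [FiniteDimensional K V] [FiniteDimensional K W]
    (f : Fin n → (V →ₗ[K] W)) (hV : 0 < finrank K V) (hW : finrank K W = n * finrank K V) :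
    IsStable f ↔ (IsSemistable f ∧ finrank K V = 1) := by
  constructor
  · intro hst
    refine ⟨stable_imp_semistable hst, ?_⟩
    by_contra hne
    have h2 : 2 ≤ finrank K V := by omega
    have : Nontrivial V := (Module.finrank_pos_iff (R := K) (M := V)).mp hV
    obtain ⟨v, hv⟩ := exists_ne (0 : V)
    have hfr : finrank K (K ∙ v) = 1 := finrank_span_singleton hv
    have hle := finrank_range_sumMap_le (fun j => (f j).domRestrict (K ∙ v))
    rw [hfr, Nat.mul_one] at hle
    refine not_stable_of_line f v hv _ n hle (fun j => ?_) h2 (by rw [hW, mul_comm]) hst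
    exact ⟨Pi.single j ⟨v, Submodule.mem_span_singleton_self v⟩, by
      rw [sumMap_single]; rfl⟩
  · rintro ⟨hss, h1⟩
    have hb := (semistable_iff_sumMap_bij f hV hW).mp hss
    refine ⟨hss.1, fun V' W' hsub hnb hnt => ?_⟩
    rcases eq_bot_or_eq_top_of_finrank_one h1 V' with h | h
    · subst h
      have hW' : W' ≠ ⊥ := fun hh => hnb ⟨rfl, hh⟩
      have : 0 < finrank K W' := by
        rcases Nat.eq_zero_or_pos (finrank K W') with h0 | h0
        · exact absurd (Submodule.finrank_eq_zero.mp h0) hW'
        · exact h0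
      rw [finrank_bot, Nat.mul_zero]
      exact Nat.mul_pos hV this
    · subst h
      exfalso
      apply hnt
      refine ⟨rfl, ?_⟩
      have h3 := range_sumMap_le hsub
      rw [LinearMap.range_eq_top.mpr hb.2] at h3
      exact top_le_iff.mp h3

theorem stable_iff_pi [FiniteDimensional K V] [FiniteDimensional K W]
    (f : Fin n → (V →ₗ[K] W)) (hW : 0 < finrank K W) (hV : finrank K V = n * finrank K W) :
    IsStable f ↔ (IsSemistable f ∧ finrank K W = 1) := by
  constructor
  · intro hst
    refine ⟨stable_imp_semistable hst, ?_⟩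
    by_contra hne
    have h2 : 2 ≤ finrank K W := by omega
    have : Nontrivial W := (Module.finrank_pos_iff (R := K) (M := W)).mp hW
    obtain ⟨w, hw⟩ := exists_ne (0 : W)
    have hfr : finrank K (K ∙ w) = 1 := finrank_span_singleton hw
    obtain ⟨W', hc⟩ := Submodule.exists_isCompl (K ∙ w)
    have hsum := Submodule.finrank_add_eq_of_isCompl hc
    rw [hfr] at hsum
    have hq := Submodule.finrank_quotient_add_finrank W'
    have hq1 : finrank K (W ⧸ W') = 1 := by omega
    let g : Fin n → (V →ₗ[K] (W ⧸ W')) := fun j => W'.mkQ ∘ₗ f j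
    have hker := finrank_le_ker_piMap g
    rw [hq1, Nat.mul_one] at hker
    have hsub : IsSubrep f (LinearMap.ker (piMap g)) W' := by
      intro j
      rintro _ ⟨v, hv, rfl⟩
      have h3 : piMap g v = 0 := hv
      have h4 := congrFun h3 j
      have h5 : W'.mkQ (f j v) = 0 := h4
      exact (Submodule.Quotient.mk_eq_zero W').mp h5
    have h1 := hst.2 _ W' hsub
      (fun hh => by rw [hh.2, finrank_bot] at hsum; omega)
      (fun hh => by rw [hh.2, finrank_top] at hsum; omega)
    set b := finrank K W' with hb
    set c := finrank K (LinearMap.ker (piMap g)) with hc'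
    have h6 : finrank K W = b + 1 := by omega
    rw [h6] at hV h1
    rw [hV] at hker h1
    have h7 : n * b ≤ c := by
      have : n * (b + 1) = n * b + n := by ring
      omega
    have h8 : (b + 1) * (n * b) ≤ (b + 1) * c := Nat.mul_le_mul_left _ h7
    have h9 : (b + 1) * (n * b) = n * (b + 1) * b := by ring
    omega
  · rintro ⟨hss, h1⟩
    have hb := (semistable_iff_piMap_bij f hW hV).mp hss
    refine ⟨hss.1, fun V' W' hsub hnb hnt => ?_⟩
    rcases eq_bot_or_eq_top_of_finrank_one h1 W' with h | h
    · subst h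
      exfalso
      apply hnb
      refine ⟨?_, rfl⟩
      have h3 := le_ker_piMap hsub
      rw [LinearMap.ker_eq_bot.mpr hb.1] at h3
      exact le_bot_iff.mp h3
    · subst h
      have hV' : V' ≠ ⊤ := fun hh => hnt ⟨hh, rfl⟩
      have := Submodule.finrank_lt hV'
      rw [finrank_top, h1, Nat.one_mul, Nat.mul_one]
      exact this

theorem one_one [FiniteDimensional K V] [FiniteDimensional K W]
    (f : Fin n → (V →ₗ[K] W)) (hV : finrank K V = 1) (hW : finrank K W = 1) :
    (IsSemistable f ↔ f ≠ 0) ∧ (IsStable f ↔ f ≠ 0) := by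
  have hB : IsSemistable f → f ≠ 0 := by
    intro hss h0
    subst h0
    have hsub : IsSubrep (0 : Fin n → (V →ₗ[K] W)) ⊤ ⊥ := by
      intro j
      rintro _ ⟨v, _, rfl⟩
      simp
    have := hss.2 ⊤ ⊥ hsub
      (fun hh => top_ne_bot_of_finrank_pos (by omega) hh.1)
      (fun hh => top_ne_bot_of_finrank_pos (K := K) (M := W) (by omega) hh.2.symm)
    rw [finrank_top, finrank_bot, hV, hW] at this
    omega
  have hC : f ≠ 0 → IsStable f := by
    intro hf
    refine ⟨by omega, fun V' W' hsub hnb hnt => ?_⟩
    rcases eq_bot_or_eq_top_of_finrank_one hV V' with h | h <;>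
    rcases eq_bot_or_eq_top_of_finrank_one hW W' with h' | h'
    · exact absurd ⟨h, h'⟩ hnb
    · subst h; subst h'
      rw [finrank_bot, finrank_top, hV, hW]
      omega
    · subst h; subst h'
      exfalso
      apply hf
      funext j
      ext v
      have := isSubrep_apply hsub j (Submodule.mem_top : v ∈ ⊤)
      simpa using this
    · exact absurd ⟨h, h'⟩ hnt
  exact ⟨⟨hB, fun h => stable_imp_semistable (hC h)⟩,
    ⟨fun h => hB (stable_imp_semistable h), hC⟩⟩

end Groth.Agent.LeadKron
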