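import Groth.Agent.Lib.lead.Kron3

namespace Groth.Agent.LeadKron
open KronMod Module

variable {K : Type*} [Field K] {V W : Type*} [AddCommGroup V] [Module K V]
  [AddCommGroup W] [Module K W] {n : ℕ}

/-- generalised (semi)stability with an arbitrary relation -/
def GenStable (R : ℕ → ℕ → Prop) (f : Fin n → (V →ₗ[K] W)) : Prop :=
  0 < finrank K V + finrank K W ∧
  ∀ (V' : Submodule K V) (W' : Submodule K W), IsSubrep f V' W' →
    ¬ (V' = ⊥ ∧ W' = ⊥) → ¬ (V' = ⊤ ∧ W' = ⊤) →
    R (finrank K W * finrank K V') (finrank K V * finrank K W')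

lemma semistable_iff_gen (f : Fin n → (V →ₗ[K] W)) :
    IsSemistable f ↔ GenStable (· ≤ ·) f := Iff.rfl

lemma stable_iff_gen (f : Fin n → (V →ₗ[K] W)) :
    IsStable f ↔ GenStable (· < ·) f := Iff.rfl

theorem gen_dual_of [FiniteDimensional K V] [FiniteDimensional K W] (R : ℕ → ℕ → Prop)
    (hR : ∀ x y a b : ℕ, R ((y + a) * x) ((x + b) * y) → R ((x + b) * a) ((y + a) * b))
    (f : Fin n → (V →ₗ[K] W)) (h : GenStable R f) :
    GenStable R (fun j => (f j).dualMap) := by
  obtain ⟨h0, h⟩ := h
  refine ⟨by rw [Subspace.dual_finrank_eq, Subspace.dual_finrank_eq]; omega,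
    fun A B hsub hnb hnt => ?_⟩
  have hsub' : IsSubrep f B.dualCoannihilator A.dualCoannihilator := by
    intro j
    rintro _ ⟨v, hv, rfl⟩
    rw [SetLike.mem_coe, Submodule.mem_dualCoannihilator] at hv
    rw [Submodule.mem_dualCoannihilator]
    intro φ hφ
    have := hv ((f j).dualMap φ) (isSubrep_apply hsub j hφ)
    simpa using this
  have hB := Subspace.finrank_add_finrank_dualCoannihilator_eq B
  have hA := Subspace.finrank_add_finrank_dualCoannihilator_eq A
  have h1 := h _ _ hsub'
    (fun hh => hnt ⟨by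
      apply Submodule.eq_top_of_finrank_eq
      rw [Subspace.dual_finrank_eq]
      rw [hh.2, finrank_bot] at hA
      omega, by
      apply Submodule.eq_top_of_finrank_eq
      rw [Subspace.dual_finrank_eq]
      rw [hh.1, finrank_bot] at hB
      omega⟩)
    (fun hh => hnb ⟨by
      apply Submodule.finrank_eq_zero.mp
      rw [hh.2, finrank_top] at hA
      omega, by
      apply Submodule.finrank_eq_zero.mp
      rw [hh.1, finrank_top] at hB
      omega⟩)
  rw [Subspace.dual_finrank_eq, Subspace.dual_finrank_eq]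
  have e1 : finrank K W = finrank K A.dualCoannihilator + finrank K A := by omega
  have e2 : finrank K V = finrank K B.dualCoannihilator + finrank K B := by omega
  rw [e1, e2] at h1
  rw [e1, e2]
  exact hR _ _ _ _ h1

theorem gen_of_dual [FiniteDimensional K V] [FiniteDimensional K W] (R : ℕ → ℕ → Prop)
    (hR : ∀ x y a b : ℕ, R ((x + b) * a) ((y + a) * b) → R ((y + a) * x) ((x + b) * y))
    (f : Fin n → (V →ₗ[K] W)) (h : GenStable R (fun j => (f j).dualMap)) :
    GenStable R f := by
  obtain ⟨h0, h⟩ := h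
  rw [Subspace.dual_finrank_eq, Subspace.dual_finrank_eq] at h0
  refine ⟨by omega, fun V' W' hsub hnb hnt => ?_⟩
  have hsub' : IsSubrep (fun j => (f j).dualMap) W'.dualAnnihilator V'.dualAnnihilator := by
    intro j
    rintro _ ⟨φ, hφ, rfl⟩
    rw [SetLike.mem_coe, Submodule.mem_dualAnnihilator] at hφ
    rw [Submodule.mem_dualAnnihilator]
    intro v hv
    rw [LinearMap.dualMap_apply]
    exact hφ _ (isSubrep_apply hsub j hv)
  have hB := Subspace.finrank_add_finrank_dualAnnihilator_eq V'
  have hA := Subspace.finrank_add_finrank_dualAnnihilator_eq W'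
  have h1 := h _ _ hsub'
    (fun hh => hnt ⟨by
      apply Submodule.eq_top_of_finrank_eq
      rw [hh.2, finrank_bot] at hB
      omega, by
      apply Submodule.eq_top_of_finrank_eq
      rw [hh.1, finrank_bot] at hA
      omega⟩)
    (fun hh => hnb ⟨by
      apply Submodule.finrank_eq_zero.mp
      rw [hh.2, finrank_top, Subspace.dual_finrank_eq] at hB
      omega, by
      apply Submodule.finrank_eq_zero.mp
      rw [hh.1, finrank_top, Subspace.dual_finrank_eq] at hA
      omega⟩)
  rw [Subspace.dual_finrank_eq, Subspace.dual_finrank_eq] at h1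
  have e1 : finrank K W = finrank K W' + finrank K W'.dualAnnihilator := by omega
  have e2 : finrank K V = finrank K V' + finrank K V'.dualAnnihilator := by omega
  rw [e1, e2] at h1
  rw [e1, e2]
  exact hR _ _ _ _ h1

theorem dual_iff [FiniteDimensional K V] [FiniteDimensional K W] (f : Fin n → (V →ₗ[K] W)) :
    (IsSemistable f ↔ IsSemistable (fun j => (f j).dualMap)) ∧
    (IsStable f ↔ IsStable (fun j => (f j).dualMap)) := by
  refine ⟨⟨gen_dual_of (· ≤ ·) ?_ f, gen_of_dual (· ≤ ·) ?_ f⟩,
    ⟨gen_dual_of (· < ·) ?_ f, gen_of_dual (· < ·) ?_ f⟩⟩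
  · intro x y a b h; nlinarith
  · intro x y a b h; nlinarith
  · intro x y a b h; nlinarith
  · intro x y a b h; nlinarith

end Groth.Agent.LeadKron
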