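import Mathlib
import Groth.Prelude.Def_LambdaSp

/-! Pre-λ-rings over ℚ-algebras: λ_t is determined by its logarithmic derivative. -/

namespace Groth.Agent.LeadLam
open PowerSeries LambdaRing Finset

universe u

section ODE
variable {K : Type u} [CommRing K]

theorem unit_cancel {F A B : PowerSeries K} (hF : constantCoeff F = 1) (h : F * A = F * B) :
    A = B := by
  have hinv : F.invOfUnit 1 * F = 1 := PowerSeries.invOfUnit_mul F 1 (by simpa using hF)
  calc A = (F.invOfUnit 1 * F) * A := by rw [hinv, one_mul]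
    _ = F.invOfUnit 1 * (F * A) := by rw [mul_assoc]
    _ = F.invOfUnit 1 * (F * B) := by rw [h]
    _ = (F.invOfUnit 1 * F) * B := by rw [mul_assoc]
    _ = B := by rw [hinv, one_mul]

theorem inv_mul_natCast [Algebra ℚ K] (n : ℕ) :
    algebraMap ℚ K (((n : ℚ) + 1)⁻¹) * ((n : K) + 1) = 1 := by
  have : ((n : K) + 1) = algebraMap ℚ K ((n : ℚ) + 1) := by simp
  rw [this, ← map_mul, inv_mul_cancel₀ (by positivity), map_one]

theorem natCast_cancel [Algebra ℚ K] (n : ℕ) {a b : K}
    (h : a * ((n : K) + 1) = b * ((n : K) + 1)) : a = b := by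
  have hu : ((n : K) + 1) * algebraMap ℚ K (((n : ℚ) + 1)⁻¹) = 1 := by
    rw [mul_comm]; exact inv_mul_natCast n
  calc a = a * (((n : K) + 1) * algebraMap ℚ K (((n : ℚ) + 1)⁻¹)) := by rw [hu, mul_one]
    _ = (a * ((n : K) + 1)) * algebraMap ℚ K (((n : ℚ) + 1)⁻¹) := by rw [mul_assoc]
    _ = (b * ((n : K) + 1)) * algebraMap ℚ K (((n : ℚ) + 1)⁻¹) := by rw [h]
    _ = b * (((n : K) + 1) * algebraMap ℚ K (((n : ℚ) + 1)⁻¹)) := by rw [mul_assoc]
    _ = b := by rw [hu, mul_one]

theorem ode_unique [Algebra ℚ K] {F G L : PowerSeries K}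
    (hF : PowerSeries.derivative K F = F * L) (hG : PowerSeries.derivative K G = G * L)
    (h0 : coeff 0 F = coeff 0 G) : F = G := by
  ext n
  induction n using Nat.strong_induction_on with
  | _ n ih =>
    rcases n with _ | n
    · exact h0
    · have h1 := congrArg (coeff n) hF
      have h2 := congrArg (coeff n) hG
      rw [coeff_derivative, coeff_mul] at h1 h2
      apply natCast_cancel n
      rw [h1, h2]
      apply Finset.sum_congr rfl
      intro p hp
      have : p.1 ≤ n := by have := Finset.HasAntidiagonal.mem_antidiagonal.mp hp; omega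
      rw [ih p.1 (Nat.lt_succ_of_le this)]

theorem map_derivative {K' : Type u} [CommRing K'] (f : K →+* K') (F : PowerSeries K) :
    PowerSeries.map f (PowerSeries.derivative K F)
      = PowerSeries.derivative K' (PowerSeries.map f F) := by
  ext n
  rw [coeff_map, coeff_derivative, coeff_derivative, coeff_map, map_mul, map_add, map_natCast,
    map_one]

end ODE

section Lam
variable {K : Type u} [CommRing K] [LambdaOps K]

theorem constantCoeff_lamSeries (x : K) : constantCoeff (lamSeries x) = 1 := by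
  rw [← coeff_zero_eq_constantCoeff_apply, lamSeries, coeff_mk, LambdaOps.lam_zero]

theorem lamSeries_sol (x : K) :
    PowerSeries.derivative K (lamSeries x) = lamSeries x * logDerivSeries x := by
  have h : lamSeries x * (lamSeries x).invOfUnit 1 = 1 :=
    PowerSeries.mul_invOfUnit _ 1 (by simpa using constantCoeff_lamSeries x)
  rw [logDerivSeries, mul_left_comm, h, mul_one]

theorem coeff_logDeriv (k : ℕ) (x : K) :
    coeff k (logDerivSeries x) = (-1) ^ k * adamsOp (k + 1) x := by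
  show _ = (-1 : K) ^ k * ((-1) ^ k * coeff k (logDerivSeries x))
  rw [← mul_assoc, ← mul_pow]; simp

theorem LambdaOps_ext (L L' : LambdaOps K)
    (h : ∀ n x, @LambdaOps.lam K _ L n x = @LambdaOps.lam K _ L' n x) : L = L' := by
  cases L with
  | mk lam a b c =>
    cases L' with
    | mk lam' a' b' c' =>
      have : lam = lam' := by funext n x; exact h n x
      subst this
      rfl

end Lam

section Construct
variable {K : Type u} [CommRing K] [Algebra ℚ K]

/-- The solution of `F' = F * (Σ c_j t^j)`, `F(0) = 1`, coefficientwise. -/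
noncomputable def lamRec (c : ℕ → K) : ℕ → K
  | 0 => 1
  | n + 1 => algebraMap ℚ K (((n : ℚ) + 1)⁻¹) * ∑ i : Fin (n + 1), lamRec c i.1 * c (n - i.1)
decreasing_by exact i.2

theorem lamRec_zero (c : ℕ → K) : lamRec c 0 = 1 := by rw [lamRec]

theorem lamRec_succ (c : ℕ → K) (n : ℕ) :
    lamRec c (n + 1) * ((n : K) + 1) = ∑ p ∈ antidiagonal n, lamRec c p.1 * c p.2 := by
  have e1 : lamRec c (n + 1) = algebraMap ℚ K (((n : ℚ) + 1)⁻¹) *
      ∑ i : Fin (n + 1), lamRec c i.1 * c (n - i.1) := by rw [lamRec]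
  have e2 : ∑ p ∈ antidiagonal n, lamRec c p.1 * c p.2
      = ∑ i : Fin (n + 1), lamRec c i.1 * c (n - i.1) := by
    rw [Finset.Nat.sum_antidiagonal_eq_sum_range_succ_mk, Finset.sum_range]
  rw [e1, e2, mul_right_comm, inv_mul_natCast, one_mul]

theorem F_sol (c : ℕ → K) :
    PowerSeries.derivative K (PowerSeries.mk (lamRec c))
      = PowerSeries.mk (lamRec c) * PowerSeries.mk c := by
  ext n
  rw [coeff_derivative, coeff_mk, coeff_mul, lamRec_succ]
  apply Finset.sum_congr rfl
  intro p _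
  rw [coeff_mk, coeff_mk]

variable (ψ : ℕ → K →+ K)

/-- coefficients of the logarithmic derivative attached to `ψ` -/
def cψ (x : K) : ℕ → K := fun j => (-1) ^ j * ψ (j + 1) x

theorem mk_c_add (x y : K) :
    PowerSeries.mk (cψ ψ (x + y)) = PowerSeries.mk (cψ ψ x) + PowerSeries.mk (cψ ψ y) := by
  ext n; simp [cψ, mul_add]

theorem F_add (x y : K) : PowerSeries.mk (lamRec (cψ ψ (x + y)))
    = PowerSeries.mk (lamRec (cψ ψ x)) * PowerSeries.mk (lamRec (cψ ψ y)) := by
  apply ode_unique (L := PowerSeries.mk (cψ ψ (x + y))) (F_sol _)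
  · rw [Derivation.leibniz, F_sol, F_sol, mk_c_add]
    simp only [smul_eq_mul]; ring
  · rw [coeff_mul]; simp [lamRec_zero]

/-- The pre-λ-structure with Adams operations `ψ`. -/
noncomputable def Lmk (hψ : ψ 1 = AddMonoidHom.id K) : LambdaOps K where
  lam n x := lamRec (cψ ψ x) n
  lam_zero x := lamRec_zero _
  lam_one x := by
    have h := lamRec_succ (cψ ψ x) 0
    simp [lamRec_zero, cψ, hψ] at h
    exact h
  lam_add k x y := by
    have h := congrArg (coeff k) (F_add ψ x y)
    rw [coeff_mk, coeff_mul, Finset.Nat.sum_antidiagonal_eq_sum_range_succ_mk] at h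
    simpa [coeff_mk] using h

theorem logDeriv_Lmk (hψ : ψ 1 = AddMonoidHom.id K) (x : K) :
    @logDerivSeries K _ (Lmk ψ hψ) x = PowerSeries.mk (cψ ψ x) := by
  have h1 := @lamSeries_sol K _ (Lmk ψ hψ) x
  have h2 := F_sol (cψ ψ x)
  have h3 : @lamSeries K _ (Lmk ψ hψ) x = PowerSeries.mk (lamRec (cψ ψ x)) := rfl
  have h4 := @constantCoeff_lamSeries K _ (Lmk ψ hψ) x
  rw [h3] at h1 h4
  exact unit_cancel h4 (h1.symm.trans h2)

theorem adams_Lmk (hψ : ψ 1 = AddMonoidHom.id K) (k : ℕ) (hk : 1 ≤ k) (x : K) :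
    @adamsOp K _ (Lmk ψ hψ) k x = ψ k x := by
  obtain ⟨k, rfl⟩ : ∃ k', k = k' + 1 := ⟨k - 1, by omega⟩
  show (-1 : K) ^ k * coeff k (@logDerivSeries K _ (Lmk ψ hψ) x) = ψ (k + 1) x
  rw [logDeriv_Lmk, coeff_mk]
  show (-1 : K) ^ k * ((-1) ^ k * ψ (k + 1) x) = ψ (k + 1) x
  rw [← mul_assoc, ← mul_pow]; simp

theorem lam_eq_lamRec [LambdaOps K] (h : ∀ k, 1 ≤ k → ∀ x : K, adamsOp k x = ψ k x)
    (n : ℕ) (x : K) : LambdaOps.lam n x = lamRec (cψ ψ x) n := by
  have hL : logDerivSeries x = PowerSeries.mk (cψ ψ x) := by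
    ext k
    rw [coeff_logDeriv, h (k + 1) (by omega), coeff_mk]
    rfl
  have h1 := lamSeries_sol x
  rw [hL] at h1
  have hh := ode_unique h1 (F_sol (cψ ψ x))
    (by rw [lamSeries, coeff_mk, coeff_mk, LambdaOps.lam_zero, lamRec_zero])
  have := congrArg (coeff n) hh
  rwa [lamSeries, coeff_mk, coeff_mk] at this

theorem exists_unique_lambdaOps (hψ : ψ 1 = AddMonoidHom.id K) :
    ∃! L : LambdaOps K, ∀ k : ℕ, 1 ≤ k → ∀ x : K, @adamsOp K _ L k x = ψ k x := by
  refine ⟨Lmk ψ hψ, fun k hk x => adams_Lmk ψ hψ k hk x, fun L' hL' => ?_⟩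
  apply LambdaOps_ext
  intro n x
  exact @lam_eq_lamRec K _ _ ψ L' hL' n x

end Construct

end Groth.Agent.LeadLam
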