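import Mathlib
import Groth.Prelude.Def_W4bk4bump814p2PDiff

/-! The filtration `Σ^i` of Kaehler differentials in characteristic `p`. -/

namespace Groth.Agent.Lib.lead.PDiff
open W4bk4bump814p2 MvPolynomial KaehlerDifferential

universe u v

section universal
variable (p : ℕ) [hp : Fact p.Prime]

noncomputable def wsum : WittVector p (MvPolynomial (Fin 2) ℤ) :=
  WittVector.teichmuller p (X 0) + WittVector.teichmuller p (X 1)

noncomputable def S (i : ℕ) : MvPolynomial (Fin 2) ℤ := (wsum p).coeff i

lemma S_zero : S p 0 = X 0 + X 1 := by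
  unfold S wsum
  rw [WittVector.add_coeff_zero, WittVector.teichmuller_coeff_zero,
    WittVector.teichmuller_coeff_zero]

lemma ghost_id (n : ℕ) :
    ∑ i ∈ Finset.range (n+1), (p : MvPolynomial (Fin 2) ℤ)^i * (S p i)^(p^(n-i)) =
      (X 0)^(p^n) + (X 1)^(p^n) := by
  have h := map_add (WittVector.ghostComponent (p := p) n)
    (WittVector.teichmuller p (X 0 : MvPolynomial (Fin 2) ℤ)) (WittVector.teichmuller p (X 1))
  rw [WittVector.ghostComponent_teichmuller, WittVector.ghostComponent_teichmuller] at h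
  rw [← h, WittVector.ghostComponent_apply, aeval_wittPolynomial]
  rfl

lemma key_id (n : ℕ) (j : Fin 2) :
    ∑ i ∈ Finset.range (n+1), (S p i)^(p^(n-i) - 1) * pderiv j (S p i) =
      (X j : MvPolynomial (Fin 2) ℤ)^(p^n - 1) := by
  have h := congrArg (pderiv j) (ghost_id p n)
  have hp0 : ((p : MvPolynomial (Fin 2) ℤ)^n) ≠ 0 :=
    pow_ne_zero _ (Nat.cast_ne_zero.2 hp.out.ne_zero)
  apply mul_left_cancel₀ hp0
  rw [Finset.mul_sum]
  have hL : pderiv j (∑ i ∈ Finset.range (n+1),
      (p : MvPolynomial (Fin 2) ℤ)^i * (S p i)^(p^(n-i))) =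
      ∑ i ∈ Finset.range (n+1), (p : MvPolynomial (Fin 2) ℤ)^n *
        ((S p i)^(p^(n-i) - 1) * pderiv j (S p i)) := by
    rw [map_sum]
    refine Finset.sum_congr rfl (fun i hi => ?_)
    have hi' : i ≤ n := Nat.lt_succ_iff.1 (Finset.mem_range.1 hi)
    have hc : pderiv j ((p : MvPolynomial (Fin 2) ℤ)^i) = 0 := by
      have h1 : ((p : MvPolynomial (Fin 2) ℤ)^i) = C ((p:ℤ)^i) := by simp
      rw [h1, pderiv_C]
    rw [Derivation.leibniz, hc, smul_zero, add_zero, Derivation.leibniz_pow, smul_eq_mul,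
      nsmul_eq_mul, smul_eq_mul]
    have hpn : (p : MvPolynomial (Fin 2) ℤ)^n =
        (p : MvPolynomial (Fin 2) ℤ)^i * ((p^(n-i) : ℕ) : MvPolynomial (Fin 2) ℤ) := by
      rw [Nat.cast_pow, ← pow_add, Nat.add_sub_cancel' hi']
    rw [hpn]; ring
  have hR : pderiv j ((X 0 : MvPolynomial (Fin 2) ℤ)^(p^n) + (X 1)^(p^n)) =
      (p : MvPolynomial (Fin 2) ℤ)^n * (X j)^(p^n - 1) := by
    rw [map_add, Derivation.leibniz_pow, Derivation.leibniz_pow, pderiv_X, pderiv_X]
    fin_cases j <;> simp [Pi.single_apply, nsmul_eq_mul]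
  rw [hL, hR] at h
  exact h

end universal

section chain
variable {K : Type u} {A : Type v} [Field K] [CommRing A] [Algebra K A]

lemma chainMv {σ : Type*} [Fintype σ] [DecidableEq σ] (v : σ → A) (G : MvPolynomial σ ℤ) :
    D K A (aeval v G) = ∑ j, (aeval v (pderiv j G)) • D K A (v j) := by
  induction G using MvPolynomial.induction_on with
  | C a =>
    have h1 : aeval v (C a : MvPolynomial σ ℤ) = algebraMap K A (a : K) := by
      rw [aeval_C]; simp
    rw [h1, Derivation.map_algebraMap]
    simp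
  | add f g hf hg =>
    rw [map_add, map_add, hf, hg, ← Finset.sum_add_distrib]
    refine Finset.sum_congr rfl (fun j _ => ?_)
    rw [map_add, map_add, add_smul]
  | mul_X f i hf =>
    rw [map_mul, aeval_X, Derivation.leibniz, hf, Finset.smul_sum]
    have h2 : ∀ j, aeval v (pderiv j (f * X i)) =
        aeval v f * (if i = j then 1 else 0) + v i * aeval v (pderiv j f) := by
      intro j
      rw [Derivation.leibniz, pderiv_X, smul_eq_mul, smul_eq_mul, map_add, map_mul, map_mul,
        aeval_X, Pi.single_apply]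
      split_ifs with h <;> simp
    simp_rw [h2, add_smul, Finset.sum_add_distrib, smul_smul]
    congr 1
    rw [Finset.sum_eq_single i]
    · simp
    · intro j _ hj; simp [Ne.symm hj]
    · intro h; exact absurd (Finset.mem_univ i) h

end chain

section main
variable {K : Type u} {A : Type v} [Field K] [CommRing A] [Algebra K A]
variable (p : ℕ) [hp : Fact p.Prime]

lemma sum_delta (n : ℕ) (x y : A) :
    ∑ i ∈ Finset.range (n+1), delta K A p (n - i) (aeval ![x, y] (S p i)) =
      delta K A p n x + delta K A p n y := by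
  unfold delta
  have hch := fun G => chainMv (K := K) (![x, y] : Fin 2 → A) G
  calc ∑ i ∈ Finset.range (n+1), (aeval ![x, y] (S p i))^(p^(n-i) - 1) •
        D K A (aeval ![x, y] (S p i))
      = ∑ i ∈ Finset.range (n+1), ∑ j, (aeval ![x, y]
          ((S p i)^(p^(n-i)-1) * pderiv j (S p i))) • D K A ((![x, y] : Fin 2 → A) j) := by
        refine Finset.sum_congr rfl (fun i _ => ?_)
        rw [hch, Finset.smul_sum]
        refine Finset.sum_congr rfl (fun j _ => ?_)
        rw [smul_smul, map_mul, map_pow]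
    _ = ∑ j, (aeval ![x, y] (∑ i ∈ Finset.range (n+1),
          (S p i)^(p^(n-i)-1) * pderiv j (S p i))) • D K A ((![x, y] : Fin 2 → A) j) := by
        rw [Finset.sum_comm]
        refine Finset.sum_congr rfl (fun j _ => ?_)
        rw [map_sum, Finset.sum_smul]
    _ = ∑ j, (aeval ![x, y] ((X j : MvPolynomial (Fin 2) ℤ)^(p^n - 1))) •
          D K A ((![x, y] : Fin 2 → A) j) := by
        refine Finset.sum_congr rfl (fun j _ => ?_)
        rw [key_id]
    _ = _ := by
        rw [Fin.sum_univ_two]; simp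

lemma sum_mem_sigma (n : ℕ) (t : ℕ → A) :
    ∑ j ∈ Finset.range n, delta K A p j (t j) ∈ sigma K A p n := by
  induction n with
  | zero => simp
  | succ n ih =>
    rw [mem_sigma_succ]
    exact ⟨t n, by rw [Finset.sum_range_succ, add_sub_cancel_right]; exact ih⟩

variable [CharP K p]

omit hp in
lemma hchar (K : Type u) {A : Type v} [Field K] [CommRing A] [Algebra K A] (p : ℕ) [CharP K p] :
    (p : A) = 0 := by
  rw [← map_natCast (algebraMap K A), CharP.cast_eq_zero, map_zero]

lemma delta_neg (m : ℕ) (s : A) : delta K A p m (-s) = - delta K A p m s := by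
  unfold delta
  rw [map_neg, smul_neg, neg_pow, mul_smul]
  have h1 : ((-1 : A))^(p^m - 1) = 1 := by
    rcases hp.out.eq_two_or_odd' with h2 | hodd
    · have h3 : (2 : A) = 0 := by
        have := hchar K (A := A) p
        rw [h2] at this
        exact_mod_cast this
      have h4 : (-1 : A) = 1 := by linear_combination (-1 : A) * h3
      rw [h4, one_pow]
    · have hev : Even (p^m - 1) := Nat.Odd.sub_odd hodd.pow odd_one
      exact hev.neg_one_pow
  rw [h1, one_smul]

theorem s12623 (i : ℕ) (x y : A) :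
    delta K A p i (x + y) - delta K A p i x - delta K A p i y ∈ sigma K A p i := by
  have hsum := sum_delta (K := K) p i x y
  rw [Finset.sum_range_succ'] at hsum
  have h0 : delta K A p (i - 0) (aeval ![x, y] (S p 0)) = delta K A p i (x + y) := by
    rw [S_zero, Nat.sub_zero]; simp
  rw [h0] at hsum
  have h2 : delta K A p i (x + y) - delta K A p i x - delta K A p i y =
      ∑ j ∈ Finset.range i, delta K A p (i - (j+1)) (-(aeval ![x, y] (S p (j+1)))) := by
    simp_rw [delta_neg (K := K) p]
    rw [Finset.sum_neg_distrib, sub_sub, ← hsum]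
    abel
  rw [h2]
  have h3 : ∑ j ∈ Finset.range i, delta K A p (i - (j+1)) (-(aeval ![x, y] (S p (j+1)))) =
      ∑ j ∈ Finset.range i, delta K A p j (-(aeval ![x, y] (S p (i - j)))) := by
    rw [← Finset.sum_range_reflect (fun j => delta K A p j (-(aeval ![x, y] (S p (i - j))))) i]
    refine Finset.sum_congr rfl (fun j hj => ?_)
    rw [Finset.mem_range] at hj
    have e1 : i - 1 - j = i - (j+1) := by omega
    have e2 : i - (i - (j+1)) = j + 1 := by omega
    simp only [e1, e2]
  rw [h3]
  exact sum_mem_sigma (K := K) p i _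

lemma delta_zero' (i : ℕ) : delta K A p i (0 : A) = 0 := by
  unfold delta; rw [map_zero, smul_zero]

lemma zero_mem_sigma (i : ℕ) : (0 : Ω[A⁄K]) ∈ sigma K A p i := by
  induction i with
  | zero => simp
  | succ i ih => rw [mem_sigma_succ]; exact ⟨0, by rw [delta_zero', sub_zero]; exact ih⟩

lemma sigma_mono_succ (i : ℕ) {ω : Ω[A⁄K]} (h : ω ∈ sigma K A p i) : ω ∈ sigma K A p (i+1) :=
  ⟨0, by rw [delta_zero', sub_zero]; exact h⟩

lemma sigma_mono {i j : ℕ} (hij : i ≤ j) {ω : Ω[A⁄K]} (h : ω ∈ sigma K A p i) :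
    ω ∈ sigma K A p j := by
  induction hij with
  | refl => exact h
  | step _ ih => exact sigma_mono_succ p _ ih

theorem add_neg_mem (i : ℕ) :
    (∀ ω₁ ω₂ : Ω[A⁄K], ω₁ ∈ sigma K A p i → ω₂ ∈ sigma K A p i → ω₁ + ω₂ ∈ sigma K A p i) ∧
    (∀ ω : Ω[A⁄K], ω ∈ sigma K A p i → -ω ∈ sigma K A p i) := by
  induction i with
  | zero =>
    constructor
    · intro ω₁ ω₂ h₁ h₂
      rw [sigma_zero, Set.mem_singleton_iff] at h₁ h₂ ⊢
      rw [h₁, h₂, add_zero]
    · intro ω h
      rw [sigma_zero, Set.mem_singleton_iff] at h ⊢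
      rw [h, neg_zero]
  | succ i ih =>
    obtain ⟨ihadd, ihneg⟩ := ih
    constructor
    · rintro ω₁ ω₂ ⟨x₁, h₁⟩ ⟨x₂, h₂⟩
      refine ⟨x₁ + x₂, ?_⟩
      have hd := s12623 (K := K) p i x₁ x₂
      have e : ω₁ + ω₂ - delta K A p i (x₁ + x₂) =
          (ω₁ - delta K A p i x₁) + (ω₂ - delta K A p i x₂) +
            -(delta K A p i (x₁ + x₂) - delta K A p i x₁ - delta K A p i x₂) := by abel
      rw [e]
      exact ihadd _ _ (ihadd _ _ h₁ h₂) (ihneg _ hd)
    · rintro ω ⟨x, h⟩
      refine ⟨-x, ?_⟩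
      have e : -ω - delta K A p i (-x) = -(ω - delta K A p i x) := by
        rw [delta_neg (K := K) p]; abel
      rw [e]
      exact ihneg _ h

theorem s12625 (i : ℕ) :
    sigma K A p i =
      (AddSubgroup.closure (⋃ j ∈ Finset.range i, Set.range (delta K A p j)) :
        Set (Ω[A⁄K])) := by
  apply Set.Subset.antisymm
  · induction i with
    | zero =>
      intro ω hω
      rw [sigma_zero, Set.mem_singleton_iff] at hω
      rw [hω]
      exact zero_mem _
    | succ i ih =>
      rintro ω ⟨x, hx⟩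
      have h1 := ih hx
      have hmono : AddSubgroup.closure (⋃ j ∈ Finset.range i, Set.range (delta K A p j)) ≤
          AddSubgroup.closure (⋃ j ∈ Finset.range (i+1), Set.range (delta K A p j)) := by
        apply AddSubgroup.closure_mono
        intro z hz
        simp only [Set.mem_iUnion, Finset.mem_range] at hz ⊢
        obtain ⟨j, hj, hz⟩ := hz
        exact ⟨j, by omega, hz⟩
      have h2 : delta K A p i x ∈
          AddSubgroup.closure (⋃ j ∈ Finset.range (i+1), Set.range (delta K A p j)) := by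
        apply AddSubgroup.subset_closure
        simp only [Set.mem_iUnion, Finset.mem_range]
        exact ⟨i, by omega, x, rfl⟩
      have e : ω = (ω - delta K A p i x) + delta K A p i x := by abel
      rw [e]
      exact add_mem (hmono h1) h2
  · let G : AddSubgroup Ω[A⁄K] :=
      { carrier := sigma K A p i
        zero_mem' := zero_mem_sigma p i
        add_mem' := fun h1 h2 => (add_neg_mem p i).1 _ _ h1 h2
        neg_mem' := fun h => (add_neg_mem p i).2 _ h }
    have hG : AddSubgroup.closure (⋃ j ∈ Finset.range i, Set.range (delta K A p j)) ≤ G := by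
      rw [AddSubgroup.closure_le]
      intro z hz
      simp only [Set.mem_iUnion, Finset.mem_range] at hz
      obtain ⟨j, hj, x, rfl⟩ := hz
      show delta K A p j x ∈ sigma K A p i
      exact sigma_mono p (by omega : j + 1 ≤ i) ⟨x, by rw [sub_self]; exact zero_mem_sigma p j⟩
    exact hG

variable [PerfectField K]

lemma exists_root (c : K) (i : ℕ) : ∃ c' : K, c' ^ (p^i) = c := by
  induction i generalizing c with
  | zero => exact ⟨c, by simp⟩
  | succ i ih =>
    obtain ⟨d, hd⟩ := ih c
    haveI : ExpChar K p := ExpChar.prime hp.out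
    haveI := PerfectField.toPerfectRing (K := K) p
    obtain ⟨e, he⟩ := surjective_frobenius K p d
    refine ⟨e, ?_⟩
    have he' : e ^ p = d := by rw [← frobenius_def]; exact he
    rw [pow_succ', pow_mul, he', hd]

omit [CharP K p] [PerfectField K] in
lemma delta_smul (c' : K) (i : ℕ) (x : A) :
    delta K A p i (c' • x) = (c'^(p^i)) • delta K A p i x := by
  unfold delta
  have hpi : 1 ≤ p^i := Nat.one_le_pow _ _ hp.out.pos
  rw [smul_pow, Derivation.map_smul, smul_assoc, smul_comm (x ^ (p^i - 1)) c', smul_smul]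
  congr 1
  rw [← pow_succ, Nat.sub_add_cancel hpi]

theorem smul_mem (i : ℕ) (c : K) : ∀ ω : Ω[A⁄K], ω ∈ sigma K A p i → c • ω ∈ sigma K A p i := by
  induction i with
  | zero =>
    intro ω h
    rw [sigma_zero, Set.mem_singleton_iff] at h ⊢
    rw [h, smul_zero]
  | succ i ih =>
    rintro ω ⟨x, hx⟩
    obtain ⟨c', hc'⟩ := exists_root p c i
    refine ⟨c' • x, ?_⟩
    rw [delta_smul, hc', ← smul_sub]
    exact ih _ hx

theorem s12624 (i : ℕ) :
    ∃ S : Submodule K (Ω[A⁄K]), (S : Set (Ω[A⁄K])) = sigma K A p i :=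
  ⟨{ carrier := sigma K A p i
     zero_mem' := zero_mem_sigma p i
     add_mem' := fun h1 h2 => (add_neg_mem p i).1 _ _ h1 h2
     smul_mem' := fun c ω h => smul_mem p i c ω h }, rfl⟩

omit [PerfectField K] in
theorem s12626 (i : ℕ) : ∀ (x : A) (ω : Ω[A⁄K]), ω ∈ sigma K A p i →
    (x ^ (p ^ i)) • ω ∈ sigma K A p i := by
  induction i with
  | zero =>
    intro x ω hω
    rw [sigma_zero, Set.mem_singleton_iff] at hω ⊢
    rw [hω, smul_zero]
  | succ i ih =>
    rintro x ω ⟨y, hy⟩
    refine ⟨x^p * y, ?_⟩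
    have hd : delta K A p i (x^p * y) = (x^(p^(i+1))) • delta K A p i y := by
      unfold delta
      have hDxp : D K A (x^p) = 0 := by
        rw [Derivation.leibniz_pow, ← Nat.cast_smul_eq_nsmul A, hchar K (A := A) p, zero_smul]
      rw [Derivation.leibniz, hDxp, smul_zero, add_zero, smul_smul, smul_smul]
      congr 1
      obtain ⟨q, hq⟩ : ∃ q, p^i = q + 1 := ⟨p^i - 1, by
        have := Nat.one_le_pow i p hp.out.pos; omega⟩
      have he : p^(i+1) = p * q + p := by rw [pow_succ', hq]; ring
      rw [he, hq, Nat.add_sub_cancel, mul_pow, ← pow_mul, pow_add]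
      ring
    rw [hd, ← smul_sub, pow_succ', pow_mul]
    exact ih (x^p) _ hy

end main

end Groth.Agent.Lib.lead.PDiff
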