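import Mathlib
import Groth.Prelude.Def_W4bk4goldsch45
import Groth.Agent.Lib.lead.NS3

/-! Sections of large multiples of a very ample-type divisor are polynomials in the coordinates,
provided the local rings of the coordinate charts are the valuation rings. -/

namespace Groth.Agent.Lib.lead.Pl1
open FunFld Groth.Agent.Lib.lead.FF Groth.Agent.Lib.lead.FF2 Groth.Agent.Lib.lead.FF3
  Groth.Agent.Lib.lead.FF4
  Groth.Agent.Lib.lead.FF5 Groth.Agent.Lib.lead.FF6 Groth.Agent.Lib.lead.FF7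
  Groth.Agent.Lib.lead.FF8 Groth.Agent.Lib.lead.FF9 Groth.Agent.Lib.lead.FF10
  Groth.Agent.Lib.lead.FF11 Groth.Agent.Lib.lead.FF12 Groth.Agent.Lib.lead.FF13
  Groth.Agent.Lib.lead.FF14 Groth.Agent.Lib.lead.FF15 Groth.Agent.Lib.lead.FF16
  Groth.Agent.Lib.lead.FF17 Groth.Agent.Lib.lead.Loc Groth.Agent.Lib.lead.Emb
  Groth.Agent.Lib.lead.Emb2 Groth.Agent.Lib.lead.NS Groth.Agent.Lib.lead.NS2
  Groth.Agent.Lib.lead.NS3

variable {k K : Type*} [Field k] [Field K] [Algebra k K]

/-- graded adjoin induction -/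
lemma adj_ind (S : Set K) (T : ℕ → Submodule k K) (ρ : K) (hT1 : (1 : K) ∈ T 0)
    (hmul : ∀ a b : ℕ, ∀ x y : K, x ∈ T a → y ∈ T b → x * y ∈ T (a + b))
    (hρ : ρ ∈ T 1) (hgen : ∀ v ∈ S, v * ρ ∈ T 1) :
    ∀ a ∈ Algebra.adjoin k S, ∃ D : ℕ, ∀ D' : ℕ, D ≤ D' → a * ρ ^ D' ∈ T D' := by
  have hpow : ∀ n : ℕ, ρ ^ n ∈ T n := by
    intro n
    induction n with
    | zero => rw [pow_zero]; exact hT1
    | succ n ih => rw [pow_succ]; exact hmul n 1 _ _ ih hρ
  intro a ha
  induction ha using Algebra.adjoin_induction with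
  | mem v hv =>
    refine ⟨1, fun D' hD' => ?_⟩
    obtain ⟨e, rfl⟩ := Nat.exists_eq_add_of_le hD'
    rw [pow_add, pow_one, ← mul_assoc]
    exact hmul 1 e _ _ (hgen v hv) (hpow e)
  | algebraMap c =>
    refine ⟨0, fun D' _ => ?_⟩
    rw [← Algebra.smul_def]
    exact Submodule.smul_mem _ c (hpow D')
  | add a b _ _ iha ihb =>
    obtain ⟨Da, hDa⟩ := iha
    obtain ⟨Db, hDb⟩ := ihb
    refine ⟨max Da Db, fun D' hD' => ?_⟩
    rw [add_mul]
    exact Submodule.add_mem _ (hDa D' (le_trans (le_max_left _ _) hD'))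
      (hDb D' (le_trans (le_max_right _ _) hD'))
  | mul a b _ _ iha ihb =>
    obtain ⟨Da, hDa⟩ := iha
    obtain ⟨Db, hDb⟩ := ihb
    refine ⟨Da + Db, fun D' hD' => ?_⟩
    obtain ⟨e, rfl⟩ := Nat.exists_eq_add_of_le hD'
    have h1 := hmul Da (Db + e) _ _ (hDa Da le_rfl) (hDb (Db + e) (Nat.le_add_right _ _))
    have he : a * b * ρ ^ (Da + Db + e) = a * ρ ^ Da * (b * ρ ^ (Db + e)) := by
      rw [add_assoc, pow_add]
      ring
    rw [he, add_assoc]
    exact h1

/-- local-to-global membership in a subalgebra -/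
lemma loc_glob (hK : IsFunctionField k K) (A : Subalgebra k K) (g : K)
    (hden : ∃ d ∈ A, d ≠ 0 ∧ d * g ∈ A)
    (hloc : ∀ P : Place k K, (∀ a ∈ A, P.1 a ≤ 1) → ∃ w ∈ A, P.1 w = 1 ∧ g * w ∈ A) :
    g ∈ A := by
  classical
  obtain ⟨A', hA'⟩ : ∃ A' : Subring K, A' = A.toSubring := ⟨_, rfl⟩
  have hmem : ∀ y : K, y ∈ A' ↔ y ∈ A := fun y => by rw [hA']; exact Iff.rfl
  let I : Ideal A' :=
    { carrier := {w | g * (w : K) ∈ A}
      add_mem' := fun {a b} ha hb => by
        show g * ((a + b : A') : K) ∈ A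
        rw [Subring.coe_add, mul_add]
        exact A.add_mem ha hb
      zero_mem' := by
        show g * ((0 : A') : K) ∈ A
        rw [Subring.coe_zero, mul_zero]
        exact A.zero_mem
      smul_mem' := fun c a ha => by
        show g * ((c * a : A') : K) ∈ A
        rw [Subring.coe_mul, mul_left_comm]
        exact A.mul_mem ((hmem _).1 c.2) ha }
  by_cases hI : I = ⊤
  · have h1 : (1 : A') ∈ I := by rw [hI]; exact Submodule.mem_top
    have h2 : g * ((1 : A') : K) ∈ A := h1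
    rwa [Subring.coe_one, mul_one] at h2
  · exfalso
    obtain ⟨B, hAB, hsub⟩ := Ideal.image_subset_nonunits_valuationSubring I hI
    have hk : ∀ c : k, algebraMap k K c ∈ B := fun c =>
      hAB ((hmem _).2 (A.algebraMap_mem c))
    obtain ⟨d, hdA, hd0, hdg⟩ := hden
    have hdI : (⟨d, (hmem d).2 hdA⟩ : A') ∈ I := by
      show g * d ∈ A
      rwa [mul_comm]
    have hdB : d ∈ B.nonunits := hsub ⟨⟨d, (hmem d).2 hdA⟩, hdI, rfl⟩
    have hdlt : B.valuation d < 1 := (B.mem_nonunits_iff).1 hdB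
    obtain ⟨P, hP⟩ := exists_place hK B hk hd0 hdlt
    obtain ⟨w, hwA, hw1, hgw⟩ := hloc P (fun a ha => (hP a).1.2 (hAB ((hmem a).2 ha)))
    have hwI : (⟨w, (hmem w).2 hwA⟩ : A') ∈ I := hgw
    have hwB : w ∈ B.nonunits := hsub ⟨⟨w, (hmem w).2 hwA⟩, hwI, rfl⟩
    have hwlt : P.1 w < 1 := (hP w).2.2 ((B.mem_nonunits_iff).1 hwB)
    rw [hw1] at hwlt
    exact lt_irrefl _ hwlt

/-- sections of large multiples are polynomials of that degree in the coordinates -/
theorem sections_le_pow [IsAlgClosed k] (hK : IsFunctionField k K) (E : Divisor k K)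
    (hE0 : 0 ≤ E) (hdeg1 : 1 ≤ E.deg) (W : Submodule k K) (hWE : W ≤ L E)
    (hb1 : ∀ R : Place k K, ∃ t ∈ W, t ∉ L (E - Finsupp.single R 1))
    (h1W : (1 : K) ∈ W) (hgen : IntermediateField.adjoin k (W : Set K) = ⊤)
    (hloc : ∀ σ ∈ W, σ ≠ 0 → ∀ P : Place k K, P.1 σ = WithZero.exp (E P) → ∀ g : K, P.1 g ≤ 1 →
      ∃ w ∈ Algebra.adjoin k ((fun v => v / σ) '' (W : Set K)), P.1 w = 1 ∧
        g * w ∈ Algebra.adjoin k ((fun v => v / σ) '' (W : Set K))) :
    ∃ m₁ : ℕ, ∀ m : ℕ, m₁ ≤ m → L (m • E) ≤ W ^ m := by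
  classical
  have hg0 : (0 : ℤ) ≤ genus k K := Nat.cast_nonneg _
  obtain ⟨R₀⟩ : Nonempty (Place k K) := (infinite_places hK).nonempty
  obtain ⟨s, t, hsW, htW, hs0, hst⟩ := exists_pencil_sub hK E W hWE R₀ hb1
  have hs : s ∈ L E := hWE hsW
  have ht : t ∈ L E := hWE htW
  obtain ⟨m₀, hm₀⟩ : ∃ m₀ : ℕ, m₀ = 2 * genus k K + 1 := ⟨_, rfl⟩
  have hc1 : 2 * (genus k K : ℤ) - 1 ≤ ((m₀ : ℤ) - 1) * E.deg := by
    rw [hm₀]
    push_cast
    nlinarith [mul_nonneg hg0 (sub_nonneg.2 hdeg1)]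
  have h3a : ∀ m : ℕ, m₀ ≤ m → ∀ y ∈ L ((m + 1) • E),
      ∃ a ∈ L (m • E), ∃ b ∈ L (m • E), y = s * a + t * b := by
    intro m hm y hy
    rw [succ_nsmul] at hy
    refine castelnuovo hK E (m • E) hs ht hs0 hst (by linarith) ?_ hy
    rw [Emb.deg_nsmul]
    have h2 : (m₀ : ℤ) ≤ m := by exact_mod_cast hm
    have h3 : ((m₀ : ℤ) - 1) * E.deg ≤ ((m : ℤ) - 1) * E.deg :=
      mul_le_mul_of_nonneg_right (by linarith) (by linarith)
    linarith
  have hWmul : ∀ a b : ℕ, ∀ x y : K, x ∈ W ^ a → y ∈ W ^ b → x * y ∈ W ^ (a + b) := by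
    intro a b x y hx hy
    rw [pow_add]
    exact Submodule.mul_mem_mul hx hy
  have h1W0 : (1 : K) ∈ W ^ 0 := by
    rw [pow_zero]
    exact Submodule.mem_one.2 ⟨1, map_one _⟩
  have hchart : ∀ σ ∈ W, ∃ e₀ : ℕ, ∀ f ∈ L (m₀ • E), ∀ e : ℕ, e₀ ≤ e →
      f * σ ^ e ∈ W ^ (m₀ + e) := by
    intro σ hσW
    by_cases hσ0 : σ = 0
    · refine ⟨1, fun f _ e he => ?_⟩
      rw [hσ0, zero_pow (by omega), mul_zero]
      exact Submodule.zero_mem _
    · obtain ⟨Aσ, hAσ⟩ : ∃ Aσ : Subalgebra k K,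
          Aσ = Algebra.adjoin k ((fun v => v / σ) '' (W : Set K)) := ⟨_, rfl⟩
      have hgenA : ∀ v ∈ W, v / σ ∈ Aσ := fun v hv => by
        rw [hAσ]
        exact Algebra.subset_adjoin ⟨v, hv, rfl⟩
      have hfrac : IntermediateField.adjoin k ((fun v => v / σ) '' (W : Set K)) = ⊤ := by
        rw [eq_top_iff, ← hgen, IntermediateField.adjoin_le_iff]
        intro v hv
        have h1 : v / σ ∈ IntermediateField.adjoin k ((fun v => v / σ) '' (W : Set K)) :=
          IntermediateField.subset_adjoin _ _ ⟨v, hv, rfl⟩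
        have h2 : 1 / σ ∈ IntermediateField.adjoin k ((fun v => v / σ) '' (W : Set K)) :=
          IntermediateField.subset_adjoin _ _ ⟨1, h1W, rfl⟩
        have h3 : v / σ / (1 / σ) = v := by field_simp
        have h4 := IntermediateField.div_mem _ h1 h2
        rwa [h3] at h4
      have hmemA : ∀ f ∈ L (m₀ • E), f / σ ^ m₀ ∈ Aσ := by
        intro f hf
        apply loc_glob hK Aσ
        · obtain ⟨d, hd, hd0, hdb⟩ :=
            exists_den_elt ((fun v => v / σ) '' (W : Set K)) hfrac (f / σ ^ m₀)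
          exact ⟨d, by rw [hAσ]; exact hd, hd0, by rw [hAσ]; exact hdb⟩
        · intro P hP
          have hσle : ∀ v ∈ W, P.1 v ≤ P.1 σ := by
            intro v hv
            have := hP _ (hgenA v hv)
            rwa [val_div_le_one_iff P hσ0] at this
          obtain ⟨t', ht'W, ht'n⟩ := hb1 P
          have ht'v := val_eq_of_mem_not_mem (hWE ht'W) ht'n
          have hσP : P.1 σ = WithZero.exp (E P) :=
            le_antisymm ((mem_L_iff _ _).1 (hWE hσW) P) (ht'v ▸ hσle t' ht'W)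
          have hg1 : P.1 (f / σ ^ m₀) ≤ 1 := by
            have hσm0 : σ ^ m₀ ≠ 0 := pow_ne_zero _ hσ0
            rw [val_div_le_one_iff P hσm0, map_pow, hσP, ← WithZero.exp_nsmul, nsmul_eq_mul,
              ← nsmul_apply']
            exact (mem_L_iff _ _).1 hf P
          obtain ⟨w, hw, hw1, hgw⟩ := hloc σ hσW hσ0 P hσP _ hg1
          exact ⟨w, by rw [hAσ]; exact hw, hw1, by rw [hAσ]; exact hgw⟩
      have hdegb : ∀ a ∈ Aσ, ∃ D : ℕ, ∀ D' : ℕ, D ≤ D' → a * σ ^ D' ∈ W ^ D' := by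
        intro a ha
        rw [hAσ] at ha
        refine adj_ind _ (fun n => W ^ n) σ h1W0 hWmul
          (show σ ∈ W ^ 1 by rw [pow_one]; exact hσW) ?_ a ha
        rintro _ ⟨v, hv, rfl⟩
        show v / σ * σ ∈ W ^ 1
        rw [div_mul_cancel₀ _ hσ0, pow_one]
        exact hv
      have hex : ∀ f ∈ L (m₀ • E), ∃ e₀ : ℕ, ∀ e : ℕ, e₀ ≤ e → f * σ ^ e ∈ W ^ (m₀ + e) := by
        intro f hf
        obtain ⟨D, hD⟩ := hdegb _ (hmemA f hf)
        refine ⟨D, fun e he => ?_⟩
        have h1 := hD (m₀ + e) (by omega)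
        have h2 : f / σ ^ m₀ * σ ^ (m₀ + e) = f * σ ^ e := by
          rw [pow_add]
          field_simp
        rwa [h2] at h1
      haveI := L_finite hK (m₀ • E)
      obtain ⟨n, b, hb⟩ := Module.Finite.exists_fin (R := k) (M := ↥(L (m₀ • E)))
      choose ef hef using fun i : Fin n => hex (b i : K) (b i).2
      refine ⟨Finset.univ.sup ef, fun f hf e he => ?_⟩
      have hfmem : (⟨f, hf⟩ : ↥(L (m₀ • E))) ∈ Submodule.span k (Set.range b) := by
        rw [hb]
        exact Submodule.mem_top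
      have key : ∀ x ∈ Submodule.span k (Set.range b),
          ((x : ↥(L (m₀ • E))) : K) * σ ^ e ∈ W ^ (m₀ + e) := by
        intro x hx
        induction hx using Submodule.span_induction with
        | mem x hx =>
          obtain ⟨i, rfl⟩ := hx
          exact hef i e (le_trans (Finset.le_sup (Finset.mem_univ i)) he)
        | zero =>
          rw [Submodule.coe_zero, zero_mul]
          exact Submodule.zero_mem _
        | add x y _ _ hx hy =>
          rw [Submodule.coe_add, add_mul]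
          exact Submodule.add_mem _ hx hy
        | smul c x _ hx =>
          rw [Submodule.coe_smul, smul_mul_assoc]
          exact Submodule.smul_mem _ c hx
      exact key _ hfmem
  obtain ⟨es, hes⟩ := hchart s hsW
  obtain ⟨et, het⟩ := hchart t htW
  have hdec : ∀ n : ℕ, ∀ f ∈ L ((m₀ + n) • E),
      f ∈ Submodule.span k {x : K | ∃ a b : ℕ, ∃ g ∈ L (m₀ • E),
        a + b = n ∧ x = g * s ^ a * t ^ b} := by
    intro n
    induction n with
    | zero =>
      intro f hf
      apply Submodule.subset_span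
      exact ⟨0, 0, f, hf, rfl, by rw [pow_zero, pow_zero, mul_one, mul_one]⟩
    | succ n ih =>
      intro f hf
      obtain ⟨a1, ha1, b1, hb1', hdec⟩ := h3a (m₀ + n) (Nat.le_add_right _ _) f hf
      rw [hdec]
      have hstep : ∀ c : K, (c = s ∨ c = t) →
          ∀ x ∈ Submodule.span k {x : K | ∃ a b : ℕ, ∃ g ∈ L (m₀ • E),
            a + b = n ∧ x = g * s ^ a * t ^ b},
          c * x ∈ Submodule.span k {x : K | ∃ a b : ℕ, ∃ g ∈ L (m₀ • E),
            a + b = n + 1 ∧ x = g * s ^ a * t ^ b} := by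
        intro c hc x hx
        induction hx using Submodule.span_induction with
        | mem x hx =>
          obtain ⟨a, b, g, hg, hab, rfl⟩ := hx
          apply Submodule.subset_span
          rcases hc with hc | hc
          · exact ⟨a + 1, b, g, hg, by omega, by rw [hc, pow_succ]; ring⟩
          · exact ⟨a, b + 1, g, hg, by omega, by rw [hc, pow_succ]; ring⟩
        | zero =>
          rw [mul_zero]
          exact Submodule.zero_mem _
        | add x y _ _ hx hy =>
          rw [mul_add]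
          exact Submodule.add_mem _ hx hy
        | smul r x _ hx =>
          rw [mul_smul_comm]
          exact Submodule.smul_mem _ r hx
      exact Submodule.add_mem _ (hstep s (Or.inl rfl) a1 (ih a1 ha1))
        (hstep t (Or.inr rfl) b1 (ih b1 hb1'))
  refine ⟨m₀ + (es + et), fun m hm => ?_⟩
  obtain ⟨n, rfl⟩ := Nat.exists_eq_add_of_le hm
  intro f hf
  have hf' : f ∈ L ((m₀ + (es + et + n)) • E) := by
    have he : m₀ + (es + et + n) = m₀ + (es + et) + n := by omega
    rw [he]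
    exact hf
  have hmemsp := hdec (es + et + n) f hf'
  have hle : Submodule.span k {x : K | ∃ a b : ℕ, ∃ g ∈ L (m₀ • E),
      a + b = es + et + n ∧ x = g * s ^ a * t ^ b} ≤ W ^ (m₀ + (es + et) + n) := by
    rw [Submodule.span_le]
    rintro _ ⟨a, b, g, hg, hab, rfl⟩
    by_cases ha : es ≤ a
    · have h1 := hes g hg a ha
      have h2 : t ^ b ∈ W ^ b := Submodule.pow_mem_pow W htW b
      have h3 := hWmul _ _ _ _ h1 h2
      have he : m₀ + a + b = m₀ + (es + et) + n := by omega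
      rw [← he]
      exact h3
    · have hb' : et ≤ b := by omega
      have h1 := het g hg b hb'
      have h2 : s ^ a ∈ W ^ a := Submodule.pow_mem_pow W hsW a
      have h3 := hWmul _ _ _ _ h1 h2
      have he : m₀ + b + a = m₀ + (es + et) + n := by omega
      have hx : g * s ^ a * t ^ b = g * t ^ b * s ^ a := by ring
      rw [SetLike.mem_coe, hx, ← he]
      exact h3
  exact hle hmemsp

end Groth.Agent.Lib.lead.Pl1
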