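import Mathlib
import Groth.Prelude.Def_W4bk4goldsch45
import Groth.Agent.Lib.lead.Pl1
import Groth.Agent.Lib.lead.Pl2
import Groth.Agent.S11054

/-! The genus formula for nonsingular plane models. -/

namespace Groth.Agent.Lib.lead.Pl3
open FunFld Groth.Agent.Lib.lead.FF Groth.Agent.Lib.lead.FF2 Groth.Agent.Lib.lead.FF3
  Groth.Agent.Lib.lead.FF4
  Groth.Agent.Lib.lead.FF5 Groth.Agent.Lib.lead.FF6 Groth.Agent.Lib.lead.FF7
  Groth.Agent.Lib.lead.FF8 Groth.Agent.Lib.lead.FF9 Groth.Agent.Lib.lead.FF10
  Groth.Agent.Lib.lead.FF11 Groth.Agent.Lib.lead.FF12 Groth.Agent.Lib.lead.FF13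
  Groth.Agent.Lib.lead.FF14 Groth.Agent.Lib.lead.FF15 Groth.Agent.Lib.lead.FF16
  Groth.Agent.Lib.lead.FF17 Groth.Agent.Lib.lead.Loc Groth.Agent.Lib.lead.Emb
  Groth.Agent.Lib.lead.Emb2 Groth.Agent.Lib.lead.NS Groth.Agent.Lib.lead.NS2
  Groth.Agent.Lib.lead.NS3 Groth.Agent.Lib.lead.Pl1 Groth.Agent.Lib.lead.Pl2
  Groth.Agent.S11054

variable {k K : Type*} [Field k] [Field K] [Algebra k K]

theorem main_iff [IsAlgClosed k] (hK : IsFunctionField k K) (x y : K)
    (hxy : IntermediateField.adjoin k ({x, y} : Set K) = ⊤) :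
    2 * (genus k K : ℤ) =
        ((mapDiv k ![(1 : K), x, y]).deg - 1) * ((mapDiv k ![(1 : K), x, y]).deg - 2) ↔
      ∀ P : Place k K, IsNonsingularAt ![(1 : K), x, y] P := by
  classical
  obtain ⟨φ, hφdef⟩ : ∃ φ, φ = ![(1 : K), x, y] := ⟨_, rfl⟩
  rw [← hφdef]
  obtain ⟨E, hE⟩ : ∃ E : Divisor k K, E = mapDiv k φ := ⟨_, rfl⟩
  rw [← hE]
  have hφ0 : φ 0 = 1 := by rw [hφdef]; rfl
  have hφ1 : φ 1 = x := by rw [hφdef]; rfl
  have hφ2 : φ 2 = y := by rw [hφdef]; rfl
  have hcases : ∀ i, φ i = 1 ∨ φ i = x ∨ φ i = y := by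
    intro i
    rw [hφdef]
    fin_cases i
    · exact Or.inl rfl
    · exact Or.inr (Or.inl rfl)
    · exact Or.inr (Or.inr rfl)
  have hEapp : ∀ R : Place k K,
      E R = -Finset.univ.inf' Finset.univ_nonempty (fun i => R.ord (φ i)) := fun R => by
    rw [hE]
    exact mapDiv_apply hK φ R
  have hE0 : ∀ R : Place k K, 0 ≤ E R := by
    intro R
    rw [hEapp R, neg_nonneg]
    have h1 : Finset.univ.inf' Finset.univ_nonempty (fun i => R.ord (φ i)) ≤ R.ord (φ 0) :=
      Finset.inf'_le _ (Finset.mem_univ _)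
    rwa [hφ0, ord_one] at h1
  have hmemL : ∀ i, φ i ∈ L E := by
    intro i
    by_cases hi : φ i = 0
    · rw [hi]
      exact Submodule.zero_mem _
    · refine (mem_L_iff _ _).2 fun R => ?_
      rw [val_le_exp_iff R hi, hEapp R, neg_neg]
      exact Finset.inf'_le _ (Finset.mem_univ i)
  have hxL : x ∈ L E := by
    have := hmemL 1
    rwa [hφ1] at this
  have hyL : y ∈ L E := by
    have := hmemL 2
    rwa [hφ2] at this
  have hmax : ∀ R : Place k K, 0 < E R → WithZero.exp (E R) = max (R.1 x) (R.1 y) := by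
    intro R hR
    apply le_antisymm _ (max_le ((mem_L_iff _ _).1 hxL R) ((mem_L_iff _ _).1 hyL R))
    obtain ⟨i, -, hi⟩ := Finset.exists_mem_eq_inf' Finset.univ_nonempty (fun i => R.ord (φ i))
    have hEi : E R = -R.ord (φ i) := by rw [hEapp R, hi]
    have hi0 : φ i ≠ 0 := by
      intro h0
      rw [h0, ord_zero, neg_zero] at hEi
      omega
    have hv : R.1 (φ i) = WithZero.exp (E R) := by rw [val_eq_exp R hi0, hEi]
    rw [← hv]
    rcases hcases i with h | h | h
    · exfalso
      rw [h, ord_one, neg_zero] at hEi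
      omega
    · rw [h]
      exact le_max_left _ _
    · rw [h]
      exact le_max_right _ _
  obtain ⟨c, hc⟩ := exists_generic hK x y E.support
  obtain ⟨z, hzdef⟩ : ∃ z : K, z = x + c • y := ⟨_, rfl⟩
  rw [← hzdef] at hc
  have hzL : z ∈ L E := by
    rw [hzdef]
    exact Submodule.add_mem _ hxL (Submodule.smul_mem _ c hyL)
  have hEpos : ∀ P ∈ E.support, 0 < E P := fun P hP =>
    lt_of_le_of_ne (hE0 P) (Ne.symm (Finsupp.mem_support_iff.1 hP))
  have hzS : ∀ P ∈ E.support, P.1 z = WithZero.exp (E P) := by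
    intro P hP
    rw [hc P hP, hmax P (hEpos P hP)]
  have hzS1 : ∀ P ∈ E.support, 1 < P.1 z := by
    intro P hP
    rw [hzS P hP, ← WithZero.exp_zero, WithZero.exp_lt_exp]
    exact hEpos P hP
  have hSne : E.support.Nonempty := by
    rw [Finset.nonempty_iff_ne_empty]
    intro hemp
    have hE0' : E = 0 := Finsupp.support_eq_empty.1 hemp
    rw [hE0', L_zero hK] at hxL hyL
    exact not_both_const hK x y hxy hxL hyL
  obtain ⟨P₀, hP₀⟩ := hSne
  have hzc : z ∉ Set.range (algebraMap k K) := by
    rintro ⟨e, he⟩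
    have h1 := hzS1 P₀ hP₀
    rw [← he] at h1
    exact absurd (P₀.2.1 e) (not_le.2 h1)
  have hzt : Transcendental k z := transc hK hzc
  have hz0 : z ≠ 0 := ne_zero_of_transcendental hzt
  have hS : ∀ P, P ∈ E.support ↔ P.1 z⁻¹ < 1 := by
    intro P
    rw [map_inv₀, inv_lt_one₀ (zero_lt_iff.2 (val_ne_zero P hz0))]
    constructor
    · exact hzS1 P
    · intro h1
      by_contra hP
      have hEP : E P = 0 := by
        by_contra h
        exact hP (Finsupp.mem_support_iff.2 h)
      have := (mem_L_iff _ _).1 hzL P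
      rw [hEP, WithZero.exp_zero] at this
      exact absurd this (not_le.2 h1)
  have hN := sum_zeros_eq hK (transcendental_inv hzt) E.support hS
  rw [adjoin_inv] at hN
  have hdN : E.deg = (Module.finrank (IntermediateField.adjoin k ({z} : Set K)) K : ℤ) := by
    rw [← hN]
    show ∑ P ∈ E.support, E P * (P.deg : ℤ) = _
    refine Finset.sum_congr rfl fun P hP => ?_
    congr 1
    rw [ord_inv]
    have h1 := hzS P hP
    rw [val_eq_exp P hz0, WithZero.exp_inj] at h1
    omega
  haveI hfd := finite_of_transcendental hK hzt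
  -- K = k(z)(y)
  have htop : IntermediateField.adjoin (IntermediateField.adjoin k ({z} : Set K)) ({y} : Set K) = ⊤ := by
    rw [eq_top_iff]
    intro w _
    have hle : IntermediateField.adjoin k ({x, y} : Set K) ≤
        (IntermediateField.adjoin (IntermediateField.adjoin k ({z} : Set K))
          ({y} : Set K)).restrictScalars k := by
      rw [IntermediateField.adjoin_le_iff]
      have hyM : y ∈ (IntermediateField.adjoin (IntermediateField.adjoin k ({z} : Set K))
          ({y} : Set K)).restrictScalars k :=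
        IntermediateField.mem_adjoin_simple_self _ y
      have hzM : z ∈ (IntermediateField.adjoin (IntermediateField.adjoin k ({z} : Set K))
          ({y} : Set K)).restrictScalars k :=
        (IntermediateField.adjoin (IntermediateField.adjoin k ({z} : Set K))
          ({y} : Set K)).algebraMap_mem ⟨z, IntermediateField.mem_adjoin_simple_self k z⟩
      intro w hw
      rw [Set.mem_insert_iff, Set.mem_singleton_iff] at hw
      rcases hw with hw | hw
      · have hxe : x = z - c • y := by
          rw [hzdef]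
          ring
        rw [hw, hxe]
        exact IntermediateField.sub_mem _ hzM (IntermediateField.smul_mem _ hyM)
      · rw [hw]
        exact hyM
    have hw : w ∈ IntermediateField.adjoin k ({x, y} : Set K) := by
      rw [hxy]
      exact IntermediateField.mem_top
    exact hle hw
  have hyint : IsIntegral (IntermediateField.adjoin k ({z} : Set K)) y :=
    Algebra.IsIntegral.isIntegral y
  have hfr : Module.finrank (IntermediateField.adjoin k ({z} : Set K)) K =
      (minpoly (IntermediateField.adjoin k ({z} : Set K)) y).natDegree := by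
    rw [← IntermediateField.adjoin.finrank hyint, htop, IntermediateField.finrank_top']
  obtain ⟨N, hNdef⟩ : ∃ N : ℕ, N = (minpoly (IntermediateField.adjoin k ({z} : Set K)) y).natDegree :=
    ⟨_, rfl⟩
  have hcN : LinearIndependent (IntermediateField.adjoin k ({z} : Set K))
      (fun i : Fin N => y ^ (i : ℕ)) := by
    rw [hNdef]
    exact linearIndependent_pow y
  rw [hfr, ← hNdef] at hdN
  have hNpos : 0 < N := by
    rw [hNdef, ← hfr]
    exact Module.finrank_pos
  have hb : LinearIndependent k (fun a : ℕ => (IntermediateField.AdjoinSimple.gen k z) ^ a) :=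
    linearIndependent_gen_pow hzt
  have hli := linearIndependent_smul hb hcN
  have hN1 : (1 : ℤ) ≤ N := by exact_mod_cast hNpos
  have hE0' : 0 ≤ E := Finsupp.le_def.2 fun R => hE0 R
  -- the span of the coordinates
  obtain ⟨W, hWdef⟩ : ∃ W : Submodule k K, W = Submodule.span k (Set.range φ) := ⟨_, rfl⟩
  have hφW : ∀ i, φ i ∈ W := fun i => by
    rw [hWdef]
    exact Submodule.subset_span ⟨i, rfl⟩
  have h1W : (1 : K) ∈ W := by
    have := hφW 0
    rwa [hφ0] at this
  have hxW : x ∈ W := by
    have := hφW 1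
    rwa [hφ1] at this
  have hyW : y ∈ W := by
    have := hφW 2
    rwa [hφ2] at this
  have hzW : z ∈ W := by
    rw [hzdef]
    exact W.add_mem hxW (W.smul_mem c hyW)
  have hWE : W ≤ L E := by
    rw [hWdef, Submodule.span_le]
    rintro _ ⟨i, rfl⟩
    exact hmemL i
  have hjval : ∀ (P : Place k K) (j : Fin 3), (∀ i, P.1 (φ i) ≤ P.1 (φ j)) →
      P.1 (φ j) = WithZero.exp (E P) ∧ φ j ≠ 0 := by
    intro P j hj
    have h0 : (1 : WithZero (Multiplicative ℤ)) ≤ P.1 (φ j) := by
      have := hj 0
      rwa [hφ0, map_one] at this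
    refine ⟨le_antisymm ((mem_L_iff _ _).1 (hmemL j) P) ?_, ?_⟩
    · by_cases hEP : E P = 0
      · rw [hEP, WithZero.exp_zero]
        exact h0
      · have hpos : 0 < E P := lt_of_le_of_ne (hE0 P) (Ne.symm hEP)
        rw [hmax P hpos]
        refine max_le ?_ ?_
        · have := hj 1
          rwa [hφ1] at this
        · have := hj 2
          rwa [hφ2] at this
    · intro h
      rw [h, map_zero] at h0
      exact absurd h0 (not_le.2 zero_lt_one)
  have hb1 : ∀ R : Place k K, ∃ t ∈ W, t ∉ L (E - Finsupp.single R 1) := by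
    intro R
    obtain ⟨j, hj⟩ := exists_max_index R φ
    refine ⟨φ j, hφW j, fun hmem => ?_⟩
    have h1 := (mem_L_iff _ _).1 hmem R
    rw [Finsupp.sub_apply, Finsupp.single_eq_same, (hjval R j hj).1, WithZero.exp_le_exp] at h1
    omega
  have hgen : IntermediateField.adjoin k (W : Set K) = ⊤ := by
    rw [eq_top_iff, ← hxy, IntermediateField.adjoin_le_iff]
    intro w hw
    rw [Set.mem_insert_iff, Set.mem_singleton_iff] at hw
    rcases hw with hw | hw
    · rw [hw]
      exact IntermediateField.subset_adjoin _ _ hxW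
    · rw [hw]
      exact IntermediateField.subset_adjoin _ _ hyW
  -- monomial spaces
  obtain ⟨V, hV⟩ : ∃ V : ℕ → Submodule k K, ∀ m, V m = Submodule.span k
      {w : K | ∃ a b : ℕ, b < N ∧ a + b ≤ m ∧ w = z ^ a * y ^ b} := ⟨_, fun m => rfl⟩
  have hVmem : ∀ m a b : ℕ, b < N → a + b ≤ m → z ^ a * y ^ b ∈ V m := by
    intro m a b hb hab
    rw [hV m]
    exact Submodule.subset_span ⟨a, b, hb, hab, rfl⟩
  have hVle : ∀ (m : ℕ) (T : Submodule k K),
      (∀ a b : ℕ, b < N → a + b ≤ m → z ^ a * y ^ b ∈ T) → V m ≤ T := by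
    intro m T h
    rw [hV m, Submodule.span_le]
    rintro _ ⟨a, b, hb, hab, rfl⟩
    exact h a b hb hab
  have hmemL' : ∀ m a b : ℕ, a + b ≤ m → z ^ a * y ^ b ∈ L (m • E) := by
    intro m a b hab
    refine (mem_L_iff _ _).2 fun P => ?_
    have hEP : (1 : WithZero (Multiplicative ℤ)) ≤ WithZero.exp (E P) := by
      rw [← WithZero.exp_zero]
      exact WithZero.exp_le_exp.2 (hE0 P)
    rw [nsmul_apply', ← nsmul_eq_mul, WithZero.exp_nsmul, map_mul, map_pow, map_pow]
    refine (mul_le_mul' (pow_le_pow_left' ((mem_L_iff _ _).1 hzL P) a)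
      (pow_le_pow_left' ((mem_L_iff _ _).1 hyL P) b)).trans ?_
    rw [← pow_add]
    exact pow_le_pow_right' hEP hab
  have hVL : ∀ m, V m ≤ L (m • E) := fun m => hVle m _ (fun a b _ hab => hmemL' m a b hab)
  have hVmono : ∀ m m' : ℕ, m ≤ m' → V m ≤ V m' := fun m m' hmm =>
    hVle m _ (fun a b hb hab => hVmem m' a b hb (le_trans hab hmm))
  have hVrank : ∀ m : ℕ, N ≤ m + 1 → 2 * Module.finrank k (V m) + N * N = N * (2 * m + 3) := by
    intro m hNm
    have hinj : Function.Injective
        (fun s : (Σ b : Fin N, Fin (m + 1 - (b : ℕ))) => (((s.2 : ℕ), s.1) : ℕ × Fin N)) := by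
      rintro ⟨b, a⟩ ⟨b', a'⟩ h
      simp only [Prod.mk.injEq] at h
      obtain ⟨h1, h2⟩ := h
      subst h2
      have : a = a' := Fin.ext h1
      rw [this]
    have hv : LinearIndependent k
        (fun s : (Σ b : Fin N, Fin (m + 1 - (b : ℕ))) => z ^ (s.2 : ℕ) * y ^ (s.1 : ℕ)) :=
      hli.comp _ hinj
    have hrange : Set.range
        (fun s : (Σ b : Fin N, Fin (m + 1 - (b : ℕ))) => z ^ (s.2 : ℕ) * y ^ (s.1 : ℕ)) =
        {w : K | ∃ a b : ℕ, b < N ∧ a + b ≤ m ∧ w = z ^ a * y ^ b} := by
      ext w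
      constructor
      · rintro ⟨⟨b, a⟩, rfl⟩
        refine ⟨a, b, b.2, ?_, rfl⟩
        have h1 := a.2
        have h2 := b.2
        omega
      · rintro ⟨a, b, hb, hab, rfl⟩
        exact ⟨⟨⟨b, hb⟩, ⟨a, by show a < m + 1 - b; omega⟩⟩, rfl⟩
    have h1 := finrank_span_eq_card hv
    rw [hrange, ← hV m] at h1
    rw [h1, Fintype.card_sigma]
    simp only [Fintype.card_fin]
    rw [Fin.sum_univ_eq_sum_range (fun b => m + 1 - b) N]
    exact tri_sum m N hNm
  have hell : ∀ m : ℕ, 2 * (genus k K : ℤ) - 1 ≤ (m : ℤ) * N →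
      (ell (m • E) : ℤ) = m * N + 1 - genus k K := by
    intro m hm
    have h := ell_eq_of_deg_ge hK (m • E) (by rw [Groth.Agent.Lib.lead.FF8.deg_nsmul, hdN]; exact hm)
    rw [Groth.Agent.Lib.lead.FF8.deg_nsmul, hdN] at h
    exact h
  have hVW : ∀ m, V m ≤ W ^ m := by
    intro m
    refine hVle m _ (fun a b _ hab => ?_)
    have h1 : (1 : K) ^ (m - (a + b)) ∈ W ^ (m - (a + b)) := Submodule.pow_mem_pow W h1W _
    rw [one_pow] at h1
    have h2 := Submodule.mul_mem_mul (Submodule.mul_mem_mul (Submodule.pow_mem_pow W hzW a)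
      (Submodule.pow_mem_pow W hyW b)) h1
    rw [mul_one, ← pow_add, ← pow_add, show a + b + (m - (a + b)) = m by omega] at h2
    exact h2
  -- the top relation
  have hyN : y ^ N ∈ V N := by
    rw [hV N]
    apply top_relation hK z y hzt
    · intro P hP
      have hEP : E P = 0 := by
        by_contra hne
        have hPS : P ∈ E.support := Finsupp.mem_support_iff.2 hne
        exact absurd hP (not_le.2 (hzS1 P hPS))
      have := (mem_L_iff _ _).1 hyL P
      rwa [hEP, WithZero.exp_zero] at this
    · intro P hP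
      have hPS : P ∈ E.support := by
        rw [hS P, map_inv₀]
        exact inv_lt_one_of_one_lt₀ hP
      rw [hzS P hPS]
      exact (mem_L_iff _ _).1 hyL P
    · exact hNdef.symm
  have hzstep : ∀ m : ℕ, ∀ v ∈ V m, z * v ∈ V (m + 1) := by
    intro m v hv
    rw [hV m] at hv
    induction hv using Submodule.span_induction with
    | mem v hv =>
      obtain ⟨a, b, hb, hab, rfl⟩ := hv
      have := hVmem (m + 1) (a + 1) b hb (by omega)
      rwa [pow_succ', mul_assoc] at this
    | zero =>
      rw [mul_zero]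
      exact Submodule.zero_mem _
    | add a b _ _ ha hb =>
      rw [mul_add]
      exact Submodule.add_mem _ ha hb
    | smul r a _ ha =>
      rw [mul_smul_comm]
      exact Submodule.smul_mem _ r ha
  have hzpow : ∀ e m : ℕ, ∀ v ∈ V m, z ^ e * v ∈ V (m + e) := by
    intro e
    induction e with
    | zero =>
      intro m v hv
      rw [pow_zero, one_mul]
      exact hv
    | succ e ih =>
      intro m v hv
      have := hzstep (m + e) _ (ih m v hv)
      rwa [← mul_assoc, ← pow_succ'] at this
  have hystep : ∀ m : ℕ, ∀ v ∈ V m, y * v ∈ V (m + 1) := by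
    intro m v hv
    rw [hV m] at hv
    induction hv using Submodule.span_induction with
    | mem v hv =>
      obtain ⟨a, b, hb, hab, rfl⟩ := hv
      have e1 : y * (z ^ a * y ^ b) = z ^ a * y ^ (b + 1) := by ring
      rw [e1]
      by_cases hb1 : b + 1 < N
      · exact hVmem (m + 1) a (b + 1) hb1 (by omega)
      · have hbN : b + 1 = N := by omega
        rw [hbN]
        exact hVmono (N + a) (m + 1) (by omega) (hzpow a N _ hyN)
    | zero =>
      rw [mul_zero]
      exact Submodule.zero_mem _
    | add a b _ _ ha hb =>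
      rw [mul_add]
      exact Submodule.add_mem _ ha hb
    | smul r a _ ha =>
      rw [mul_smul_comm]
      exact Submodule.smul_mem _ r ha
  have hWstep : ∀ w ∈ W, ∀ m : ℕ, ∀ v ∈ V m, v * w ∈ V (m + 1) := by
    intro w hw m v hv
    rw [hWdef] at hw
    induction hw using Submodule.span_induction with
    | mem w hw =>
      obtain ⟨i, rfl⟩ := hw
      rcases hcases i with h | h | h
      · rw [h, mul_one]
        exact hVmono m (m + 1) (Nat.le_succ m) hv
      · have hx : x = z - c • y := by
          rw [hzdef]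
          ring
        rw [h, hx, mul_sub, mul_smul_comm, mul_comm v z, mul_comm v y]
        exact Submodule.sub_mem _ (hzstep m v hv) (Submodule.smul_mem _ c (hystep m v hv))
      · rw [h, mul_comm]
        exact hystep m v hv
    | zero =>
      rw [mul_zero]
      exact Submodule.zero_mem _
    | add a b _ _ ha hb =>
      rw [mul_add]
      exact Submodule.add_mem _ ha hb
    | smul r a _ ha =>
      rw [mul_smul_comm]
      exact Submodule.smul_mem _ r ha
  have hWV : ∀ m, W ^ m ≤ V m := by
    intro m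
    induction m with
    | zero =>
      rw [pow_zero, Submodule.one_le]
      have := hVmem 0 0 0 hNpos (le_refl _)
      rwa [pow_zero, pow_zero, mul_one] at this
    | succ m ih =>
      rw [pow_succ, Submodule.mul_le]
      intro v hv w hw
      exact hWstep w hw m v (ih hv)
  -- first equivalence
  have key1 : (∃ m₁ : ℕ, ∀ m : ℕ, m₁ ≤ m → L (m • E) ≤ W ^ m) ↔
      2 * (genus k K : ℤ) = ((N : ℤ) - 1) * ((N : ℤ) - 2) := by
    constructor
    · rintro ⟨m₁, hm₁⟩
      obtain ⟨m, hm⟩ : ∃ m : ℕ, m = m₁ + 2 * genus k K + N := ⟨_, rfl⟩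
      have heq : V m = L (m • E) :=
        le_antisymm (hVL m) ((hm₁ m (by omega)).trans (hWV m))
      have h1 := hVrank m (by omega)
      have hmz : (m : ℤ) = m₁ + 2 * genus k K + N := by
        rw [hm]
        push_cast
        ring
      have hmN : (m : ℤ) * 1 ≤ m * N := mul_le_mul_of_nonneg_left hN1 (Nat.cast_nonneg m)
      have h2 := hell m (by
        have : (0 : ℤ) ≤ m₁ := Nat.cast_nonneg _
        linarith)
      have h3 : ell (m • E) = Module.finrank k (V m) := by
        unfold ell
        rw [heq]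
      rw [h3] at h2
      have h1z : 2 * (Module.finrank k (V m) : ℤ) + N * N = N * (2 * m + 3) := by
        exact_mod_cast h1
      rw [h2] at h1z
      linear_combination (-1 : ℤ) * h1z
    · intro hg
      refine ⟨2 * genus k K + N, fun m hm => ?_⟩
      have h1 := hVrank m (by omega)
      have hmz : (2 : ℤ) * genus k K + N ≤ m := by exact_mod_cast hm
      have hmN : (m : ℤ) * 1 ≤ m * N := mul_le_mul_of_nonneg_left hN1 (Nat.cast_nonneg m)
      have h2 := hell m (by linarith)
      have h1z : 2 * (Module.finrank k (V m) : ℤ) + N * N = N * (2 * m + 3) := by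
        exact_mod_cast h1
      have h3 : (Module.finrank k (V m) : ℤ) = ell (m • E) := by
        rw [h2]
        have h4 : 2 * (Module.finrank k (V m) : ℤ) = 2 * ((m : ℤ) * N + 1 - genus k K) := by
          linear_combination h1z + hg
        exact mul_left_cancel₀ two_ne_zero h4
      haveI := L_finite hK (m • E)
      have heq : V m = L (m • E) :=
        Submodule.eq_of_le_of_finrank_eq (hVL m) (by
          unfold ell at h3
          exact_mod_cast h3)
      rw [← heq]
      exact hVW m
  -- second equivalence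
  have key2 : (∃ m₁ : ℕ, ∀ m : ℕ, m₁ ≤ m → L (m • E) ≤ W ^ m) ↔
      ∀ P : Place k K, IsNonsingularAt φ P := by
    constructor
    · rintro ⟨m₁, hm₁⟩ P z₀ hz₀
      obtain ⟨j, hj⟩ := exists_max_index P φ
      obtain ⟨hjv, hj0⟩ := hjval P j hj
      obtain ⟨B, hB0, hzB, hBP⟩ : ∃ B : Divisor k K, 0 ≤ B ∧ z₀ ∈ L B ∧ B P = 0 := by
        by_cases hzc : z₀ ∈ Set.range (algebraMap k K)
        · obtain ⟨c₀, rfl⟩ := hzc
          refine ⟨0, le_refl _, ?_, rfl⟩
          refine (mem_L_iff _ _).2 fun Q => ?_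
          rw [Finsupp.coe_zero, Pi.zero_apply, WithZero.exp_zero]
          exact Q.2.1 c₀
        · obtain ⟨B₀, hB₀0, hzB₀, -⟩ := exists_pole_divisor hK (transc hK hzc)
          refine ⟨B₀ - Finsupp.single P (B₀ P), Finsupp.le_def.2 fun Q => ?_, ?_, ?_⟩
          · by_cases hQ : Q = P
            · rw [hQ, Finsupp.sub_apply, Finsupp.single_eq_same, sub_self]
              exact le_refl _
            · rw [Finsupp.sub_apply, Finsupp.single_apply, if_neg (Ne.symm hQ), sub_zero]
              exact hB₀0 Q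
          · refine (mem_L_iff _ _).2 fun Q => ?_
            by_cases hQ : Q = P
            · rw [hQ, Finsupp.sub_apply, Finsupp.single_eq_same, sub_self, WithZero.exp_zero]
              exact hz₀
            · rw [Finsupp.sub_apply, Finsupp.single_apply, if_neg (Ne.symm hQ), sub_zero]
              exact (mem_L_iff _ _).1 hzB₀ Q
          · rw [Finsupp.sub_apply, Finsupp.single_eq_same, sub_self]
      obtain ⟨n, hn⟩ : ∃ n : ℕ, n = m₁ + 2 * genus k K + (B.deg).toNat := ⟨_, rfl⟩
      have hF : 2 * (genus k K : ℤ) ≤ (n • E - B).deg := by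
        rw [deg_sub, Groth.Agent.Lib.lead.FF8.deg_nsmul, hdN]
        have h1 : B.deg ≤ (B.deg.toNat : ℤ) := Int.self_le_toNat _
        have h2 : (n : ℤ) = m₁ + 2 * genus k K + B.deg.toNat := by
          rw [hn]
          push_cast
          ring
        have h3 : (n : ℤ) * 1 ≤ n * N := mul_le_mul_of_nonneg_left hN1 (Nat.cast_nonneg n)
        have h4 : (0 : ℤ) ≤ m₁ := Nat.cast_nonneg _
        linarith
      obtain ⟨w, hwF, hwn⟩ := ell_sub_single_lt hK (n • E - B) hF P
      have hwv := val_eq_of_mem_not_mem hwF hwn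
      rw [Finsupp.sub_apply, hBP, sub_zero] at hwv
      have hwL : w ∈ L (n • E) := L_mono (sub_le_self _ hB0) hwF
      have huL : z₀ * w ∈ L (n • E) := by
        have := mul_mem_L hzB hwF
        rwa [add_sub_cancel] at this
      have hle := hm₁ n (by omega)
      have huW := hle huL
      have hwW := hle hwL
      have hWdiv : ∀ v ∈ W, v / φ j ∈ Algebra.adjoin k (Set.range fun i => φ i / φ j) := by
        intro v hv
        rw [hWdef] at hv
        induction hv using Submodule.span_induction with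
        | mem v hv =>
          obtain ⟨i, rfl⟩ := hv
          exact Algebra.subset_adjoin ⟨i, rfl⟩
        | zero =>
          rw [zero_div]
          exact Subalgebra.zero_mem _
        | add a b _ _ ha hb =>
          rw [add_div]
          exact Subalgebra.add_mem _ ha hb
        | smul r a _ ha =>
          rw [smul_div_assoc]
          exact Subalgebra.smul_mem _ ha r
      have hchart : ∀ (n : ℕ) (v : K), v ∈ W ^ n →
          v / φ j ^ n ∈ Algebra.adjoin k (Set.range fun i => φ i / φ j) := by
        intro n v hv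
        refine Submodule.pow_induction_on_left' W
          (C := fun n v _ => v / φ j ^ n ∈ Algebra.adjoin k (Set.range fun i => φ i / φ j))
          ?_ ?_ ?_ hv
        · intro r
          rw [pow_zero, div_one]
          exact Subalgebra.algebraMap_mem _ r
        · intro a b i _ _ ha hb
          rw [add_div]
          exact Subalgebra.add_mem _ ha hb
        · intro m hm i a _ ha
          show m * a / φ j ^ (i + 1) ∈ Algebra.adjoin k (Set.range fun i => φ i / φ j)
          have e : m * a / φ j ^ (i + 1) = (m / φ j) * (a / φ j ^ i) := by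
            rw [pow_succ]
            field_simp
          rw [e]
          exact Subalgebra.mul_mem _ (hWdiv m hm) ha
      refine ⟨j, hj0, hj, z₀ * w / φ j ^ n, hchart n _ huW, w / φ j ^ n, hchart n _ hwW, ?_,
        by rw [mul_div_assoc]⟩
      rw [map_div₀, map_pow, hjv, hwv, ← WithZero.exp_nsmul, nsmul_eq_mul, nsmul_apply']
      exact div_self (ne_of_gt WithZero.exp_pos)
    · intro hns
      refine sections_le_pow hK E hE0' (by rw [hdN]; exact hN1) W hWE hb1 h1W hgen ?_
      intro σ hσW hσ0 P hσP g hg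
      obtain ⟨j, hj0, hj, u, hu, w, hw, hw1, hgw⟩ := hns P g hg
      obtain ⟨hjv, -⟩ := hjval P j hj
      obtain ⟨ρ, hρ⟩ : ∃ ρ : K, ρ = φ j / σ := ⟨_, rfl⟩
      have hρ1 : P.1 ρ = 1 := by
        rw [hρ, map_div₀, hjv, hσP]
        exact div_self (ne_of_gt WithZero.exp_pos)
      obtain ⟨Aσ, hAσ⟩ : ∃ Aσ : Subalgebra k K,
          Aσ = Algebra.adjoin k ((fun v => v / σ) '' (W : Set K)) := ⟨_, rfl⟩
      have hgenA : ∀ v ∈ W, v / σ ∈ Aσ := fun v hv => by
        rw [hAσ]
        exact Algebra.subset_adjoin ⟨v, hv, rfl⟩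
      have hhom : ∀ a ∈ Algebra.adjoin k (Set.range fun i => φ i / φ j),
          ∃ D : ℕ, ∀ D' : ℕ, D ≤ D' → a * ρ ^ D' ∈ Subalgebra.toSubmodule Aσ := by
        refine adj_ind _ (fun _ => Subalgebra.toSubmodule Aσ) ρ (Aσ.one_mem)
          (fun _ _ x y hx hy => Aσ.mul_mem hx hy) (by rw [hρ]; exact hgenA _ (hφW j)) ?_
        rintro _ ⟨i, rfl⟩
        show φ i / φ j * ρ ∈ Aσ
        have e : φ i / φ j * ρ = φ i / σ := by
          rw [hρ]
          field_simp
        rw [e]
        exact hgenA _ (hφW i)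
      obtain ⟨Du, hDu⟩ := hhom u hu
      obtain ⟨Dw, hDw⟩ := hhom w hw
      refine ⟨w * ρ ^ (max Du Dw), ?_, ?_, ?_⟩
      · rw [← hAσ]
        exact hDw _ (le_max_right _ _)
      · rw [map_mul, map_pow, hw1, hρ1, one_pow, one_mul]
      · rw [← hAσ, ← mul_assoc, hgw]
        exact hDu _ (le_max_left _ _)
  rw [hdN]
  exact key1.symm.trans key2

end Groth.Agent.Lib.lead.Pl3
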