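import Mathlib

/-! Quadratic extensions of `k(x)` in characteristic `≠ 2` are `k(x)(√f)`, `f` squarefree. -/

namespace Groth.Agent.Lib.lead.Quad
open Polynomial

lemma sq_decomp {k : Type*} [Field k] : ∀ (n : ℕ) (g : Polynomial k), g ≠ 0 → g.natDegree = n →
    ∃ h f : Polynomial k, g = h^2 * f ∧ Squarefree f := by
  intro n
  induction n using Nat.strong_induction_on with
  | _ n ih =>
    intro g hg hn
    by_cases hsq : Squarefree g
    · exact ⟨1, g, by ring, hsq⟩
    · unfold Squarefree at hsq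
      push Not at hsq
      obtain ⟨q, ⟨g', hg'⟩, hq⟩ := hsq
      have hq0 : q ≠ 0 := by rintro rfl; apply hg; rw [hg']; ring
      have hg'0 : g' ≠ 0 := by rintro rfl; apply hg; rw [hg']; ring
      have hqd : 0 < q.natDegree := by
        rw [Polynomial.natDegree_pos_iff_degree_pos]
        exact Polynomial.degree_pos_of_ne_zero_of_nonunit hq0 hq
      have hdeg : g.natDegree = q.natDegree + q.natDegree + g'.natDegree := by
        rw [hg', Polynomial.natDegree_mul (mul_ne_zero hq0 hq0) hg'0,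
          Polynomial.natDegree_mul hq0 hq0]
      obtain ⟨h', f', hf', hsf⟩ := ih g'.natDegree (by omega) g' hg'0 rfl
      exact ⟨q * h', f', by rw [hg', hf']; ring, hsf⟩

set_option maxHeartbeats 800000 in
theorem s12515 (k K : Type*) [Field k] [Field K] (h2 : ringChar k ≠ 2)
    [Algebra (RatFunc k) K] (hdeg : Module.finrank (RatFunc k) K = 2) :
    ∃ (y : K) (f : Polynomial k), Squarefree f ∧
      y ^ 2 = algebraMap (RatFunc k) K (algebraMap (Polynomial k) (RatFunc k) f) ∧
      IntermediateField.adjoin (RatFunc k) ({y} : Set K) = ⊤ := by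
  classical
  haveI : FiniteDimensional (RatFunc k) K :=
    Module.finite_of_finrank_pos (by rw [hdeg]; norm_num)
  have h2R : (2 : RatFunc k) ≠ 0 := by
    have hk : (2 : k) ≠ 0 := Ring.two_ne_zero h2
    rw [← map_ofNat (algebraMap k (RatFunc k)) 2]
    exact (_root_.map_ne_zero _).2 hk
  have h2K : (2 : K) ≠ 0 := by
    rw [← map_ofNat (algebraMap (RatFunc k) K) 2]
    exact (_root_.map_ne_zero _).2 h2R
  obtain ⟨z, hz⟩ : ∃ z : K, z ∉ Set.range (algebraMap (RatFunc k) K) := by
    by_contra hall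
    push Not at hall
    have h1 : Module.finrank (RatFunc k) K = 1 := by
      rw [finrank_eq_one_iff_of_nonzero' (1 : K) one_ne_zero]
      intro w
      obtain ⟨c, hc⟩ := hall w
      exact ⟨c, by rw [Algebra.smul_def, mul_one, hc]⟩
    omega
  have hli : LinearIndependent (RatFunc k) ![(1:K), z] := by
    rw [LinearIndependent.pair_iff]
    intro s t hst
    by_cases ht : t = 0
    · subst ht
      rw [zero_smul, add_zero, Algebra.smul_def, mul_one] at hst
      exact ⟨(map_eq_zero _).1 hst, rfl⟩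
    · exfalso
      apply hz
      refine ⟨-s / t, ?_⟩
      have h3 : t • z = -(s • (1:K)) := by
        rw [eq_neg_iff_add_eq_zero, add_comm]; exact hst
      rw [Algebra.smul_def, Algebra.smul_def, mul_one] at h3
      rw [map_div₀, map_neg, ← h3, mul_div_cancel_left₀]
      exact (_root_.map_ne_zero _).2 ht
  have hspan : Submodule.span (RatFunc k) (Set.range ![(1:K), z]) = ⊤ :=
    hli.span_eq_top_of_card_eq_finrank' (by rw [hdeg]; simp)
  have hrange : Set.range ![(1:K), z] = {1, z} := by
    ext w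
    constructor
    · rintro ⟨i, rfl⟩
      fin_cases i <;> simp
    · rintro (rfl | rfl)
      · exact ⟨0, rfl⟩
      · exact ⟨1, rfl⟩
  have hmem : z^2 ∈ Submodule.span (RatFunc k) ({1, z} : Set K) := by
    rw [← hrange, hspan]; trivial
  obtain ⟨α, β, hαβ⟩ := Submodule.mem_span_pair.1 hmem
  have hαβ' : z^2 = algebraMap (RatFunc k) K α + algebraMap (RatFunc k) K β * z := by
    rw [← hαβ, Algebra.smul_def, Algebra.smul_def, mul_one]
  obtain ⟨y₀, hy₀⟩ : ∃ y₀ : K, y₀ = z - algebraMap (RatFunc k) K β / 2 := ⟨_, rfl⟩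
  obtain ⟨r, hrdef⟩ : ∃ r : RatFunc k, r = α + β^2/4 := ⟨_, rfl⟩
  have e2 : algebraMap (RatFunc k) K r =
      algebraMap (RatFunc k) K α + (algebraMap (RatFunc k) K β)^2 / 4 := by
    rw [hrdef, map_add, map_div₀, map_pow, map_ofNat]
  have hy₀sq : y₀^2 = algebraMap (RatFunc k) K r := by
    have h4K : (4 : K) ≠ 0 := by
      have : (4 : K) = 2 * 2 := by norm_num
      rw [this]; exact mul_ne_zero h2K h2K
    rw [e2, hy₀, sub_sq, hαβ']
    field_simp
    ring
  have hy₀range : y₀ ∉ Set.range (algebraMap (RatFunc k) K) := by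
    rintro ⟨c, hc⟩
    apply hz
    refine ⟨c + β/2, ?_⟩
    rw [map_add, hc, hy₀, map_div₀, map_ofNat]; ring
  have hr0 : r ≠ 0 := by
    intro hr
    rw [hr, map_zero] at hy₀sq
    have h5 : y₀ = 0 := (pow_eq_zero_iff two_ne_zero).1 hy₀sq
    exact hy₀range ⟨0, by rw [map_zero, h5]⟩
  have hv0 : r.denom ≠ 0 := RatFunc.denom_ne_zero r
  have hu0 : r.num ≠ 0 := RatFunc.num_ne_zero hr0
  have hr := RatFunc.num_div_denom r
  obtain ⟨h, f, hgf, hsf⟩ := sq_decomp _ (r.num * r.denom) (mul_ne_zero hu0 hv0) rfl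
  have hh0 : h ≠ 0 := by
    rintro rfl
    apply mul_ne_zero hu0 hv0
    rw [hgf]; ring
  let ι : Polynomial k →+* K :=
    (algebraMap (RatFunc k) K).comp (algebraMap (Polynomial k) (RatFunc k))
  have hι : Function.Injective ι :=
    (algebraMap (RatFunc k) K).injective.comp (RatFunc.algebraMap_injective k)
  have hιh : ι h ≠ 0 := (map_ne_zero_iff ι hι).2 hh0
  have hιv : ι r.denom ≠ 0 := (map_ne_zero_iff ι hι).2 hv0
  refine ⟨ι r.denom * y₀ / ι h, f, hsf, ?_, ?_⟩
  · show _ = ι f
    have h3 : ι r.num * ι r.denom = ι h ^ 2 * ι f := by rw [← map_mul, hgf, map_mul, map_pow]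
    have h4 : algebraMap (RatFunc k) K (algebraMap _ _ r.num / algebraMap _ _ r.denom) =
        ι r.num / ι r.denom := by rw [map_div₀]; rfl
    have hy₀sq' : y₀^2 = ι r.num / ι r.denom := by
      rw [hy₀sq]
      conv_lhs => rw [← hr]
      exact h4
    rw [div_pow, mul_pow, hy₀sq', div_eq_iff (pow_ne_zero 2 hιh)]
    have h6 : ι r.denom ^ 2 * (ι r.num / ι r.denom) = ι r.num * ι r.denom := by
      field_simp
    rw [h6, h3]; ring
  · haveI := IntermediateField.isSimpleOrder_of_finrank_prime
      (F := RatFunc k) (E := K) (by rw [hdeg]; exact Nat.prime_two)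
    rcases eq_bot_or_eq_top (IntermediateField.adjoin (RatFunc k)
      ({ι r.denom * y₀ / ι h} : Set K)) with hb | ht
    · exfalso
      have h1 : ι r.denom * y₀ / ι h ∈ IntermediateField.adjoin (RatFunc k)
          ({ι r.denom * y₀ / ι h} : Set K) := IntermediateField.mem_adjoin_simple_self _ _
      rw [hb] at h1
      obtain ⟨c, hc⟩ := IntermediateField.mem_bot.1 h1
      apply hy₀range
      refine ⟨c * algebraMap _ _ h / algebraMap _ _ r.denom, ?_⟩
      rw [map_div₀, map_mul, hc]
      change ι r.denom * y₀ / ι h * ι h / ι r.denom = y₀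
      field_simp
    · exact ht

end Groth.Agent.Lib.lead.Quad
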