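import Mathlib
import Groth.Agent.Lib.lead.FF8

/-! Genus `≥ 2` ⇒ at most one rational subfield of index `2` (S12585, S12586). -/

namespace Groth.Agent.Lib.lead.RatSub
open FunFld Groth.Agent.Lib.lead.FF Groth.Agent.Lib.lead.FF2 Groth.Agent.Lib.lead.FF4
  Groth.Agent.Lib.lead.FF5 Groth.Agent.Lib.lead.FF6 Groth.Agent.Lib.lead.FF7
  Groth.Agent.Lib.lead.FF8

variable {k K : Type*} [Field k] [Field K] [Algebra k K]

theorem ell_ge (hK : IsFunctionField k K) {x : K} (hx : Transcendental k x)
    (B : Divisor k K) (hB : 0 ≤ B) (hxB : x ∈ L B) {m : ℕ} (u : Fin m → K)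
    (hu : LinearIndependent (IntermediateField.adjoin k ({x} : Set K)) u)
    (C : Divisor k K) (hC : ∀ j, u j ∈ L C) (l : ℕ) :
    (l + 1) * m ≤ ell (l • B + C) := by
  classical
  have hmem : ∀ (i : Fin (l + 1)) (j : Fin m), x ^ (i : ℕ) * u j ∈ L (l • B + C) := by
    intro i j
    refine (mem_L_iff _ _).2 fun P => ?_
    have hBP : (1 : WithZero (Multiplicative ℤ)) ≤ WithZero.exp (B P) := by
      rw [← WithZero.exp_zero]
      exact WithZero.exp_le_exp.2 (hB P)
    rw [Finsupp.add_apply, nsmul_apply', ← nsmul_eq_mul, WithZero.exp_add, WithZero.exp_nsmul,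
      map_mul, map_pow]
    refine mul_le_mul' ?_ (hC j P)
    exact (pow_le_pow_left' (hxB P) _).trans (pow_le_pow_right' hBP (Nat.lt_succ_iff.1 i.2))
  have hb : LinearIndependent k
      (fun i : Fin (l + 1) => (IntermediateField.AdjoinSimple.gen k x) ^ (i : ℕ)) :=
    (linearIndependent_gen_pow hx).comp _ Fin.val_injective
  have hli := linearIndependent_smul hb hu
  let v : Fin (l + 1) × Fin m → ↥(L (l • B + C)) :=
    fun p => ⟨x ^ (p.1 : ℕ) * u p.2, hmem p.1 p.2⟩
  have hv : LinearIndependent k v := by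
    apply LinearIndependent.of_comp (L (l • B + C)).subtype
    exact hli
  haveI := L_finite hK (l • B + C)
  have h1 := hv.fintype_card_le_finrank
  rw [Fintype.card_prod, Fintype.card_fin, Fintype.card_fin] at h1
  exact h1

lemma transc (hK : IsFunctionField k K) {x : K}
    (hx : Module.finrank (IntermediateField.adjoin k ({x} : Set K)) K = 2) :
    Transcendental k x := by
  intro halg
  obtain ⟨⟨x₀, hx₀, -⟩, -⟩ := hK
  apply hx₀
  haveI : FiniteDimensional (IntermediateField.adjoin k ({x} : Set K)) K :=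
    Module.finite_of_finrank_pos (by rw [hx]; norm_num)
  haveI : Algebra.IsAlgebraic (IntermediateField.adjoin k ({x} : Set K)) K :=
    Algebra.IsAlgebraic.of_finite _ _
  haveI : Algebra.IsAlgebraic k (IntermediateField.adjoin k ({x} : Set K)) :=
    IntermediateField.isAlgebraic_adjoin_simple halg.isIntegral
  exact (Algebra.IsAlgebraic.trans k (IntermediateField.adjoin k ({x} : Set K)) K).isAlgebraic x₀

set_option maxHeartbeats 800000 in
theorem aux (hK : IsFunctionField k K) (hg : 2 ≤ genus k K) (x x' : K)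
    (hx : Module.finrank (IntermediateField.adjoin k ({x} : Set K)) K = 2)
    (hx' : Module.finrank (IntermediateField.adjoin k ({x'} : Set K)) K = 2)
    (hnot : x' ∉ IntermediateField.adjoin k ({x} : Set K)) : False := by
  classical
  have hxt := transc hK hx
  have hx't := transc hK hx'
  obtain ⟨B, hB0, hxB, hdegB⟩ := exists_pole_divisor hK hxt
  obtain ⟨B', hB'0, hx'B', hdegB'⟩ := exists_pole_divisor hK hx't
  rw [hx] at hdegB
  rw [hx'] at hdegB'
  have hu : LinearIndependent (IntermediateField.adjoin k ({x} : Set K)) ![(1:K), x'] := by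
    rw [LinearIndependent.pair_iff]
    intro s t hst
    by_cases ht : t = 0
    · subst ht
      rw [zero_smul, add_zero, Algebra.smul_def, mul_one] at hst
      exact ⟨(map_eq_zero _).1 hst, rfl⟩
    · exfalso
      apply hnot
      have h3 : t • x' = -(s • (1:K)) := by
        rw [eq_neg_iff_add_eq_zero, add_comm]; exact hst
      rw [Algebra.smul_def, Algebra.smul_def, mul_one] at h3
      have ht' : algebraMap (IntermediateField.adjoin k ({x} : Set K)) K t ≠ 0 :=
        (map_ne_zero _).2 ht
      have h4 : x' = algebraMap (IntermediateField.adjoin k ({x} : Set K)) K (-s / t) := by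
        rw [map_div₀, map_neg, ← h3, mul_div_cancel_left₀ _ ht']
      rw [h4]
      exact (-s / t).2
  have hC : ∀ j, ![(1:K), x'] j ∈ L B' := by
    intro j
    fin_cases j
    · refine (mem_L_iff _ _).2 fun P => ?_
      show P.1 (1:K) ≤ _
      rw [map_one, ← WithZero.exp_zero]
      exact WithZero.exp_le_exp.2 (hB'0 P)
    · exact hx'B'
  obtain ⟨hle, N, hN⟩ := riemann hK
  obtain ⟨l, hl⟩ : ∃ l : ℕ, N ≤ 2 * (l:ℤ) + 2 :=
    ⟨N.toNat, by have := Int.self_le_toNat N; omega⟩
  have h1 := ell_ge hK hxt B hB0 hxB _ hu B' hC l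
  have hdeg : (l • B + B').deg = 2 * l + 2 := by
    rw [deg_add, deg_nsmul, hdegB, hdegB']; push_cast; ring
  have h2 := hN (l • B + B') (by rw [hdeg]; exact hl)
  rw [hdeg] at h2
  have h3 : (((l+1) * 2 : ℕ) : ℤ) ≤ ell (l • B + B') := by exact_mod_cast h1
  push_cast at h3
  have h4 : (2 : ℤ) ≤ genus k K := by exact_mod_cast hg
  linarith

theorem unique_rat (hK : IsFunctionField k K) (hg : 2 ≤ genus k K) (x x' : K)
    (hx : Module.finrank (IntermediateField.adjoin k ({x} : Set K)) K = 2)
    (hx' : Module.finrank (IntermediateField.adjoin k ({x'} : Set K)) K = 2) :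
    IntermediateField.adjoin k ({x} : Set K) = IntermediateField.adjoin k ({x'} : Set K) := by
  by_contra hne
  by_cases h1 : x' ∈ IntermediateField.adjoin k ({x} : Set K)
  · by_cases h2 : x ∈ IntermediateField.adjoin k ({x'} : Set K)
    · apply hne
      apply le_antisymm
      · rw [IntermediateField.adjoin_simple_le_iff]; exact h2
      · rw [IntermediateField.adjoin_simple_le_iff]; exact h1
    · exact aux hK hg x' x hx' hx h2
  · exact aux hK hg x x' hx hx' h1

end Groth.Agent.Lib.lead.RatSub
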