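import Mathlib
import Groth.Prelude.Def_W4c6gradedringsgwSect
import Groth.Agent.Lib.lead.NS2

/-! The section ring `⊕ L(nP) Tⁿ` modulo a degree-one element is the semigroup algebra of the
Weierstrass semigroup. -/

namespace Groth.Agent.Lib.lead.Sect
open FunFld Groth.Agent.Lib.lead.FF Groth.Agent.Lib.lead.FF2 Groth.Agent.Lib.lead.FF3
  Groth.Agent.Lib.lead.FF4
  Groth.Agent.Lib.lead.FF5 Groth.Agent.Lib.lead.FF6 Groth.Agent.Lib.lead.FF7
  Groth.Agent.Lib.lead.FF8 Groth.Agent.Lib.lead.FF9 Groth.Agent.Lib.lead.FF10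
  Groth.Agent.Lib.lead.FF11 Groth.Agent.Lib.lead.FF12 Groth.Agent.Lib.lead.FF13
  Groth.Agent.Lib.lead.FF14 Groth.Agent.Lib.lead.FF15 Groth.Agent.Lib.lead.FF16
  Groth.Agent.Lib.lead.FF17 Groth.Agent.Lib.lead.Loc Groth.Agent.Lib.lead.Emb
  Groth.Agent.Lib.lead.Emb2 Groth.Agent.Lib.lead.NS Groth.Agent.Lib.lead.NS2

variable {k K : Type*} [Field k] [Field K] [Algebra k K]

/-! ### residues -/

/-- `u` is congruent to a constant modulo the maximal ideal of `P` -/
def Reg (P : Place k K) (u : K) : Prop := ∃ c : k, P.1 (u - algebraMap k K c) < 1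

open Classical in
/-- the residue constant of `u` at `P` (junk value `0` if there is none) -/
noncomputable def rho (P : Place k K) (u : K) : k :=
  if h : Reg P u then Classical.choose h else 0

lemma rho_spec (P : Place k K) {u : K} (h : Reg P u) :
    P.1 (u - algebraMap k K (rho P u)) < 1 := by
  unfold rho
  rw [dif_pos h]
  exact Classical.choose_spec h

lemma rho_eq (P : Place k K) {u : K} {c : k} (h : P.1 (u - algebraMap k K c) < 1) :
    rho P u = c :=
  const_unique P (rho_spec P ⟨c, h⟩) h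

lemma reg_add (P : Place k K) {u v : K} (hu : Reg P u) (hv : Reg P v) : Reg P (u + v) :=
  ⟨_, sub_const_add P (rho_spec P hu) (rho_spec P hv)⟩

lemma reg_mul (P : Place k K) {u v : K} (hu : Reg P u) (hv : Reg P v) : Reg P (u * v) :=
  ⟨_, sub_const_mul P (rho_spec P hu) (rho_spec P hv)⟩

lemma reg_algebraMap (P : Place k K) (c : k) : Reg P (algebraMap k K c) :=
  ⟨c, by rw [sub_self, map_zero]; exact zero_lt_one⟩

lemma reg_zero (P : Place k K) : Reg P (0 : K) := by
  have := reg_algebraMap P (0 : k)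
  rwa [map_zero] at this

lemma rho_add (P : Place k K) {u v : K} (hu : Reg P u) (hv : Reg P v) :
    rho P (u + v) = rho P u + rho P v :=
  rho_eq P (sub_const_add P (rho_spec P hu) (rho_spec P hv))

lemma rho_mul (P : Place k K) {u v : K} (hu : Reg P u) (hv : Reg P v) :
    rho P (u * v) = rho P u * rho P v :=
  rho_eq P (sub_const_mul P (rho_spec P hu) (rho_spec P hv))

lemma rho_algebraMap (P : Place k K) (c : k) : rho P (algebraMap k K c) = c :=
  rho_eq P (by rw [sub_self, map_zero]; exact zero_lt_one)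

lemma rho_zero (P : Place k K) : rho P (0 : K) = 0 := by
  have := rho_algebraMap P (0 : k)
  rwa [map_zero] at this

lemma rho_one (P : Place k K) : rho P (1 : K) = 1 := by
  have := rho_algebraMap P (1 : k)
  rwa [map_one] at this

lemma rho_eq_zero_iff (P : Place k K) {u : K} (hu : Reg P u) : rho P u = 0 ↔ P.1 u < 1 :=
  (val_lt_one_iff_const P (rho_spec P hu)).symm

lemma reg_sum (P : Place k K) {ι : Type*} (s : Finset ι) (f : ι → K)
    (h : ∀ i ∈ s, Reg P (f i)) :
    Reg P (∑ i ∈ s, f i) ∧ rho P (∑ i ∈ s, f i) = ∑ i ∈ s, rho P (f i) := by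
  classical
  induction s using Finset.induction_on with
  | empty =>
    rw [Finset.sum_empty, Finset.sum_empty]
    exact ⟨reg_zero P, rho_zero P⟩
  | insert a s ha ih =>
    have h1 := ih fun i hi => h i (Finset.mem_insert_of_mem hi)
    have h2 := h a (Finset.mem_insert_self a s)
    rw [Finset.sum_insert ha, Finset.sum_insert ha]
    exact ⟨reg_add P h2 h1.1, by rw [rho_add P h2 h1.1, h1.2]⟩

lemma reg_of_le [IsAlgClosed k] (hK : IsFunctionField k K) (P : Place k K) {u : K}
    (h : P.1 u ≤ 1) : Reg P u :=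
  exists_const_sub_lt P (deg_eq_one hK P) h

/-! ### the divisors `nP` -/

lemma smul_single_one (P : Place k K) (m : ℤ) :
    m • (Finsupp.single P (1 : ℤ) : Divisor k K) = Finsupp.single P m := by
  rw [Finsupp.smul_single, smul_eq_mul, mul_one]

lemma mem_L_single_iff (P : Place k K) (m : ℤ) (x : K) :
    x ∈ L (Finsupp.single P m : Divisor k K) ↔
      P.1 x ≤ WithZero.exp m ∧ ∀ Q : Place k K, Q ≠ P → Q.1 x ≤ 1 := by
  classical
  rw [mem_L_iff]
  constructor
  · intro h
    refine ⟨by have := h P; rwa [Finsupp.single_eq_same] at this, fun Q hQ => ?_⟩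
    have := h Q
    rwa [Finsupp.single_apply, if_neg (Ne.symm hQ), WithZero.exp_zero] at this
  · rintro ⟨h1, h2⟩ Q
    by_cases hQ : Q = P
    · rw [hQ, Finsupp.single_eq_same]
      exact h1
    · rw [Finsupp.single_apply, if_neg (Ne.symm hQ), WithZero.exp_zero]
      exact h2 Q hQ

lemma coeff_mem {P : Place k K} {p : Polynomial K}
    (hp : p ∈ W4c6gradedringsgw.sectRing (Finsupp.single P 1 : Divisor k K)) (n : ℕ) :
    p.coeff n ∈ L (Finsupp.single P (n : ℤ) : Divisor k K) := by
  have := hp n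
  rwa [smul_single_one] at this

lemma mem_sect {P : Place k K} {p : Polynomial K}
    (h : ∀ n : ℕ, p.coeff n ∈ L (Finsupp.single P (n : ℤ) : Divisor k K)) :
    p ∈ W4c6gradedringsgw.sectRing (Finsupp.single P 1 : Divisor k K) := by
  intro n
  rw [smul_single_one]
  exact h n

lemma val_pi_pow {P : Place k K} {π : K} (hπ : P.1 π = WithZero.exp (-1)) (n : ℕ) :
    P.1 (π ^ n) = WithZero.exp (-(n : ℤ)) := by
  rw [map_pow, hπ, ← WithZero.exp_nsmul, nsmul_eq_mul, mul_neg, mul_one]

lemma reg_coeff [IsAlgClosed k] (hK : IsFunctionField k K) {P : Place k K} {π : K}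
    (hπ : P.1 π = WithZero.exp (-1)) {p : Polynomial K}
    (hp : p ∈ W4c6gradedringsgw.sectRing (Finsupp.single P 1 : Divisor k K)) (n : ℕ) :
    Reg P (π ^ n * p.coeff n) := by
  apply reg_of_le hK
  have hx := ((mem_L_single_iff P n _).1 (coeff_mem hp n)).1
  calc P.1 (π ^ n * p.coeff n) = WithZero.exp (-(n : ℤ)) * P.1 (p.coeff n) := by
        rw [map_mul, val_pi_pow hπ]
    _ ≤ WithZero.exp (-(n : ℤ)) * WithZero.exp (n : ℤ) := mul_le_mul' le_rfl hx
    _ = 1 := by rw [← WithZero.exp_add, neg_add_cancel, WithZero.exp_zero]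

lemma key {P : Place k K} {π : K} (hπ : P.1 π = WithZero.exp (-1)) (n : ℕ) {x : K}
    (hx : x ≠ 0) : P.1 (π ^ n * x) < 1 ↔ P.1 x ≤ WithZero.exp ((n : ℤ) - 1) := by
  have hπ0 : π ≠ 0 := by
    rintro rfl
    rw [map_zero] at hπ
    exact WithZero.exp_ne_zero hπ.symm
  have hordπ : P.ord π = 1 := by
    have := hπ
    rw [val_eq_exp P hπ0, WithZero.exp_inj] at this
    omega
  rw [← ord_pos_iff P (mul_ne_zero (pow_ne_zero n hπ0) hx), ord_mul P (pow_ne_zero n hπ0) hx,
    ord_pow, hordπ, val_le_exp_iff P hx]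
  constructor <;> intro h <;> omega

/-! ### the leading-coefficient map -/

/-- the leading-coefficient polynomial -/
noncomputable def PhiFun (P : Place k K) (π : K) (p : Polynomial K) : Polynomial k :=
  ∑ n ∈ p.support, Polynomial.monomial n (rho P (π ^ n * p.coeff n))

lemma PhiFun_coeff (P : Place k K) (π : K) (p : Polynomial K) (n : ℕ) :
    (PhiFun P π p).coeff n = rho P (π ^ n * p.coeff n) := by
  classical
  unfold PhiFun
  rw [Polynomial.finset_sum_coeff]
  simp only [Polynomial.coeff_monomial]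
  rw [Finset.sum_ite_eq']
  split_ifs with h
  · rfl
  · rw [Polynomial.notMem_support_iff.1 h, mul_zero, rho_zero]

lemma PhiFun_one (P : Place k K) (π : K) : PhiFun P π (1 : Polynomial K) = 1 := by
  apply Polynomial.ext
  intro n
  rw [PhiFun_coeff, Polynomial.coeff_one, Polynomial.coeff_one]
  split_ifs with h
  · rw [h, pow_zero, one_mul]
    exact rho_one P
  · rw [mul_zero]
    exact rho_zero P

lemma PhiFun_zero (P : Place k K) (π : K) : PhiFun P π (0 : Polynomial K) = 0 := by
  apply Polynomial.ext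
  intro n
  rw [PhiFun_coeff, Polynomial.coeff_zero, Polynomial.coeff_zero, mul_zero]
  exact rho_zero P

lemma PhiFun_algebraMap (P : Place k K) (π : K) (c : k) :
    PhiFun P π (algebraMap k (Polynomial K) c) = algebraMap k (Polynomial k) c := by
  apply Polynomial.ext
  intro n
  rw [PhiFun_coeff, Polynomial.algebraMap_apply, Polynomial.algebraMap_apply, Polynomial.coeff_C,
    Polynomial.coeff_C]
  split_ifs with h
  · rw [h, pow_zero, one_mul]
    exact rho_algebraMap P c
  · rw [mul_zero]
    exact rho_zero P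

lemma PhiFun_add [IsAlgClosed k] (hK : IsFunctionField k K) {P : Place k K} {π : K}
    (hπ : P.1 π = WithZero.exp (-1)) {p q : Polynomial K}
    (hp : p ∈ W4c6gradedringsgw.sectRing (Finsupp.single P 1 : Divisor k K))
    (hq : q ∈ W4c6gradedringsgw.sectRing (Finsupp.single P 1 : Divisor k K)) :
    PhiFun P π (p + q) = PhiFun P π p + PhiFun P π q := by
  apply Polynomial.ext
  intro n
  rw [Polynomial.coeff_add, PhiFun_coeff, PhiFun_coeff, PhiFun_coeff, Polynomial.coeff_add,
    mul_add, rho_add P (reg_coeff hK hπ hp n) (reg_coeff hK hπ hq n)]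

lemma PhiFun_mul [IsAlgClosed k] (hK : IsFunctionField k K) {P : Place k K} {π : K}
    (hπ : P.1 π = WithZero.exp (-1)) {p q : Polynomial K}
    (hp : p ∈ W4c6gradedringsgw.sectRing (Finsupp.single P 1 : Divisor k K))
    (hq : q ∈ W4c6gradedringsgw.sectRing (Finsupp.single P 1 : Divisor k K)) :
    PhiFun P π (p * q) = PhiFun P π p * PhiFun P π q := by
  apply Polynomial.ext
  intro n
  rw [PhiFun_coeff, Polynomial.coeff_mul, Polynomial.coeff_mul, Finset.mul_sum]
  have hterm : ∀ x ∈ Finset.HasAntidiagonal.antidiagonal n, π ^ n * (p.coeff x.1 * q.coeff x.2) =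
      (π ^ x.1 * p.coeff x.1) * (π ^ x.2 * q.coeff x.2) := by
    intro x hx
    rw [← Finset.HasAntidiagonal.mem_antidiagonal.1 hx, pow_add]
    ring
  rw [Finset.sum_congr rfl hterm]
  have hr := reg_sum P (Finset.HasAntidiagonal.antidiagonal n)
    (fun x => (π ^ x.1 * p.coeff x.1) * (π ^ x.2 * q.coeff x.2))
    (fun x _ => reg_mul P (reg_coeff hK hπ hp x.1) (reg_coeff hK hπ hq x.2))
  rw [hr.2]
  refine Finset.sum_congr rfl fun x _ => ?_
  rw [rho_mul P (reg_coeff hK hπ hp x.1) (reg_coeff hK hπ hq x.2), PhiFun_coeff, PhiFun_coeff]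

/-- the leading-coefficient homomorphism `R_P → k[X]` -/
noncomputable def Phi [IsAlgClosed k] (hK : IsFunctionField k K) (P : Place k K) (π : K)
    (hπ : P.1 π = WithZero.exp (-1)) :
    ↥(W4c6gradedringsgw.sectRing (Finsupp.single P 1 : Divisor k K)) →ₐ[k] Polynomial k where
  toFun p := PhiFun P π p.1
  map_one' := PhiFun_one P π
  map_mul' p q := PhiFun_mul hK hπ p.2 q.2
  map_zero' := PhiFun_zero P π
  map_add' p q := PhiFun_add hK hπ p.2 q.2
  commutes' c := PhiFun_algebraMap P π c

lemma Phi_apply [IsAlgClosed k] (hK : IsFunctionField k K) (P : Place k K) (π : K)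
    (hπ : P.1 π = WithZero.exp (-1))
    (p : ↥(W4c6gradedringsgw.sectRing (Finsupp.single P 1 : Divisor k K))) :
    Phi hK P π hπ p = PhiFun P π p.1 := rfl

lemma PhiFun_eq_zero_iff [IsAlgClosed k] (hK : IsFunctionField k K) {P : Place k K} {π : K}
    (hπ : P.1 π = WithZero.exp (-1)) {p : Polynomial K}
    (hp : p ∈ W4c6gradedringsgw.sectRing (Finsupp.single P 1 : Divisor k K)) :
    PhiFun P π p = 0 ↔ ∀ n : ℕ, P.1 (p.coeff n) ≤ WithZero.exp ((n : ℤ) - 1) := by
  rw [Polynomial.ext_iff]
  constructor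
  · intro h n
    have h1 := h n
    rw [PhiFun_coeff, Polynomial.coeff_zero] at h1
    by_cases hx : p.coeff n = 0
    · rw [hx, map_zero]
      exact zero_le'
    · exact (key hπ n hx).1 ((rho_eq_zero_iff P (reg_coeff hK hπ hp n)).1 h1)
  · intro h n
    rw [PhiFun_coeff, Polynomial.coeff_zero]
    by_cases hx : p.coeff n = 0
    · rw [hx, mul_zero]
      exact rho_zero P
    · exact (rho_eq_zero_iff P (reg_coeff hK hπ hp n)).2 ((key hπ n hx).2 (h n))

/-! ### the Weierstrass semigroup -/

lemma mem_H_iff [IsAlgClosed k] (hK : IsFunctionField k K) (P : Place k K) (n : ℕ) :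
    n ∈ W4c6gradedringsgw.poleOrders P ↔
      ∃ x ∈ L (Finsupp.single P (n : ℤ) : Divisor k K), P.1 x = WithZero.exp (n : ℤ) := by
  have hle : (Finsupp.single P ((n : ℤ) - 1) : Divisor k K) ≤ Finsupp.single P (n : ℤ) :=
    single_mono P (by omega)
  have hbound := ell_sub_le hK hle
  rw [deg_single, deg_single, deg_eq_one hK P] at hbound
  have hmono : ell (Finsupp.single P ((n : ℤ) - 1) : Divisor k K) ≤
      ell (Finsupp.single P (n : ℤ) : Divisor k K) := ell_mono hK hle
  show ell ((n : ℤ) • (Finsupp.single P 1 : Divisor k K)) =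
      ell (((n : ℤ) - 1) • (Finsupp.single P 1 : Divisor k K)) + 1 ↔ _
  rw [smul_single_one, smul_single_one]
  constructor
  · intro h
    obtain ⟨x, hx, hxn⟩ := exists_of_ell_lt hK (show ell (Finsupp.single P ((n : ℤ) - 1) :
      Divisor k K) < ell (Finsupp.single P (n : ℤ) : Divisor k K) by omega)
    refine ⟨x, hx, ?_⟩
    have h1 : (Finsupp.single P (n : ℤ) : Divisor k K) - Finsupp.single P 1 =
        Finsupp.single P ((n : ℤ) - 1) := by rw [← Finsupp.single_sub]
    have h2 := val_eq_of_mem_not_mem (R := P) hx (by rw [h1]; exact hxn)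
    rwa [Finsupp.single_eq_same] at h2
  · rintro ⟨x, hx, hxP⟩
    have hxn : x ∉ L (Finsupp.single P ((n : ℤ) - 1) : Divisor k K) := by
      intro hmem
      have h1 := ((mem_L_single_iff P _ _).1 hmem).1
      rw [hxP, WithZero.exp_le_exp] at h1
      omega
    haveI := L_finite hK (Finsupp.single P (n : ℤ) : Divisor k K)
    have hlt : L (Finsupp.single P ((n : ℤ) - 1) : Divisor k K) <
        L (Finsupp.single P (n : ℤ) : Divisor k K) :=
      lt_of_le_of_ne (L_mono hle) (fun heq => hxn (by rw [heq]; exact hx))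
    have h3 : ell (Finsupp.single P ((n : ℤ) - 1) : Divisor k K) <
        ell (Finsupp.single P (n : ℤ) : Divisor k K) := Submodule.finrank_lt_finrank_of_lt hlt
    push_cast at hbound
    omega

lemma closure_H [IsAlgClosed k] (hK : IsFunctionField k K) (P : Place k K) {n : ℕ}
    (hn : n ∈ AddSubmonoid.closure (W4c6gradedringsgw.poleOrders P)) :
    n ∈ W4c6gradedringsgw.poleOrders P := by
  induction hn using AddSubmonoid.closure_induction with
  | mem x hx => exact hx
  | zero =>
    rw [mem_H_iff hK]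
    refine ⟨1, ?_, ?_⟩
    · rw [Nat.cast_zero, Finsupp.single_zero, L_zero hK]
      exact Submodule.mem_one.2 ⟨1, map_one _⟩
    · rw [map_one, Nat.cast_zero, WithZero.exp_zero]
  | add x y _ _ hx hy =>
    rw [mem_H_iff hK] at hx hy ⊢
    obtain ⟨a, ha, haP⟩ := hx
    obtain ⟨b, hb, hbP⟩ := hy
    refine ⟨a * b, ?_, ?_⟩
    · have := W4c6gradedringsgw.mul_mem_L ha hb
      rwa [← Finsupp.single_add, ← Nat.cast_add] at this
    · rw [map_mul, haP, hbP, ← WithZero.exp_add, Nat.cast_add]

lemma const_of_mem_L_single [IsAlgClosed k] (hK : IsFunctionField k K) (hg : 1 ≤ genus k K)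
    (P : Place k K) {x : K} (hx : x ∈ L (Finsupp.single P (1 : ℤ) : Divisor k K)) :
    ∃ c : k, algebraMap k K c = x := by
  haveI := L_finite hK (Finsupp.single P (1 : ℤ) : Divisor k K)
  have hD : FunFld.Divisor.deg (Finsupp.single P (1 : ℤ) : Divisor k K) = ((1 : ℕ) : ℤ) := by
    rw [deg_single, deg_eq_one hK P]
    simp
  have h1 := finrank_le_one_of_genus_pos hK (by omega) 1 _ hD
    (L (Finsupp.single P (1 : ℤ) : Divisor k K)) P
  rw [Nat.cast_one, sub_self, Finsupp.single_zero, sub_zero, inf_idem] at h1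
  have h0 : (0 : Divisor k K) ≤ Finsupp.single P 1 := single_one_nonneg P
  have h3 : L (0 : Divisor k K) = L (Finsupp.single P (1 : ℤ) : Divisor k K) := by
    refine Submodule.eq_of_le_of_finrank_le (L_mono h0) ?_
    have h4 : Module.finrank k ↥(L (0 : Divisor k K)) = 1 := ell_zero hK
    rw [h4]
    exact h1
  rw [← h3, L_zero hK, Submodule.mem_one] at hx
  exact hx

/-! ### the semigroup algebra inside `k[X]` -/

/-- `m ↦ X ^ m` on a submonoid of `ℕ` -/
noncomputable def Fhom (M : AddSubmonoid ℕ) : Multiplicative ↥M →* Polynomial k where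
  toFun m := Polynomial.X ^ ((Multiplicative.toAdd m : ↥M) : ℕ)
  map_one' := by simp
  map_mul' a b := by simp [pow_add]

/-- the inclusion of the semigroup algebra into the polynomial ring -/
noncomputable def iota (M : AddSubmonoid ℕ) : AddMonoidAlgebra k ↥M →ₐ[k] Polynomial k :=
  AddMonoidAlgebra.lift k (Polynomial k) ↥M (Fhom M)

lemma iota_single (M : AddSubmonoid ℕ) (m : ↥M) (c : k) :
    iota M (AddMonoidAlgebra.single m c) = Polynomial.monomial (m : ℕ) c := by
  unfold iota
  rw [AddMonoidAlgebra.lift_single]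
  exact Polynomial.smul_X_eq_monomial

lemma iota_coeff (M : AddSubmonoid ℕ) (g : AddMonoidAlgebra k ↥M) (m : ↥M) :
    (iota M g).coeff (m : ℕ) = g.coeff m := by
  classical
  induction g using AddMonoidAlgebra.induction_linear with
  | zero => simp
  | add x y hx hy =>
    rw [map_add, Polynomial.coeff_add, hx, hy, AddMonoidAlgebra.coeff_add, Finsupp.add_apply]
  | single a c =>
    rw [iota_single, Polynomial.coeff_monomial, AddMonoidAlgebra.coeff_single,
      Finsupp.single_apply]
    by_cases h : a = m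
    · rw [if_pos h, if_pos (by rw [h])]
    · rw [if_neg h, if_neg (fun h' => h (Subtype.ext h'))]

lemma iota_injective (M : AddSubmonoid ℕ) : Function.Injective (iota (k := k) M) := by
  rw [injective_iff_map_eq_zero]
  intro g hg
  apply AddMonoidAlgebra.coeff_injective
  ext m
  rw [← iota_coeff, hg, Polynomial.coeff_zero]
  simp

/-! ### the main theorem -/

theorem main [IsAlgClosed k] (hK : IsFunctionField k K) (hg : 1 ≤ genus k K) (P : Place k K)
    (t : ↥(W4c6gradedringsgw.sectRing (Finsupp.single P 1 : Divisor k K))) (a : K) (ha : a ≠ 0)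
    (ht : (t : Polynomial K) = Polynomial.C a * Polynomial.X) :
    Prime t ∧ Nonempty
      ((↥(W4c6gradedringsgw.sectRing (Finsupp.single P 1 : Divisor k K)) ⧸ Ideal.span {t}) ≃ₐ[k]
        AddMonoidAlgebra k ↥(AddSubmonoid.closure (W4c6gradedringsgw.poleOrders P))) := by
  classical
  obtain ⟨π, hπ⟩ := P.2.2 (WithZero.exp (-1))
  obtain ⟨Φ, hΦ⟩ : ∃ Φ : ↥(W4c6gradedringsgw.sectRing (Finsupp.single P 1 : Divisor k K)) →ₐ[k]
      Polynomial k, ∀ p, Φ p = PhiFun P π p.1 := ⟨Phi hK P π hπ, fun p => rfl⟩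
  -- `a` is a constant
  have haL : a ∈ L (Finsupp.single P (1 : ℤ) : Divisor k K) := by
    have h1 := coeff_mem t.2 1
    rw [ht, Polynomial.coeff_C_mul_X, if_pos rfl, Nat.cast_one] at h1
    exact h1
  obtain ⟨c₀, hc₀⟩ := const_of_mem_L_single hK hg P haL
  have hc₀0 : c₀ ≠ 0 := by
    rintro rfl
    rw [map_zero] at hc₀
    exact ha hc₀.symm
  have ht0 : t ≠ 0 := by
    intro h0
    have h1 : (t : Polynomial K).coeff 1 = 0 := by
      rw [h0]
      exact Polynomial.coeff_zero 1
    rw [ht, Polynomial.coeff_C_mul_X, if_pos rfl] at h1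
    exact ha h1
  have hΦt : Φ t = 0 := by
    rw [hΦ, PhiFun_eq_zero_iff hK hπ t.2]
    intro n
    rw [ht, Polynomial.coeff_C_mul_X]
    split_ifs with h
    · rw [h, ← hc₀, Nat.cast_one, sub_self, WithZero.exp_zero]
      exact P.2.1 c₀
    · rw [map_zero]
      exact zero_le'
  -- the kernel
  have hker : RingHom.ker Φ = Ideal.span {t} := by
    ext p
    rw [RingHom.mem_ker, Ideal.mem_span_singleton']
    constructor
    · intro h0
      have h := (PhiFun_eq_zero_iff hK hπ p.2).1 (by rw [← hΦ]; exact h0)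
      -- constant coefficient vanishes
      have hp0 : (p : Polynomial K).coeff 0 = 0 := by
        have h1 := coeff_mem p.2 0
        rw [Nat.cast_zero, Finsupp.single_zero, L_zero hK, Submodule.mem_one] at h1
        obtain ⟨c, hc⟩ := h1
        have h2 := h 0
        rw [← hc] at h2 ⊢
        have h3 : P.1 (algebraMap k K c) < 1 := lt_of_le_of_lt h2 (by
          rw [Nat.cast_zero, zero_sub]
          exact hexp1)
        rw [const_eq_zero_of_val_lt P h3, map_zero]
      have hqmem : Polynomial.C a⁻¹ * (p : Polynomial K).divX ∈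
          W4c6gradedringsgw.sectRing (Finsupp.single P 1 : Divisor k K) := by
        apply mem_sect
        intro n
        rw [Polynomial.coeff_C_mul, Polynomial.coeff_divX]
        have h1 := coeff_mem p.2 (n + 1)
        have h2 := h (n + 1)
        have h3 : (p : Polynomial K).coeff (n + 1) ∈
            L (Finsupp.single P (n : ℤ) : Divisor k K) := by
          rw [mem_L_single_iff] at h1 ⊢
          refine ⟨?_, h1.2⟩
          have : ((n + 1 : ℕ) : ℤ) - 1 = (n : ℤ) := by push_cast; ring
          rwa [this] at h2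
        have h4 : a⁻¹ = algebraMap k K c₀⁻¹ := by rw [map_inv₀, hc₀]
        rw [h4, ← Algebra.smul_def]
        exact Submodule.smul_mem _ _ h3
      refine ⟨⟨_, hqmem⟩, ?_⟩
      apply Subtype.ext
      show Polynomial.C a⁻¹ * (p : Polynomial K).divX * (t : Polynomial K) = (p : Polynomial K)
      rw [ht]
      have h5 := Polynomial.X_mul_divX_add (p : Polynomial K)
      rw [hp0, map_zero, add_zero] at h5
      calc Polynomial.C a⁻¹ * (p : Polynomial K).divX * (Polynomial.C a * Polynomial.X)
          = (Polynomial.C a⁻¹ * Polynomial.C a) * (Polynomial.X * (p : Polynomial K).divX) := by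
            ring
        _ = (p : Polynomial K) := by
            rw [← Polynomial.C_mul, inv_mul_cancel₀ ha, Polynomial.C_1, one_mul, h5]
    · rintro ⟨q, rfl⟩
      rw [map_mul, hΦt, mul_zero]
  refine ⟨?_, ?_⟩
  · rw [← Ideal.span_singleton_prime ht0, ← hker]
    exact RingHom.ker_isPrime Φ
  · obtain ⟨M, hM⟩ : ∃ M : AddSubmonoid ℕ,
        M = AddSubmonoid.closure (W4c6gradedringsgw.poleOrders P) := ⟨_, rfl⟩
    rw [← hM]
    have hMH : ∀ n : ℕ, n ∈ M → n ∈ W4c6gradedringsgw.poleOrders P := fun n hn =>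
      closure_H hK P (by rw [← hM]; exact hn)
    have hHM : ∀ n : ℕ, n ∈ W4c6gradedringsgw.poleOrders P → n ∈ M := fun n hn => by
      rw [hM]
      exact AddSubmonoid.subset_closure hn
    have hΦmem : ∀ p, Φ p ∈ (iota (k := k) M).range := by
      intro p
      rw [hΦ]
      unfold PhiFun
      refine Subalgebra.sum_mem _ fun n _ => ?_
      by_cases hc : rho P (π ^ n * (p : Polynomial K).coeff n) = 0
      · rw [hc, map_zero]
        exact Subalgebra.zero_mem _
      · have hx0 : (p : Polynomial K).coeff n ≠ 0 := by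
          intro h0
          apply hc
          rw [h0, mul_zero]
          exact rho_zero P
        have hreg := reg_coeff hK hπ p.2 n
        have h1 : ¬ P.1 (π ^ n * (p : Polynomial K).coeff n) < 1 := fun h =>
          hc ((rho_eq_zero_iff P hreg).2 h)
        have h2 : ¬ P.1 ((p : Polynomial K).coeff n) ≤ WithZero.exp ((n : ℤ) - 1) := fun h =>
          h1 ((key hπ n hx0).2 h)
        have h3 : ¬ P.1 ((p : Polynomial K).coeff n) < WithZero.exp (n : ℤ) := fun h =>
          h2 ((lt_exp_iff_le P _ _).1 h)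
        have hmemL := coeff_mem p.2 n
        have h4 : P.1 ((p : Polynomial K).coeff n) = WithZero.exp (n : ℤ) :=
          le_antisymm ((mem_L_single_iff P _ _).1 hmemL).1 (not_lt.1 h3)
        have hnH : n ∈ W4c6gradedringsgw.poleOrders P := (mem_H_iff hK P n).2 ⟨_, hmemL, h4⟩
        exact (AlgHom.mem_range _).2 ⟨AddMonoidAlgebra.single ⟨n, hHM n hnH⟩ _,
          iota_single M ⟨n, hHM n hnH⟩ _⟩
    have hsurj : ∀ g : AddMonoidAlgebra k ↥M, ∃ p, Φ p = iota M g := by
      intro g
      induction g using AddMonoidAlgebra.induction_linear with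
      | zero => exact ⟨0, by rw [map_zero, map_zero]⟩
      | add x y hx hy =>
        obtain ⟨p1, hp1⟩ := hx
        obtain ⟨p2, hp2⟩ := hy
        exact ⟨p1 + p2, by rw [map_add, map_add, hp1, hp2]⟩
      | single m c =>
        obtain ⟨x, hxL, hxP⟩ := (mem_H_iff hK P m).1 (hMH m m.2)
        have hu1 : P.1 (π ^ (m : ℕ) * x) = 1 := by
          rw [map_mul, val_pi_pow hπ, hxP, ← WithZero.exp_add, neg_add_cancel, WithZero.exp_zero]
        have hureg : Reg P (π ^ (m : ℕ) * x) := reg_of_le hK P hu1.le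
        obtain ⟨c₁, hc₁⟩ : ∃ c₁ : k, c₁ = rho P (π ^ (m : ℕ) * x) := ⟨_, rfl⟩
        have hc₁0 : c₁ ≠ 0 := by
          rw [hc₁]
          intro h0
          have := (rho_eq_zero_iff P hureg).1 h0
          rw [hu1] at this
          exact lt_irrefl _ this
        have hpmem : Polynomial.monomial (m : ℕ) ((c / c₁) • x) ∈
            W4c6gradedringsgw.sectRing (Finsupp.single P 1 : Divisor k K) := by
          apply mem_sect
          intro n
          rw [Polynomial.coeff_monomial]
          split_ifs with h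
          · rw [← h]
            exact Submodule.smul_mem _ _ hxL
          · exact Submodule.zero_mem _
        refine ⟨⟨_, hpmem⟩, ?_⟩
        rw [hΦ, iota_single]
        show PhiFun P π (Polynomial.monomial (m : ℕ) ((c / c₁) • x)) = _
        apply Polynomial.ext
        intro n
        rw [PhiFun_coeff, Polynomial.coeff_monomial, Polynomial.coeff_monomial]
        split_ifs with h
        · rw [← h, mul_smul_comm, Algebra.smul_def, rho_mul P (reg_algebraMap P _) hureg,
            rho_algebraMap, ← hc₁, div_mul_cancel₀ _ hc₁0]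
        · rw [mul_zero]
          exact rho_zero P
    obtain ⟨e, he⟩ : ∃ e : AddMonoidAlgebra k ↥M ≃ₐ[k] ↥(iota (k := k) M).range,
        ∀ g, ((e g : ↥(iota (k := k) M).range) : Polynomial k) = iota M g :=
      ⟨AlgEquiv.ofInjective (iota M) (iota_injective M), fun g => rfl⟩
    obtain ⟨Φ', hΦ'⟩ : ∃ Φ' : ↥(W4c6gradedringsgw.sectRing (Finsupp.single P 1 : Divisor k K))
        →ₐ[k] ↥(iota (k := k) M).range,
        ∀ p, ((Φ' p : ↥(iota (k := k) M).range) : Polynomial k) = Φ p :=
      ⟨Φ.codRestrict _ hΦmem, fun p => rfl⟩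
    have hψsurj : Function.Surjective
        ((e.symm : ↥(iota (k := k) M).range →ₐ[k] AddMonoidAlgebra k ↥M).comp Φ') := by
      intro g
      obtain ⟨p, hp⟩ := hsurj g
      refine ⟨p, ?_⟩
      rw [AlgHom.comp_apply]
      show e.symm (Φ' p) = g
      rw [AlgEquiv.symm_apply_eq]
      apply Subtype.ext
      rw [hΦ', he, hp]
    have hkerψ : RingHom.ker
        ((e.symm : ↥(iota (k := k) M).range →ₐ[k] AddMonoidAlgebra k ↥M).comp Φ') =
          Ideal.span {t} := by
      rw [← hker]
      ext p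
      rw [RingHom.mem_ker, RingHom.mem_ker, AlgHom.comp_apply]
      show e.symm (Φ' p) = 0 ↔ Φ p = 0
      rw [EmbeddingLike.map_eq_zero_iff, ← hΦ']
      constructor
      · intro h
        rw [h]
        rfl
      · intro h
        exact Subtype.ext h
    exact ⟨(Ideal.quotientEquivAlgOfEq k hkerψ.symm).trans
      (Ideal.quotientKerAlgEquivOfSurjective hψsurj)⟩

end Groth.Agent.Lib.lead.Sect
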