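import Mathlib
import Groth.Prelude.Def_W4c6gradedringsgwSect
import Groth.Agent.Lib.lead.Sect

/-! The embedding dimension of the section ring `⊕ L(nP) Tⁿ`. -/

namespace Groth.Agent.Lib.lead.Sect2
open FunFld Groth.Agent.Lib.lead.FF Groth.Agent.Lib.lead.FF2 Groth.Agent.Lib.lead.FF3
  Groth.Agent.Lib.lead.FF4
  Groth.Agent.Lib.lead.FF5 Groth.Agent.Lib.lead.FF6 Groth.Agent.Lib.lead.FF7
  Groth.Agent.Lib.lead.FF8 Groth.Agent.Lib.lead.FF9 Groth.Agent.Lib.lead.FF10
  Groth.Agent.Lib.lead.FF11 Groth.Agent.Lib.lead.FF12 Groth.Agent.Lib.lead.FF13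
  Groth.Agent.Lib.lead.FF14 Groth.Agent.Lib.lead.FF15 Groth.Agent.Lib.lead.FF16
  Groth.Agent.Lib.lead.FF17 Groth.Agent.Lib.lead.Loc Groth.Agent.Lib.lead.Emb
  Groth.Agent.Lib.lead.Emb2 Groth.Agent.Lib.lead.NS Groth.Agent.Lib.lead.NS2
  Groth.Agent.Lib.lead.Sect

variable {k K : Type*} [Field k] [Field K] [Algebra k K]

lemma reg_smul (P : Place k K) (c : k) {u : K} (hu : Reg P u) : Reg P (c • u) := by
  rw [Algebra.smul_def]
  exact reg_mul P (reg_algebraMap P c) hu

lemma rho_smul (P : Place k K) (c : k) {u : K} (hu : Reg P u) :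
    rho P (c • u) = c * rho P u := by
  rw [Algebra.smul_def, rho_mul P (reg_algebraMap P c) hu, rho_algebraMap]

lemma val_pi_mul_le [IsAlgClosed k] {P : Place k K} {π : K} (hπ : P.1 π = WithZero.exp (-1))
    {n : ℕ} {g : K} (hg : g ∈ L (Finsupp.single P (n : ℤ) : Divisor k K)) :
    P.1 (π ^ n * g) ≤ 1 := by
  have hx := ((mem_L_single_iff P n _).1 hg).1
  calc P.1 (π ^ n * g) = WithZero.exp (-(n : ℤ)) * P.1 g := by rw [map_mul, val_pi_pow hπ]
    _ ≤ WithZero.exp (-(n : ℤ)) * WithZero.exp (n : ℤ) := mul_le_mul' le_rfl hx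
    _ = 1 := by rw [← WithZero.exp_add, neg_add_cancel, WithZero.exp_zero]

lemma val_pi_mul_eq {P : Place k K} {π : K} (hπ : P.1 π = WithZero.exp (-1))
    {n : ℕ} {y : K} (hyP : P.1 y = WithZero.exp (n : ℤ)) : P.1 (π ^ n * y) = 1 := by
  rw [map_mul, val_pi_pow hπ, hyP, ← WithZero.exp_add, neg_add_cancel, WithZero.exp_zero]

lemma rho_ne_zero_of_val_eq_one [IsAlgClosed k] (hK : IsFunctionField k K) {P : Place k K}
    {u : K} (hu : P.1 u = 1) : rho P u ≠ 0 := by
  intro h0
  have := (rho_eq_zero_iff P (reg_of_le hK P hu.le)).1 h0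
  rw [hu] at this
  exact lt_irrefl _ this

/-- cancelling the leading coefficient -/
lemma exists_sub_mem [IsAlgClosed k] (hK : IsFunctionField k K) {P : Place k K} {π : K}
    (hπ : P.1 π = WithZero.exp (-1)) {n : ℕ} {f y : K}
    (hf : f ∈ L (Finsupp.single P (n : ℤ) : Divisor k K))
    (hy : y ∈ L (Finsupp.single P (n : ℤ) : Divisor k K))
    (hyP : P.1 y = WithZero.exp (n : ℤ)) :
    ∃ c : k, f - c • y ∈ L (Finsupp.single P ((n : ℤ) - 1) : Divisor k K) := by
  have hu := reg_of_le hK P (val_pi_mul_le hπ hf)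
  have hv1 := val_pi_mul_eq hπ hyP
  have hv := reg_of_le hK P hv1.le
  have hρv : rho P (π ^ n * y) ≠ 0 := rho_ne_zero_of_val_eq_one hK hv1
  obtain ⟨c, hc⟩ : ∃ c : k, c = rho P (π ^ n * f) / rho P (π ^ n * y) := ⟨_, rfl⟩
  refine ⟨c, ?_⟩
  have hw : f - c • y ∈ L (Finsupp.single P (n : ℤ) : Divisor k K) :=
    Submodule.sub_mem _ hf (Submodule.smul_mem _ c hy)
  rw [mem_L_single_iff]
  refine ⟨?_, ((mem_L_single_iff P _ _).1 hw).2⟩
  by_cases hw0 : f - c • y = 0
  · rw [hw0, map_zero]
    exact zero_le'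
  · rw [← key hπ n hw0]
    have hreg : Reg P (π ^ n * (f - c • y)) := reg_of_le hK P (val_pi_mul_le hπ hw)
    rw [← rho_eq_zero_iff P hreg]
    have e1 : π ^ n * (f - c • y) = π ^ n * f + (-c) • (π ^ n * y) := by
      rw [mul_sub, mul_smul_comm, neg_smul, sub_eq_add_neg]
    rw [e1, rho_add P hu (reg_smul P _ hv), rho_smul P _ hv, hc, neg_mul,
      div_mul_cancel₀ _ hρv, add_neg_cancel]

lemma mono_mem {P : Place k K} {n : ℕ} {f : K}
    (hf : f ∈ L (Finsupp.single P (n : ℤ) : Divisor k K)) :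
    Polynomial.monomial n f ∈ W4c6gradedringsgw.sectRing (Finsupp.single P 1 : Divisor k K) := by
  apply mem_sect
  intro m
  rw [Polynomial.coeff_monomial]
  split_ifs with h
  · rw [← h]
    exact hf
  · exact Submodule.zero_mem _

lemma mem_H_of_rho_ne [IsAlgClosed k] (hK : IsFunctionField k K) {P : Place k K} {π : K}
    (hπ : P.1 π = WithZero.exp (-1)) {p : Polynomial K}
    (hp : p ∈ W4c6gradedringsgw.sectRing (Finsupp.single P 1 : Divisor k K)) {n : ℕ}
    (hc : rho P (π ^ n * p.coeff n) ≠ 0) : n ∈ W4c6gradedringsgw.poleOrders P := by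
  have hx0 : p.coeff n ≠ 0 := by
    intro h0
    apply hc
    rw [h0, mul_zero]
    exact rho_zero P
  have hreg := reg_coeff hK hπ hp n
  have h1 : ¬ P.1 (π ^ n * p.coeff n) < 1 := fun h => hc ((rho_eq_zero_iff P hreg).2 h)
  have h2 : ¬ P.1 (p.coeff n) ≤ WithZero.exp ((n : ℤ) - 1) := fun h => h1 ((key hπ n hx0).2 h)
  have h3 : ¬ P.1 (p.coeff n) < WithZero.exp (n : ℤ) := fun h => h2 ((lt_exp_iff_le P _ _).1 h)
  have hmemL := coeff_mem hp n
  have h4 : P.1 (p.coeff n) = WithZero.exp (n : ℤ) :=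
    le_antisymm ((mem_L_single_iff P _ _).1 hmemL).1 (not_lt.1 h3)
  exact (mem_H_iff hK P n).2 ⟨_, hmemL, h4⟩

theorem embdim [IsAlgClosed k] (hK : IsFunctionField k K) (hg : 1 ≤ genus k K) (P : Place k K) :
    (RingHom.ker (Polynomial.constantCoeff.comp
      (W4c6gradedringsgw.sectRing (Finsupp.single P 1 : Divisor k K)).val.toRingHom)).spanFinrank =
      Set.ncard (W4c6gradedringsgw.minGens (W4c6gradedringsgw.poleOrders P)) + 1 := by
  classical
  obtain ⟨π, hπ⟩ := P.2.2 (WithZero.exp (-1))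
  obtain ⟨I, hIdef⟩ : ∃ I : Ideal ↥(W4c6gradedringsgw.sectRing (Finsupp.single P 1 : Divisor k K)),
      I = RingHom.ker (Polynomial.constantCoeff.comp
        (W4c6gradedringsgw.sectRing (Finsupp.single P 1 : Divisor k K)).val.toRingHom) := ⟨_, rfl⟩
  rw [← hIdef]
  have hI : ∀ p : ↥(W4c6gradedringsgw.sectRing (Finsupp.single P 1 : Divisor k K)),
      p ∈ I ↔ (p : Polynomial K).coeff 0 = 0 := by
    intro p
    rw [hIdef, RingHom.mem_ker]
    rfl
  obtain ⟨H, hH⟩ : ∃ H : Set ℕ, H = W4c6gradedringsgw.poleOrders P := ⟨_, rfl⟩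
  obtain ⟨G, hG⟩ : ∃ G : Set ℕ, G = W4c6gradedringsgw.minGens H := ⟨_, rfl⟩
  rw [← hH, ← hG]
  have hGmem : ∀ h, h ∈ G ↔
      (h ∈ H ∧ h ≠ 0 ∧ ∀ a ∈ H, ∀ b ∈ H, a ≠ 0 → b ≠ 0 → a + b ≠ h) := by
    intro h
    rw [hG]
    exact Iff.rfl
  have hHiff : ∀ n : ℕ, n ∈ H ↔
      ∃ x ∈ L (Finsupp.single P (n : ℤ) : Divisor k K), P.1 x = WithZero.exp (n : ℤ) := by
    intro n
    rw [hH]
    exact mem_H_iff hK P n
  -- constants
  have hconst1 : ∀ x : K, x ∈ L (Finsupp.single P ((1 : ℕ) : ℤ) : Divisor k K) →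
      ∃ c : k, algebraMap k K c = x := by
    intro x hx
    rw [Nat.cast_one] at hx
    exact const_of_mem_L_single hK hg P hx
  have hconst0 : ∀ x : K, x ∈ L (Finsupp.single P ((0 : ℕ) : ℤ) : Divisor k K) →
      ∃ c : k, algebraMap k K c = x := by
    intro x hx
    rw [Nat.cast_zero, Finsupp.single_zero, L_zero hK, Submodule.mem_one] at hx
    exact hx
  have h1H : (1 : ℕ) ∉ H := by
    rw [hHiff]
    rintro ⟨x, hx, hxP⟩
    obtain ⟨c, rfl⟩ := hconst1 x hx
    have := P.2.1 c
    rw [hxP, Nat.cast_one, ← WithZero.exp_zero, WithZero.exp_le_exp] at this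
    omega
  have hbig : ∀ n : ℕ, 2 * genus k K ≤ n → n ∈ H := by
    intro n hn
    rw [hH]
    show ell ((n : ℤ) • (Finsupp.single P 1 : Divisor k K)) =
      ell (((n : ℤ) - 1) • (Finsupp.single P 1 : Divisor k K)) + 1
    rw [smul_single_one, smul_single_one]
    have h1 := ell_eq_of_deg_ge hK (Finsupp.single P (n : ℤ) : Divisor k K) (by
      rw [deg_single, deg_eq_one hK P]
      push_cast
      omega)
    have h2 := ell_eq_of_deg_ge hK (Finsupp.single P ((n : ℤ) - 1) : Divisor k K) (by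
      rw [deg_single, deg_eq_one hK P]
      push_cast
      omega)
    rw [deg_single, deg_eq_one hK P] at h1 h2
    push_cast at h1 h2
    omega
  have hGfin : G.Finite := by
    refine (Set.finite_Iio (4 * genus k K)).subset ?_
    intro h hh
    rw [Set.mem_Iio]
    by_contra hge
    rw [not_lt] at hge
    obtain ⟨hhH, hh0, hmin⟩ := (hGmem h).1 hh
    exact hmin (2 * genus k K) (hbig _ le_rfl) (h - 2 * genus k K) (hbig _ (by omega))
      (by omega) (by omega) (by omega)
  have h1G : (1 : ℕ) ∉ G := fun h => h1H ((hGmem 1).1 h).1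
  -- chosen elements
  have hex : ∀ h : ℕ, ∃ x : K, x ∈ L (Finsupp.single P (h : ℤ) : Divisor k K) ∧
      (h ∈ H → P.1 x = WithZero.exp (h : ℤ)) ∧ (h = 1 → x = 1) := by
    intro h
    by_cases h1 : h = 1
    · refine ⟨1, ?_, fun hh => absurd (h1 ▸ hh) h1H, fun _ => rfl⟩
      rw [mem_L_single_iff]
      refine ⟨?_, fun Q _ => by rw [map_one]⟩
      rw [map_one, ← WithZero.exp_zero, WithZero.exp_le_exp]
      omega
    · by_cases hh : h ∈ H
      · obtain ⟨x, hx, hxP⟩ := (hHiff h).1 hh
        exact ⟨x, hx, fun _ => hxP, fun h' => absurd h' h1⟩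
      · exact ⟨0, Submodule.zero_mem _, fun h' => absurd h' hh, fun h' => absurd h' h1⟩
  choose ys hysL hysP hys1 using hex
  obtain ⟨Y, hY⟩ : ∃ Y : ℕ → ↥(W4c6gradedringsgw.sectRing (Finsupp.single P 1 : Divisor k K)),
      ∀ j, ((Y j : ↥(W4c6gradedringsgw.sectRing (Finsupp.single P 1 : Divisor k K))) :
        Polynomial K) = Polynomial.monomial j (ys j) :=
    ⟨fun j => ⟨Polynomial.monomial j (ys j), mono_mem (hysL j)⟩, fun j => rfl⟩
  obtain ⟨G1, hG1⟩ : ∃ G1 : Set ℕ, G1 = insert 1 G := ⟨_, rfl⟩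
  have hG1fin : G1.Finite := by
    rw [hG1]
    exact hGfin.insert 1
  have hG1mem : ∀ j, j ∈ G1 ↔ (j = 1 ∨ j ∈ G) := by
    intro j
    rw [hG1]
    exact Set.mem_insert_iff
  have hG1ne : ∀ j ∈ G1, j ≠ 0 := by
    intro j hj
    rcases (hG1mem j).1 hj with h | h
    · omega
    · exact ((hGmem j).1 h).2.1
  obtain ⟨S, hS⟩ : ∃ S : Set ↥(W4c6gradedringsgw.sectRing (Finsupp.single P 1 : Divisor k K)),
      S = Y '' G1 := ⟨_, rfl⟩
  have hSfin : S.Finite := by
    rw [hS]
    exact hG1fin.image Y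
  obtain ⟨J, hJ⟩ : ∃ J : Ideal ↥(W4c6gradedringsgw.sectRing (Finsupp.single P 1 : Divisor k K)),
      J = Ideal.span S := ⟨_, rfl⟩
  have hYJ : ∀ j ∈ G1, Y j ∈ J := by
    intro j hj
    rw [hJ, hS]
    exact Ideal.subset_span (Set.mem_image_of_mem Y hj)
  have hY1J : Y 1 ∈ J := hYJ 1 ((hG1mem 1).2 (Or.inl rfl))
  have hys1' : ys 1 = 1 := hys1 1 rfl
  -- elements of lower pole order
  have low_mem : ∀ (m : ℕ) (f : K), f ∈ L (Finsupp.single P (m : ℤ) : Divisor k K) →
      ∀ q : ↥(W4c6gradedringsgw.sectRing (Finsupp.single P 1 : Divisor k K)),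
        (q : Polynomial K) = Polynomial.monomial (m + 1) f → q ∈ J := by
    intro m f hf q hq
    have e : q = Y 1 * ⟨Polynomial.monomial m f, mono_mem hf⟩ := by
      apply Subtype.ext
      show (q : Polynomial K) = (Y 1 : Polynomial K) * Polynomial.monomial m f
      rw [hq, hY, hys1', Polynomial.monomial_mul_monomial, one_mul, add_comm]
    rw [e]
    exact Ideal.mul_mem_right _ _ hY1J
  have hcast : ∀ m : ℕ, ((m + 1 : ℕ) : ℤ) - 1 = (m : ℤ) := by
    intro m
    push_cast
    ring
  -- all homogeneous elements of positive degree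
  have gen_mem : ∀ (m : ℕ) (f : K), f ∈ L (Finsupp.single P ((m + 1 : ℕ) : ℤ) : Divisor k K) →
      ∀ q : ↥(W4c6gradedringsgw.sectRing (Finsupp.single P 1 : Divisor k K)),
        (q : Polynomial K) = Polynomial.monomial (m + 1) f → q ∈ J := by
    intro m
    induction m using Nat.strong_induction_on with
    | _ m ih =>
    intro f hf q hq
    by_cases hlow : f ∈ L (Finsupp.single P (m : ℤ) : Divisor k K)
    · exact low_mem m f hlow q hq
    · have hfP : P.1 f = WithZero.exp ((m + 1 : ℕ) : ℤ) := by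
        have h1 : (Finsupp.single P ((m + 1 : ℕ) : ℤ) : Divisor k K) - Finsupp.single P 1 =
            Finsupp.single P (m : ℤ) := by rw [← Finsupp.single_sub, hcast]
        have h2 := val_eq_of_mem_not_mem (R := P) hf (by rw [h1]; exact hlow)
        rwa [Finsupp.single_eq_same] at h2
      have hnH : (m + 1) ∈ H := (hHiff (m + 1)).2 ⟨f, hf, hfP⟩
      -- a comparison element `y` of exact pole order `m + 1` with `monomial (m+1) y ∈ J`
      have hy : ∃ (y : K) (qy : ↥(W4c6gradedringsgw.sectRing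
          (Finsupp.single P 1 : Divisor k K))),
          y ∈ L (Finsupp.single P ((m + 1 : ℕ) : ℤ) : Divisor k K) ∧
          P.1 y = WithZero.exp ((m + 1 : ℕ) : ℤ) ∧
          (qy : Polynomial K) = Polynomial.monomial (m + 1) y ∧ qy ∈ J := by
        by_cases hmG : (m + 1) ∈ G
        · exact ⟨ys (m + 1), Y (m + 1), hysL (m + 1), hysP (m + 1) hnH, hY (m + 1),
            hYJ (m + 1) ((hG1mem _).2 (Or.inr hmG))⟩
        · have hnot := mt (hGmem (m + 1)).2 hmG
          push Not at hnot
          obtain ⟨a, haH, b, hbH, ha0, hb0, hab⟩ := hnot hnH (by omega)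
          obtain ⟨a', rfl⟩ := Nat.exists_eq_succ_of_ne_zero ha0
          have hYa : Y (a' + 1) ∈ J :=
            ih a' (by omega) (ys (a' + 1)) (hysL (a' + 1)) (Y (a' + 1)) (hY (a' + 1))
          refine ⟨ys (a' + 1) * ys b, Y (a' + 1) * Y b, ?_, ?_, ?_,
            Ideal.mul_mem_right _ _ hYa⟩
          · have := W4c6gradedringsgw.mul_mem_L (hysL (a' + 1)) (hysL b)
            rwa [← Finsupp.single_add, ← Nat.cast_add, hab] at this
          · rw [map_mul, hysP (a' + 1) haH, hysP b hbH, ← WithZero.exp_add, ← Nat.cast_add, hab]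
          · show (Y (a' + 1) : Polynomial K) * (Y b : Polynomial K) = _
            rw [hY, hY, Polynomial.monomial_mul_monomial, hab]
      obtain ⟨y, qy, hyL, hyP, hqy, hqyJ⟩ := hy
      obtain ⟨c, hc⟩ := exists_sub_mem hK hπ hf hyL hyP
      rw [hcast] at hc
      have hq' : (⟨Polynomial.monomial (m + 1) (f - c • y),
          mono_mem (L_mono (single_mono P (by push_cast; omega)) hc)⟩ :
          ↥(W4c6gradedringsgw.sectRing (Finsupp.single P 1 : Divisor k K))) ∈ J :=
        low_mem m _ hc _ rfl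
      have e : q = c • qy + ⟨Polynomial.monomial (m + 1) (f - c • y),
          mono_mem (L_mono (single_mono P (by push_cast; omega)) hc)⟩ := by
        apply Subtype.ext
        show (q : Polynomial K) = c • (qy : Polynomial K) +
          Polynomial.monomial (m + 1) (f - c • y)
        rw [hq, hqy, Polynomial.smul_monomial, ← map_add]
        congr 1
        ring
      rw [e]
      exact J.add_mem (Submodule.smul_of_tower_mem J c hqyJ) hq'
  -- `J = I`
  have hJI : ∀ p, p ∈ J → p ∈ I := by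
    intro p hp
    rw [hJ] at hp
    refine (Ideal.span_le (I := I)).2 ?_ hp
    rw [hS]
    rintro _ ⟨j, hj, rfl⟩
    rw [SetLike.mem_coe, hI, hY, Polynomial.coeff_monomial, if_neg (hG1ne j hj)]
  have hIJ : ∀ p, p ∈ I → p ∈ J := by
    have haux : ∀ N : ℕ, ∀ p : ↥(W4c6gradedringsgw.sectRing
        (Finsupp.single P 1 : Divisor k K)), (p : Polynomial K).support.card = N →
        p ∈ I → p ∈ J := by
      intro N
      induction N using Nat.strong_induction_on with
      | _ N ih =>
      intro p hpN hpI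
      by_cases hp0 : (p : Polynomial K) = 0
      · have : p = 0 := Subtype.ext hp0
        rw [this]
        exact J.zero_mem
      · have hc0 : (p : Polynomial K).coeff 0 = 0 := (hI p).1 hpI
        have hn1 : (p : Polynomial K).natDegree ≠ 0 := by
          intro h0
          have h1 := Polynomial.eq_C_of_natDegree_eq_zero h0
          rw [hc0, map_zero] at h1
          exact hp0 h1
        obtain ⟨m, hm⟩ := Nat.exists_eq_succ_of_ne_zero hn1
        have hqmem : (p : Polynomial K).eraseLead ∈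
            W4c6gradedringsgw.sectRing (Finsupp.single P 1 : Divisor k K) := by
          apply mem_sect
          intro n
          rw [Polynomial.eraseLead_coeff]
          split_ifs
          · exact Submodule.zero_mem _
          · exact coeff_mem p.2 n
        have hqI : (⟨_, hqmem⟩ : ↥(W4c6gradedringsgw.sectRing
            (Finsupp.single P 1 : Divisor k K))) ∈ I := by
          rw [hI]
          show (p : Polynomial K).eraseLead.coeff 0 = 0
          rw [Polynomial.eraseLead_coeff]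
          split_ifs
          · rfl
          · exact hc0
        have hqJ := ih _ (by rw [← hpN]; exact Polynomial.eraseLead_support_card_lt hp0)
          ⟨_, hqmem⟩ rfl hqI
        have hlcL : (p : Polynomial K).leadingCoeff ∈
            L (Finsupp.single P ((m + 1 : ℕ) : ℤ) : Divisor k K) := by
          have h1 := coeff_mem p.2 (m + 1)
          have h2 : (p : Polynomial K).leadingCoeff = (p : Polynomial K).coeff (m + 1) := by
            rw [Polynomial.leadingCoeff, hm]
          rw [h2]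
          exact h1
        have hrJ := gen_mem m _ hlcL
          ⟨Polynomial.monomial (m + 1) (p : Polynomial K).leadingCoeff, mono_mem hlcL⟩ rfl
        have e : p = ⟨_, hqmem⟩ +
            ⟨Polynomial.monomial (m + 1) (p : Polynomial K).leadingCoeff, mono_mem hlcL⟩ := by
          apply Subtype.ext
          show (p : Polynomial K) = (p : Polynomial K).eraseLead +
            Polynomial.monomial (m + 1) (p : Polynomial K).leadingCoeff
          have := Polynomial.eraseLead_add_monomial_natDegree_leadingCoeff (p : Polynomial K)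
          rw [hm] at this
          exact this.symm
        rw [e]
        exact J.add_mem hqJ hrJ
    intro p hp
    exact haux _ p rfl hp
  have hspan : Ideal.span S = I := by
    rw [← hJ]
    exact le_antisymm hJI hIJ
  -- upper bound
  have hle : I.spanFinrank ≤ G.ncard + 1 := by
    rw [← hspan]
    refine (Submodule.spanFinrank_span_le_ncard_of_finite hSfin).trans ?_
    rw [hS]
    refine (Set.ncard_image_le hG1fin).trans ?_
    rw [hG1]
    exact Set.ncard_insert_le 1 G
  -- lower bound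
  have hFG : Submodule.FG I := by
    rw [← hspan]
    exact Submodule.fg_span hSfin
  obtain ⟨s, hscard, hsspan⟩ := Submodule.FG.exists_span_finset_card_eq_spanFinrank hFG
  have hsI : ∀ σ ∈ s, σ ∈ I := by
    intro σ hσ
    rw [← hsspan]
    exact Submodule.subset_span hσ
  -- the coefficient functionals
  obtain ⟨lam, hlam⟩ : ∃ lam : ℕ → ↥(W4c6gradedringsgw.sectRing
      (Finsupp.single P 1 : Divisor k K)) → k,
      ∀ j p, lam j p = rho P (π ^ (if j = 1 then 0 else j) * (p : Polynomial K).coeff j) :=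
    ⟨fun j p => rho P (π ^ (if j = 1 then 0 else j) * (p : Polynomial K).coeff j),
      fun j p => rfl⟩
  have hlam1 : ∀ p, lam 1 p = rho P ((p : Polynomial K).coeff 1) := by
    intro p
    rw [hlam, if_pos rfl, pow_zero, one_mul]
  have hlamj : ∀ j, j ≠ 1 → ∀ p, lam j p = rho P (π ^ j * (p : Polynomial K).coeff j) := by
    intro j hj p
    rw [hlam, if_neg hj]
  have hreg1 : ∀ p : ↥(W4c6gradedringsgw.sectRing (Finsupp.single P 1 : Divisor k K)),
      Reg P ((p : Polynomial K).coeff 1) := by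
    intro p
    obtain ⟨c, hc⟩ := hconst1 _ (coeff_mem p.2 1)
    rw [← hc]
    exact reg_algebraMap P c
  have hreg0 : ∀ p : ↥(W4c6gradedringsgw.sectRing (Finsupp.single P 1 : Divisor k K)),
      Reg P ((p : Polynomial K).coeff 0) := by
    intro p
    obtain ⟨c, hc⟩ := hconst0 _ (coeff_mem p.2 0)
    rw [← hc]
    exact reg_algebraMap P c
  have lam_add : ∀ j p q, lam j (p + q) = lam j p + lam j q := by
    intro j p q
    by_cases hj : j = 1
    · rw [hj, hlam1, hlam1, hlam1]
      show rho P (((p : Polynomial K) + (q : Polynomial K)).coeff 1) = _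
      rw [Polynomial.coeff_add, rho_add P (hreg1 p) (hreg1 q)]
    · rw [hlamj j hj, hlamj j hj, hlamj j hj]
      show rho P (π ^ j * ((p : Polynomial K) + (q : Polynomial K)).coeff j) = _
      rw [Polynomial.coeff_add, mul_add, rho_add P (reg_coeff hK hπ p.2 j) (reg_coeff hK hπ q.2 j)]
  have lam_zero : ∀ j, lam j 0 = 0 := by
    intro j
    rw [hlam]
    show rho P (π ^ (if j = 1 then 0 else j) * (0 : Polynomial K).coeff j) = 0
    rw [Polynomial.coeff_zero, mul_zero]
    exact rho_zero P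
  have lam_mul : ∀ j ∈ G1, ∀ r σ : ↥(W4c6gradedringsgw.sectRing
      (Finsupp.single P 1 : Divisor k K)), σ ∈ I →
      lam j (r * σ) = rho P ((r : Polynomial K).coeff 0) * lam j σ := by
    intro j hj r σ hσ
    have hσ0 : (σ : Polynomial K).coeff 0 = 0 := (hI σ).1 hσ
    rcases (hG1mem j).1 hj with h1 | hjG
    · rw [h1, hlam1, hlam1]
      show rho P (((r : Polynomial K) * (σ : Polynomial K)).coeff 1) = _
      rw [Polynomial.mul_coeff_one, hσ0, mul_zero, add_zero, rho_mul P (hreg0 r) (hreg1 σ)]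
    · have hj1 : j ≠ 1 := fun h => h1G (h ▸ hjG)
      obtain ⟨hjH, hj0, hjmin⟩ := (hGmem j).1 hjG
      rw [hlamj j hj1, hlamj j hj1]
      show rho P (π ^ j * ((r : Polynomial K) * (σ : Polynomial K)).coeff j) = _
      rw [← PhiFun_coeff, PhiFun_mul hK hπ r.2 σ.2, Polynomial.coeff_mul,
        Finset.sum_eq_single (0, j)]
      · rw [PhiFun_coeff, PhiFun_coeff, pow_zero, one_mul]
      · intro x hx hne
        have hsum : x.1 + x.2 = j := Finset.HasAntidiagonal.mem_antidiagonal.1 hx
        by_cases hx2 : x.2 = 0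
        · rw [hx2, PhiFun_coeff (p := (σ : Polynomial K)), hσ0, mul_zero, rho_zero, mul_zero]
        · have hx1 : x.1 ≠ 0 := by
            intro h0
            apply hne
            apply Prod.ext
            · exact h0
            · show x.2 = j
              omega
          by_contra hprod
          have hA : (PhiFun P π (r : Polynomial K)).coeff x.1 ≠ 0 := left_ne_zero_of_mul hprod
          have hB : (PhiFun P π (σ : Polynomial K)).coeff x.2 ≠ 0 := right_ne_zero_of_mul hprod
          rw [PhiFun_coeff] at hA hB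
          have hAH : x.1 ∈ H := by
            rw [hH]
            exact mem_H_of_rho_ne hK hπ r.2 hA
          have hBH : x.2 ∈ H := by
            rw [hH]
            exact mem_H_of_rho_ne hK hπ σ.2 hB
          exact hjmin x.1 hAH x.2 hBH hx1 hx2 hsum
      · intro hnot
        exact absurd (Finset.HasAntidiagonal.mem_antidiagonal.2 (zero_add j)) hnot
  have lam_Y_ne : ∀ i ∈ G1, ∀ j ∈ G1, i ≠ j → lam j (Y i) = 0 := by
    intro i _ j _ hij
    rw [hlam, hY, Polynomial.coeff_monomial, if_neg hij, mul_zero]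
    exact rho_zero P
  have lam_Y_self : ∀ i ∈ G1, lam i (Y i) ≠ 0 := by
    intro i hi
    rcases (hG1mem i).1 hi with h1 | hiG
    · rw [h1, hlam1, hY, Polynomial.coeff_monomial, if_pos rfl, hys1', rho_one]
      exact one_ne_zero
    · have hi1 : i ≠ 1 := fun h => h1G (h ▸ hiG)
      rw [hlamj i hi1, hY, Polynomial.coeff_monomial, if_pos rfl]
      exact rho_ne_zero_of_val_eq_one hK (val_pi_mul_eq hπ (hysP i ((hGmem i).1 hiG).1))
  -- the linear algebra
  haveI : Fintype ↥G1 := hG1fin.fintype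
  obtain ⟨Λ, hΛ⟩ : ∃ Λ : ↥(W4c6gradedringsgw.sectRing (Finsupp.single P 1 : Divisor k K)) →+
      (↥G1 → k), ∀ p j, Λ p j = lam j.1 p :=
    ⟨{ toFun := fun p j => lam j.1 p
       map_zero' := by
         funext j
         exact lam_zero j.1
       map_add' := fun p q => by
         funext j
         exact lam_add j.1 p q }, fun p j => rfl⟩
  obtain ⟨V, hV⟩ : ∃ V : Submodule k (↥G1 → k),
      V = Submodule.span k (Set.range fun a : ↥s => Λ a.1) := ⟨_, rfl⟩
  have hΛI : ∀ p, p ∈ I → Λ p ∈ V := by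
    intro p hp
    rw [← hsspan] at hp
    obtain ⟨f, hf⟩ := Submodule.mem_span_finset'.1 hp
    rw [← hf, map_sum]
    refine Submodule.sum_mem _ fun a _ => ?_
    have h1 : Λ (f a • a.1) = rho P ((f a : Polynomial K).coeff 0) • Λ a.1 := by
      funext j
      rw [hΛ, Pi.smul_apply, hΛ, smul_eq_mul, smul_eq_mul]
      exact lam_mul j.1 j.2 (f a) a.1 (hsI a.1 a.2)
    rw [h1, hV]
    exact Submodule.smul_mem _ _ (Submodule.subset_span ⟨a, rfl⟩)
  have hYI : ∀ i ∈ G1, Y i ∈ I := fun i hi => hJI _ (hYJ i hi)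
  have hVtop : V = ⊤ := by
    rw [eq_top_iff, ← (Pi.basisFun k ↥G1).span_eq, Submodule.span_le]
    rintro _ ⟨i, rfl⟩
    rw [Pi.basisFun_apply]
    have h1 : Λ (Y i.1) = lam i.1 (Y i.1) • (Pi.single i (1 : k) : ↥G1 → k) := by
      funext j
      rw [hΛ, Pi.smul_apply, Pi.single_apply, smul_eq_mul]
      by_cases hji : j = i
      · rw [if_pos hji, mul_one, hji]
      · rw [if_neg hji, mul_zero]
        exact lam_Y_ne i.1 i.2 j.1 j.2 (fun h => hji (Subtype.ext h.symm))
    have h2 : (Pi.single i (1 : k) : ↥G1 → k) = (lam i.1 (Y i.1))⁻¹ • Λ (Y i.1) := by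
      rw [h1, smul_smul, inv_mul_cancel₀ (lam_Y_self i.1 i.2), one_smul]
    rw [SetLike.mem_coe, h2]
    exact Submodule.smul_mem _ _ (hΛI _ (hYI i.1 i.2))
  have hfr1 : Module.finrank k ↥V ≤ Fintype.card ↥s := by
    rw [hV]
    exact finrank_range_le_card (R := k) (fun a : ↥s => Λ a.1)
  have hfr2 : Module.finrank k ↥V = Fintype.card ↥G1 := by
    rw [hVtop, finrank_top, Module.finrank_fintype_fun_eq_card]
  have hcardG1 : Fintype.card ↥G1 = G.ncard + 1 := by
    rw [← Set.toFinset_card, ← Set.ncard_eq_toFinset_card', hG1,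
      Set.ncard_insert_of_notMem h1G hGfin]
  rw [Fintype.card_coe] at hfr1
  omega

end Groth.Agent.Lib.lead.Sect2
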