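import Mathlib
import Groth.Agent.Lib.lead.Abs

/-! Almost all places are unramified in a finite separable extension. -/

namespace Groth.Agent.Lib.lead.Unr
open FunFld Module Groth.Agent.Lib.lead.FF Groth.Agent.Lib.lead.FF2 Groth.Agent.Lib.lead.FF3
  Groth.Agent.Lib.lead.FF4
  Groth.Agent.Lib.lead.FF5 Groth.Agent.Lib.lead.FF6 Groth.Agent.Lib.lead.FF7
  Groth.Agent.Lib.lead.FF8 Groth.Agent.Lib.lead.Ext Groth.Agent.Lib.lead.Ext3
  Groth.Agent.Lib.lead.IntCl Groth.Agent.Lib.lead.NSing Groth.Agent.Lib.lead.Abs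
open Polynomial

variable {k K : Type*} [Field k] [Field K] [Algebra k K]

lemma maximalIdeal_eq_span (P : Place k K) (T : P.O) (hT : P.1 (T : K) = WithZero.exp (-1)) :
    IsLocalRing.maximalIdeal P.O = Ideal.span {T} := by
  have hT0 : (T : K) ≠ 0 := unif_ne_zero P hT
  ext r
  rw [mem_max_iff, Ideal.mem_span_singleton']
  constructor
  · intro hr
    have hle : P.1 ((r : K) / (T : K)) ≤ 1 := by
      rw [map_div₀, hT]
      rw [lt_one_iff] at hr
      exact div_le_one_of_le₀ hr zero_le'
    refine ⟨⟨(r : K) / (T : K), hle⟩, Subtype.ext ?_⟩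
    show (r : K) / (T : K) * (T : K) = (r : K)
    field_simp
  · rintro ⟨r', rfl⟩
    rw [mul_comm]
    exact val_T_mul_lt P T r' hT

lemma finite_poles' (hK : IsFunctionField k K) (c : K) : {P : Place k K | 1 < P.1 c}.Finite := by
  apply (finite_support_ord hK c).subset
  intro P hP
  have hP' : 1 < P.1 c := hP
  have hc0 : c ≠ 0 := by
    rintro rfl
    rw [map_zero] at hP'
    exact not_lt.2 zero_le' hP'
  have := (ord_neg_iff P hc0).2 hP'
  exact ne_of_lt this

lemma finite_coeff_poles (hK : IsFunctionField k K) (a : K[X]) :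
    {P : Place k K | ∃ i, 1 < P.1 (a.coeff i)}.Finite := by
  have h1 : {P : Place k K | ∃ i, 1 < P.1 (a.coeff i)} ⊆
      ⋃ i ∈ (a.support : Set ℕ), {P : Place k K | 1 < P.1 (a.coeff i)} := by
    rintro P ⟨i, hi⟩
    have hi0 : a.coeff i ≠ 0 := by
      intro h0
      rw [h0, map_zero] at hi
      exact not_lt.2 zero_le' hi
    exact Set.mem_biUnion (Finset.mem_coe.2 (mem_support_iff.2 hi0)) hi
  exact (Set.Finite.biUnion (Finset.finite_toSet _) (fun i _ => finite_poles' hK _)).subset h1

lemma mem_lifts_of_forall (P : Place k K) (a : K[X]) (h : ∀ i, P.1 (a.coeff i) ≤ 1) :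
    ∃ a₀ : P.O[X], a₀.map (algebraMap P.O K) = a := by
  have : a ∈ lifts (algebraMap P.O K) := by
    rw [lifts_iff_coeff_lifts]
    intro n
    exact ⟨⟨a.coeff n, h n⟩, rfl⟩
  exact this

variable {K' : Type*} [Field K'] [Algebra K K'] [Algebra k K'] [IsScalarTower k K K']
  [FiniteDimensional K K'] [Algebra.IsSeparable K K']

set_option maxHeartbeats 1600000 in
theorem good_model (hK : IsFunctionField k K) (pb : PowerBasis K K') (a b : K[X])
    (hab : a * minpoly K pb.gen + b * derivative (minpoly K pb.gen) = 1) (P : Place k K)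
    (h1 : ∀ Q : Place k K', IsOver Q P → Q.1 pb.gen ≤ 1)
    (h2 : ∀ i, P.1 (a.coeff i) ≤ 1) (h3 : ∀ i, P.1 (b.coeff i) ≤ 1) :
    ∃ (g : P.O[X]) (_ : IsReduced (AdjoinRoot (g.map (IsLocalRing.residue P.O))))
      (M : Model K' P (AdjoinRoot g) (AdjoinRoot (g.map (IsLocalRing.residue P.O)))),
      (g.map (IsLocalRing.residue P.O)).Separable ∧
      eval₂ ((algebraMap K K').comp P.O.subtype) pb.gen g = 0 ∧
      ∀ q : P.O[X], M.Φ (AdjoinRoot.mk g q) =
        eval₂ ((algebraMap K K').comp P.O.subtype) pb.gen q := by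
  classical
  letI alg : Algebra P.O K' := ((algebraMap K K').comp P.O.subtype).toAlgebra
  haveI : IsScalarTower P.O K K' := IsScalarTower.of_algebraMap_eq (fun _ => rfl)
  have hmap : ∀ r : P.O, algebraMap P.O K' r = algebraMap K K' (r : K) := fun _ => rfl
  have hinjO : Function.Injective (algebraMap P.O K') :=
    (algebraMap K K').injective.comp Subtype.val_injective
  haveI : Module.IsTorsionFree P.O K' := Module.isTorsionFree_iff_algebraMap_injective.2 hinjO
  obtain ⟨y, hy⟩ : ∃ y : K', y = pb.gen := ⟨_, rfl⟩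
  rw [← hy] at hab h1
  have hyint : IsIntegral P.O y := isIntegral_of_forall hK P y h1
  obtain ⟨g, hgdef⟩ : ∃ g : P.O[X], g = minpoly P.O y := ⟨_, rfl⟩
  have hg : g.map (algebraMap P.O K) = minpoly K y := by
    rw [hgdef]
    exact (minpoly.isIntegrallyClosed_eq_field_fractions' K hyint).symm
  have hgm : g.Monic := by
    rw [hgdef]
    exact minpoly.monic hyint
  have hgy : eval₂ (algebraMap P.O K') y g = 0 := by
    rw [hgdef, ← Polynomial.aeval_def]
    exact minpoly.aeval _ _
  obtain ⟨t, ht⟩ := exists_uniformizer P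
  have ht1 : P.1 t ≤ 1 := by
    rw [ht, ← WithZero.exp_zero, WithZero.exp_le_exp]
    norm_num
  obtain ⟨T, hTdef⟩ : ∃ T : P.O, T = ⟨t, ht1⟩ := ⟨_, rfl⟩
  have hTt : (T : K) = t := by rw [hTdef]
  have hT : P.1 (T : K) = WithZero.exp (-1) := by rw [hTt, ht]
  let res : P.O →+* IsLocalRing.ResidueField P.O := IsLocalRing.residue P.O
  obtain ⟨gbar, hgbar⟩ : ∃ gbar : (IsLocalRing.ResidueField P.O)[X], gbar = g.map res := ⟨_, rfl⟩
  -- separability of the reduction
  obtain ⟨a₀, ha₀⟩ := mem_lifts_of_forall P a h2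
  obtain ⟨b₀, hb₀⟩ := mem_lifts_of_forall P b h3
  have hab₀ : a₀ * g + b₀ * derivative g = 1 := by
    apply Polynomial.map_injective (algebraMap P.O K) Subtype.val_injective
    rw [Polynomial.map_add, Polynomial.map_mul, Polynomial.map_mul, ← derivative_map, ha₀, hb₀, hg,
      Polynomial.map_one]
    exact hab
  have hsep : gbar.Separable := by
    refine ⟨a₀.map res, b₀.map res, ?_⟩
    rw [hgbar, derivative_map, ← Polynomial.map_mul, ← Polynomial.map_mul, ← Polynomial.map_add,
      hab₀, Polynomial.map_one]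
  haveI hred : IsReduced (AdjoinRoot gbar) := isReduced_adjoinRoot hsep.squarefree
  -- the maps
  let Φ : AdjoinRoot g →+* K' := AdjoinRoot.lift (algebraMap P.O K') y hgy
  have hΨ0 : eval₂ ((AdjoinRoot.of gbar).comp res) (AdjoinRoot.root gbar) g = 0 := by
    rw [← eval₂_map, ← hgbar]
    exact AdjoinRoot.eval₂_root gbar
  let Ψ : AdjoinRoot g →+* AdjoinRoot gbar :=
    AdjoinRoot.lift ((AdjoinRoot.of gbar).comp res) (AdjoinRoot.root gbar) hΨ0
  have hΦmk : ∀ q : P.O[X], Φ (AdjoinRoot.mk g q) = eval₂ (algebraMap P.O K') y q :=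
    fun q => AdjoinRoot.lift_mk _ _
  have hΨmk : ∀ q : P.O[X], Ψ (AdjoinRoot.mk g q) = AdjoinRoot.mk gbar (q.map res) := by
    intro q
    show AdjoinRoot.lift ((AdjoinRoot.of gbar).comp res) (AdjoinRoot.root gbar) hΨ0
      (AdjoinRoot.mk g q) = _
    rw [AdjoinRoot.lift_mk, ← eval₂_map, ← AdjoinRoot.aeval_eq, Polynomial.aeval_def,
      AdjoinRoot.algebraMap_eq]
  have hmaxT := maximalIdeal_eq_span P T hT
  have hyQ : ∀ Q' : Place k K', IsOver Q' P → Q'.1 y ≤ 1 := h1
  let M : Model K' P (AdjoinRoot g) (AdjoinRoot gbar) :=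
    { ι := AdjoinRoot.of g
      Φ := Φ
      Ψ := Ψ
      T := T
      hT := hT
      Φ_inj := by
        rw [injective_iff_map_eq_zero]
        intro x hx
        obtain ⟨q, rfl⟩ := AdjoinRoot.mk_surjective x
        rw [hΦmk, ← Polynomial.aeval_def] at hx
        have := minpoly.isIntegrallyClosed_dvd hyint hx
        rw [← hgdef] at this
        exact AdjoinRoot.mk_eq_zero.2 this
      Φ_ι := by
        intro r
        show AdjoinRoot.lift (algebraMap P.O K') y hgy (AdjoinRoot.of g r) = _
        rw [AdjoinRoot.lift_of]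
        rfl
      Ψ_ι := by
        intro r hr
        show AdjoinRoot.lift ((AdjoinRoot.of gbar).comp res) (AdjoinRoot.root gbar) hΨ0
          (AdjoinRoot.of g r) = 0
        rw [AdjoinRoot.lift_of]
        show AdjoinRoot.of gbar (IsLocalRing.residue P.O r) = 0
        have : IsLocalRing.residue P.O r = 0 := by
          rw [IsLocalRing.residue_eq_zero_iff, mem_max_iff]
          exact hr
        rw [this, map_zero]
      ker := by
        intro x hx
        obtain ⟨q, rfl⟩ := AdjoinRoot.mk_surjective x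
        rw [hΨmk, AdjoinRoot.mk_eq_zero] at hx
        obtain ⟨hbar, hh⟩ := hx
        obtain ⟨h, rfl⟩ := Polynomial.map_surjective res IsLocalRing.residue_surjective hbar
        have hq' : (q - g * h) ∈ RingHom.ker (Polynomial.mapRingHom res) := by
          rw [RingHom.mem_ker]
          show (q - g * h).map res = 0
          rw [Polynomial.map_sub, Polynomial.map_mul, hh, hgbar, sub_self]
        rw [Polynomial.ker_mapRingHom] at hq'
        have hker : RingHom.ker res = Ideal.span {T} := by
          rw [← hmaxT]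
          exact IsLocalRing.ker_residue
        rw [hker, Ideal.map_span, Set.image_singleton, Ideal.mem_span_singleton'] at hq'
        obtain ⟨c, hc⟩ := hq'
        refine ⟨AdjoinRoot.mk g c, ?_⟩
        have e : q = g * h + c * C T := by rw [hc]; ring
        rw [e, map_add, map_mul, map_mul, AdjoinRoot.mk_self, zero_mul, zero_add,
          AdjoinRoot.mk_C, mul_comm]
      scale := by
        intro z
        obtain ⟨q, hq⟩ := pb.exists_eq_aeval' z
        rw [← hy] at hq
        obtain ⟨r, hr⟩ := exists_bound q.support (fun i => P.1 (q.coeff i))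
        have hcoef : ∀ i, P.1 ((C ((T : K) ^ r) * q).coeff i) ≤ 1 := by
          intro i
          rw [coeff_C_mul, map_mul, map_pow, hT, ← WithZero.exp_nsmul]
          by_cases hi : i ∈ q.support
          · calc WithZero.exp (r • (-1 : ℤ)) * P.1 (q.coeff i)
                ≤ WithZero.exp (r • (-1 : ℤ)) * WithZero.exp (r : ℤ) := mul_le_mul' le_rfl (hr i hi)
              _ = 1 := by
                rw [← WithZero.exp_add, ← WithZero.exp_zero]
                congr 1
                simp
          · rw [notMem_support_iff.1 hi, map_zero, mul_zero]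
            exact zero_le'
        obtain ⟨q₂, hq₂⟩ := mem_lifts_of_forall P _ hcoef
        refine ⟨r, AdjoinRoot.mk g q₂, ?_⟩
        rw [hΦmk]
        have hcomp : algebraMap P.O K' = (algebraMap K K').comp (algebraMap P.O K) := rfl
        rw [hcomp, ← eval₂_map, hq₂, eval₂_mul, eval₂_C, hq, map_pow, Polynomial.aeval_def]
      int := by
        intro x Q' hQ'
        obtain ⟨q, rfl⟩ := AdjoinRoot.mk_surjective x
        rw [hΦmk, eval₂_eq_sum_range]
        apply Valuation.map_sum_le
        intro i _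
        rw [map_mul, map_pow]
        have h5 : Q'.1 (algebraMap P.O K' (q.coeff i)) ≤ 1 := by
          obtain ⟨e', he'⟩ := hQ'
          rw [hmap, isOverWith_le_one_iff he']
          exact (q.coeff i).2
        exact mul_le_one' h5 (pow_le_one' (hyQ Q' hQ') i) }
  subst hgbar
  subst hy
  exact ⟨g, hred, M, hsep, hgy, hΦmk⟩

theorem good_unram (hK : IsFunctionField k K) (pb : PowerBasis K K') (a b : K[X])
    (hab : a * minpoly K pb.gen + b * derivative (minpoly K pb.gen) = 1) (P : Place k K)
    (h1 : ∀ Q : Place k K', IsOver Q P → Q.1 pb.gen ≤ 1)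
    (h2 : ∀ i, P.1 (a.coeff i) ≤ 1) (h3 : ∀ i, P.1 (b.coeff i) ≤ 1)
    (Q : Place k K') (hQ : IsOver Q P) : IsOverWith Q P 1 := by
  obtain ⟨g, hred, M, -⟩ := good_model hK pb a b hab P h1 h2 h3
  haveI := hred
  exact M.unram hK Q hQ

theorem s11020 (hK : IsFunctionField k K) :
    {Q : Place k K' | ¬ Function.Surjective (Q.1.comap (algebraMap K K'))}.Finite := by
  classical
  let pb := Field.powerBasisOfFiniteOfSeparable K K'
  have hsep : (minpoly K pb.gen).Separable := Algebra.IsSeparable.isSeparable K pb.gen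
  obtain ⟨a, b, hab⟩ := hsep
  -- the bad places
  have hS₁ : {P : Place k K | ∃ Q : Place k K', IsOver Q P ∧ 1 < Q.1 pb.gen}.Finite := by
    have hU : {Q : Place k K' | 1 < Q.1 pb.gen}.Finite := by
      apply (finite_support_ord' (K := K) hK pb.gen).subset
      intro Q hQ
      have hQ' : 1 < Q.1 pb.gen := hQ
      have hc0 : pb.gen ≠ 0 := by
        intro h0
        rw [h0, map_zero] at hQ'
        exact not_lt.2 zero_le' hQ'
      exact ne_of_lt ((ord_neg_iff Q hc0).2 hQ')
    let restr : Place k K' → Place k K := fun Q => (exists_restrict hK Q).choose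
    apply (hU.image restr).subset
    rintro P ⟨Q, hQP, hQ⟩
    refine ⟨Q, hQ, ?_⟩
    have h1 : IsOver Q (restr Q) := (exists_restrict hK Q).choose_spec
    exact isOver_unique h1 hQP
  have hS₂ := finite_coeff_poles hK a
  have hS₃ := finite_coeff_poles hK b
  have hS := (hS₁.union hS₂).union hS₃
  have hfib : ∀ P : Place k K, {Q : Place k K' | IsOver Q P}.Finite :=
    fun P => (general (K' := K') hK P).1
  apply (Set.Finite.biUnion hS (fun P _ => hfib P)).subset
  intro Q hQ
  obtain ⟨P, e, he⟩ := exists_restrict hK Q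
  rw [Set.mem_iUnion₂]
  refine ⟨P, ?_, ⟨e, he⟩⟩
  by_contra hP
  apply hQ
  have hP1 : ∀ Q' : Place k K', IsOver Q' P → Q'.1 pb.gen ≤ 1 := by
    intro Q' hQ'
    by_contra hlt
    exact hP (Or.inl (Or.inl ⟨Q', hQ', not_le.1 hlt⟩))
  have hP2 : ∀ i, P.1 (a.coeff i) ≤ 1 := by
    intro i
    by_contra hlt
    exact hP (Or.inl (Or.inr ⟨i, not_le.1 hlt⟩))
  have hP3 : ∀ i, P.1 (b.coeff i) ≤ 1 := by
    intro i
    by_contra hlt
    exact hP (Or.inr ⟨i, not_le.1 hlt⟩)
  have h1 := good_unram hK pb a b hab P hP1 hP2 hP3 Q ⟨e, he⟩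
  intro γ
  obtain ⟨x, hx⟩ := P.2.2 γ
  refine ⟨x, ?_⟩
  rw [Valuation.comap_apply, h1 x, pow_one, hx]

end Groth.Agent.Lib.lead.Unr
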