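import Mathlib
import Groth.Agent.Lib.lead.Unr
import Groth.Agent.Lib.lead.Kae2
import Groth.Agent.Lib.lead.AdjP

/-! Infinitely many places with separable residue field. -/

namespace Groth.Agent.Lib.lead.Sep4
open FunFld Module Groth.Agent.Lib.lead.FF Groth.Agent.Lib.lead.FF2 Groth.Agent.Lib.lead.FF3
  Groth.Agent.Lib.lead.FF4
  Groth.Agent.Lib.lead.FF5 Groth.Agent.Lib.lead.FF6 Groth.Agent.Lib.lead.FF7
  Groth.Agent.Lib.lead.FF8 Groth.Agent.Lib.lead.Ext Groth.Agent.Lib.lead.Ext3
  Groth.Agent.Lib.lead.IntCl Groth.Agent.Lib.lead.NSing Groth.Agent.Lib.lead.Abs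
  Groth.Agent.Lib.lead.Unr Groth.Agent.Lib.lead.NSing2
open Polynomial
open scoped IntermediateField

variable {k K : Type*} [Field k] [Field K] [Algebra k K]

theorem exists_not_mem (hK : IsFunctionField k K) (S : Finset (Place k K)) :
    ∃ P : Place k K, P ∉ S := by
  classical
  by_cases hS : S = ∅
  · obtain ⟨x, hx, -⟩ := hK.1
    obtain ⟨P, -⟩ := exists_place_lt_one hK hx
    exact ⟨P, by rw [hS]; exact Finset.notMem_empty _⟩
  obtain ⟨P₀, hP₀⟩ := Finset.nonempty_iff_ne_empty.2 hS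
  choose t ht using fun P : Place k K => exists_uniformizer P
  obtain ⟨y, hy⟩ := exists_approx S t 2
  have hexp2 : WithZero.exp (-((2 : ℕ) : ℤ)) < (WithZero.exp (-1) : WithZero (Multiplicative ℤ)) := by
    rw [WithZero.exp_lt_exp]
    norm_num
  have hexp1 : (WithZero.exp (-1) : WithZero (Multiplicative ℤ)) < 1 := by
    rw [← WithZero.exp_zero, WithZero.exp_lt_exp]
    norm_num
  have hyP : ∀ P ∈ S, P.1 y = WithZero.exp (-1) := by
    intro P hP
    have h1 := hy P hP
    have h2 : y = t P + (y - t P) := by ring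
    rw [h2, Valuation.map_add_eq_of_lt_left, ht]
    rw [ht]
    exact lt_of_le_of_lt h1 hexp2
  have hyk : y ∉ Set.range (algebraMap k K) := by
    rintro ⟨c, rfl⟩
    have h1 := hyP P₀ hP₀
    by_cases hc : c = 0
    · rw [hc, map_zero, map_zero] at h1
      exact WithZero.exp_ne_zero h1.symm
    · rw [val_algebraMap P₀ hc] at h1
      exact hexp1.ne h1.symm
  obtain ⟨Q, hQ⟩ := (exists_zero_and_pole hK hyk).2
  refine ⟨Q, fun hQS => ?_⟩
  have := hyP Q hQS
  rw [this] at hQ
  exact absurd hQ (not_lt.2 hexp1.le)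

theorem infinite_places (hK : IsFunctionField k K) : Infinite (Place k K) := by
  classical
  by_contra hfin
  rw [not_infinite_iff_finite] at hfin
  haveI := Fintype.ofFinite (Place k K)
  obtain ⟨P, hP⟩ := exists_not_mem hK (Finset.univ : Finset (Place k K))
  exact hP (Finset.mem_univ P)

section Res
variable {K' : Type*} [Field K'] [Algebra K K'] [Algebra k K'] [IsScalarTower k K K']
  [FiniteDimensional K K']

theorem Model.residue_gen (hK : IsFunctionField k K) {P : Place k K} {A Abar : Type*}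
    [CommRing A] [CommRing Abar] [IsReduced Abar] (M : Model K' P A Abar) (Q : Place k K')
    (hQ : IsOver Q P) (z : K') (hz : Q.1 z ≤ 1) : ∃ a : A, Q.1 (z - M.Φ a) < 1 := by
  classical
  have hfin := (general (K' := K') hK P).1
  obtain ⟨y, hy⟩ := exists_approx hfin.toFinset (fun Q' => if Q' = Q then z else 0) 1
  have hyQ : Q.1 (y - z) ≤ WithZero.exp (-((1 : ℕ) : ℤ)) := by
    have := hy Q (hfin.mem_toFinset.2 hQ)
    rwa [if_pos rfl] at this
  have hexp : WithZero.exp (-((1 : ℕ) : ℤ)) < (1 : WithZero (Multiplicative ℤ)) := by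
    rw [← WithZero.exp_zero, WithZero.exp_lt_exp]
    norm_num
  have hyall : ∀ Q' : Place k K', IsOver Q' P → Q'.1 y ≤ 1 := by
    intro Q' hQ'
    by_cases hQQ : Q' = Q
    · subst hQQ
      have h1 : y = (y - z) + z := by ring
      rw [h1]
      exact (Valuation.map_add _ _ _).trans (max_le (hyQ.trans hexp.le) hz)
    · have := hy Q' (hfin.mem_toFinset.2 hQ')
      rw [if_neg hQQ, sub_zero] at this
      exact this.trans hexp.le
  obtain ⟨a, ha⟩ := M.mem_range hK y hyall
  refine ⟨a, ?_⟩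
  rw [ha, Valuation.map_sub_swap]
  exact lt_of_le_of_lt hyQ hexp

variable [Algebra.IsSeparable K K']

set_option maxHeartbeats 1600000 in
theorem good_sep (hK : IsFunctionField k K) (pb : PowerBasis K K') (a b : K[X])
    (hab : a * minpoly K pb.gen + b * derivative (minpoly K pb.gen) = 1) (P : Place k K)
    (h1 : ∀ Q : Place k K', IsOver Q P → Q.1 pb.gen ≤ 1)
    (h2 : ∀ i, P.1 (a.coeff i) ≤ 1) (h3 : ∀ i, P.1 (b.coeff i) ≤ 1)
    (hdeg : ∀ r : K, P.1 r ≤ 1 → ∃ c : k, P.1 (r - algebraMap k K c) < 1)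
    (Q : Place k K') (hQ : IsOver Q P) :
    Algebra.IsSeparable k (IsLocalRing.ResidueField Q.O) := by
  classical
  obtain ⟨g, hred, M, hsep, hgy, hΦmk⟩ := good_model hK pb a b hab P h1 h2 h3
  haveI := hred
  obtain ⟨e, he⟩ := hQ
  obtain ⟨f₀, hf₀⟩ : ∃ f₀ : P.O →+* K', f₀ = (algebraMap K K').comp P.O.subtype := ⟨_, rfl⟩
  rw [← hf₀] at hgy hΦmk
  obtain ⟨y, hy⟩ : ∃ y : K', y = pb.gen := ⟨_, rfl⟩
  rw [← hy] at hgy hΦmk
  have hyQ : Q.1 y ≤ 1 := by rw [hy]; exact h1 Q ⟨e, he⟩
  obtain ⟨Y, hYdef⟩ : ∃ Y : Q.O, Y = ⟨y, hyQ⟩ := ⟨_, rfl⟩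
  have hYy : (Y : K') = y := by rw [hYdef]
  -- `F_P = k`
  have hsurj : Function.Surjective (algebraMap k (IsLocalRing.ResidueField P.O)) := by
    intro ξ
    obtain ⟨r, rfl⟩ := IsLocalRing.residue_surjective ξ
    obtain ⟨c, hc⟩ := hdeg (r : K) r.2
    refine ⟨c, ?_⟩
    show IsLocalRing.residue P.O (algebraMap k P.O c) = IsLocalRing.residue P.O r
    symm
    apply Ideal.Quotient.eq.2
    rw [mem_max_iff]
    exact hc
  -- closeness
  have close : ∀ (q : P.O[X]) (qk : k[X]),
      qk.map (algebraMap k (IsLocalRing.ResidueField P.O)) = q.map (IsLocalRing.residue P.O) →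
      Q.1 (eval₂ f₀ y q - aeval y qk) < 1 := by
    intro q qk hq
    obtain ⟨N, hN⟩ : ∃ N, N = max q.natDegree qk.natDegree + 1 := ⟨_, rfl⟩
    have hN1 : q.natDegree < N := by rw [hN]; exact Nat.lt_succ_of_le (le_max_left _ _)
    have hN2 : qk.natDegree < N := by rw [hN]; exact Nat.lt_succ_of_le (le_max_right _ _)
    rw [eval₂_eq_sum_range' f₀ hN1, aeval_def, eval₂_eq_sum_range' (algebraMap k K') hN2,
      ← Finset.sum_sub_distrib]
    apply Valuation.map_sum_lt Q.1 one_ne_zero
    intro i _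
    rw [← sub_mul, map_mul, map_pow]
    have hc : Q.1 (f₀ (q.coeff i) - algebraMap k K' (qk.coeff i)) < 1 := by
      have e1 : f₀ (q.coeff i) - algebraMap k K' (qk.coeff i) =
          algebraMap K K' (((q.coeff i : P.O) : K) - algebraMap k K (qk.coeff i)) := by
        rw [map_sub, ← IsScalarTower.algebraMap_apply, hf₀]
        rfl
      rw [e1, isOverWith_lt_one_iff he]
      have h5 := congrArg (fun p => p.coeff i) hq
      simp only [coeff_map] at h5
      have h6 : IsLocalRing.residue P.O (algebraMap k P.O (qk.coeff i)) =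
          IsLocalRing.residue P.O (q.coeff i) := h5
      have h7 := Ideal.Quotient.eq.1 h6
      rw [mem_max_iff] at h7
      rw [Valuation.map_sub_swap]
      exact h7
    calc Q.1 (f₀ (q.coeff i) - algebraMap k K' (qk.coeff i)) * Q.1 y ^ i
        ≤ Q.1 (f₀ (q.coeff i) - algebraMap k K' (qk.coeff i)) * 1 :=
          mul_le_mul' le_rfl (pow_le_one' hyQ i)
      _ = Q.1 (f₀ (q.coeff i) - algebraMap k K' (qk.coeff i)) := mul_one _
      _ < 1 := hc
  -- residue of a polynomial expression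
  have hres : ∀ qk : k[X], aeval (IsLocalRing.residue Q.O Y) qk =
      IsLocalRing.residue Q.O (aeval Y qk) :=
    fun qk => aeval_algHom_apply (resO k K' Q) Y qk
  have hcoe : ∀ qk : k[X], ((aeval Y qk : Q.O) : K') = aeval y qk := by
    intro qk
    have := aeval_algHom_apply (inclO Q) Y qk
    rw [← hYy]
    exact this.symm
  -- the separable polynomial
  obtain ⟨gk, hgk⟩ := Polynomial.map_surjective _ hsurj (g.map (IsLocalRing.residue P.O))
  have hgksep : gk.Separable := (Polynomial.separable_map _).1 (hgk ▸ hsep)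
  have hroot : aeval (IsLocalRing.residue Q.O Y) gk = 0 := by
    rw [hres, IsLocalRing.residue_eq_zero_iff, mem_max_iff, hcoe]
    have := close g gk hgk
    rwa [hgy, zero_sub, Valuation.map_neg] at this
  have hsepY : IsSeparable k (IsLocalRing.residue Q.O Y) :=
    hgksep.of_dvd (minpoly.dvd k _ hroot)
  -- generation
  have hadj : Algebra.adjoin k ({IsLocalRing.residue Q.O Y} : Set (IsLocalRing.ResidueField Q.O)) = ⊤ := by
    rw [eq_top_iff]
    intro ξ _
    obtain ⟨⟨z, hz⟩, rfl⟩ := IsLocalRing.residue_surjective ξ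
    obtain ⟨x, hx⟩ := Model.residue_gen hK M Q ⟨e, he⟩ z hz
    obtain ⟨q, rfl⟩ := AdjoinRoot.mk_surjective x
    rw [hΦmk] at hx
    obtain ⟨qk, hqk⟩ := Polynomial.map_surjective _ hsurj (q.map (IsLocalRing.residue P.O))
    have h5 := close q qk hqk
    have h6 : Q.1 (z - aeval y qk) < 1 := by
      have e1 : z - aeval y qk = (z - eval₂ f₀ y q) + (eval₂ f₀ y q - aeval y qk) := by ring
      rw [e1]
      exact Valuation.map_add_lt _ hx h5
    have h7 : IsLocalRing.residue Q.O ⟨z, hz⟩ = IsLocalRing.residue Q.O (aeval Y qk) := by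
      apply Ideal.Quotient.eq.2
      rw [mem_max_iff]
      show Q.1 (z - ((aeval Y qk : Q.O) : K')) < 1
      rw [hcoe]
      exact h6
    rw [h7, ← hres, Algebra.adjoin_singleton_eq_range_aeval]
    exact ⟨qk, rfl⟩
  have htop : k⟮IsLocalRing.residue Q.O Y⟯ = ⊤ :=
    IntermediateField.adjoin_eq_top_of_algebra k _ hadj
  haveI : Algebra.IsSeparable k k⟮IsLocalRing.residue Q.O Y⟯ :=
    (IntermediateField.isSeparable_adjoin_simple_iff_isSeparable k _).2 hsepY
  exact AlgEquiv.Algebra.isSeparable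
    ((IntermediateField.equivOfEq htop).trans IntermediateField.topEquiv)

end Res

end Groth.Agent.Lib.lead.Sep4
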