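import Mathlib
import Groth.Agent.Lib.lead.Sep4

/-! Infinitely many places with separable residue field: main theorem. -/

namespace Groth.Agent.Lib.lead.Sep5
open FunFld Module Groth.Agent.Lib.lead.FF Groth.Agent.Lib.lead.FF2 Groth.Agent.Lib.lead.FF3
  Groth.Agent.Lib.lead.FF4
  Groth.Agent.Lib.lead.FF5 Groth.Agent.Lib.lead.FF6 Groth.Agent.Lib.lead.FF7
  Groth.Agent.Lib.lead.FF8 Groth.Agent.Lib.lead.Ext Groth.Agent.Lib.lead.Ext3
  Groth.Agent.Lib.lead.IntCl Groth.Agent.Lib.lead.NSing Groth.Agent.Lib.lead.Abs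
  Groth.Agent.Lib.lead.Unr Groth.Agent.Lib.lead.NSing2 Groth.Agent.Lib.lead.Sep4
open Polynomial
open scoped IntermediateField

section Bad
variable {k K : Type*} [Field k] [Field K] [Algebra k K]
variable {K' : Type*} [Field K'] [Algebra K K'] [Algebra k K'] [IsScalarTower k K K']
  [FiniteDimensional K K']

theorem finite_bad (hK : IsFunctionField k K) (y : K') (a b : K[X]) :
    {P : Place k K | (∃ Q : Place k K', IsOver Q P ∧ 1 < Q.1 y) ∨
      (∃ i, 1 < P.1 (a.coeff i)) ∨ (∃ i, 1 < P.1 (b.coeff i))}.Finite := by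
  classical
  have hS₁ : {P : Place k K | ∃ Q : Place k K', IsOver Q P ∧ 1 < Q.1 y}.Finite := by
    have hU : {Q : Place k K' | 1 < Q.1 y}.Finite := by
      apply (finite_support_ord' (K := K) hK y).subset
      intro Q hQ
      have hQ' : 1 < Q.1 y := hQ
      have hc0 : y ≠ 0 := by
        intro h0
        rw [h0, map_zero] at hQ'
        exact not_lt.2 zero_le' hQ'
      exact ne_of_lt ((ord_neg_iff Q hc0).2 hQ')
    let restr : Place k K' → Place k K := fun Q => (exists_restrict hK Q).choose
    apply (hU.image restr).subset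
    rintro P ⟨Q, hQP, hQ⟩
    refine ⟨Q, hQ, ?_⟩
    have h1 : IsOver Q (restr Q) := (exists_restrict hK Q).choose_spec
    exact isOver_unique h1 hQP
  have hS₂ := finite_coeff_poles hK a
  have hS₃ := finite_coeff_poles hK b
  exact (hS₁.union (hS₂.union hS₃)).subset (fun P hP => hP)

end Bad

universe u v

set_option maxHeartbeats 1600000 in
theorem s11004 (k : Type u) (K : Type v) [Field k] [Field K] [Algebra k K]
    (hK : FunFld.IsFunctionField k K) (hg : FunFld.IsGeometric k K) :
    {P : FunFld.Place k K | Algebra.IsSeparable k (IsLocalRing.ResidueField P.O)}.Infinite := by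
  classical
  rcases finite_or_infinite k with hfin | hinf
  · haveI := hfin
    haveI : PerfectField k := PerfectField.ofFinite
    have huniv : {P : FunFld.Place k K |
        Algebra.IsSeparable k (IsLocalRing.ResidueField P.O)} = Set.univ := by
      ext P
      simp only [Set.mem_setOf_eq, Set.mem_univ, iff_true]
      haveI hfd : @Module.Finite k (IsLocalRing.ResidueField P.O) _ _ (Place.algRes P).toModule :=
        Module.finite_of_finrank_pos (deg_pos hK P)
      haveI : Algebra.IsAlgebraic k (IsLocalRing.ResidueField P.O) :=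
        Algebra.IsAlgebraic.of_finite k _
      exact Algebra.IsAlgebraic.isSeparable_of_perfectField
    rw [huniv]
    haveI := infinite_places hK
    exact Set.infinite_univ
  · haveI := hinf
    obtain ⟨x, hx0, hspan⟩ := Groth.Agent.Lib.lead.Kae2.exists_sep_elt hK hg
    have hx : Transcendental k x := by
      intro halg
      obtain ⟨c, rfl⟩ := hK.2 x halg
      exact hx0 (Derivation.map_algebraMap _ c)
    haveI hfd : FiniteDimensional k⟮x⟯ K := finite_of_transcendental hK hx
    haveI hsep : Algebra.IsSeparable k⟮x⟯ K := Groth.Agent.Lib.lead.Kae2.sep_of_D_ne_zero hK hspan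
    obtain ⟨x₀, hx₀def⟩ : ∃ x₀ : k⟮x⟯, x₀ = ⟨x, IntermediateField.mem_adjoin_simple_self k x⟩ :=
      ⟨_, rfl⟩
    have hx₀ : (x₀ : K) = x := by rw [hx₀def]
    obtain ⟨hx₀t, htopE, hE⟩ := Groth.Agent.Lib.lead.AdjP.isFunctionField_adjoin hK hx x₀ hx₀
    let pb := Field.powerBasisOfFiniteOfSeparable k⟮x⟯ K
    have hsepy : (minpoly k⟮x⟯ pb.gen).Separable := Algebra.IsSeparable.isSeparable k⟮x⟯ pb.gen
    obtain ⟨a, b, hab⟩ := hsepy
    have hS := finite_bad (K' := K) hE pb.gen a b
    -- the places `x = c`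
    have htr : ∀ c : k, Transcendental k (x₀ - algebraMap k k⟮x⟯ c) := by
      intro c halg
      apply hx₀t
      have h := halg.add (isAlgebraic_algebraMap (R := k) (A := k⟮x⟯) c)
      rwa [sub_add_cancel] at h
    choose p hp using fun c : k => exists_place_lt_one hE (htr c)
    have hpinj : Function.Injective p := by
      intro c c' hcc
      have h1 := hp c
      have h2 := hp c'
      rw [← hcc] at h2
      by_contra hne
      have h3 : (p c).1 (algebraMap k k⟮x⟯ (c' - c)) < 1 := by
        have e1 : algebraMap k k⟮x⟯ (c' - c) =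
            (x₀ - algebraMap k k⟮x⟯ c) - (x₀ - algebraMap k k⟮x⟯ c') := by
          rw [map_sub]; ring
        rw [e1]
        exact Valuation.map_sub_lt _ h1 h2
      rw [val_algebraMap (p c) (sub_ne_zero.2 (Ne.symm hne))] at h3
      exact lt_irrefl _ h3
    have hdeg : ∀ c : k, ∀ r : k⟮x⟯, (p c).1 r ≤ 1 →
        ∃ d : k, (p c).1 (r - algebraMap k k⟮x⟯ d) < 1 := by
      intro c r hr
      have ht0 : x₀ - algebraMap k k⟮x⟯ c ≠ 0 := ne_zero_of_transcendental (htr c)
      refine exists_const_approx' (p c) (hp c) ht0 ?_ hr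
      have hmem : x₀ ∈ k⟮x₀ - algebraMap k k⟮x⟯ c⟯ := by
        have h := add_mem (IntermediateField.mem_adjoin_simple_self k (x₀ - algebraMap k k⟮x⟯ c))
          (IntermediateField.algebraMap_mem k⟮x₀ - algebraMap k k⟮x⟯ c⟯ c)
        rwa [sub_add_cancel] at h
      have hle : (⊤ : IntermediateField k k⟮x⟯) ≤ k⟮x₀ - algebraMap k k⟮x⟯ c⟯ := by
        rw [← htopE, IntermediateField.adjoin_simple_le_iff]
        exact hmem
      exact hle IntermediateField.mem_top
    have hex : ∀ c : k, ∃ Q : Place k K, IsOver Q (p c) := by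
      intro c
      obtain ⟨hfin, hsum⟩ := general (K' := K) hE (p c)
      have h1 := hsum hfin.toFinset (fun Q => hfin.mem_toFinset)
      have hpos : 0 < Module.finrank k⟮x⟯ K * (p c).deg :=
        Nat.mul_pos Module.finrank_pos (deg_pos hE (p c))
      rw [← h1] at hpos
      obtain ⟨Q, hQ, -⟩ := Finset.exists_ne_zero_of_sum_ne_zero hpos.ne'
      exact ⟨Q, hfin.mem_toFinset.1 hQ⟩
    choose Qc hQc using hex
    have hQinj : Function.Injective Qc := by
      intro c c' h
      apply hpinj
      have h2 := hQc c'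
      rw [← h] at h2
      exact isOver_unique (hQc c) h2
    have hbadfin : {c : k | p c ∈ {P : Place k k⟮x⟯ |
        (∃ Q : Place k K, IsOver Q P ∧ 1 < Q.1 pb.gen) ∨
        (∃ i, 1 < P.1 (a.coeff i)) ∨ (∃ i, 1 < P.1 (b.coeff i))}}.Finite :=
      hS.preimage hpinj.injOn
    have hgood := (Set.infinite_univ (α := k)).diff hbadfin
    have himg := hgood.image hQinj.injOn
    apply himg.mono
    rintro _ ⟨c, ⟨-, hc⟩, rfl⟩
    have hP1 : ∀ Q' : Place k K, IsOver Q' (p c) → Q'.1 pb.gen ≤ 1 := by
      intro Q' hQ'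
      by_contra hlt
      exact hc (Or.inl ⟨Q', hQ', not_le.1 hlt⟩)
    have hP2 : ∀ i, (p c).1 (a.coeff i) ≤ 1 := by
      intro i
      by_contra hlt
      exact hc (Or.inr (Or.inl ⟨i, not_le.1 hlt⟩))
    have hP3 : ∀ i, (p c).1 (b.coeff i) ≤ 1 := by
      intro i
      by_contra hlt
      exact hc (Or.inr (Or.inr ⟨i, not_le.1 hlt⟩))
    exact good_sep hE pb a b hab (p c) hP1 hP2 hP3 (hdeg c) (Qc c) (hQc c)

end Groth.Agent.Lib.lead.Sep5
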