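import Mathlib
import Groth.Agent.Lib.lead.Kae2
import Groth.Agent.Lib.lead.NS

/-! A local parameter at a separable place is a separating variable (S11030). -/

namespace Groth.Agent.Lib.lead.SepPl
open FunFld Groth.Agent.Lib.lead.FF Groth.Agent.Lib.lead.FF4
  Groth.Agent.Lib.lead.FF5 Groth.Agent.Lib.lead.FF7 Groth.Agent.Lib.lead.NS
open WithZero

universe u v

variable {k : Type u} {K : Type v} [Field k] [Field K] [Algebra k K]

def gens (P : Place k K) (p : ℕ) (m : ℤ) : Set K := {z | ∃ w : K, P.1 w ≤ exp (-m) ∧ z = w ^ p}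

def Sm (P : Place k K) (p : ℕ) (m : ℤ) : Submodule k K := Submodule.span k (gens P p m)

lemma Sm_anti (P : Place k K) (p : ℕ) {m m' : ℤ} (h : m' ≤ m) : Sm P p m ≤ Sm P p m' := by
  apply Submodule.span_mono
  rintro z ⟨w, hw, rfl⟩
  exact ⟨w, hw.trans (exp_le_exp.2 (by omega)), rfl⟩

def ball (P : Place k K) (γ : WithZero (Multiplicative ℤ)) : Submodule k K where
  carrier := {x | P.1 x ≤ γ}
  add_mem' {x y} hx hy := (P.1.map_add x y).trans (max_le hx hy)
  zero_mem' := by simp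
  smul_mem' c x hx := by
    show P.1 (c • x) ≤ γ
    rw [Algebra.smul_def, map_mul]
    exact (mul_le_mul' (P.2.1 c) hx).trans_eq (one_mul _)

lemma Sm_bound (P : Place k K) (p : ℕ) (m : ℤ) {z : K} (hz : z ∈ Sm P p m) :
    P.1 z ≤ exp (-((p:ℤ) * m)) := by
  have h : Sm P p m ≤ ball P (exp (-((p:ℤ) * m))) := by
    apply Submodule.span_le.2
    rintro z ⟨w, hw, rfl⟩
    show P.1 (w ^ p) ≤ _
    rw [map_pow]
    calc P.1 w ^ p ≤ (exp (-m)) ^ p := pow_le_pow_left₀ zero_le' hw p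
      _ = exp (-((p:ℤ) * m)) := by rw [← exp_nsmul]; congr 1; simp
  exact h hz

lemma Sm_mul (P : Place k K) (p : ℕ) {a b : ℤ} {z₁ z₂ : K} (h₁ : z₁ ∈ Sm P p a)
    (h₂ : z₂ ∈ Sm P p b) : z₁ * z₂ ∈ Sm P p (a + b) := by
  have h := Submodule.mul_mem_mul h₁ h₂
  unfold Sm at h
  rw [Submodule.span_mul_span] at h
  refine Submodule.span_mono ?_ h
  rintro _ ⟨x, ⟨w, hw, rfl⟩, y, ⟨w', hw', rfl⟩, rfl⟩
  refine ⟨w * w', ?_, (mul_pow _ _ _).symm⟩
  rw [map_mul, neg_add, exp_add]
  exact mul_le_mul' hw hw'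

lemma one_mem_Sm (P : Place k K) (p : ℕ) : (1 : K) ∈ Sm P p 0 :=
  Submodule.subset_span ⟨1, by rw [map_one, neg_zero, exp_zero], (one_pow p).symm⟩

lemma Sm_pow (P : Place k K) (p : ℕ) {a : ℤ} {z : K} (hz : z ∈ Sm P p a) (j : ℕ) :
    z ^ j ∈ Sm P p ((j : ℤ) * a) := by
  induction j with
  | zero => rw [pow_zero, Nat.cast_zero, zero_mul]; exact one_mem_Sm P p
  | succ j ih =>
    have h := Sm_mul P p ih hz
    rw [pow_succ]
    rwa [show (j:ℤ) * a + a = ((j + 1 : ℕ) : ℤ) * a by push_cast; ring] at h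

lemma pow_mem_Sm (P : Place k K) (p : ℕ) (w : K) : ∃ m, w ^ p ∈ Sm P p m := by
  by_cases hw : w = 0
  · exact ⟨0, Submodule.subset_span ⟨w, by rw [hw, map_zero]; exact zero_le', rfl⟩⟩
  · exact ⟨P.ord w, Submodule.subset_span ⟨w, (val_eq_exp P hw).le, rfl⟩⟩

lemma Sm_scale (P : Place k K) (p : ℕ) {u : K} {b : ℤ} (hu : P.1 u = exp (-b)) {a : ℤ} {z : K}
    (hz : z ∈ Sm P p a) : u ^ p * z ∈ Sm P p (a + b) := by
  have hu' : u ^ p ∈ Sm P p b := Submodule.subset_span ⟨u, hu.le, rfl⟩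
  have h := Sm_mul P p hu' hz
  rwa [add_comm] at h

lemma exists_Sm (P : Place k K) (p : ℕ) [hp : Fact p.Prime] {z : K}
    (hz : z ∈ Kae2.Fp k K p) : ∃ m, z ∈ Sm P p m := by
  have hp1 : 1 ≤ p := hp.out.one_le
  refine IntermediateField.adjoin_induction k (p := fun z _ => ∃ m, z ∈ Sm P p m)
    ?_ ?_ ?_ ?_ ?_ hz
  · rintro _ ⟨w, rfl⟩
    exact pow_mem_Sm P p w
  · intro c
    refine ⟨0, ?_⟩
    rw [Algebra.algebraMap_eq_smul_one]
    exact Submodule.smul_mem _ _ (one_mem_Sm P p)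
  · rintro x y _ _ ⟨a, ha⟩ ⟨b, hb⟩
    exact ⟨min a b, add_mem (Sm_anti P p (min_le_left a b) ha)
      (Sm_anti P p (min_le_right a b) hb)⟩
  · rintro x _ ⟨a, ha⟩
    obtain ⟨b, hb⟩ := pow_mem_Sm P p x⁻¹
    by_cases hx0 : x = 0
    · rw [hx0, inv_zero]; exact ⟨0, Submodule.zero_mem _⟩
    · refine ⟨((p - 1 : ℕ) : ℤ) * a + b, ?_⟩
      have h1 : x ^ (p-1) * x = x ^ p := by rw [← pow_succ, Nat.sub_add_cancel hp1]
      have h2 : x⁻¹ = x ^ (p-1) * (x⁻¹) ^ p := by
        rw [inv_pow, ← h1, mul_inv, ← mul_assoc, mul_inv_cancel₀ (pow_ne_zero _ hx0), one_mul]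
      rw [h2]
      exact Sm_mul P p (Sm_pow P p ha (p-1)) hb
  · rintro x y _ _ ⟨a, ha⟩ ⟨b, hb⟩
    exact ⟨a + b, Sm_mul P p ha hb⟩

set_option maxHeartbeats 800000 in
theorem core (hK : IsFunctionField k K) (P : Place k K) (p : ℕ) [hp : Fact p.Prime] [CharP K p]
    [Algebra.IsSeparable k (IsLocalRing.ResidueField P.O)] {z : K} (hz : z ∈ Sm P p 0)
    (hlt : P.1 z < 1) : z ∈ Sm P p 1 := by
  classical
  haveI : CharP k p := RingHom.charP (algebraMap k K) (algebraMap k K).injective p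
  haveI : ExpChar k p := ExpChar.prime hp.out
  have hdeg : 0 < P.deg := deg_pos hK P
  haveI : Module.Finite k (IsLocalRing.ResidueField P.O) := Module.finite_of_finrank_pos hdeg
  let b := Module.finBasis k (IsLocalRing.ResidueField P.O)
  haveI : ExpChar K p := ExpChar.prime hp.out
  have hli' : @LinearIndependent _ k _ (fun j => (b j) ^ p) _ _ Algebra.toModule := by
    have h := LinearIndependent.map_pow_expChar_pow_of_isSeparable p 1 b.linearIndependent
    simpa using h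
  have hli : LinearIndependent k (fun j => (b j) ^ p) := hli'
  choose u hu using fun j => resMap_surjective P (b j)
  let U : Submodule k K := Submodule.span k (Set.range fun j => ((u j : K)) ^ p)
  have hres_pow : ∀ (x : ↥(OP P)) (hx' : x.1 ^ p ∈ OP P),
      resMap P ⟨x.1 ^ p, hx'⟩ = (resMap P x) ^ p := by
    intro x hx'
    show IsLocalRing.residue P.O ⟨x.1 ^ p, _⟩ = (IsLocalRing.residue P.O ⟨x.1, _⟩) ^ p
    rw [← map_pow]; rfl
  have hle : Sm P p 0 ≤ U ⊔ Sm P p 1 := by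
    apply Submodule.span_le.2
    rintro _ ⟨w, hw, rfl⟩
    have hw1 : P.1 w ≤ 1 := by simpa using hw
    have hwm : w ∈ OP P := (mem_OP P w).2 hw1
    have hrepr := b.sum_repr (resMap P ⟨w, hwm⟩)
    let w₀ : ↥(OP P) := ∑ j, (b.repr (resMap P ⟨w, hwm⟩)) j • u j
    have hw' : resMap P (⟨w, hwm⟩ - w₀) = 0 := by
      rw [map_sub, map_sum]
      simp only [map_smul, hu]
      exact sub_eq_zero.2 hrepr.symm
    rw [resMap_eq_zero_iff] at hw'
    have hdecomp : w = (w₀ : K) + (w - (w₀ : K)) := by ring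
    have hpow : w ^ p = (w₀ : K) ^ p + (w - (w₀ : K)) ^ p := by
      conv_lhs => rw [hdecomp]
      exact add_pow_char _ _ p
    rw [hpow]
    apply Submodule.add_mem_sup
    · have h3 : ((w₀ : ↥(OP P)) : K) = ∑ j, (b.repr (resMap P ⟨w, hwm⟩)) j • (u j : K) := by
        simp [w₀]
      rw [h3, sum_pow_char p]
      refine Submodule.sum_mem _ (fun j _ => ?_)
      rw [smul_pow]
      exact Submodule.smul_mem _ _ (Submodule.subset_span ⟨j, rfl⟩)
    · refine Submodule.subset_span ⟨w - (w₀ : K), ?_, rfl⟩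
      have h4 : P.1 (w - (w₀ : K)) < exp 0 := by rw [exp_zero]; exact hw'
      exact (lt_exp_iff_le P _ 0).1 h4
  obtain ⟨x, hxU, s, hs, rfl⟩ := Submodule.mem_sup.1 (hle hz)
  have hsb := Sm_bound P p 1 hs
  have hs1 : P.1 s < 1 := by
    refine lt_of_le_of_lt hsb ?_
    rw [← exp_zero, exp_lt_exp]
    have := hp.out.pos
    omega
  have hx1 : P.1 x < 1 := by
    have h5 : x = (x + s) - s := by ring
    rw [h5]
    exact lt_of_le_of_lt (Valuation.map_sub _ _ _) (max_lt hlt hs1)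
  obtain ⟨β, hβ⟩ := (Submodule.mem_span_range_iff_exists_fun k).1 hxU
  have hupow : ∀ j, ((u j : K)) ^ p ∈ OP P := fun j =>
    (mem_OP P _).2 (by rw [map_pow]; exact pow_le_one₀ zero_le' (u j).2)
  have hxmem : x ∈ OP P := (mem_OP P x).2 hx1.le
  have hres : resMap P ⟨x, hxmem⟩ = ∑ j, β j • (b j) ^ p := by
    have hx' : (⟨x, hxmem⟩ : ↥(OP P)) = ∑ j, β j • (⟨(u j : K) ^ p, hupow j⟩ : ↥(OP P)) := by
      apply Subtype.ext
      simp [← hβ]
    rw [hx', map_sum]
    refine Finset.sum_congr rfl (fun j _ => ?_)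
    rw [map_smul, hres_pow (u j) (hupow j), hu]
  have hzero : resMap P ⟨x, hxmem⟩ = 0 := (resMap_eq_zero_iff P _).2 hx1
  rw [hres] at hzero
  have hβ0 := (Fintype.linearIndependent_iff.1 hli) β hzero
  have hx0 : x = 0 := by rw [← hβ]; simp [hβ0]
  rw [hx0, zero_add]; exact hs

set_option maxHeartbeats 800000 in
theorem ord_dvd (hK : IsFunctionField k K) (P : Place k K) (p : ℕ) [hp : Fact p.Prime]
    [CharP K p] [Algebra.IsSeparable k (IsLocalRing.ResidueField P.O)] {z : K}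
    (hz : z ∈ Kae2.Fp k K p) (hz0 : z ≠ 0) : (p : ℤ) ∣ P.ord z := by
  obtain ⟨m₀, hm₀⟩ := exists_Sm P p hz
  obtain ⟨π, hπ⟩ := exists_uniformizer P
  have hπ0 : π ≠ 0 := by
    rintro rfl
    rw [map_zero] at hπ
    exact exp_ne_zero hπ.symm
  have hvz : P.1 z = exp (-(P.ord z)) := val_eq_exp P hz0
  have hppos : (0:ℤ) < p := by exact_mod_cast hp.out.pos
  have hstep : ∀ m : ℤ, m₀ ≤ m → ((p:ℤ) * (m - 1) < P.ord z → z ∈ Sm P p m) := by
    intro m hm
    induction m, hm using Int.le_induction with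
    | base => intro _; exact hm₀
    | succ m hm ih =>
      intro hlt
      have hlt2 : (p:ℤ) * m < P.ord z := by simpa using hlt
      have hzm : z ∈ Sm P p m := ih (by
        have h5 : (p:ℤ) * (m - 1) ≤ p * m := mul_le_mul_of_nonneg_left (by omega) hppos.le
        linarith)
      have h1 : P.1 (π ^ (-m)) = exp (-(-m)) := val_zpow_uniformizer P hπ (-m)
      have h2 : P.1 (π ^ m) = exp (-m) := val_zpow_uniformizer P hπ m
      have hz' : (π ^ (-m)) ^ p * z ∈ Sm P p (m + -m) := Sm_scale P p h1 hzm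
      rw [add_neg_cancel] at hz'
      have hlt' : P.1 ((π ^ (-m)) ^ p * z) < 1 := by
        rw [map_mul, map_pow, h1, hvz, ← exp_nsmul, ← exp_add]
        have h6 : (p • (-(-m)) + -(P.ord z) : ℤ) < 0 := by
          simp only [nsmul_eq_mul, neg_neg]; linarith
        calc exp (p • (-(-m)) + -(P.ord z)) < exp 0 := exp_lt_exp.2 h6
          _ = 1 := exp_zero
      have hz1 := core hK P p hz' hlt'
      have hz2 := Sm_scale P p h2 hz1
      have hcancel : (π ^ m) ^ p * ((π ^ (-m)) ^ p * z) = z := by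
        rw [← mul_assoc, ← mul_pow, ← zpow_add₀ hπ0, add_neg_cancel, zpow_zero, one_pow, one_mul]
      rw [hcancel, add_comm] at hz2
      exact hz2
  by_contra hnd
  have hb := Sm_bound P p m₀ hm₀
  rw [hvz, exp_le_exp] at hb
  have hmod : P.ord z % p ≠ 0 := fun h => hnd (Int.dvd_of_emod_eq_zero h)
  have hdiv := Int.emod_add_mul_ediv (P.ord z) p
  have hmodnn := Int.emod_nonneg (P.ord z) hppos.ne'
  have hmodlt := Int.emod_lt_of_pos (P.ord z) hppos
  have hq : m₀ ≤ P.ord z / p + 1 := by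
    by_contra h
    rw [not_le] at h
    have h3 : (p:ℤ) * (P.ord z / p + 2) ≤ p * m₀ :=
      mul_le_mul_of_nonneg_left (by omega) hppos.le
    rw [mul_add] at h3
    omega
  have hzq := hstep (P.ord z / p + 1) hq (by rw [add_sub_cancel_right]; omega)
  have hb2 := Sm_bound P p _ hzq
  rw [hvz, exp_le_exp, mul_add, mul_one] at hb2
  omega

theorem s11030 (hK : IsFunctionField k K) (hg : IsGeometric k K) (P : Place k K)
    [Algebra.IsSeparable k (IsLocalRing.ResidueField P.O)] (t : K)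
    (ht : P.1 t = exp (-1)) : KaehlerDifferential.D k K t ≠ 0 := by
  intro hD
  have ht0 : t ≠ 0 := by
    rintro rfl
    rw [map_zero] at ht
    exact exp_ne_zero ht.symm
  have hord : P.ord t = 1 := by unfold Place.ord; rw [ht, log_exp]; ring
  obtain ⟨p, hp⟩ := CharP.exists K
  rcases CharP.char_is_prime_or_zero K p with hpp | hp0
  · haveI : Fact p.Prime := ⟨hpp⟩
    have hmem : t ∈ Kae2.Fp k K p := ((Kae2.s11002 k K p hK hg t).1).2 hD
    have h0 := ord_dvd hK P p hmem ht0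
    rw [hord] at h0
    have h1 : (p:ℤ) = 1 := Int.eq_one_of_dvd_one (by positivity) h0
    have h2 : p = 1 := by exact_mod_cast h1
    exact hpp.one_lt.ne' h2
  · subst hp0
    haveI : CharZero K := CharP.charP_to_charZero K
    have htr : Transcendental k t := by
      intro halg
      obtain ⟨c, rfl⟩ := hK.2 t halg
      have hc : c ≠ 0 := by
        rintro rfl
        exact ht0 (map_zero _)
      rw [val_algebraMap P hc] at ht
      have h3 : (0 : ℤ) = -1 := exp_injective (by rw [exp_zero]; exact ht)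
      omega
    haveI := finite_of_transcendental hK htr
    haveI : CharZero (IntermediateField.adjoin k ({t} : Set K)) :=
      (algebraMap (IntermediateField.adjoin k ({t} : Set K)) K).charZero
    haveI : Algebra.IsSeparable (IntermediateField.adjoin k ({t} : Set K)) K := inferInstance
    have hai : AlgebraicIndependent k (fun _ : Unit => t) :=
      algebraicIndependent_unique_type_iff.2 htr
    haveI : Algebra.IsSeparable (IntermediateField.adjoin k (Set.range (fun _ : Unit => t))) K := by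
      rw [Set.range_const]; infer_instance
    obtain ⟨b, hb⟩ := Kae.exists_basis_of_separating (fun _ : Unit => t) hai
    have h3 := b.ne_zero ()
    rw [hb ()] at h3
    exact h3 hD

end Groth.Agent.Lib.lead.SepPl
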