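import Mathlib

/-!
Helper library (lead): coefficients of the Todd-type series
`B(-dx)⁻¹ B(-dpx) B(x)^(n+1) e^{(dp+c)x}`.
-/

open PowerSeries

namespace Groth.Agent.LeadTodd

local notation "Bp" => bernoulli'PowerSeries ℚ
local notation "Ex" => PowerSeries.exp ℚ

lemma coeff_Bp (k : ℕ) : coeff k Bp = bernoulli' k / (k.factorial : ℚ) := by
  rw [bernoulli'PowerSeries, coeff_mk]
  simp

lemma constantCoeff_Bp : constantCoeff Bp = 1 := by
  rw [← coeff_zero_eq_constantCoeff_apply, coeff_Bp]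
  simp

lemma coeff_rescale_exp (c : ℚ) (k : ℕ) :
    coeff k (rescale c Ex) = c ^ k / (k.factorial : ℚ) := by
  rw [coeff_rescale, coeff_exp]
  simp only [Algebra.algebraMap_self, RingHom.id_apply]
  ring

lemma cc_rescale (a : ℚ) (f : ℚ⟦X⟧) : constantCoeff (rescale a f) = constantCoeff f := by
  rw [← coeff_zero_eq_constantCoeff_apply, coeff_rescale]
  simp

lemma bps_eq : bernoulliPowerSeries ℚ = rescale (-1 : ℚ) Bp := by
  ext n
  rw [coeff_rescale, coeff_Bp, bernoulliPowerSeries, coeff_mk, bernoulli]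
  simp only [Algebra.algebraMap_self, RingHom.id_apply]
  ring

lemma neg_mul_exp : rescale (-1 : ℚ) Bp * Ex = Bp := by
  have h1 := bernoulli'PowerSeries_mul_exp_sub_one ℚ
  have h2 := bernoulliPowerSeries_mul_exp_sub_one ℚ
  rw [bps_eq] at h2
  have hne : (Ex - 1 : ℚ⟦X⟧) ≠ 0 := by
    intro h
    have h3 := congrArg (coeff 1) h
    rw [map_sub, coeff_exp, coeff_one] at h3
    simp at h3
  have h4 : (rescale (-1 : ℚ) Bp * Ex - Bp) * (Ex - 1) = 0 := by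
    calc (rescale (-1 : ℚ) Bp * Ex - Bp) * (Ex - 1)
        = (rescale (-1 : ℚ) Bp * (Ex - 1)) * Ex - Bp * (Ex - 1) := by ring
      _ = X * Ex - X * Ex := by rw [h2, h1]
      _ = 0 := sub_self _
  rcases mul_eq_zero.mp h4 with h | h
  · exact sub_eq_zero.mp h
  · exact absurd h hne

lemma rescale_neg_mul_exp (u : ℚ) : rescale (-u) Bp * rescale u Ex = rescale u Bp := by
  have h : rescale u (rescale (-1 : ℚ) Bp * Ex) = rescale u Bp := by rw [neg_mul_exp]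
  rw [map_mul, rescale_rescale, neg_one_mul] at h
  exact h

/-- The `p`-independent factor. -/
noncomputable def H (n d : ℕ) (c : ℚ) : ℚ⟦X⟧ :=
  (rescale (-(d : ℚ)) Bp)⁻¹ * Bp ^ (n + 1) * rescale c Ex

lemma main_eq (n d p : ℕ) (c : ℚ) :
    (rescale (-(d : ℚ)) Bp)⁻¹ * rescale (-((d : ℚ) * p)) Bp * Bp ^ (n + 1) *
      rescale ((d : ℚ) * p + c) Ex = rescale ((d : ℚ) * p) Bp * H n d c := by
  rw [← exp_mul_exp_eq_exp_add, ← rescale_neg_mul_exp ((d : ℚ) * p), H]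
  ring

lemma coeff_main (n : ℕ) (u : ℚ) (F : ℚ⟦X⟧) :
    coeff n (rescale u Bp * F) =
      ∑ k ∈ Finset.range (n + 1),
        bernoulli' k / (k.factorial : ℚ) * u ^ k * coeff (n - k) F := by
  rw [coeff_mul, Finset.Nat.sum_antidiagonal_eq_sum_range_succ_mk]
  apply Finset.sum_congr rfl
  intro k _
  show coeff k (rescale u Bp) * coeff (n - k) F = _
  rw [coeff_rescale, coeff_Bp]
  ring

lemma coeff_one_inv_of (g : ℚ⟦X⟧) (hg : constantCoeff g = 1) :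
    coeff 1 g⁻¹ = - coeff 1 g := by
  have h1 : g * g⁻¹ = 1 := PowerSeries.mul_inv_cancel g (by rw [hg]; exact one_ne_zero)
  have h2 := congrArg (coeff 1) h1
  rw [coeff_one_mul, constantCoeff_inv, hg] at h2
  simp at h2
  linarith

lemma H_coeff_zero (n d : ℕ) (c : ℚ) : coeff 0 (H n d c) = 1 := by
  rw [coeff_zero_eq_constantCoeff_apply, H, map_mul, map_mul, map_pow, constantCoeff_inv,
    cc_rescale, cc_rescale, constantCoeff_Bp, constantCoeff_exp]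
  simp

lemma H_coeff_one (n d : ℕ) (c : ℚ) :
    coeff 1 (H n d c) = (d : ℚ) / 2 + ((n : ℚ) + 1) / 2 + c := by
  have hg0 : constantCoeff (rescale (-(d : ℚ)) Bp) = 1 := by rw [cc_rescale, constantCoeff_Bp]
  have hB1 : coeff 1 Bp = 1 / 2 := by rw [coeff_Bp]; simp
  have hE1 : coeff 1 (rescale c Ex) = c := by rw [coeff_rescale_exp]; simp
  rw [H, coeff_one_mul, coeff_one_mul, coeff_one_pow, coeff_one_inv_of _ hg0, hE1,
    coeff_rescale, hB1]
  simp only [map_mul, map_pow, constantCoeff_inv, hg0, cc_rescale, constantCoeff_Bp,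
    constantCoeff_exp, one_pow, inv_one, mul_one]
  push_cast
  ring

/-- The coefficient is a polynomial in `p` with the two stated top terms. -/
theorem todd_poly (n d : ℕ) (s : ℤ) (hn : 2 ≤ n) :
    ∃ P : Polynomial ℚ, P.natDegree ≤ n - 2 ∧ ∀ p : ℕ,
      coeff n ((rescale (-(d : ℚ)) Bp)⁻¹ * rescale (-((d : ℚ) * p)) Bp * Bp ^ (n + 1) *
        rescale ((d : ℚ) * p - d - n - 1 + s) Ex) =
      bernoulli' n * ((d : ℚ) * p) ^ n / (Nat.factorial n : ℚ) +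
        (2 * (s : ℚ) - d - n - 1) / 2 * bernoulli' (n - 1) * ((d : ℚ) * p) ^ (n - 1) /
          (Nat.factorial (n - 1) : ℚ) + P.eval (p : ℚ) := by
  obtain ⟨m, rfl⟩ : ∃ m, n = m + 2 := ⟨n - 2, by omega⟩
  obtain ⟨c, hc⟩ : ∃ c : ℚ, c = -(d : ℚ) - ((m + 2 : ℕ) : ℚ) - 1 + s := ⟨_, rfl⟩
  refine ⟨∑ k ∈ Finset.range (m + 1),
    Polynomial.C (bernoulli' k / (k.factorial : ℚ) * (d : ℚ) ^ k *
      coeff (m + 2 - k) (H (m + 2) d c)) * Polynomial.X ^ k, ?_, ?_⟩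
  · apply Polynomial.natDegree_sum_le_of_forall_le
    intro k hk
    have hk' := Finset.mem_range.mp hk
    exact (Polynomial.natDegree_C_mul_X_pow_le _ _).trans (by omega)
  · intro p
    have e : (d : ℚ) * p - d - ((m + 2 : ℕ) : ℚ) - 1 + s = (d : ℚ) * p + c := by rw [hc]; ring
    rw [e, main_eq, coeff_main, Finset.sum_range_succ, Finset.sum_range_succ]
    rw [Polynomial.eval_finsetSum]
    simp only [Polynomial.eval_mul, Polynomial.eval_C, Polynomial.eval_pow, Polynomial.eval_X]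
    have h0 : m + 2 - (m + 2) = 0 := Nat.sub_self _
    have h1 : m + 2 - (m + 1) = 1 := by omega
    have h2 : m + 2 - 1 = m + 1 := rfl
    have hsum : ∑ k ∈ Finset.range (m + 1), bernoulli' k / (k.factorial : ℚ) *
        ((d : ℚ) * p) ^ k * coeff (m + 2 - k) (H (m + 2) d c) =
        ∑ k ∈ Finset.range (m + 1), bernoulli' k / (k.factorial : ℚ) * (d : ℚ) ^ k *
          coeff (m + 2 - k) (H (m + 2) d c) * (p : ℚ) ^ k := by
      apply Finset.sum_congr rfl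
      intro k _
      rw [mul_pow]; ring
    rw [hsum]
    try simp only [h0, h1, h2]
    rw [H_coeff_zero, H_coeff_one, hc]
    push_cast
    ring

lemma exists_nat_eval_neg (Q : Polynomial ℚ) (hdeg : 0 < Q.degree) (hlc : Q.leadingCoeff ≤ 0) :
    ∃ N : ℕ, ∀ p : ℕ, N ≤ p → Q.eval (p : ℚ) < 0 := by
  have h := Q.tendsto_atBot_of_leadingCoeff_nonpos hdeg hlc
  have h2 := (Filter.tendsto_atBot.mp h) (-1)
  obtain ⟨x₀, hx₀⟩ := Filter.eventually_atTop.mp h2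
  refine ⟨⌈x₀⌉₊, fun p hp => ?_⟩
  have h3 : x₀ ≤ (p : ℚ) := (Nat.le_ceil x₀).trans (by exact_mod_cast hp)
  have h4 := hx₀ p h3
  linarith

lemma lead_aux (a : ℚ) (k : ℕ) (R : Polynomial ℚ) (ha : a ≠ 0) (hR : R.degree < k) :
    (Polynomial.C a * Polynomial.X ^ k + R).degree = (k : WithBot ℕ) ∧
      (Polynomial.C a * Polynomial.X ^ k + R).leadingCoeff = a := by
  have hd : (Polynomial.C a * Polynomial.X ^ k).degree = (k : WithBot ℕ) :=
    Polynomial.degree_C_mul_X_pow k ha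
  have hlt : R.degree < (Polynomial.C a * Polynomial.X ^ k).degree := by rw [hd]; exact hR
  exact ⟨by rw [Polynomial.degree_add_eq_left_of_degree_lt hlt, hd],
    by rw [Polynomial.leadingCoeff_add_of_degree_lt' hlt, Polynomial.leadingCoeff_C_mul_X_pow]⟩

lemma eventually_neg_of (a b : ℚ) (m : ℕ) (P : Polynomial ℚ) (hP : P.natDegree ≤ m)
    (h : a < 0 ∨ (a = 0 ∧ b < 0)) :
    ∃ N : ℕ, ∀ p : ℕ, N ≤ p →
      a * (p : ℚ) ^ (m + 2) + b * (p : ℚ) ^ (m + 1) + P.eval (p : ℚ) < 0 := by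
  have hPdeg : P.degree ≤ (m : WithBot ℕ) := Polynomial.natDegree_le_iff_degree_le.mp hP
  rcases h with ha | ⟨ha, hb⟩
  · have hR : (Polynomial.C b * Polynomial.X ^ (m + 1) + P).degree < ((m + 2 : ℕ) : WithBot ℕ) := by
      refine lt_of_le_of_lt (Polynomial.degree_add_le _ _) ?_
      rw [max_lt_iff]
      constructor
      · exact lt_of_le_of_lt (Polynomial.degree_C_mul_X_pow_le _ _)
          (by exact_mod_cast (by omega : m + 1 < m + 2))
      · exact lt_of_le_of_lt hPdeg (by exact_mod_cast (by omega : m < m + 2))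
    obtain ⟨h1, h2⟩ := lead_aux a (m + 2) _ ha.ne hR
    obtain ⟨N, hN⟩ := exists_nat_eval_neg _
      (by rw [h1]; exact_mod_cast (by omega : 0 < m + 2)) (by rw [h2]; exact ha.le)
    refine ⟨N, fun p hp => ?_⟩
    have h3 := hN p hp
    simp only [Polynomial.eval_add, Polynomial.eval_mul, Polynomial.eval_C, Polynomial.eval_pow,
      Polynomial.eval_X] at h3
    linarith
  · subst ha
    have hR : P.degree < ((m + 1 : ℕ) : WithBot ℕ) :=
      lt_of_le_of_lt hPdeg (by exact_mod_cast (by omega : m < m + 1))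
    obtain ⟨h1, h2⟩ := lead_aux b (m + 1) P hb.ne hR
    obtain ⟨N, hN⟩ := exists_nat_eval_neg _
      (by rw [h1]; exact_mod_cast (by omega : 0 < m + 1)) (by rw [h2]; exact hb.le)
    refine ⟨N, fun p hp => ?_⟩
    have h3 := hN p hp
    simp only [Polynomial.eval_add, Polynomial.eval_mul, Polynomial.eval_C, Polynomial.eval_pow,
      Polynomial.eval_X] at h3
    linarith

lemma bernoulli_sign (k : ℕ) (hk : k ≠ 0) : 0 < (-1 : ℚ) ^ (k + 1) * bernoulli (2 * k) := by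
  have h := hasSum_zeta_nat hk
  have h1 : (1 : ℝ) ≤ (-1 : ℝ) ^ (k + 1) * (2 : ℝ) ^ (2 * k - 1) * Real.pi ^ (2 * k) *
      bernoulli (2 * k) / (2 * k).factorial := by
    have h0 := sum_le_hasSum {1} (fun i _ => by positivity) h
    simpa using h0
  have hpos : (0 : ℝ) < (2 : ℝ) ^ (2 * k - 1) * Real.pi ^ (2 * k) / (2 * k).factorial := by
    positivity
  have h2 : (0 : ℝ) < ((-1 : ℝ) ^ (k + 1) * (bernoulli (2 * k) : ℝ)) := by
    by_contra hneg
    rw [not_lt] at hneg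
    have e : (-1 : ℝ) ^ (k + 1) * (2 : ℝ) ^ (2 * k - 1) * Real.pi ^ (2 * k) *
        bernoulli (2 * k) / (2 * k).factorial =
        ((-1 : ℝ) ^ (k + 1) * (bernoulli (2 * k) : ℝ)) *
          ((2 : ℝ) ^ (2 * k - 1) * Real.pi ^ (2 * k) / (2 * k).factorial) := by ring
    rw [e] at h1
    have h3 := mul_nonpos_of_nonpos_of_nonneg hneg hpos.le
    linarith
  exact_mod_cast h2

lemma bernoulli'_neg_of (j : ℕ) (hj : j ≠ 0) : bernoulli' (4 * j) < 0 := by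
  have h := bernoulli_sign (2 * j) (by omega)
  have e : 2 * (2 * j) = 4 * j := by ring
  rw [e, bernoulli_eq_bernoulli'_of_ne_one (by omega)] at h
  have hodd : (-1 : ℚ) ^ (2 * j + 1) = -1 := Odd.neg_one_pow ⟨j, rfl⟩
  rw [hodd] at h
  linarith

lemma bernoulli'_pos_of (j : ℕ) : 0 < bernoulli' (4 * j + 2) := by
  have h := bernoulli_sign (2 * j + 1) (by omega)
  have e : 2 * (2 * j + 1) = 4 * j + 2 := by ring
  rw [e, bernoulli_eq_bernoulli'_of_ne_one (by omega)] at h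
  have hev : (-1 : ℚ) ^ (2 * j + 1 + 1) = 1 := Even.neg_one_pow ⟨j + 1, by ring⟩
  rw [hev] at h
  linarith

theorem todd_eventually_neg (n d : ℕ) (s : ℤ) (hn : 2 ≤ n) (hd : 1 ≤ d)
    (hsign : bernoulli' n < 0 ∨ (bernoulli' n = 0 ∧
      (2 * (s : ℚ) - d - n - 1) / 2 * bernoulli' (n - 1) < 0)) :
    ∃ P : ℕ, ∀ p : ℕ, P ≤ p →
      coeff n ((rescale (-(d : ℚ)) Bp)⁻¹ * rescale (-((d : ℚ) * p)) Bp * Bp ^ (n + 1) *
        rescale ((d : ℚ) * p - d - n - 1 + s) Ex) < 0 := by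
  obtain ⟨P, hPdeg, hP⟩ := todd_poly n d s hn
  obtain ⟨m, rfl⟩ : ∃ m, n = m + 2 := ⟨n - 2, by omega⟩
  have hd0 : (0 : ℚ) < d := by exact_mod_cast hd
  have h2 : m + 2 - 1 = m + 1 := rfl
  have h3 : m + 2 - 2 = m := rfl
  rw [h3] at hPdeg
  obtain ⟨a, ha⟩ : ∃ a : ℚ, a = bernoulli' (m + 2) * (d : ℚ) ^ (m + 2) /
      ((m + 2).factorial : ℚ) := ⟨_, rfl⟩
  obtain ⟨b, hb⟩ : ∃ b : ℚ, b = (2 * (s : ℚ) - d - ((m + 2 : ℕ) : ℚ) - 1) / 2 *
      bernoulli' (m + 1) * (d : ℚ) ^ (m + 1) / ((m + 1).factorial : ℚ) := ⟨_, rfl⟩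
  have hf2 : (0 : ℚ) < ((m + 2).factorial : ℚ) := Nat.cast_pos.mpr (Nat.factorial_pos _)
  have hf1 : (0 : ℚ) < ((m + 1).factorial : ℚ) := Nat.cast_pos.mpr (Nat.factorial_pos _)
  have hab : a < 0 ∨ (a = 0 ∧ b < 0) := by
    rcases hsign with h | ⟨h0, h1⟩
    · left
      rw [ha]
      exact div_neg_of_neg_of_pos (mul_neg_of_neg_of_pos h (pow_pos hd0 _)) hf2
    · right
      constructor
      · rw [ha, h0, zero_mul, zero_div]
      · rw [h2] at h1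
        rw [hb]
        exact div_neg_of_neg_of_pos (mul_neg_of_neg_of_pos h1 (pow_pos hd0 _)) hf1
  obtain ⟨N, hN⟩ := eventually_neg_of a b m P hPdeg hab
  refine ⟨N, fun p hp => ?_⟩
  rw [hP p, h2]
  have h4 := hN p hp
  have e1 : bernoulli' (m + 2) * ((d : ℚ) * p) ^ (m + 2) / ((m + 2).factorial : ℚ) =
      a * (p : ℚ) ^ (m + 2) := by
    rw [ha, mul_pow]; ring
  have e2 : (2 * (s : ℚ) - d - ((m + 2 : ℕ) : ℚ) - 1) / 2 * bernoulli' (m + 1) *
      ((d : ℚ) * p) ^ (m + 1) / ((m + 1).factorial : ℚ) = b * (p : ℚ) ^ (m + 1) := by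
    rw [hb, mul_pow]; ring
  rw [e1, e2]
  exact h4

theorem todd_neg_01 (n d : ℕ) (s : ℤ) (hn : 2 ≤ n)
    (hmod : n % 4 = 0 ∨ n % 4 = 1) (hd : 1 ≤ d) (hs : (n : ℤ) + d + 1 < 2 * s) :
    ∃ P : ℕ, ∀ p : ℕ, P ≤ p →
      coeff n ((rescale (-(d : ℚ)) Bp)⁻¹ * rescale (-((d : ℚ) * p)) Bp * Bp ^ (n + 1) *
        rescale ((d : ℚ) * p - d - n - 1 + s) Ex) < 0 := by
  apply todd_eventually_neg n d s hn hd
  rcases hmod with h | h
  · left
    obtain ⟨j, rfl⟩ : ∃ j, n = 4 * j := ⟨n / 4, by omega⟩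
    exact bernoulli'_neg_of j (by omega)
  · right
    obtain ⟨j, rfl⟩ : ∃ j, n = 4 * j + 1 := ⟨n / 4, by omega⟩
    have hj : j ≠ 0 := by omega
    constructor
    · exact bernoulli'_eq_zero_of_odd ⟨2 * j, by ring⟩ (by omega)
    · have h1 : bernoulli' (4 * j + 1 - 1) < 0 := by
        rw [Nat.add_sub_cancel]; exact bernoulli'_neg_of j hj
      have h2 : (0 : ℚ) < (2 * (s : ℚ) - d - ((4 * j + 1 : ℕ) : ℚ) - 1) / 2 := by
        have h3 : (((4 * j + 1 : ℕ) : ℤ) : ℚ) + ((d : ℤ) : ℚ) + 1 < 2 * (s : ℚ) := by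
          exact_mod_cast hs
        push_cast at h3 ⊢
        linarith
      exact mul_neg_of_pos_of_neg h2 h1

theorem todd_neg_exists (n d : ℕ) (hn : 2 ≤ n) (hmod : n % 4 ≠ 2) (hd : 1 ≤ d) :
    ∃ s : ℤ, 1 ≤ s ∧ ∃ P : ℕ, ∀ p : ℕ, P ≤ p →
      coeff n ((rescale (-(d : ℚ)) Bp)⁻¹ * rescale (-((d : ℚ) * p)) Bp * Bp ^ (n + 1) *
        rescale ((d : ℚ) * p - d - n - 1 + s) Ex) < 0 := by
  have h4 : (n % 4 = 0 ∨ n % 4 = 1) ∨ n % 4 = 3 := by omega
  rcases h4 with h | h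
  · exact ⟨(n : ℤ) + d + 1, by omega, todd_neg_01 n d _ hn h hd (by omega)⟩
  · refine ⟨1, le_refl _, ?_⟩
    apply todd_eventually_neg n d 1 hn hd
    right
    obtain ⟨j, rfl⟩ : ∃ j, n = 4 * j + 3 := ⟨n / 4, by omega⟩
    constructor
    · exact bernoulli'_eq_zero_of_odd ⟨2 * j + 1, by ring⟩ (by omega)
    · have h1 : 0 < bernoulli' (4 * j + 3 - 1) := by
        have e : 4 * j + 3 - 1 = 4 * j + 2 := rfl
        rw [e]; exact bernoulli'_pos_of j
      have h2 : (2 * ((1 : ℤ) : ℚ) - d - ((4 * j + 3 : ℕ) : ℚ) - 1) / 2 < 0 := by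
        have hd' : (0 : ℚ) ≤ d := Nat.cast_nonneg d
        have hj' : (0 : ℚ) ≤ j := Nat.cast_nonneg j
        push_cast
        linarith
      exact mul_neg_of_neg_of_pos h2 h1

/-! ### The explicit cubic coefficient -/

lemma coeff_zero_mul' (f g : ℚ⟦X⟧) : coeff 0 (f * g) = coeff 0 f * coeff 0 g := by
  simp

lemma coeff_one_mul' (f g : ℚ⟦X⟧) :
    coeff 1 (f * g) = coeff 0 f * coeff 1 g + coeff 1 f * coeff 0 g := by
  rw [coeff_mul, Finset.Nat.sum_antidiagonal_eq_sum_range_succ_mk]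
  simp [Finset.sum_range_succ]

lemma coeff_two_mul (f g : ℚ⟦X⟧) :
    coeff 2 (f * g) = coeff 0 f * coeff 2 g + coeff 1 f * coeff 1 g + coeff 2 f * coeff 0 g := by
  rw [coeff_mul, Finset.Nat.sum_antidiagonal_eq_sum_range_succ_mk]
  simp [Finset.sum_range_succ]

lemma coeff_three_mul (f g : ℚ⟦X⟧) :
    coeff 3 (f * g) = coeff 0 f * coeff 3 g + coeff 1 f * coeff 2 g + coeff 2 f * coeff 1 g +
      coeff 3 f * coeff 0 g := by
  rw [coeff_mul, Finset.Nat.sum_antidiagonal_eq_sum_range_succ_mk]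
  simp [Finset.sum_range_succ]

/-- The 3-jet of a power series. -/
def J (f : ℚ⟦X⟧) (a0 a1 a2 a3 : ℚ) : Prop :=
  coeff 0 f = a0 ∧ coeff 1 f = a1 ∧ coeff 2 f = a2 ∧ coeff 3 f = a3

lemma J_mul {f g : ℚ⟦X⟧} {a0 a1 a2 a3 b0 b1 b2 b3 : ℚ}
    (hf : J f a0 a1 a2 a3) (hg : J g b0 b1 b2 b3) :
    J (f * g) (a0 * b0) (a0 * b1 + a1 * b0) (a0 * b2 + a1 * b1 + a2 * b0)
      (a0 * b3 + a1 * b2 + a2 * b1 + a3 * b0) := by
  obtain ⟨f0, f1, f2, f3⟩ := hf
  obtain ⟨g0, g1, g2, g3⟩ := hg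
  refine ⟨?_, ?_, ?_, ?_⟩
  · rw [coeff_zero_mul']; simp only [f0, g0]
  · rw [coeff_one_mul']; simp only [f0, f1, g0, g1]
  · rw [coeff_two_mul]; simp only [f0, f1, f2, g0, g1, g2]
  · rw [coeff_three_mul]; simp only [f0, f1, f2, f3, g0, g1, g2, g3]

lemma J_inv {f : ℚ⟦X⟧} {a1 a2 a3 : ℚ} (hf : J f 1 a1 a2 a3) :
    J f⁻¹ 1 (-a1) (a1 ^ 2 - a2) (-a1 ^ 3 + 2 * a1 * a2 - a3) := by
  obtain ⟨f0, f1, f2, f3⟩ := hf
  have hc : constantCoeff f = 1 := by rw [← coeff_zero_eq_constantCoeff_apply]; exact f0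
  have hmul : f * f⁻¹ = 1 := PowerSeries.mul_inv_cancel f (by rw [hc]; exact one_ne_zero)
  have i0 : coeff 0 f⁻¹ = 1 := by
    rw [coeff_zero_eq_constantCoeff_apply, constantCoeff_inv, hc, inv_one]
  have e1 := congrArg (coeff 1) hmul
  have e2 := congrArg (coeff 2) hmul
  have e3 := congrArg (coeff 3) hmul
  rw [coeff_one_mul', coeff_one, if_neg (by norm_num), f0, f1, i0] at e1
  rw [coeff_two_mul, coeff_one, if_neg (by norm_num), f0, f1, f2, i0] at e2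
  rw [coeff_three_mul, coeff_one, if_neg (by norm_num), f0, f1, f2, f3, i0] at e3
  have i1 : coeff 1 f⁻¹ = -a1 := by linear_combination e1
  have i2 : coeff 2 f⁻¹ = a1 ^ 2 - a2 := by linear_combination e2 - a1 * i1
  have i3 : coeff 3 f⁻¹ = -a1 ^ 3 + 2 * a1 * a2 - a3 := by
    linear_combination e3 - a1 * i2 - a2 * i1
  exact ⟨i0, i1, i2, i3⟩

lemma J_rescale {f : ℚ⟦X⟧} {a0 a1 a2 a3 : ℚ} (c : ℚ) (hf : J f a0 a1 a2 a3) :
    J (rescale c f) a0 (c * a1) (c ^ 2 * a2) (c ^ 3 * a3) := by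
  obtain ⟨f0, f1, f2, f3⟩ := hf
  refine ⟨?_, ?_, ?_, ?_⟩
  · rw [coeff_rescale, f0]; simp
  · rw [coeff_rescale, f1]; simp
  · rw [coeff_rescale, f2]
  · rw [coeff_rescale, f3]

lemma J_Bp : J Bp 1 (1 / 2) (1 / 12) 0 := by
  refine ⟨?_, ?_, ?_, ?_⟩
  · rw [coeff_Bp]; simp
  · rw [coeff_Bp]; simp
  · rw [coeff_Bp, bernoulli'_two]; norm_num [Nat.factorial]
  · rw [coeff_Bp, bernoulli'_three]; simp

lemma J_exp (c : ℚ) : J (rescale c Ex) 1 c (c ^ 2 / 2) (c ^ 3 / 6) := by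
  refine ⟨?_, ?_, ?_, ?_⟩
  · rw [coeff_rescale_exp]; simp
  · rw [coeff_rescale_exp]; simp
  · rw [coeff_rescale_exp]; norm_num [Nat.factorial]
  · rw [coeff_rescale_exp]; norm_num [Nat.factorial]

theorem todd3 (d p : ℕ) :
    coeff 3 ((rescale (-(d : ℚ)) Bp)⁻¹ * rescale (-((d : ℚ) * p)) Bp * Bp ^ (4) *
      rescale ((d : ℚ) * p - d - 3) Ex) =
      -((d : ℚ) * (d + 2) * (p - 1) * (d * p - d - 2)) / 24 := by
  have hmain := main_eq 3 d p (-(d : ℚ) - 3)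
  rw [show (d : ℚ) * p + (-(d : ℚ) - 3) = (d : ℚ) * p - d - 3 by ring] at hmain
  have hmain' : (rescale (-(d : ℚ)) Bp)⁻¹ * rescale (-((d : ℚ) * p)) Bp * Bp ^ (4) *
      rescale ((d : ℚ) * p - d - 3) Ex =
      rescale ((d : ℚ) * p) Bp * H 3 d (-(d : ℚ) - 3) := hmain
  have e : H 3 d (-(d : ℚ) - 3) = (rescale (-(d : ℚ)) Bp)⁻¹ * ((Bp * Bp) * (Bp * Bp)) *
      rescale (-(d : ℚ) - 3) Ex := by
    rw [H]; ring
  rw [hmain', e]
  have hB := J_Bp
  have hG := J_rescale (-(d : ℚ)) hB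
  have hI := J_inv hG
  have hB2 := J_mul hB hB
  have hB4 := J_mul hB2 hB2
  have hE := J_exp (-(d : ℚ) - 3)
  have hU := J_rescale ((d : ℚ) * p) hB
  have hT := (J_mul hU (J_mul (J_mul hI hB4) hE)).2.2.2
  refine hT.trans ?_
  ring

end Groth.Agent.LeadTodd
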