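import Mathlib
import Groth.Agent.Lib.lead.Cono
import Groth.Agent.Lib.lead.IntCl
import Groth.Agent.Lib.lead.NSing

/-! Nonsingularity of a place in a tower of constant field extensions. -/

namespace Groth.Agent.Lib.lead.Tow
open FunFld Module TensorProduct Groth.Agent.Lib.lead.FF Groth.Agent.Lib.lead.FF2
  Groth.Agent.Lib.lead.FF3 Groth.Agent.Lib.lead.FF4
  Groth.Agent.Lib.lead.FF5 Groth.Agent.Lib.lead.FF6 Groth.Agent.Lib.lead.FF7
  Groth.Agent.Lib.lead.FF8 Groth.Agent.Lib.lead.Ext Groth.Agent.Lib.lead.Ext3
  Groth.Agent.Lib.lead.Cono Groth.Agent.Lib.lead.IntCl Groth.Agent.Lib.lead.NSing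

section Gen
variable {A : Type*} [CommRing A]

lemma isIntegral_mono {S T : Subring A} (h : S ≤ T) {z : A} (hz : IsIntegral S z) :
    IsIntegral T z := by
  obtain ⟨p, hp, hpz⟩ := hz
  refine ⟨p.map (Subring.inclusion h), hp.map _, ?_⟩
  rw [Polynomial.eval₂_map]
  have e : (algebraMap T A).comp (Subring.inclusion h) = algebraMap S A :=
    RingHom.ext fun x => rfl
  rw [e]
  exact hpz

lemma adjoin_mono' {S T : Subring A} (h : S ≤ T) (s : Set A) {x : A}
    (hx : x ∈ Algebra.adjoin S s) : x ∈ Algebra.adjoin T s := by
  induction hx using Algebra.adjoin_induction with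
  | mem y hy => exact Algebra.subset_adjoin hy
  | algebraMap r => exact (Algebra.adjoin T s).algebraMap_mem (⟨r.1, h r.2⟩ : T)
  | add y z _ _ hy hz => exact add_mem hy hz
  | mul y z _ _ hy hz => exact mul_mem hy hz

lemma isIntegral_const {k k' : Type*} [Field k] [Field k'] [Algebra k k'] [FiniteDimensional k k']
    [Algebra k A] [Algebra k' A] [IsScalarTower k k' A] (S : Subring A)
    (hkS : ∀ c : k, algebraMap k A c ∈ S) (c : k') : IsIntegral S (algebraMap k' A c) := by
  obtain ⟨p, hp, hpc⟩ := Algebra.IsIntegral.isIntegral (R := k) c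
  refine ⟨p.map ((algebraMap k A).codRestrict S hkS), hp.map _, ?_⟩
  rw [Polynomial.eval₂_map]
  have e : (algebraMap S A).comp ((algebraMap k A).codRestrict S hkS) = algebraMap k A :=
    RingHom.ext fun x => rfl
  rw [e]
  have := congrArg (algebraMap k' A) hpc
  rw [Polynomial.hom_eval₂, map_zero, ← IsScalarTower.algebraMap_eq] at this
  exact this

lemma adjoin_le_ic {k k' : Type*} [Field k] [Field k'] [Algebra k k'] [FiniteDimensional k k']
    [Algebra k A] [Algebra k' A] [IsScalarTower k k' A] (S : Subring A)
    (hkS : ∀ c : k, algebraMap k A c ∈ S) :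
    Algebra.adjoin S (Set.range (algebraMap k' A)) ≤ integralClosure S A := by
  apply Algebra.adjoin_le
  rintro _ ⟨c, rfl⟩
  exact isIntegral_const S hkS c

end Gen

section Coord
variable {k k' K K' : Type*} [Field k] [Field k'] [Field K] [Field K']
    [Algebra k k'] [Algebra k K] [Algebra K K'] [Algebra k' K'] [Algebra k K']
    [IsScalarTower k k' K'] [IsScalarTower k K K']
    {ι : Type*} [Fintype ι] [DecidableEq ι]
    (h : Function.Bijective (Algebra.TensorProduct.productMap
      (IsScalarTower.toAlgHom k k' K') (IsScalarTower.toAlgHom k K K')))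
    (α : Basis ι k k')

include h in
lemma li : LinearIndependent K (fun i => algebraMap k' K' (α i)) := by
  rw [Fintype.linearIndependent_iff]
  intro x hx i
  have hT : (∑ j, α j ⊗ₜ[k] x j : k' ⊗[k] K) = 0 := by
    apply h.1
    rw [map_zero, map_sum, ← hx]
    refine Finset.sum_congr rfl (fun j _ => ?_)
    rw [Algebra.TensorProduct.productMap_apply_tmul, Algebra.smul_def, mul_comm]
    rfl
  have h2 := congrArg (fun T => TensorProduct.equivFinsuppOfBasisLeft α T i) hT
  simp only [map_sum, map_zero, Finsupp.coe_finset_sum, Finset.sum_apply, Finsupp.coe_zero,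
    Pi.zero_apply, TensorProduct.equivFinsuppOfBasisLeft_apply_tmul_apply, Basis.repr_self,
    Finsupp.single_apply] at h2
  simpa using h2

include h in
lemma span_top : ⊤ ≤ Submodule.span K (Set.range fun i => algebraMap k' K' (α i)) := by
  intro y hy
  clear hy
  obtain ⟨t, rfl⟩ := h.2 y
  induction t using TensorProduct.induction_on with
  | zero => rw [map_zero]; exact zero_mem _
  | tmul a z =>
    rw [Algebra.TensorProduct.productMap_apply_tmul]
    show algebraMap k' K' a * algebraMap K K' z ∈ _
    have ha : a = ∑ i, α.repr a i • α i := (α.sum_repr a).symm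
    rw [ha, map_sum, Finset.sum_mul]
    refine Submodule.sum_mem _ (fun i _ => ?_)
    rw [Algebra.smul_def, map_mul, ← IsScalarTower.algebraMap_apply k k' K',
      IsScalarTower.algebraMap_apply k K K', mul_right_comm, ← map_mul, ← Algebra.smul_def]
    exact Submodule.smul_mem _ _ (Submodule.subset_span ⟨i, rfl⟩)
  | add t₁ t₂ h₁ h₂ => rw [map_add]; exact add_mem h₁ h₂

/-- the `K`-basis of `K'` coming from a `k`-basis of `k'` -/
noncomputable def bas : Basis ι K K' := Basis.mk (li h α) (span_top h α)

lemma bas_apply (i : ι) : bas h α i = algebraMap k' K' (α i) := by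
  simp [bas]

lemma repr_const (c : k') (i : ι) :
    (bas h α).repr (algebraMap k' K' c) i = algebraMap k K (α.repr c i) := by
  have e : algebraMap k' K' c = ∑ j, (algebraMap k K (α.repr c j)) • (bas h α) j := by
    conv_lhs => rw [← α.sum_repr c]
    rw [map_sum]
    refine Finset.sum_congr rfl (fun j _ => ?_)
    rw [bas_apply, Algebra.smul_def (α.repr c j) (α j), map_mul,
      ← IsScalarTower.algebraMap_apply k k' K', IsScalarTower.algebraMap_apply k K K',
      ← Algebra.smul_def]
  rw [e, Basis.repr_sum_self]

theorem coord_iff (O : Subalgebra k K) (S : Subring K')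
    (hS : ∀ y, y ∈ S ↔ ∃ o ∈ O, algebraMap K K' o = y) (z : K') :
    z ∈ Algebra.adjoin S (Set.range (algebraMap k' K')) ↔ ∀ i, (bas h α).repr z i ∈ O := by
  constructor
  · intro hz
    have key : ∀ z ∈ Submodule.span S
        (Submonoid.closure (Set.range (algebraMap k' K')) : Set K'),
        ∀ i, (bas h α).repr z i ∈ O := by
      intro z hz
      induction hz using Submodule.span_induction with
      | mem x hx =>
        have hx' : ∃ c, algebraMap k' K' c = x := by
          induction hx using Submonoid.closure_induction with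
          | mem y hy => exact hy
          | one => exact ⟨1, map_one _⟩
          | mul y y' _ _ hy hy' =>
            obtain ⟨c, rfl⟩ := hy
            obtain ⟨c', rfl⟩ := hy'
            exact ⟨c * c', map_mul _ _ _⟩
        obtain ⟨c, rfl⟩ := hx'
        intro i
        rw [repr_const]
        exact O.algebraMap_mem _
      | zero =>
        intro i
        rw [map_zero]
        exact O.zero_mem
      | add x y _ _ hx hy =>
        intro i
        rw [map_add, Finsupp.add_apply]
        exact O.add_mem (hx i) (hy i)
      | smul s x _ hx =>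
        intro i
        obtain ⟨o, ho, hos⟩ := (hS _).1 s.2
        have e : s • x = o • x := by
          rw [Algebra.smul_def o x, hos]
          rfl
        rw [e, map_smul, Finsupp.smul_apply, smul_eq_mul]
        exact O.mul_mem ho (hx i)
    have hz' : z ∈ Subalgebra.toSubmodule (Algebra.adjoin S (Set.range (algebraMap k' K'))) := hz
    rw [Algebra.adjoin_eq_span] at hz'
    exact key z hz'
  · intro hz
    rw [← (bas h α).sum_repr z]
    refine sum_mem (fun i _ => ?_)
    rw [Algebra.smul_def, bas_apply]
    apply mul_mem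
    · exact (Algebra.adjoin S _).algebraMap_mem
        (⟨algebraMap K K' ((bas h α).repr z i), (hS _).2 ⟨_, hz i, rfl⟩⟩ : S)
    · exact Algebra.subset_adjoin ⟨α i, rfl⟩

end Coord

section Pl
variable {k K K' : Type*} [Field k] [Field K] [Field K'] [Algebra k K] [Algebra K K']
  [Algebra k K'] [IsScalarTower k K K']

theorem isIntegral_sub_of_forall (hK : IsFunctionField k K) [FiniteDimensional K K']
    (P : Place k K) (y : K') (hy : ∀ Q : Place k K', IsOver Q P → Q.1 y ≤ 1) :
    IsIntegral (P.O.toSubring.map (algebraMap K K')) y := by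
  letI : Algebra P.O K' := ((algebraMap K K').comp P.O.subtype).toAlgebra
  haveI : IsScalarTower P.O K K' := IsScalarTower.of_algebraMap_eq (fun x => rfl)
  obtain ⟨p, hp, hpy⟩ := isIntegral_of_forall hK P y hy
  let φ : P.O →+* (P.O.toSubring.map (algebraMap K K')) :=
    ((algebraMap K K').comp P.O.subtype).codRestrict _
      (fun x => Subring.mem_map.2 ⟨x.1, x.2, rfl⟩)
  refine ⟨p.map φ, hp.map _, ?_⟩
  rw [Polynomial.eval₂_map]
  have e : (algebraMap (P.O.toSubring.map (algebraMap K K')) K').comp φ = algebraMap P.O K' :=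
    RingHom.ext fun x => rfl
  rw [e]
  exact hpy

section OQ
variable {k' : Type*} [Field k'] [Algebra k k'] [FiniteDimensional k k'] [Algebra k' K']
  [IsScalarTower k k' K']

/-- the valuation ring of a place of `K'/k` as a `k'`-subalgebra -/
def OQ (Q : Place k K') : Subalgebra k' K' :=
  { toSubsemiring := Q.O.toSubring.toSubsemiring
    algebraMap_mem' := fun c => by
      have hint : IsIntegral k (algebraMap k' K' c) :=
        (Algebra.IsIntegral.isIntegral (R := k) c).map (IsScalarTower.toAlgHom k k' K')
      exact val_le_one_of_root (K := k) Q.1 (fun a => Q.2.1 a) hint }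

lemma mem_OQ (Q : Place k K') (x : K') : x ∈ OQ (k' := k') Q ↔ Q.1 x ≤ 1 := Iff.rfl

end OQ

end Pl

section Tower
variable {k K K' K'' : Type*} [Field k] [Field K] [Field K'] [Field K'']
    [Algebra k K] [Algebra k K'] [Algebra k K''] [Algebra K K'] [Algebra K' K''] [Algebra K K'']
    [IsScalarTower k K K'] [IsScalarTower k K' K''] [IsScalarTower k K K'']
    [IsScalarTower K K' K'']

lemma le_SQ {P : Place k K} {Q : Place k K'} (hQ : IsOver Q P) :
    P.O.toSubring.map (algebraMap K K'') ≤ Q.O.toSubring.map (algebraMap K' K'') := by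
  obtain ⟨e, he⟩ := hQ
  intro y hy
  obtain ⟨o, ho, rfl⟩ := Subring.mem_map.1 hy
  refine Subring.mem_map.2 ⟨algebraMap K K' o, ?_,
    (IsScalarTower.algebraMap_apply K K' K'' o).symm⟩
  exact (isOverWith_le_one_iff he o).2 ho

lemma isIntegral_up (P : Place k K) {z : K'}
    (hz : IsIntegral (P.O.toSubring.map (algebraMap K K')) z) :
    IsIntegral (P.O.toSubring.map (algebraMap K K'')) (algebraMap K' K'' z) := by
  obtain ⟨p, hp, hpz⟩ := hz
  let φ : (P.O.toSubring.map (algebraMap K K')) →+* (P.O.toSubring.map (algebraMap K K'')) :=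
    ((algebraMap K' K'').comp (Subring.subtype _)).codRestrict _ (fun x => by
      obtain ⟨o, ho, hox⟩ := Subring.mem_map.1 x.2
      refine Subring.mem_map.2 ⟨o, ho, ?_⟩
      rw [IsScalarTower.algebraMap_apply K K' K'', hox]
      rfl)
  refine ⟨p.map φ, hp.map _, ?_⟩
  rw [Polynomial.eval₂_map]
  have e : (algebraMap (P.O.toSubring.map (algebraMap K K'')) K'').comp φ =
      (algebraMap K' K'').comp (algebraMap (P.O.toSubring.map (algebraMap K K')) K') :=
    RingHom.ext fun x => rfl
  rw [e, ← Polynomial.hom_eval₂, hpz, map_zero]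

lemma isOver_restrict (hK : IsFunctionField k K) [FiniteDimensional K K'] {P : Place k K}
    {Q' : Place k K'} {R : Place k K''} (hR : IsOver R P) {e : ℕ} (he : IsOverWith R Q' e) :
    IsOver Q' P := by
  obtain ⟨P', e', he'⟩ := exists_restrict hK Q'
  have h1 : IsOver R P' := ⟨e' * e, fun x => by
    rw [IsScalarTower.algebraMap_apply K K' K'', he, he' x, ← pow_mul]⟩
  have := isOver_unique hR h1
  rw [this]
  exact ⟨e', he'⟩

section Tr
variable {k' k'' : Type*} [Field k'] [Field k''] [Algebra k' k''] [Algebra k' K']
  [Algebra k'' K''] [Algebra k' K''] [IsScalarTower k' k'' K''] [IsScalarTower k' K' K'']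

lemma transfer (P : Place k K) {y : K'}
    (hy : y ∈ Algebra.adjoin (P.O.toSubring.map (algebraMap K K'))
      (Set.range (algebraMap k' K'))) :
    algebraMap K' K'' y ∈ Algebra.adjoin (P.O.toSubring.map (algebraMap K K''))
      (Set.range (algebraMap k'' K'')) := by
  induction hy using Algebra.adjoin_induction with
  | mem x hx =>
    obtain ⟨c, rfl⟩ := hx
    apply Algebra.subset_adjoin
    refine ⟨algebraMap k' k'' c, ?_⟩
    rw [← IsScalarTower.algebraMap_apply k' k'' K'', IsScalarTower.algebraMap_apply k' K' K'']
  | algebraMap r =>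
    obtain ⟨o, ho, hor⟩ := Subring.mem_map.1 r.2
    have e : algebraMap K' K'' (algebraMap (P.O.toSubring.map (algebraMap K K')) K' r) =
        algebraMap K K'' o := by
      rw [IsScalarTower.algebraMap_apply K K' K'', hor]
      rfl
    rw [e]
    exact (Algebra.adjoin _ _).algebraMap_mem
      (⟨algebraMap K K'' o, Subring.mem_map.2 ⟨o, ho, rfl⟩⟩ :
        P.O.toSubring.map (algebraMap K K''))
  | add x y _ _ hx hy => rw [map_add]; exact add_mem hx hy
  | mul x y _ _ hx hy => rw [map_mul]; exact mul_mem hx hy

end Tr

end Tower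

section Final
universe u v

set_option maxHeartbeats 1600000 in
theorem s12534 (k k' k'' : Type u) (K K' K'' : Type v) [Field k] [Field k'] [Field k''] [Field K]
    [Field K'] [Field K'']
    [Algebra k k'] [Algebra k' k''] [Algebra k k''] [IsScalarTower k k' k'']
    [FiniteDimensional k k'] [FiniteDimensional k' k'']
    [Algebra k K] [Algebra K K'] [Algebra k' K'] [Algebra k K'] [IsScalarTower k k' K']
    [IsScalarTower k K K']
    [Algebra K' K''] [Algebra k'' K''] [Algebra k' K''] [Algebra k K''] [Algebra K K'']
    [IsScalarTower k' k'' K''] [IsScalarTower k' K' K''] [IsScalarTower K K' K'']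
    [IsScalarTower k K K'']
    (h1 : Function.Bijective (Algebra.TensorProduct.productMap
      (IsScalarTower.toAlgHom k k' K') (IsScalarTower.toAlgHom k K K')))
    (h2 : Function.Bijective (Algebra.TensorProduct.productMap
      (IsScalarTower.toAlgHom k' k'' K'') (IsScalarTower.toAlgHom k' K' K'')))
    (hK : FunFld.IsFunctionField k K) (P : FunFld.Place k K) :
    (integralClosure (P.O.toSubring.map (algebraMap K K'')) K'' =
        Algebra.adjoin (P.O.toSubring.map (algebraMap K K'')) (Set.range (algebraMap k'' K''))) ↔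
      (integralClosure (P.O.toSubring.map (algebraMap K K')) K' =
          Algebra.adjoin (P.O.toSubring.map (algebraMap K K')) (Set.range (algebraMap k' K')) ∧
        ∀ Q : FunFld.Place k K', FunFld.IsOver Q P →
          integralClosure (Q.O.toSubring.map (algebraMap K' K'')) K'' =
            Algebra.adjoin (Q.O.toSubring.map (algebraMap K' K''))
              (Set.range (algebraMap k'' K''))) := by
  classical
  haveI hf1 : FiniteDimensional K K' := finite_of_bijective k k' K K' h1
  haveI hf2 : FiniteDimensional K' K'' := finite_of_bijective k' k'' K' K'' h2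
  haveI hf3 : FiniteDimensional K K'' := Module.Finite.trans K' K''
  haveI hfk : FiniteDimensional k k'' := Module.Finite.trans k' k''
  haveI t1 : IsScalarTower k K' K'' := IsScalarTower.of_algebraMap_eq (fun c => by
    rw [IsScalarTower.algebraMap_apply k K K'', IsScalarTower.algebraMap_apply K K' K'',
      ← IsScalarTower.algebraMap_apply k K K'])
  haveI t2 : IsScalarTower k k'' K'' := IsScalarTower.of_algebraMap_eq (fun c => by
    rw [IsScalarTower.algebraMap_apply k K' K'', IsScalarTower.algebraMap_apply k k' K',
      ← IsScalarTower.algebraMap_apply k' K' K'', IsScalarTower.algebraMap_apply k' k'' K'',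
      ← IsScalarTower.algebraMap_apply k k' k''])
  have hkSP'' : ∀ c : k, algebraMap k K'' c ∈ P.O.toSubring.map (algebraMap K K'') := fun c =>
    Subring.mem_map.2 ⟨algebraMap k K c, P.2.1 c, (IsScalarTower.algebraMap_apply k K K'' c).symm⟩
  have hkSP' : ∀ c : k, algebraMap k K' c ∈ P.O.toSubring.map (algebraMap K K') := fun c =>
    Subring.mem_map.2 ⟨algebraMap k K c, P.2.1 c, (IsScalarTower.algebraMap_apply k K K' c).symm⟩
  have hk'SQ : ∀ (Q : Place k K') (c : k'),
      algebraMap k' K'' c ∈ Q.O.toSubring.map (algebraMap K' K'') := fun Q c =>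
    Subring.mem_map.2 ⟨algebraMap k' K' c, (OQ (k' := k') Q).algebraMap_mem c,
      (IsScalarTower.algebraMap_apply k' K' K'' c).symm⟩
  have hSQ : ∀ (Q : Place k K') (y : K''), y ∈ Q.O.toSubring.map (algebraMap K' K'') ↔
      ∃ o ∈ OQ (k' := k') Q, algebraMap K' K'' o = y := by
    intro Q y
    constructor
    · intro hy
      obtain ⟨o, ho, rfl⟩ := Subring.mem_map.1 hy
      exact ⟨o, ho, rfl⟩
    · rintro ⟨o, ho, rfl⟩
      exact Subring.mem_map.2 ⟨o, ho, rfl⟩
  have hfinQ : {Q' : Place k K' | IsOver Q' P}.Finite := (general (K' := K') hK P).1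
  have hfinR : {R : Place k K'' | IsOver R P}.Finite := (general (K' := K'') hK P).1
  constructor
  · intro H''
    have Ha : integralClosure (P.O.toSubring.map (algebraMap K K')) K' =
        Algebra.adjoin (P.O.toSubring.map (algebraMap K K')) (Set.range (algebraMap k' K')) := by
      apply le_antisymm _ (adjoin_le_ic (k := k) (k' := k') _ hkSP')
      intro z hz
      have hz' : IsIntegral (P.O.toSubring.map (algebraMap K K')) z := hz
      have h3 : algebraMap K' K'' z ∈ Algebra.adjoin (P.O.toSubring.map (algebraMap K K''))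
          (Set.range (algebraMap k'' K'')) := by
        rw [← H'']
        exact isIntegral_up P hz'
      let W : Subalgebra k' K' :=
        { toSubsemiring := (Algebra.adjoin (P.O.toSubring.map (algebraMap K K'))
            (Set.range (algebraMap k' K'))).toSubsemiring
          algebraMap_mem' := fun c => Algebra.subset_adjoin ⟨c, rfl⟩ }
      have hle : P.O.toSubring.map (algebraMap K K'') ≤
          W.toSubring.map (algebraMap K' K'') := by
        intro y hy
        obtain ⟨o, ho, rfl⟩ := Subring.mem_map.1 hy
        refine Subring.mem_map.2 ⟨algebraMap K K' o, ?_,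
          (IsScalarTower.algebraMap_apply K K' K'' o).symm⟩
        exact (Algebra.adjoin (P.O.toSubring.map (algebraMap K K')) _).algebraMap_mem
          (⟨algebraMap K K' o, Subring.mem_map.2 ⟨o, ho, rfl⟩⟩ :
            P.O.toSubring.map (algebraMap K K'))
      have h4 := adjoin_mono' hle _ h3
      have hSW : ∀ y : K'', y ∈ W.toSubring.map (algebraMap K' K'') ↔
          ∃ o ∈ W, algebraMap K' K'' o = y := by
        intro y
        constructor
        · intro hy
          obtain ⟨o, ho, rfl⟩ := Subring.mem_map.1 hy
          exact ⟨o, ho, rfl⟩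
        · rintro ⟨o, ho, rfl⟩
          exact Subring.mem_map.2 ⟨o, ho, rfl⟩
      have h5 := (coord_iff h2 (Module.finBasis k' k'') W _ hSW _).1 h4
      obtain ⟨j, hj⟩ : ∃ j, (Module.finBasis k' k'').repr 1 j ≠ 0 := by
        by_contra hcon
        push_neg at hcon
        have : (1 : k'') = 0 := by
          rw [← (Module.finBasis k' k'').sum_repr 1]
          simp [hcon]
        exact one_ne_zero this
      have h6 : (bas h2 (Module.finBasis k' k'')).repr (algebraMap K' K'' z) j =
          z * algebraMap k' K' ((Module.finBasis k' k'').repr 1 j) := by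
        have e : algebraMap K' K'' z = z • algebraMap k'' K'' 1 := by
          rw [map_one, Algebra.smul_def, mul_one]
        rw [e, map_smul, Finsupp.smul_apply, repr_const, smul_eq_mul]
      have h7 : z * algebraMap k' K' ((Module.finBasis k' k'').repr 1 j) ∈
          Algebra.adjoin (P.O.toSubring.map (algebraMap K K')) (Set.range (algebraMap k' K')) := by
        have := h5 j
        rw [h6] at this
        exact this
      have h8 : z = z * algebraMap k' K' ((Module.finBasis k' k'').repr 1 j) *
          algebraMap k' K' ((Module.finBasis k' k'').repr 1 j)⁻¹ := by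
        rw [mul_assoc, ← map_mul, mul_inv_cancel₀ hj, map_one, mul_one]
      rw [h8]
      exact mul_mem h7 (Algebra.subset_adjoin ⟨_, rfl⟩)
    refine ⟨Ha, ?_⟩
    intro Q hQ
    apply le_antisymm _ (adjoin_le_ic (k := k') (k' := k'') _ (hk'SQ Q))
    intro z hz
    have hz' : IsIntegral (Q.O.toSubring.map (algebraMap K' K'')) z := hz
    obtain ⟨M, hM⟩ := exists_bound hfinR.toFinset (fun R => R.1 z)
    obtain ⟨u, hu⟩ := exists_approx hfinQ.toFinset
      (fun Q' : Place k K' => if Q' = Q then (1 : K') else 0) (M + 1)
    have huQ : Q.1 u = 1 := by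
      have h3 := hu Q (hfinQ.mem_toFinset.2 hQ)
      simp only [if_true, eq_self_iff_true] at h3
      have h4 : Q.1 (u - 1) < 1 := by
        refine lt_of_le_of_lt h3 ?_
        rw [← WithZero.exp_zero, WithZero.exp_lt_exp]
        omega
      have h5 := Valuation.map_one_add_of_lt (v := Q.1) h4
      rwa [add_sub_cancel] at h5
    have huQ' : ∀ Q' : Place k K', IsOver Q' P → Q' ≠ Q →
        Q'.1 u ≤ WithZero.exp (-(M : ℤ)) := by
      intro Q' hQ' hne
      have h3 := hu Q' (hfinQ.mem_toFinset.2 hQ')
      simp only [if_neg hne, sub_zero] at h3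
      refine h3.trans ?_
      rw [WithZero.exp_le_exp]
      omega
    have hint : IsIntegral (P.O.toSubring.map (algebraMap K K''))
        (algebraMap K' K'' u * z) := by
      apply isIntegral_sub_of_forall hK P
      intro R hR
      obtain ⟨Q', e, he⟩ := exists_restrict_top (K := K) (K' := K') hK R
      have hQ'P : IsOver Q' P := isOver_restrict hK hR he
      have hepos := isOverWith_pos he
      rw [map_mul, he u]
      by_cases hQQ : Q' = Q
      · rw [hQQ] at he ⊢
        rw [huQ, one_pow, one_mul]
        refine val_le_one_of_isIntegral R.1 (fun x => ?_) hz'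
        obtain ⟨o, ho, hox⟩ := Subring.mem_map.1 x.2
        have e1 : algebraMap (Q.O.toSubring.map (algebraMap K' K'')) K'' x =
            algebraMap K' K'' o := hox.symm
        rw [e1]
        exact (isOverWith_le_one_iff he o).2 ho
      · have h3 : Q'.1 u ≤ WithZero.exp (-(M : ℤ)) := huQ' Q' hQ'P hQQ
        have h3' : Q'.1 u ≤ 1 := h3.trans (by
          rw [← WithZero.exp_zero, WithZero.exp_le_exp]
          omega)
        have h4 : Q'.1 u ^ e ≤ WithZero.exp (-(M : ℤ)) :=
          (pow_le_of_le_one zero_le' h3' hepos.ne').trans h3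
        have h5 : R.1 z ≤ WithZero.exp (M : ℤ) := hM R (hfinR.mem_toFinset.2 hR)
        calc Q'.1 u ^ e * R.1 z ≤ WithZero.exp (-(M : ℤ)) * WithZero.exp (M : ℤ) :=
              mul_le_mul' h4 h5
          _ = 1 := by rw [← WithZero.exp_add, neg_add_cancel, WithZero.exp_zero]
    have h3 : algebraMap K' K'' u * z ∈ Algebra.adjoin (P.O.toSubring.map (algebraMap K K''))
        (Set.range (algebraMap k'' K'')) := by
      rw [← H'']
      exact hint
    have h4 := adjoin_mono' (le_SQ (K'' := K'') hQ) _ h3
    have h5 := (coord_iff h2 (Module.finBasis k' k'') (OQ (k' := k') Q) _ (hSQ Q) _).1 h4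
    apply (coord_iff h2 (Module.finBasis k' k'') (OQ (k' := k') Q) _ (hSQ Q) z).2
    intro j
    have h6 := h5 j
    have e2 : algebraMap K' K'' u * z = u • z := (Algebra.smul_def u z).symm
    rw [e2, map_smul, Finsupp.smul_apply, smul_eq_mul, mem_OQ, map_mul, huQ, one_mul] at h6
    exact (mem_OQ Q _).2 h6
  · rintro ⟨H', HQ⟩
    apply le_antisymm _ (adjoin_le_ic (k := k) (k' := k'') _ hkSP'')
    intro z hz
    have hz' : IsIntegral (P.O.toSubring.map (algebraMap K K'')) z := hz
    have hcoord : ∀ j, (bas h2 (Module.finBasis k' k'')).repr z j ∈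
        Algebra.adjoin (P.O.toSubring.map (algebraMap K K')) (Set.range (algebraMap k' K')) := by
      intro j
      rw [← H']
      show IsIntegral (P.O.toSubring.map (algebraMap K K')) _
      apply isIntegral_sub_of_forall hK P
      intro Q hQ
      have h3 : z ∈ Algebra.adjoin (Q.O.toSubring.map (algebraMap K' K''))
          (Set.range (algebraMap k'' K'')) := by
        rw [← HQ Q hQ]
        exact isIntegral_mono (le_SQ (K'' := K'') hQ) hz'
      exact (mem_OQ Q _).1
        ((coord_iff h2 (Module.finBasis k' k'') (OQ (k' := k') Q) _ (hSQ Q) z).1 h3 j)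
    rw [← (bas h2 (Module.finBasis k' k'')).sum_repr z]
    refine sum_mem (fun j _ => ?_)
    rw [Algebra.smul_def, bas_apply]
    exact mul_mem (transfer (k' := k') (k'' := k'') P (hcoord j))
      (Algebra.subset_adjoin ⟨Module.finBasis k' k'' j, rfl⟩)

end Final

end Groth.Agent.Lib.lead.Tow
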