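import Mathlib
import Groth.Agent.Lib.lead.NSing2
import Groth.Agent.Lib.lead.Geo

/-! Uniqueness of the place above `P` in a constant field extension when `k'/k` or `F_P/k`
is purely inseparable. -/

namespace Groth.Agent.Lib.lead.Uniq
open FunFld Module Groth.Agent.Lib.lead.FF Groth.Agent.Lib.lead.FF2 Groth.Agent.Lib.lead.FF3
  Groth.Agent.Lib.lead.FF4
  Groth.Agent.Lib.lead.FF5 Groth.Agent.Lib.lead.FF6 Groth.Agent.Lib.lead.FF7
  Groth.Agent.Lib.lead.FF8 Groth.Agent.Lib.lead.Ext Groth.Agent.Lib.lead.Ext3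
  Groth.Agent.Lib.lead.IntCl Groth.Agent.Lib.lead.NSing Groth.Agent.Lib.lead.NSing2
open scoped TensorProduct IntermediateField
open Polynomial

section Gen

lemma map_eq_rTensor {k A B C : Type*} [Field k] [CommRing A] [CommRing B] [CommRing C]
    [Algebra k A] [Algebra k B] [Algebra k C] (g : A →ₐ[k] B) (x : A ⊗[k] C) :
    Algebra.TensorProduct.map g (AlgHom.id k C) x = LinearMap.rTensor C g.toLinearMap x := by
  induction x using TensorProduct.induction_on with
  | zero => rw [map_zero, map_zero]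
  | tmul a b => rw [Algebra.TensorProduct.map_tmul, LinearMap.rTensor_tmul]; rfl
  | add x y hx hy => rw [map_add, map_add, hx, hy]

end Gen

section Core
universe u v
variable {k ks : Type u} {K K' : Type v} [Field k] [Field ks] [Field K] [Field K']
    [Algebra k ks] [Algebra k K] [Algebra K K'] [Algebra ks K'] [Algebra k K']
    [IsScalarTower k ks K'] [IsScalarTower k K K'] [FiniteDimensional k ks]
    [FiniteDimensional K K']

set_option maxHeartbeats 1600000 in
theorem unique_of_field (hK : IsFunctionField k K)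
    (hinj : Function.Injective (Algebra.TensorProduct.productMap
      (IsScalarTower.toAlgHom k ks K') (IsScalarTower.toAlgHom k K K')))
    (P : Place k K)
    {F : Type*} [Field F] [Algebra k F] (π : P.O →ₐ[k] F)
    (hπs : Function.Surjective π) (hπk : ∀ r : P.O, π r = 0 ↔ P.1 (r : K) < 1)
    (hfield : IsField (ks ⊗[k] F))
    (p : ℕ) [ExpChar K' p]
    (hpow : ∀ z : K', ∃ N : ℕ, z ^ p ^ N ∈ Set.range (Algebra.TensorProduct.productMap
      (IsScalarTower.toAlgHom k ks K') (IsScalarTower.toAlgHom k K K')))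
    (Q₁ Q₂ : Place k K') (h₁ : IsOver Q₁ P) (h₂ : IsOver Q₂ P) : Q₁ = Q₂ := by
  classical
  by_contra hne
  letI alg : Algebra P.O K' := ((algebraMap K K').comp P.O.subtype).toAlgebra
  haveI : IsScalarTower P.O K K' := IsScalarTower.of_algebraMap_eq (fun _ => rfl)
  have hmap : ∀ r : P.O, algebraMap P.O K' r = algebraMap K K' (r : K) := fun _ => rfl
  have hfin := (general (K' := K') hK P).1
  have hp0 : p ≠ 0 := (expChar_pos K' p).ne'
  obtain ⟨b, hb⟩ := exists_approx hfin.toFinset (fun Q' => if Q' = Q₁ then 1 else 0) 1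
  have hexp : WithZero.exp (-((1 : ℕ) : ℤ)) < (1 : WithZero (Multiplicative ℤ)) := by
    rw [← WithZero.exp_zero, WithZero.exp_lt_exp]
    norm_num
  have hb1 : Q₁.1 (b - 1) < 1 := by
    have := hb Q₁ (hfin.mem_toFinset.2 h₁)
    rw [if_pos rfl] at this
    exact lt_of_le_of_lt this hexp
  have hb2 : Q₂.1 b < 1 := by
    have := hb Q₂ (hfin.mem_toFinset.2 h₂)
    rw [if_neg (Ne.symm hne), sub_zero] at this
    exact lt_of_le_of_lt this hexp
  have hball : ∀ Q' : Place k K', IsOver Q' P → Q'.1 b ≤ 1 := by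
    intro Q' hQ'
    by_cases hQQ : Q' = Q₁
    · subst hQQ
      have e1 : b = (b - 1) + 1 := by ring
      rw [e1]
      exact (Valuation.map_add _ _ _).trans (max_le hb1.le (map_one _).le)
    · have := hb Q' (hfin.mem_toFinset.2 hQ')
      rw [if_neg hQQ, sub_zero] at this
      exact this.trans hexp.le
  obtain ⟨N, hN⟩ := hpow b
  obtain ⟨c, hcdef⟩ : ∃ c : K', c = b ^ p ^ N := ⟨_, rfl⟩
  rw [← hcdef] at hN
  have hq0 : p ^ N ≠ 0 := pow_ne_zero _ hp0
  have hc1 : Q₁.1 (c - 1) < 1 := by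
    have e1 : c - 1 = (b - 1) ^ p ^ N := by rw [sub_pow_expChar_pow, one_pow, hcdef]
    rw [e1, map_pow]
    exact pow_lt_one₀ zero_le' hb1 hq0
  have hc2 : Q₂.1 c < 1 := by
    rw [hcdef, map_pow]
    exact pow_lt_one₀ zero_le' hb2 hq0
  have hcint : IsIntegral P.O c := by
    apply isIntegral_of_forall hK P c
    intro Q' hQ'
    rw [hcdef, map_pow]
    exact pow_le_one₀ zero_le' (hball Q' hQ')
  haveI : IsReduced (ks ⊗[k] F) := by
    letI := hfield.toField
    infer_instance
  obtain ⟨x, hx⟩ := mem_range_Phi' hinj P π hπs hπk inferInstance c hN hcint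
  -- uniformizer
  obtain ⟨t, ht⟩ := exists_uniformizer P
  have ht1 : P.1 t ≤ 1 := by
    rw [ht, ← WithZero.exp_zero, WithZero.exp_le_exp]
    norm_num
  obtain ⟨T, hTdef⟩ : ∃ T : P.O, T = ⟨t, ht1⟩ := ⟨_, rfl⟩
  have hTt : (T : K) = t := by rw [hTdef]
  have hT : P.1 (T : K) = WithZero.exp (-1) := by rw [hTt, ht]
  have ht0 : t ≠ 0 := unif_ne_zero P ht
  have hπk' : ∀ r : P.O, π r = 0 ↔ ∃ r', r = T * r' := by
    intro r
    rw [hπk]
    constructor
    · intro hr
      have hle : P.1 ((r : K) / t) ≤ 1 := by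
        rw [map_div₀, ht]
        rw [lt_one_iff] at hr
        exact div_le_one_of_le₀ hr zero_le'
      refine ⟨⟨(r : K) / t, hle⟩, Subtype.ext ?_⟩
      show (r : K) = (T : K) * ((r : K) / t)
      rw [hTt]
      field_simp
    · rintro ⟨r', rfl⟩
      show P.1 ((T : K) * (r' : K)) < 1
      rw [map_mul, hT]
      calc WithZero.exp (-1) * P.1 (r' : K) ≤ WithZero.exp (-1) * 1 := mul_le_mul' le_rfl r'.2
        _ = WithZero.exp (-1) := mul_one _
        _ < 1 := by
          rw [← WithZero.exp_zero, WithZero.exp_lt_exp]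
          norm_num
  have hT1 : Phi ks K' P ((1 : ks) ⊗ₜ T) = algebraMap K K' (T : K) := by
    rw [Phi_tmul, map_one, one_mul]
  have hintQ : ∀ (Q : Place k K'), IsOver Q P → ∀ y : ks ⊗[k] P.O, Q.1 (Phi ks K' P y) ≤ 1 := by
    intro Q hQ y
    obtain ⟨e, he⟩ := hQ
    apply val_le_one_of_isIntegral (R := P.O) Q.1
    · intro a
      rw [hmap, isOverWith_le_one_iff he]
      exact a.2
    · exact adjoin_le_integralClosure P (Phi_mem_adjoin P y)
  have htQ : ∀ (Q : Place k K'), IsOver Q P → Q.1 (algebraMap K K' (T : K)) < 1 := by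
    intro Q hQ
    obtain ⟨e, he⟩ := hQ
    rw [isOverWith_lt_one_iff he, hT, ← WithZero.exp_zero, WithZero.exp_lt_exp]
    norm_num
  have hQ₁c : Q₁.1 c = 1 := by
    have e1 : c = 1 + (c - 1) := by ring
    rw [e1, Valuation.map_add_eq_of_lt_left, map_one]
    rw [map_one]
    exact hc1
  let Ψ : ks ⊗[k] P.O →ₐ[k] ks ⊗[k] F := Algebra.TensorProduct.map (AlgHom.id k ks) π
  have hΨsurj : Function.Surjective Ψ := by
    intro y'
    obtain ⟨y, hy⟩ := LinearMap.lTensor_surjective ks (g := π.toLinearMap) hπs y'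
    refine ⟨y, ?_⟩
    show Algebra.TensorProduct.map (AlgHom.id k ks) π y = y'
    rw [map_eq_lTensor]
    exact hy
  rcases eq_or_ne (Ψ x) 0 with h0 | h0
  · obtain ⟨x', hx'⟩ := ker_map π hπs T hπk' x h0
    have e1 : c = algebraMap K K' (T : K) * Phi ks K' P x' := by
      rw [← hx, hx', map_mul, hT1]
    have : Q₁.1 c < 1 := by
      rw [e1, map_mul]
      calc Q₁.1 (algebraMap K K' (T : K)) * Q₁.1 (Phi ks K' P x')
          ≤ Q₁.1 (algebraMap K K' (T : K)) * 1 := mul_le_mul' le_rfl (hintQ Q₁ h₁ x')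
        _ = Q₁.1 (algebraMap K K' (T : K)) := mul_one _
        _ < 1 := htQ Q₁ h₁
    rw [hQ₁c] at this
    exact lt_irrefl _ this
  · obtain ⟨y', hy'⟩ := hfield.mul_inv_cancel h0
    obtain ⟨y, rfl⟩ := hΨsurj y'
    have hk : Ψ (x * y - 1) = 0 := by rw [map_sub, map_mul, hy', map_one, sub_self]
    obtain ⟨w, hw⟩ := ker_map π hπs T hπk' _ hk
    have e1 : c * Phi ks K' P y - 1 = algebraMap K K' (T : K) * Phi ks K' P w := by
      rw [← hx, ← hT1, ← map_mul, ← map_mul, ← hw, map_sub, map_one]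
    have e2 : (1 : K') = c * Phi ks K' P y - algebraMap K K' (T : K) * Phi ks K' P w := by
      rw [← e1]
      ring
    have h5 : Q₂.1 (c * Phi ks K' P y) < 1 := by
      rw [map_mul]
      calc Q₂.1 c * Q₂.1 (Phi ks K' P y) ≤ Q₂.1 c * 1 := mul_le_mul' le_rfl (hintQ Q₂ h₂ y)
        _ = Q₂.1 c := mul_one _
        _ < 1 := hc2
    have h6 : Q₂.1 (algebraMap K K' (T : K) * Phi ks K' P w) < 1 := by
      rw [map_mul]
      calc Q₂.1 (algebraMap K K' (T : K)) * Q₂.1 (Phi ks K' P w)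
          ≤ Q₂.1 (algebraMap K K' (T : K)) * 1 := mul_le_mul' le_rfl (hintQ Q₂ h₂ w)
        _ = Q₂.1 (algebraMap K K' (T : K)) := mul_one _
        _ < 1 := htQ Q₂ h₂
    have h7 : Q₂.1 (1 : K') < 1 := by
      rw [e2]
      exact Valuation.map_sub_lt _ h5 h6
    rw [map_one] at h7
    exact lt_irrefl _ h7

end Core

end Groth.Agent.Lib.lead.Uniq
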