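import Mathlib
import Groth.Agent.Lib.lead.Uniq

/-! Uniqueness of the place above `P`: main theorem. -/

namespace Groth.Agent.Lib.lead.Uniq2
open FunFld Module Groth.Agent.Lib.lead.FF Groth.Agent.Lib.lead.FF2 Groth.Agent.Lib.lead.FF3
  Groth.Agent.Lib.lead.FF4
  Groth.Agent.Lib.lead.FF5 Groth.Agent.Lib.lead.FF6 Groth.Agent.Lib.lead.FF7
  Groth.Agent.Lib.lead.FF8 Groth.Agent.Lib.lead.Ext Groth.Agent.Lib.lead.Ext3
  Groth.Agent.Lib.lead.IntCl Groth.Agent.Lib.lead.NSing Groth.Agent.Lib.lead.NSing2
  Groth.Agent.Lib.lead.Uniq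
open scoped TensorProduct IntermediateField
open Polynomial

universe u v
variable (k k' : Type u) (K K' : Type v) [Field k] [Field k'] [Field K] [Field K']
    [Algebra k k'] [FiniteDimensional k k'] [Algebra k K] [Algebra K K'] [Algebra k' K'] [Algebra k K']
    [IsScalarTower k k' K'] [IsScalarTower k K K']

lemma pm_s_eq (τ : (separableClosure k k') ⊗[k] K) :
    Algebra.TensorProduct.productMap
      (IsScalarTower.toAlgHom k (separableClosure k k') K') (IsScalarTower.toAlgHom k K K') τ =
    Algebra.TensorProduct.productMap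
      (IsScalarTower.toAlgHom k k' K') (IsScalarTower.toAlgHom k K K')
      (Algebra.TensorProduct.map (separableClosure k k').val (AlgHom.id k K) τ) := by
  induction τ using TensorProduct.induction_on with
  | zero => rw [map_zero, map_zero, map_zero]
  | tmul a b =>
    rw [Algebra.TensorProduct.map_tmul, Algebra.TensorProduct.productMap_apply_tmul,
      Algebra.TensorProduct.productMap_apply_tmul]
    rfl
  | add x y hx hy => rw [map_add, map_add, map_add, hx, hy]

lemma pm_s_injective
    (h : Function.Bijective (Algebra.TensorProduct.productMap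
      (IsScalarTower.toAlgHom k k' K') (IsScalarTower.toAlgHom k K K'))) :
    Function.Injective (Algebra.TensorProduct.productMap
      (IsScalarTower.toAlgHom k (separableClosure k k') K') (IsScalarTower.toAlgHom k K K')) := by
  have h1 : Function.Injective (Algebra.TensorProduct.map (separableClosure k k').val
      (AlgHom.id k K)) := by
    have h2 := Module.Flat.rTensor_preserves_injective_linearMap (M := K)
      (separableClosure k k').val.toLinearMap Subtype.val_injective
    intro x y hxy
    apply h2
    rw [← map_eq_rTensor, ← map_eq_rTensor]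
    exact hxy
  intro x y hxy
  rw [pm_s_eq, pm_s_eq] at hxy
  exact h1 (h.1 hxy)

set_option maxHeartbeats 800000 in
lemma pow_mem_range (p : ℕ) [ExpChar k p]
    (h : Function.Bijective (Algebra.TensorProduct.productMap
      (IsScalarTower.toAlgHom k k' K') (IsScalarTower.toAlgHom k K K'))) (z : K') :
    ∃ N : ℕ, z ^ p ^ N ∈ Set.range (Algebra.TensorProduct.productMap
      (IsScalarTower.toAlgHom k (separableClosure k k') K') (IsScalarTower.toAlgHom k K K')) := by
  haveI : ExpChar K' p := expChar_of_injective_algebraMap (algebraMap k K').injective p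
  haveI : ExpChar k' p := expChar_of_injective_algebraMap (algebraMap k k').injective p
  haveI : ExpChar (separableClosure k k') p :=
    expChar_of_injective_algebraMap (algebraMap k (separableClosure k k')).injective p
  have hp0 : p ≠ 0 := (expChar_pos k p).ne'
  obtain ⟨R, hR⟩ : ∃ R : Subalgebra k K', R = (Algebra.TensorProduct.productMap
      (IsScalarTower.toAlgHom k (separableClosure k k') K')
      (IsScalarTower.toAlgHom k K K')).range := ⟨_, rfl⟩
  have hRmem : ∀ w : K', w ∈ R ↔ w ∈ Set.range (Algebra.TensorProduct.productMap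
      (IsScalarTower.toAlgHom k (separableClosure k k') K')
      (IsScalarTower.toAlgHom k K K')) := by
    intro w
    rw [hR]
    exact Iff.rfl
  suffices hs : ∃ N : ℕ, ∀ M, N ≤ M → z ^ p ^ M ∈ R by
    obtain ⟨N, hN⟩ := hs
    exact ⟨N, (hRmem _).1 (hN N le_rfl)⟩
  obtain ⟨τ, rfl⟩ := h.2 z
  induction τ using TensorProduct.induction_on with
  | zero =>
    refine ⟨0, fun M _ => ?_⟩
    rw [map_zero, zero_pow (pow_ne_zero _ hp0)]
    exact zero_mem _
  | tmul β x =>
    obtain ⟨N, γ, hγ⟩ := IsPurelyInseparable.pow_mem (separableClosure k k') p β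
    refine ⟨N, fun M hM => ?_⟩
    obtain ⟨d, rfl⟩ := Nat.exists_eq_add_of_le hM
    rw [Algebra.TensorProduct.productMap_apply_tmul, mul_pow, (hRmem _)]
    refine ⟨(γ ^ p ^ d) ⊗ₜ (x ^ p ^ (N + d)), ?_⟩
    rw [Algebra.TensorProduct.productMap_apply_tmul]
    congr 1
    · show algebraMap (separableClosure k k') K' (γ ^ p ^ d) = (algebraMap k' K' β) ^ p ^ (N + d)
      calc algebraMap (separableClosure k k') K' (γ ^ p ^ d)
          = algebraMap k' K' (algebraMap (separableClosure k k') k' (γ ^ p ^ d)) :=
            IsScalarTower.algebraMap_apply _ _ _ _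
        _ = algebraMap k' K' ((β ^ p ^ N) ^ p ^ d) := by rw [map_pow, hγ]
        _ = (algebraMap k' K' β) ^ p ^ (N + d) := by rw [← pow_mul, ← pow_add, map_pow]
    · show algebraMap K K' (x ^ p ^ (N + d)) = (algebraMap K K' x) ^ p ^ (N + d)
      rw [map_pow]
  | add a b ha hb =>
    obtain ⟨N₁, h₁⟩ := ha
    obtain ⟨N₂, h₂⟩ := hb
    refine ⟨max N₁ N₂, fun M hM => ?_⟩
    rw [map_add, add_pow_expChar_pow]
    exact add_mem (h₁ M (le_trans (le_max_left _ _) hM)) (h₂ M (le_trans (le_max_right _ _) hM))

lemma hfield_gen (F : Type*) [Field F] [Algebra k F]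
    (hpi : IsPurelyInseparable k k' ∨ IsPurelyInseparable k F) :
    IsField ((separableClosure k k') ⊗[k] F) := by
  rcases hpi with hpi | hpi
  · haveI := hpi
    have hbot : separableClosure k k' = ⊥ := separableClosure.eq_bot_of_isPurelyInseparable k k'
    let e0 : (separableClosure k k') ≃ₐ[k] k :=
      (IntermediateField.equivOfEq hbot).trans (IntermediateField.botEquiv k k')
    let e1 : (separableClosure k k') ⊗[k] F ≃ₐ[k] k ⊗[k] F :=
      Algebra.TensorProduct.congr e0 AlgEquiv.refl
    let e2 := e1.trans (Algebra.TensorProduct.lid k F)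
    exact MulEquiv.isField (Field.toIsField _) e2.toMulEquiv
  · haveI := hpi
    obtain ⟨α, hα⟩ := Field.exists_primitive_element k (separableClosure k k')
    have hint : IsIntegral k α := Algebra.IsIntegral.isIntegral α
    have hsep : (minpoly k α).Separable := Algebra.IsSeparable.isSeparable k α
    exact Groth.Agent.Lib.lead.Geo.isField_tensor_of_primitive α hα hint
      (Polynomial.Separable.map_irreducible_of_isPurelyInseparable F hsep
        (minpoly.irreducible hint))

theorem s11011
    (h : Function.Bijective (Algebra.TensorProduct.productMap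
      (IsScalarTower.toAlgHom k k' K') (IsScalarTower.toAlgHom k K K')))
    (hK : FunFld.IsFunctionField k K) (P : FunFld.Place k K)
    (hpi : IsPurelyInseparable k k' ∨ IsPurelyInseparable k (IsLocalRing.ResidueField P.O)) :
    ∃! Q : FunFld.Place k K', FunFld.IsOver Q P := by
  classical
  haveI : FiniteDimensional K K' := finite_of_bijective k k' K K' h
  obtain ⟨p, hp⟩ : ∃ p : ℕ, ExpChar k p := ⟨ringExpChar k, ringExpChar.expChar k⟩
  haveI := hp
  haveI : ExpChar K' p := expChar_of_injective_algebraMap (algebraMap k K').injective p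
  have hfield := hfield_gen k k' (IsLocalRing.ResidueField P.O) hpi
  -- existence
  obtain ⟨hfin, hsum⟩ := general (K' := K') hK P
  have h1 := hsum hfin.toFinset (fun Q => hfin.mem_toFinset)
  have hpos : 0 < Module.finrank K K' * P.deg := Nat.mul_pos Module.finrank_pos (deg_pos hK P)
  rw [← h1] at hpos
  obtain ⟨Q, hQ, -⟩ := Finset.exists_ne_zero_of_sum_ne_zero hpos.ne'
  refine ⟨Q, hfin.mem_toFinset.1 hQ, fun Q' hQ' => ?_⟩
  exact unique_of_field hK (pm_s_injective k k' K K' h) P (resO k K P)
    IsLocalRing.residue_surjective (resO_ker P) hfield p (pow_mem_range k k' K K' p h) Q' Q hQ'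
    (hfin.mem_toFinset.1 hQ)

end Groth.Agent.Lib.lead.Uniq2
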