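import Mathlib

/-! Valuation subrings over a Dedekind domain. -/

namespace Groth.Agent.Lib.lead.Val

open IsDedekindDomain

theorem dedekind_valuationSubring {A K : Type*} [CommRing A]
    [IsDedekindDomain A] [Field K] [Algebra A K] [IsFractionRing A K] (O : ValuationSubring K) :
    ((algebraMap A K).range ≤ O.toSubring ∧ O ≠ ⊤) ↔
      ∃ v : IsDedekindDomain.HeightOneSpectrum A, O = (v.valuation K).valuationSubring := by
  constructor
  · rintro ⟨hA, hO⟩
    have hAO : ∀ a : A, O.valuation (algebraMap A K a) ≤ 1 := by
      intro a
      rw [O.valuation_le_one_iff]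
      exact hA ⟨a, rfl⟩
    -- the prime ideal
    let p : Ideal A :=
      { carrier := {a | O.valuation (algebraMap A K a) < 1}
        zero_mem' := by
          show O.valuation (algebraMap A K 0) < 1
          rw [map_zero, map_zero]
          exact zero_lt_one
        add_mem' := by
          intro a b ha hb
          show O.valuation (algebraMap A K (a + b)) < 1
          rw [map_add]
          exact Valuation.map_add_lt _ ha hb
        smul_mem' := by
          intro c a ha
          show O.valuation (algebraMap A K (c • a)) < 1
          rw [smul_eq_mul, map_mul, map_mul]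
          calc O.valuation (algebraMap A K c) * O.valuation (algebraMap A K a)
              ≤ 1 * O.valuation (algebraMap A K a) := mul_le_mul' (hAO c) le_rfl
            _ = O.valuation (algebraMap A K a) := one_mul _
            _ < 1 := ha }
    have hpmem : ∀ a : A, a ∈ p ↔ O.valuation (algebraMap A K a) < 1 := fun a => Iff.rfl
    have hprime : p.IsPrime := by
      refine ⟨?_, ?_⟩
      · intro htop
        have h1 : (1 : A) ∈ p := by rw [htop]; trivial
        rw [hpmem, map_one, map_one] at h1
        exact lt_irrefl _ h1
      · intro a b hab
        rw [hpmem, map_mul, map_mul] at hab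
        by_contra hcon
        push Not at hcon
        obtain ⟨ha, hb⟩ := hcon
        rw [hpmem, not_lt] at ha hb
        have ha1 : O.valuation (algebraMap A K a) = 1 := le_antisymm (hAO a) ha
        have hb1 : O.valuation (algebraMap A K b) = 1 := le_antisymm (hAO b) hb
        rw [ha1, hb1, one_mul] at hab
        exact lt_irrefl _ hab
    have hne : p ≠ ⊥ := by
      intro hbot
      apply hO
      rw [eq_top_iff]
      intro x _
      obtain ⟨a, b, hb, rfl⟩ := IsFractionRing.div_surjective (A := A) x
      have hb0 : b ≠ 0 := nonZeroDivisors.ne_zero hb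
      have hbp : b ∉ p := by
        rw [hbot]
        exact hb0
      rw [hpmem, not_lt] at hbp
      have hb1 : O.valuation (algebraMap A K b) = 1 := le_antisymm (hAO b) hbp
      rw [← O.valuation_le_one_iff, map_div₀, hb1, div_one]
      exact hAO a
    let v : IsDedekindDomain.HeightOneSpectrum A := ⟨p, hprime, hne⟩
    refine ⟨v, ?_⟩
    have hle : HeightOneSpectrum.valuationSubringAtPrime K v ≤ O := by
      rintro x ⟨a, s, hs, rfl⟩
      have hsp : s ∉ p := hs
      rw [hpmem, not_lt] at hsp
      have hs1 : O.valuation (algebraMap A K s) = 1 := le_antisymm (hAO s) hsp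
      rw [← O.valuation_le_one_iff, map_mul, map_inv₀, hs1, inv_one, mul_one]
      exact hAO a
    rw [← HeightOneSpectrum.valuationSubringAtPrime_eq_valuationSubring]
    exact (ValuationSubring.eq_of_le_of_ne_top _ hle hO).symm
  · rintro ⟨v, rfl⟩
    refine ⟨?_, ?_⟩
    · rintro x ⟨a, rfl⟩
      exact (Valuation.mem_valuationSubring_iff _ _).2 (HeightOneSpectrum.valuation_le_one v a)
    · simp only [ne_eq, Valuation.valuationSubring_eq_top_iff, not_not]
      infer_instance

end Groth.Agent.Lib.lead.Val
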