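import Mathlib
import Groth.Agent.Lib.lead.Val
import Groth.Agent.Lib.lead.FF2

/-! Valuation subrings of `k(x)` containing `k` (S11084). -/

namespace Groth.Agent.Lib.lead.Val2
open Polynomial

universe u
variable {k : Type u} [Field k]

lemma aeval_X_eq (p : Polynomial k) :
    Polynomial.aeval (RatFunc.X : RatFunc k) p = algebraMap (Polynomial k) (RatFunc k) p := by
  rw [← RatFunc.algebraMap_X, Polynomial.aeval_algebraMap_apply, Polynomial.aeval_X_left_apply]

section gen
variable {Γ : Type*} [LinearOrderedCommGroupWithZero Γ] (v : Valuation (RatFunc k) Γ)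
  (hv : ∀ c : k, v (algebraMap k (RatFunc k) c) ≤ 1)
include hv

lemma val_poly_le (hX : v RatFunc.X ≤ 1) (p : k[X]) :
    v (algebraMap k[X] (RatFunc k) p) ≤ 1 := by
  rw [← aeval_X_eq]
  exact FF2.val_aeval_le_one v hv hX p

lemma val_poly_pole (hz : 1 < v RatFunc.X) {p : k[X]} (hp : p ≠ 0) :
    v (algebraMap k[X] (RatFunc k) p) = v RatFunc.X ^ p.natDegree := by
  rw [← aeval_X_eq]
  have hlc : p.leadingCoeff ≠ 0 := Polynomial.leadingCoeff_ne_zero.2 hp
  rw [Polynomial.aeval_eq_sum_range, Finset.sum_range_succ]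
  have htop : v (p.coeff p.natDegree • (RatFunc.X : RatFunc k) ^ p.natDegree) =
      v RatFunc.X ^ p.natDegree := by
    rw [Algebra.smul_def, map_mul, map_pow, Polynomial.coeff_natDegree, FF2.val_const v hv hlc,
      one_mul]
  have hz0 : v (RatFunc.X : RatFunc k) ≠ 0 := ne_of_gt (lt_trans zero_lt_one hz)
  have hlow : v (∑ i ∈ Finset.range p.natDegree, p.coeff i • (RatFunc.X : RatFunc k) ^ i) <
      v (p.coeff p.natDegree • (RatFunc.X : RatFunc k) ^ p.natDegree) := by
    rw [htop]
    apply Valuation.map_sum_lt _ (pow_ne_zero _ hz0)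
    intro i hi
    rw [Algebra.smul_def, map_mul, map_pow]
    calc v (algebraMap k (RatFunc k) (p.coeff i)) * v RatFunc.X ^ i ≤ 1 * v RatFunc.X ^ i :=
          mul_le_mul' (hv _) le_rfl
      _ = v RatFunc.X ^ i := one_mul _
      _ < v RatFunc.X ^ p.natDegree := pow_lt_pow_right₀ hz (Finset.mem_range.1 hi)
  rw [add_comm, Valuation.map_add_eq_of_lt_left _ hlow, htop]

end gen

set_option maxHeartbeats 400000 in
theorem s11084 [DecidableEq (RatFunc k)] (O : ValuationSubring (RatFunc k)) :
    ((algebraMap k (RatFunc k)).range ≤ O.toSubring ∧ O ≠ ⊤) ↔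
      ((∃ v : IsDedekindDomain.HeightOneSpectrum (Polynomial k),
          O = (v.valuation (RatFunc k)).valuationSubring) ∨
        O = (RatFunc.inftyValuation k).valuationSubring) := by
  constructor
  · rintro ⟨hk, hO⟩
    have hv : ∀ c : k, O.valuation (algebraMap k (RatFunc k) c) ≤ 1 := fun c =>
      (O.valuation_le_one_iff _).2 (hk ⟨c, rfl⟩)
    by_cases hX : O.valuation RatFunc.X ≤ 1
    · left
      apply (Val.dedekind_valuationSubring O).1
      refine ⟨?_, hO⟩
      rintro _ ⟨p, rfl⟩
      exact (O.valuation_le_one_iff _).1 (val_poly_le O.valuation hv hX p)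
    · right
      rw [not_le] at hX
      ext f
      rw [Valuation.mem_valuationSubring_iff, ← O.valuation_le_one_iff]
      by_cases hf : f = 0
      · rw [hf, map_zero, map_zero]; simp
      have hnum : f.num ≠ 0 := RatFunc.num_ne_zero hf
      have hden : f.denom ≠ 0 := RatFunc.denom_ne_zero f
      have hfe := RatFunc.num_div_denom f
      have h1 : O.valuation f = O.valuation RatFunc.X ^ f.num.natDegree /
          O.valuation RatFunc.X ^ f.denom.natDegree := by
        conv_lhs => rw [← hfe]
        rw [map_div₀, val_poly_pole O.valuation hv hX hnum, val_poly_pole O.valuation hv hX hden]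
      have hX0 : O.valuation (RatFunc.X : RatFunc k) ≠ 0 := ne_of_gt (lt_trans zero_lt_one hX)
      rw [h1, div_le_one₀ (pow_pos (zero_lt_iff.2 hX0) _), pow_le_pow_iff_right₀ hX]
      rw [RatFunc.inftyValuation_apply, RatFunc.inftyValuation_of_nonzero k hf,
        ← WithZero.exp_zero, WithZero.exp_le_exp, RatFunc.intDegree]
      omega
  · rintro (⟨v, rfl⟩ | rfl)
    · obtain ⟨h1, h2⟩ := (Val.dedekind_valuationSubring (A := Polynomial k) (K := RatFunc k)
        (v.valuation (RatFunc k)).valuationSubring).2 ⟨v, rfl⟩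
      refine ⟨?_, h2⟩
      rintro _ ⟨c, rfl⟩
      apply h1
      exact ⟨Polynomial.C c, by rw [RatFunc.algebraMap_eq_C, ← RatFunc.algebraMap_C]⟩
    · constructor
      · rintro _ ⟨c, rfl⟩
        show algebraMap k (RatFunc k) c ∈ (RatFunc.inftyValuation k).valuationSubring
        rw [Valuation.mem_valuationSubring_iff, RatFunc.algebraMap_eq_C]
        by_cases hc : c = 0
        · rw [hc, map_zero, map_zero]; exact zero_le'
        · rw [RatFunc.inftyValuation.C k hc]
      · intro htop
        have hX : (RatFunc.X : RatFunc k) ∈ (RatFunc.inftyValuation k).valuationSubring := by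
          rw [htop]; trivial
        rw [Valuation.mem_valuationSubring_iff, RatFunc.inftyValuation.X, ← WithZero.exp_zero,
          WithZero.exp_le_exp] at hX
        omega

end Groth.Agent.Lib.lead.Val2
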