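import Mathlib

/-! Vanishing of all morphisms between shifts of two objects with a fixed shift difference,
with dévissage along distinguished triangles. -/

namespace Groth.Agent.Lib.Van

open CategoryTheory CategoryTheory.Limits CategoryTheory.Pretriangulated

universe v u

variable {D : Type u} [Category.{v} D] [Preadditive D] [HasZeroObject D] [HasShift D ℤ]
  [∀ n : ℤ, (shiftFunctor D n).Additive] [Pretriangulated D]

/-- all morphisms `U⟦b+s⟧ ⟶ Z⟦b⟧` vanish (iso-flexible form) -/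
def Van (U Z : D) (s : ℤ) : Prop :=
  ∀ (U' Z' : D) (a b : ℤ) (_ : U' ≅ (shiftFunctor D a).obj U) (_ : Z' ≅ (shiftFunctor D b).obj Z),
    a = b + s → ∀ ψ : U' ⟶ Z', ψ = 0

theorem van_of_spec {U Z : D} {s : ℤ} (U₀ Z₀ : D) (a₀ b₀ : ℤ)
    (eU₀ : U₀ ≅ (shiftFunctor D a₀).obj U) (eZ₀ : Z₀ ≅ (shiftFunctor D b₀).obj Z)
    (h₀ : a₀ = b₀ + s) (hyp : ∀ ψ : U₀ ⟶ Z₀, ψ = 0) : Van U Z s := by
  intro U' Z' a b eU eZ hab ψ
  have hta : a + (b₀ - b) = a₀ := by omega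
  have htb : b + (b₀ - b) = b₀ := by omega
  let isoU : (shiftFunctor D (b₀ - b)).obj U' ≅ U₀ :=
    (shiftFunctor D (b₀ - b)).mapIso eU ≪≫
      ((shiftFunctorAdd' D a (b₀ - b) a₀ hta).symm.app U) ≪≫ eU₀.symm
  let isoZ : (shiftFunctor D (b₀ - b)).obj Z' ≅ Z₀ :=
    (shiftFunctor D (b₀ - b)).mapIso eZ ≪≫
      ((shiftFunctorAdd' D b (b₀ - b) b₀ htb).symm.app Z) ≪≫ eZ₀.symm
  have h1 : isoU.inv ≫ (shiftFunctor D (b₀ - b)).map ψ ≫ isoZ.hom = 0 := hyp _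
  have h2 : (shiftFunctor D (b₀ - b)).map ψ = 0 := by
    have h3 := congrArg (fun t => isoU.hom ≫ t ≫ isoZ.inv) h1
    simpa using h3
  exact (shiftFunctor D (b₀ - b)).map_injective (by rw [h2, Functor.map_zero])

theorem Van.apply {U Z : D} {s : ℤ} (h : Van U Z s) {U' Z' : D} (a b : ℤ)
    (eU : U' ≅ (shiftFunctor D a).obj U) (eZ : Z' ≅ (shiftFunctor D b).obj Z) (hab : a = b + s)
    (ψ : U' ⟶ Z') : ψ = 0 := h U' Z' a b eU eZ hab ψ

theorem Van.cast {U Z : D} {s s' : ℤ} (h : Van U Z s) (e : s = s') : Van U Z s' := e ▸ h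

theorem Van.of_iso_left {U U₂ Z : D} {s : ℤ} (h : Van U Z s) (e : U ≅ U₂) : Van U₂ Z s := by
  intro U' Z' a b eU eZ hab ψ
  exact h U' Z' a b (eU ≪≫ (shiftFunctor D a).mapIso e.symm) eZ hab ψ

theorem Van.of_iso_right {U Z Z₂ : D} {s : ℤ} (h : Van U Z s) (e : Z ≅ Z₂) : Van U Z₂ s := by
  intro U' Z' a b eU eZ hab ψ
  exact h U' Z' a b eU (eZ ≪≫ (shiftFunctor D b).mapIso e.symm) hab ψ

/-- dévissage in the source -/
theorem van_obj₁ (T : Triangle D) (hT : T ∈ distTriang D) {Z : D} {s : ℤ}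
    (h₂ : Van T.obj₂ Z s) (h₃ : Van T.obj₃ Z (s - 1)) : Van T.obj₁ Z s := by
  intro U' Z' a b eU eZ hab ψ
  let θ : (shiftFunctor D a).obj ((shiftFunctor D (b - a)).obj Z) ≅ (shiftFunctor D b).obj Z :=
    (shiftFunctorAdd' D (b - a) a b (by omega)).symm.app Z
  obtain ⟨ψ₀, hψ₀⟩ := (shiftFunctor D a).map_surjective (eU.inv ≫ ψ ≫ eZ.hom ≫ θ.inv)
  have hψ₀0 : ψ₀ = 0 := by
    have hrr := rot_of_distTriang _ (rot_of_distTriang _ hT)
    have hc : T.mor₃ ≫ (shiftFunctor D (1 : ℤ)).map ψ₀ = 0 :=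
      h₃.apply 0 (1 + (b - a)) ((shiftFunctorZero D ℤ).symm.app T.obj₃)
        ((shiftFunctorAdd' D (b - a) 1 (1 + (b - a)) (by omega)).symm.app Z) (by omega) _
    obtain ⟨g, hg⟩ := Pretriangulated.Triangle.yoneda_exact₂ _ hrr
      ((shiftFunctor D (1 : ℤ)).map ψ₀) hc
    have hg0 : g = 0 :=
      h₂.apply 1 (1 + (b - a)) (Iso.refl _)
        ((shiftFunctorAdd' D (b - a) 1 (1 + (b - a)) (by omega)).symm.app Z) (by omega) g
    have h4 : (shiftFunctor D (1 : ℤ)).map ψ₀ = 0 := by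
      rw [hg, hg0]
      exact comp_zero
    exact (shiftFunctor D (1 : ℤ)).map_injective (by rw [h4, Functor.map_zero])
  have h5 : eU.inv ≫ ψ ≫ eZ.hom ≫ θ.inv = 0 := by rw [← hψ₀, hψ₀0, Functor.map_zero]
  have h6 := congrArg (fun t => eU.hom ≫ t ≫ θ.hom ≫ eZ.inv) h5
  simpa using h6

/-- dévissage in the target -/
theorem van_tgt_obj₁ (T : Triangle D) (hT : T ∈ distTriang D) {U : D} {s : ℤ}
    (h₂ : Van U T.obj₂ s) (h₃ : Van U T.obj₃ (s + 1)) : Van U T.obj₁ s := by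
  intro U' Z' a b eU eZ hab ψ
  let θ : (shiftFunctor D b).obj ((shiftFunctor D (a - b)).obj U) ≅ (shiftFunctor D a).obj U :=
    (shiftFunctorAdd' D (a - b) b a (by omega)).symm.app U
  obtain ⟨ψ₀, hψ₀⟩ := (shiftFunctor D b).map_surjective (θ.hom ≫ eU.inv ≫ ψ ≫ eZ.hom)
  have hψ₀0 : ψ₀ = 0 := by
    have h1 : ψ₀ ≫ T.mor₁ = 0 :=
      h₂.apply (a - b) 0 (Iso.refl _) ((shiftFunctorZero D ℤ).symm.app T.obj₂) (by omega) _
    have h2 : (shiftFunctor D (1 : ℤ)).map ψ₀ ≫ (shiftFunctor D (1 : ℤ)).map T.mor₁ = 0 := by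
      rw [← Functor.map_comp, h1, Functor.map_zero]
    obtain ⟨g, hg⟩ := Pretriangulated.Triangle.coyoneda_exact₁ _ hT
      ((shiftFunctor D (1 : ℤ)).map ψ₀) h2
    have hg0 : g = 0 :=
      h₃.apply ((a - b) + 1) 0 ((shiftFunctorAdd' D (a - b) 1 ((a - b) + 1) rfl).symm.app U)
        ((shiftFunctorZero D ℤ).symm.app T.obj₃) (by omega) g
    have h4 : (shiftFunctor D (1 : ℤ)).map ψ₀ = 0 := by
      rw [hg, hg0]
      exact zero_comp
    exact (shiftFunctor D (1 : ℤ)).map_injective (by rw [h4, Functor.map_zero])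
  have h5 : θ.hom ≫ eU.inv ≫ ψ ≫ eZ.hom = 0 := by rw [← hψ₀, hψ₀0, Functor.map_zero]
  have h6 := congrArg (fun t => eU.hom ≫ θ.inv ≫ t ≫ eZ.inv) h5
  simpa using h6

end Groth.Agent.Lib.Van
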