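import Mathlib
import Groth.Prelude.Def_WeilCoh

/-! Helper lemmas on Weil cohomology theories: the push-forward is characterised by duality. -/

namespace Groth.Agent.LeadWeil
open WeilCoh CategoryTheory AlgebraicGeometry

universe u v w
variable {k : Type u} [Field k] {P : ObjectProperty (Over (Spec (CommRingCat.of k)))}
variable {K : Type v} [Field K] (T : TheoryOn.{u, v, w} k P K)

theorem push_spec {X Y : P.FullSubcategory} (f : X ⟶ Y) (i : ℤ) (a : T.gr X i)
    (b : T.gr Y (2 * (dim X.obj.left : ℤ) - i)) :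
    T.tr Y ((T.push f i a : T.H Y) * (b : T.H Y)) = T.tr X ((a : T.H X) * T.pull f (b : T.H Y)) := by
  haveI := T.duality Y (i + 2 * (dim Y.obj.left : ℤ) - 2 * (dim X.obj.left : ℤ))
    (2 * (dim X.obj.left : ℤ) - i) (by omega)
  have h := LinearMap.apply_symm_toPerfPair_self
    (pairing K (T.gr Y (i + 2 * (dim Y.obj.left : ℤ) - 2 * (dim X.obj.left : ℤ)))
      (T.gr Y (2 * (dim X.obj.left : ℤ) - i)) (T.tr Y)) (T.pushFunctional f i a)
  exact LinearMap.congr_fun h b

theorem push_spec' {X Y : P.FullSubcategory} (f : X ⟶ Y) (i : ℤ) (a : T.gr X i) (b : T.H Y)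
    (n : ℤ) (hn : n = 2 * (dim X.obj.left : ℤ) - i) (hb : b ∈ T.gr Y n) :
    T.tr Y ((T.push f i a : T.H Y) * b) = T.tr X ((a : T.H X) * T.pull f b) := by
  subst hn
  exact push_spec T f i a ⟨b, hb⟩

theorem mem_of_eq {X : P.FullSubcategory} {m m' : ℤ} (h : m = m') {x : T.H X}
    (hx : x ∈ T.gr X m) : x ∈ T.gr X m' := h ▸ hx

theorem eq_of_pairing (Y : P.FullSubcategory) (m n : ℤ)
    (hmn : m + n = 2 * (dim Y.obj.left : ℤ)) (x y : T.H Y) (hx : x ∈ T.gr Y m) (hy : y ∈ T.gr Y m)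
    (h : ∀ b ∈ T.gr Y n, T.tr Y (x * b) = T.tr Y (y * b)) : x = y := by
  haveI := T.duality Y m n hmn
  have hinj := (LinearMap.IsPerfPair.bijective_left
    (pairing K (T.gr Y m) (T.gr Y n) (T.tr Y))).injective
  have : (⟨x, hx⟩ : T.gr Y m) = ⟨y, hy⟩ := by
    apply hinj
    ext b
    exact h b.1 b.2
  exact congrArg Subtype.val this

end Groth.Agent.LeadWeil
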